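/-
The principal block and the `p`-residual: the power map fixing `p'`-elements and raising `p`-elements to the
power `1 + p`, linear characters of the principal block, and normal `p`-complements.
-/
import Cfsg.Agent.Blk.PrincCrit2
import Cfsg.Agent.Blk.Quot
import Cfsg.Agent.Char.DegThompson
import Cfsg.Agent.Char.GlaubBasic

set_option autoImplicit false

open Cfsg
open scoped ComplexConjugate

namespace CL.Blk

variable {G : Type*} [Group G] {p : ℕ} {M : Ideal AlgInt}

section Pow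

variable [Finite G] {k : ℕ}

theorem coprime_card_of_pow_eq (hp : p.Prime)
    (hk₁ : ∀ g : G, (∃ j : ℕ, orderOf g = p ^ j) → g ^ k = g ^ (1 + p))
    (hk₂ : ∀ g : G, ¬ p ∣ orderOf g → g ^ k = g) : k.Coprime (Nat.card G) := by
  refine Nat.coprime_of_dvd fun q hq hqk hqG => ?_
  have := Fact.mk hq
  obtain ⟨g, hg⟩ := exists_prime_orderOf_dvd_card' q hqG
  have h1 : g ^ k = 1 := orderOf_dvd_iff_pow_eq_one.1 (hg ▸ hqk)
  have h2 : g = 1 := by
    by_cases h : p ∣ orderOf g
    · have h3 : p = q := (Nat.prime_dvd_prime_iff_eq hp hq).1 (hg ▸ h)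
      rw [← h1, hk₁ g ⟨1, by rw [hg, h3, pow_one]⟩, pow_add, pow_one, h3, ← hg, pow_orderOf_eq_one,
        mul_one]
    · rw [← hk₂ g h, h1]
  rw [h2, orderOf_one] at hg
  exact hq.one_lt.ne hg

theorem exists_pow_pow_eq_self (hp : p.Prime)
    (hk₁ : ∀ g : G, (∃ j : ℕ, orderOf g = p ^ j) → g ^ k = g ^ (1 + p))
    (hk₂ : ∀ g : G, ¬ p ∣ orderOf g → g ^ k = g) : ∃ e : ℕ, ∀ g : G, g ^ k ^ p ^ e = g := by
  refine ⟨(Nat.card G).factorization p, fun g => ?_⟩
  obtain ⟨u, s, rfl, hus, ⟨j, hj⟩, hs⟩ := exists_isPPart hp g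
  have h1 : ∀ n : ℕ, s ^ k ^ n = s := fun n => by
    induction n with
    | zero => simp
    | succ n ih => rw [pow_succ, pow_mul, ih, hk₂ s hs]
  have h2 : ∀ n : ℕ, u ^ k ^ n = u ^ (1 + p) ^ n := fun n => by
    induction n with
    | zero => simp
    | succ n ih =>
      rw [pow_succ, pow_mul, ih, hk₁, ← pow_mul, ← pow_succ]
      obtain ⟨i, -, hi⟩ := (Nat.dvd_prime_pow hp).1 (hj ▸ orderOf_pow_dvd (x := u) ((1 + p) ^ n))
      exact ⟨i, hi⟩
  rw [hus.mul_pow, h1, h2]
  congr 1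
  set e := (Nat.card G).factorization p
  have h3 : j ≤ e := (hp.pow_dvd_iff_le_factorization Nat.card_pos.ne').1 (hj ▸ orderOf_dvd_natCard u)
  have h4 := dvd_sub_pow_of_dvd_sub (R := ℤ) (p := p) (a := 1 + p) (b := 1) (by simp) e
  conv_rhs => rw [← pow_one u]
  rw [pow_eq_pow_iff_modEq, hj]
  refine ((Nat.modEq_iff_dvd).2 ?_).symm
  push_cast
  exact (pow_dvd_pow _ (h3.trans e.le_succ)).trans (by simpa using h4)

theorem monoidHom_pow_eq_iff (hp : p.Prime)
    (hk₁ : ∀ g : G, (∃ j : ℕ, orderOf g = p ^ j) → g ^ k = g ^ (1 + p))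
    (hk₂ : ∀ g : G, ¬ p ∣ orderOf g → g ^ k = g) {lam : G →* ℂˣ}
    (h : ∀ g, ¬ p ∣ orderOf g → lam g = 1) : (∀ g, lam (g ^ k) = lam g) ↔ lam ^ p = 1 := by
  have key : ∀ g, lam (g ^ k) = lam g * lam g ^ p := fun g => by
    obtain ⟨u, s, rfl, hus, hu, hs⟩ := exists_isPPart hp g
    rw [hus.mul_pow, hk₁ u hu, hk₂ s hs, map_mul, map_mul, h s hs, mul_one, mul_one, map_pow, pow_add,
      pow_one]
  simp only [key, mul_eq_left, MonoidHom.ext_iff, MonoidHom.pow_apply, MonoidHom.one_apply]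

open Classical in
/-- The number of members of `p'`-degree of the principal block fixed by the power map is congruent to the
number of all members of `p'`-degree. -/
theorem card_principal_fixed_modEq [Fact p.Prime] (hM : IsPModular p M)
    (hk₁ : ∀ g : G, (∃ j : ℕ, orderOf g = p ^ j) → g ^ k = g ^ (1 + p))
    (hk₂ : ∀ g : G, ¬ p ∣ orderOf g → g ^ k = g) :
    Nat.card {χ : IrrCharacter G // χ ∈ principalBlock M G ∧ ¬ p ∣ charDegree (χ : G → ℂ)} ≡
      Nat.card {χ : IrrCharacter G // χ ∈ principalBlock M G ∧ ¬ p ∣ charDegree (χ : G → ℂ) ∧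
        ∀ g : G, (χ : G → ℂ) (g ^ k) = (χ : G → ℂ) g} [MOD p] := by
  have hp : p.Prime := Fact.out
  have hk := coprime_card_of_pow_eq hp hk₁ hk₂
  obtain ⟨e, he⟩ := exists_pow_pow_eq_self hp hk₁ hk₂
  let S := {χ : IrrCharacter G // χ ∈ principalBlock M G ∧ ¬ p ∣ charDegree (χ : G → ℂ)}
  have := Fintype.ofFinite S
  let f : Function.End S := fun χ => ⟨⟨_, CL.Char.isIrr_pow_coprime χ.1.2 hk⟩,
    (mem_principal_pow_iff hM hk fun _ => rfl).2 χ.2.1, by
      simpa [charDegree] using χ.2.2⟩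
  have hf : ∀ (n : ℕ) (χ : S) (g : G), (((f ^ n) χ).1 : G → ℂ) g = (χ.1 : G → ℂ) (g ^ k ^ n) := by
    intro n
    induction n with
    | zero => intro χ g; rw [pow_zero k, pow_one]; rfl
    | succ n ih =>
      intro χ g
      rw [pow_succ k, pow_mul, pow_succ]
      exact ih (f χ) g
  have h := Equiv.Perm.card_fixedPoints_modEq (f := f) (p := p) (n := e) (by
    funext χ
    refine Subtype.ext (Subtype.ext (funext fun g => ?_))
    rw [hf, he]
    rfl)
  rw [← Nat.card_eq_fintype_card, ← Nat.card_eq_fintype_card] at h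
  convert h using 1
  refine Nat.card_congr ⟨fun χ => ⟨⟨χ.1, χ.2.1, χ.2.2.1⟩, Subtype.ext (Subtype.ext (funext χ.2.2.2))⟩,
    fun χ => ⟨χ.1.1, χ.1.2.1, χ.1.2.2, congrFun (congrArg (fun x : S => (x.1 : G → ℂ)) χ.2)⟩,
    fun _ => rfl, fun _ => rfl⟩

end Pow

/-- The linear characters of order dividing `p` of a cyclic quotient of order divisible by `p`. -/
theorem card_monoidHom_pow_eq_one [Finite G] (hp : p.Prime) (N : Subgroup G) [N.Normal]
    (hcyc : IsCyclic (G ⧸ N)) (hd : p ∣ N.index) :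
    Nat.card {lam : G →* ℂˣ // (∀ n ∈ N, lam n = 1) ∧ lam ^ p = 1} = p := by
  have : NeZero p := ⟨hp.ne_zero⟩
  obtain ⟨q, hq⟩ := IsCyclic.exists_generator (α := G ⧸ N)
  obtain ⟨g, rfl⟩ := QuotientGroup.mk_surjective q
  refine Eq.trans ?_ (Complex.card_rootsOfUnity p)
  refine Nat.card_congr (Equiv.ofBijective (fun lam => ⟨lam.1 g, by
    rw [mem_rootsOfUnity, ← MonoidHom.pow_apply, lam.2.2, MonoidHom.one_apply]⟩) ⟨?_, ?_⟩)
  · rintro ⟨a, ha, ha'⟩ ⟨b, hb, hb'⟩ h
    have h' : a g = b g := congrArg Subtype.val h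
    refine Subtype.ext (MonoidHom.ext fun x => ?_)
    obtain ⟨i, hi⟩ := Subgroup.mem_zpowers_iff.1 (hq (x : G ⧸ N))
    rw [← QuotientGroup.mk_zpow, QuotientGroup.eq] at hi
    have hx : x = g ^ i * ((g ^ i)⁻¹ * x) := by group
    rw [hx, map_mul, map_mul b, ha _ hi, hb _ hi, map_zpow, map_zpow, h']
  · rintro ⟨ζ, hζ⟩
    have h1 : orderOf ζ ∣ orderOf (g : G ⧸ N) := by
      rw [orderOf_eq_card_of_forall_mem_zpowers hq]
      exact (orderOf_dvd_of_pow_eq_one hζ).trans hd
    let mu := monoidHomOfForallMemZpowers hq h1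
    have hmu : mu g = ζ := monoidHomOfForallMemZpowers_apply_gen hq h1
    refine ⟨⟨mu.comp (QuotientGroup.mk' N), fun n hn => ?_, MonoidHom.ext fun x => ?_⟩,
      Subtype.ext hmu⟩
    · simp [(QuotientGroup.eq_one_iff n).2 hn]
    · obtain ⟨i, hi⟩ := Subgroup.mem_zpowers_iff.1 (hq (x : G ⧸ N))
      rw [MonoidHom.pow_apply, MonoidHom.comp_apply, QuotientGroup.mk'_apply, ← hi, map_zpow, hmu,
        ← zpow_natCast, ← zpow_mul, mul_comm, zpow_mul, zpow_natCast, (mem_rootsOfUnity p ζ).1 hζ,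
        one_zpow, MonoidHom.one_apply]

/-- The linear characters in the principal block form a group. -/
def principalLinear (M : Ideal AlgInt) (G : Type*) [Group G] [Finite G] : Subgroup (G →* ℂˣ) where
  carrier := {lam | ∀ g : G,
    val M (((Subgroup.centralizer ({g} : Set G)).index : ℂ) * ((lam g : ℂ) - 1)) < 1}
  one_mem' := fun g => by simp
  mul_mem' := by
    intro a b ha hb g
    have h : ((b g : ℂˣ) : ℂ) ∈ valRing M := mem_valRing_of_pow_eq_one (orderOf_pos g).ne' (by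
      rw [← Units.val_pow_eq_pow_val, ← map_pow, pow_orderOf_eq_one, map_one, Units.val_one])
    have := (val M).map_add_lt (val_mul_lt_one_left (ha g) h) (hb g)
    convert this using 2
    simp only [MonoidHom.mul_apply, Units.val_mul]
    ring
  inv_mem' := by
    intro a ha g
    have h : ((a g⁻¹ : ℂˣ) : ℂ) ∈ valRing M := mem_valRing_of_pow_eq_one (orderOf_pos g⁻¹).ne' (by
      rw [← Units.val_pow_eq_pow_val, ← map_pow, pow_orderOf_eq_one, map_one, Units.val_one])
    have := val_mul_lt_one_left (ha g) h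
    rw [← (val M).map_neg] at this
    convert this using 2
    have h0 : ((a g : ℂˣ) : ℂ) ≠ 0 := Units.ne_zero _
    simp only [MonoidHom.inv_apply, map_inv, Units.val_inv_eq_inv_val]
    field_simp
    ring

theorem mem_principalLinear_iff [Finite G] (hM : IsPModular p M) {lam : G →* ℂˣ} {χ : IrrCharacter G}
    (h : ∀ g, (χ : G → ℂ) g = lam g) : lam ∈ principalLinear M G ↔ χ ∈ principalBlock M G := by
  rw [mem_principal_iff_val_index hM]
  refine forall_congr' fun g => ?_
  rw [centralChar, h, h, map_one, Units.val_one, div_one, mul_sub, mul_one]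

/-- If every member of `p'`-degree of the principal block is linear, there is a normal `p`-complement. -/
theorem hasNormalPComplement_of_principal_linear [Finite G] [Fact p.Prime] (hM : IsPModular p M)
    (h : ∀ χ ∈ principalBlock M G, ¬ p ∣ charDegree (χ : G → ℂ) → charDegree (χ : G → ℂ) = 1) :
    HasNormalPComplement p G := by
  classical
  have hp : p.Prime := Fact.out
  rw [CL.Grp.hasNormalPComplement_iff_not_dvd_pResidual]
  intro hd
  set N := pResidual p G with hNdef
  have hidx := CL.Grp.index_pResidual p G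
  have hcop : ∀ {m : ℕ}, ¬ p ∣ m → N.index.Coprime m := by
    intro m hm
    obtain ⟨k, hk⟩ := hidx
    rw [hk]
    exact Nat.Coprime.pow_left _ ((Nat.Prime.coprime_iff_not_dvd hp).mpr hm)
  have h1 := (ZMod.natCast_eq_zero_iff _ _).2 (dvd_sum_principal_sq hM hd)
  rw [Nat.cast_sum, Finset.sum_filter] at h1
  simp only [mem_principal_iff_regSum hM, Nat.cast_pow] at h1
  rw [CL.Char.sum_irr_eq_sum_invariant N hidx
    (fun θ => if regSum p θ ≠ 0 then (charDegree θ : ZMod p) ^ 2 else 0) (fun g θ => by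
      rw [CL.Char.charDegree_conjChar, ← regSum_comp_mulEquiv (MulAut.conjNormal g) θ]
      rfl)] at h1
  let L : Subgroup (N →* ℂˣ) := principalLinear M N ⊓
    ⨅ g : G, (MonoidHom.eqLocus (MonoidHom.id (N →* ℂˣ))
      (MonoidHom.compHom' (MulAut.conjNormal g).toMonoidHom))
  have hL : ¬ p ∣ Nat.card L := fun h2 => by
    obtain ⟨x, hx⟩ := exists_prime_orderOf_dvd_card' p h2
    exact CL.Char.not_dvd_orderOf_of_pResidual_eq_top hp CL.Grp.pResidual_pResidual x.1
      (by rw [Subgroup.orderOf_coe, hx])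
  refine hL ((ZMod.natCast_eq_zero_iff _ _).1 ?_)
  rw [← h1]
  have := Fintype.ofFinite L
  rw [Nat.card_eq_fintype_card, ← Finset.card_univ, Finset.card_eq_sum_ones, Nat.cast_sum]
  have hmem : ∀ lam : N →* ℂˣ, lam ∈ L ↔ lam ∈ principalLinear M N ∧
      ∀ (g : G) (n : N), lam (MulAut.conjNormal g n) = lam n := fun lam => by
    simp only [L, Subgroup.mem_inf, Subgroup.mem_iInf]
    exact and_congr_right fun _ => forall_congr' fun g =>
      ⟨fun h n => (DFunLike.congr_fun h n).symm, fun h => MonoidHom.ext fun n => (h n).symm⟩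
  refine Finset.sum_bij_ne_zero (fun lam _ _ => (⟨fun g => ((lam.1 g : ℂˣ) : ℂ),
    CL.Char.isIrrCharacter_linear _⟩ : IrrCharacter N)) ?_ ?_ ?_ ?_
  · intro lam _ _
    simp only [Finset.mem_filter, Finset.mem_univ, true_and]
    exact CL.Char.inertia_eq_top_iff.2 fun g n => congrArg Units.val (((hmem _).1 lam.2).2 g n)
  · intro a _ _ b _ _ hab
    exact Subtype.ext (CL.Char.monoidHom_coe_injective (congrArg Subtype.val hab))
  · intro θ hθ h0
    simp only [Finset.mem_filter, Finset.mem_univ, true_and] at hθ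
    have h2 : regSum p (θ : N → ℂ) ≠ 0 := fun h3 => h0 (by simp [h3])
    have h3 : ¬ p ∣ charDegree (θ : N → ℂ) := fun h3 => h0 (by
      simp [(ZMod.natCast_eq_zero_iff _ _).2 h3])
    obtain ⟨η, hη, he⟩ := CL.Char.exists_extension_of_coprime θ.2 (CL.Char.inertia_eq_top_iff.1 hθ)
      θ.2.cast_charDegree.symm (Nat.Coprime.mul_right (hcop
        (CL.Char.not_dvd_detOrder_of_pResidual_eq_top hp CL.Grp.pResidual_pResidual _)) (hcop h3))
    have hd : charDegree η = charDegree (θ : N → ℂ) := CL.Char.charDegree_congr (he 1)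
    have h4 := h ⟨η, hη⟩ ((mem_principal_iff_of_res_eq hM (fun g hg => CL.Grp.mem_pResidual_of_coprime
      ((Nat.Prime.coprime_iff_not_dvd hp).2 hg).symm) he).2 ((mem_principal_iff_regSum hM).2 h2))
      (hd ▸ h3)
    have h5 : (θ : N → ℂ) 1 = 1 := by
      rw [← θ.2.cast_charDegree, ← hd, show charDegree η = 1 from h4, Nat.cast_one]
    obtain ⟨lam, hlam⟩ := (CL.Char.linearIrrEquiv N).surjective ⟨θ, h5⟩
    have h6 : ∀ n, (θ : N → ℂ) n = lam n := fun n => by
      rw [← CL.Char.linearIrrEquiv_apply, hlam]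
    refine ⟨⟨lam, (hmem _).2 ⟨(mem_principalLinear_iff hM h6).2 ((mem_principal_iff_regSum hM).2 h2),
      fun g n => Units.ext ?_⟩⟩, Finset.mem_univ _, by simp, Subtype.ext (funext fun n => (h6 n).symm)⟩
    rw [← h6, ← h6]
    exact CL.Char.inertia_eq_top_iff.1 hθ g n
  · intro lam _ _
    have := (mem_principal_iff_regSum hM).1 ((mem_principalLinear_iff hM (χ := ⟨fun g => ((lam.1 g : ℂˣ) : ℂ),
      CL.Char.isIrrCharacter_linear _⟩) fun _ => rfl).1 ((hmem _).1 lam.2).1)
    simp only [ne_eq] at this ⊢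
    rw [if_pos this, CL.Char.charDegree_monoidHom]
    simp

theorem charDegree_eq_one_of_hasNormalPComplement [Finite G] [Fact p.Prime] (hM : IsPModular p M)
    (h : HasNormalPComplement p G) {χ : IrrCharacter G} (hχ : χ ∈ principalBlock M G)
    (hd : ¬ p ∣ charDegree (χ : G → ℂ)) : charDegree (χ : G → ℂ) = 1 := by
  have hp : p.Prime := Fact.out
  rw [CL.Grp.hasNormalPComplement_iff_not_dvd_pResidual] at h
  have := Fintype.ofFinite (pResidual p G)
  obtain ⟨θ, hθ⟩ := exists_over (pResidual p G) χ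
  have h1 := eq_irrOne_of_mem_principal_of_not_dvd hM h (mem_principal_of_over hM hχ (over_iff.1 hθ))
  rw [h1, over_irrOne_iff] at hθ
  have h2 := charDegree_dvd_index_of_le_charKer χ.2 fun n hn => χ.2.mem_charKer.2 (hθ n hn)
  obtain ⟨k, hk⟩ := CL.Grp.index_pResidual p G
  rw [hk] at h2
  exact Nat.Coprime.eq_one_of_dvd
    (Nat.Coprime.pow_right _ ((Nat.Prime.coprime_iff_not_dvd hp).2 hd).symm) h2

end CL.Blk
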