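import Cfsg.Agent.Blk.NormDef
import Cfsg.Agent.Blk.PrincRes
import Cfsg.Agent.Loc.PLength

/-! Regular blocks over normal subgroups, dimension of a block, Isaacs–Smith theorem on
`p`-length one. -/

open scoped MonoidAlgebra ComplexConjugate Pointwise commutatorElement
open MonoidAlgebra Cfsg CL.Grp CL.Char Subgroup CL.Blk.Pair

set_option linter.unusedSectionVars false

namespace CL.Blk

variable {G : Type*} [Group G] [Finite G] {M : Ideal AlgInt} {p : ℕ} [hp : Fact p.Prime]

section Regular

variable {N : Subgroup G} [hN : N.Normal] {b : Set (IrrCharacter N)} {B : Set (IrrCharacter G)}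

theorem lam_classSum_eq_zero_of_centralizer_le (hM : IsPModular p M) (hB : IsPBlock M B)
    {D : Subgroup G} (hD : IsDefectGroup p M B D) (hC : centralizer (D : Set G) ≤ N)
    {χ : IrrCharacter G} (hχ : χ ∈ B) {g : G} (hg : g ∉ N) :
    lam M χ (classSum (resField M) g) = 0 := by
  by_contra h
  obtain ⟨x, hx, hxc, -⟩ := exists_isConj_centralizer_pPart_mem hM hB hD hχ h
  obtain ⟨c, rfl⟩ := isConj_iff.1 hx
  exact hg (by simpa [mul_assoc] using hN.conj_mem _ (hC hxc) c⁻¹)

/-- If `C(D) ≤ N` for a defect group `D` of `B`, then `B` is induced by each block it covers. -/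
theorem Covers.isInducedBlock_of_centralizer_le (hM : IsPModular p M) (hB : IsPBlock M B)
    (hb : IsPBlock M b) (h : Covers N B b) {D : Subgroup G} (hD : IsDefectGroup p M B D)
    (hC : centralizer (D : Set G) ≤ N) : IsInducedBlock M N b B := by
  obtain ⟨χ, hχ⟩ := tr_nonempty hM hB
  exact h.isInducedBlock hM hB hb hχ fun g hg =>
    lam_classSum_eq_zero_of_centralizer_le hM hB hD hC hχ hg

/-- If `C(Q) ≤ N` for a defect group `Q` of `b`, then the characters over `b` form a block. -/
theorem Covers.eq_overSet_of_centralizer_le (hM : IsPModular p M) (hB : IsPBlock M B)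
    (hb : IsPBlock M b) (h : Covers N B b) {Q : Subgroup G} (hQN : Q ≤ N)
    (hQ : IsDefectGroup p M b (Q.subgroupOf N)) (hC : centralizer (Q : Set G) ≤ N) :
    B = overSet N b := by
  have key : ∀ B' : Set (IrrCharacter G), IsPBlock M B' → Covers N B' b →
      IsInducedBlock M N b B' := fun B' hB' h' => by
    obtain ⟨D, hD, hDQ⟩ := h'.exists_isDefectGroup_inf_eq hM hB' hb hQN hQ
    exact h'.isInducedBlock_of_centralizer_le hM hB' hb hD
      ((centralizer_le (show (Q : Set G) ⊆ D from fun x hx => (hDQ.ge hx).1)).trans hC)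
  refine Set.Subset.antisymm (h.subset_overSet hM hB (blockIdem_mem_OG hM hb)) ?_
  rintro χ ⟨θ, hθ, ho⟩
  rw [isInducedBlock_unique hM (key B hB h)
    (key _ (tr_isPBlock_blockOf χ) (ho.covers (tr_mem_blockOf_self hM χ) hθ))]
  exact tr_mem_blockOf_self hM χ

theorem principalBlock_eq_overSet_of_centralizer_le (hM : IsPModular p M) (P : Sylow p G)
    (hPN : (P : Subgroup G) ≤ N) (hC : centralizer ((P : Subgroup G) : Set G) ≤ N) :
    principalBlock M G = overSet N (principalBlock M N) := by
  refine (covers_principalBlock hM N).eq_overSet_of_centralizer_le hM tr_isPBlock_principalBlock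
    tr_isPBlock_principalBlock hPN ?_ hC
  exact (isDefectGroup_sylow_iff hM tr_isPBlock_principalBlock (P.subtype hPN)).2
    (blockDefect_principal hM)

end Regular

open Classical in
/-- For a set closed under the `p`-regular support condition, `∑ χ(1) χ` restricted to a
`p`-subgroup is a multiple of the regular character. -/
theorem RegSet.sum_mul_classInner_res {U : Set (IrrCharacter G)} (hU : RegSet p U)
    {P : Subgroup G} [Fintype P] (hP : IsPGroup p P) (μ : P → ℂ) :
    (Nat.card P : ℂ) * ∑ χ : IrrCharacter G with χ ∈ U,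
      (χ : G → ℂ) 1 * classInner (fun u : P => (χ : G → ℂ) u) μ =
      (∑ χ : IrrCharacter G with χ ∈ U, charDegree (χ : G → ℂ) ^ 2 : ℕ) * conj (μ 1) := by
  have h0 : (Nat.card P : ℂ) ≠ 0 := Nat.cast_ne_zero.2 Nat.card_pos.ne'
  have h1 : ∀ χ : IrrCharacter G, (Nat.card P : ℂ) * ((χ : G → ℂ) 1 *
      classInner (fun u : P => (χ : G → ℂ) u) μ) =
      ∑ u : P, (χ : G → ℂ) 1 * (χ : G → ℂ) u * conj (μ u) := fun χ => by
    rw [classInner_def, mul_left_comm, mul_inv_cancel_left₀ h0, Finset.mul_sum]
    exact Finset.sum_congr rfl fun u _ => by ring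
  rw [Finset.mul_sum, Finset.sum_congr rfl fun χ _ => h1 χ, Finset.sum_comm,
    Finset.sum_eq_single (1 : P)]
  · rw [← Finset.sum_mul]
    congr 1
    push_cast
    exact Finset.sum_congr rfl fun χ _ => by rw [charDegree_cast_irr, sq]
  · intro u _ hu
    rw [← Finset.sum_mul, ← finsum_mem_irr_eq_sum U fun χ => (χ : G → ℂ) 1 * (χ : G → ℂ) u,
      regSet_iff_finsum.1 hU u, zero_mul]
    have := dvd_orderOf_mul_of_mem_pGroup hp.out hP (one_mem _) (by simpa using hp.out.one_lt.ne')
      u.2 (fun h => hu (Subtype.ext h))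
    rwa [one_mul] at this
  · simp

theorem exists_linear_over_of_not_dvd {P : Subgroup G} [Fintype P] (hP : IsPGroup p P)
    {χ : G → ℂ} (hχ : IsCharacter G χ) (h : ¬ p ∣ charDegree χ) :
    ∃ μ : IrrCharacter P, (μ : P → ℂ) 1 = 1 ∧ classInner (fun u : P => χ u) μ ≠ 0 := by
  by_contra h0
  push Not at h0
  have hr := hχ.restrict P
  choose m hm using fun ψ : IrrCharacter P => hr.exists_nat_classInner ψ.2.isCharacter
  rw [← CL.Blk.charDegree_restrict χ P, hr.charDegree_eq_sum m hm] at h
  refine h (Finset.dvd_sum fun ψ _ => ?_)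
  by_cases h1 : (ψ : P → ℂ) 1 = 1
  · have := h0 ψ h1
    rw [hm, Nat.cast_eq_zero] at this
    simp [this]
  · refine Dvd.dvd.mul_left ?_ _
    by_contra h2
    exact h1 (irr_one_eq_one_of_isPGroup hP (Nat.factorization_eq_zero_of_not_dvd h2))

open Classical in
/-- If the dimension of the principal block is `|G|_p`, there is a normal `p`-complement. -/
theorem hasNormalPComplement_of_sum_sq_principal (hM : IsPModular p M) (P : Sylow p G)
    (h : ∑ χ : IrrCharacter G with χ ∈ principalBlock M G, charDegree (χ : G → ℂ) ^ 2 =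
      Nat.card (P : Subgroup G)) : HasNormalPComplement p G := by
  have := Fintype.ofFinite (P : Subgroup G)
  refine hasNormalPComplement_of_principal_linear hM fun χ hχ hd => ?_
  obtain ⟨μ, hμ1, hμ⟩ := exists_linear_over_of_not_dvd P.isPGroup' χ.2.isCharacter hd
  have h1 := (regSet_of_isPBlock hM tr_isPBlock_principalBlock).sum_mul_classInner_res
    P.isPGroup' (μ : P → ℂ)
  rw [h, hμ1, map_one] at h1
  have h2 := mul_left_cancel₀ (Nat.cast_ne_zero.2 Nat.card_pos.ne') h1
  choose m hm using fun ψ : IrrCharacter G =>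
    (ψ.2.isCharacter.restrict (P : Subgroup G)).exists_nat_classInner μ.2.isCharacter
  have h3 : ∑ ψ : IrrCharacter G with ψ ∈ principalBlock M G, charDegree (ψ : G → ℂ) * m ψ = 1 := by
    apply Nat.cast_injective (R := ℂ)
    rw [Nat.cast_one, ← h2]
    push_cast
    exact Finset.sum_congr rfl fun ψ _ => by rw [charDegree_cast_irr, hm]
  have h4 : charDegree (χ : G → ℂ) * m χ ≤ 1 := h3 ▸ Finset.single_le_sum
    (f := fun ψ : IrrCharacter G => charDegree (ψ : G → ℂ) * m ψ) (fun _ _ => Nat.zero_le _)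
    (Finset.mem_filter.2 ⟨Finset.mem_univ _, hχ⟩)
  have h5 : m χ ≠ 0 := fun h0 => hμ (by rw [hm, h0, Nat.cast_zero])
  have h6 := charDegree_pos χ.2
  have h7 : charDegree (χ : G → ℂ) ≤ charDegree (χ : G → ℂ) * m χ :=
    Nat.le_mul_of_pos_right _ (Nat.pos_of_ne_zero h5)
  omega

/-- A principal block character whose kernel contains the Sylow subgroup `P` has `C(P)` in its
kernel. -/
theorem centralizer_sylow_le_charKer (hM : IsPModular p M) (P : Sylow p G) {χ : IrrCharacter G}
    (hχ : χ ∈ principalBlock M G) (hP : (P : Subgroup G) ≤ charKer (χ : G → ℂ)) :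
    centralizer ((P : Subgroup G) : Set G) ≤ charKer (χ : G → ℂ) := by
  set K := charKer (χ : G → ℂ) with hKd
  have : K.Normal := χ.2.charKer_normal
  have hK : ¬ p ∣ K.index := fun h => P.not_dvd_index (h.trans (index_dvd_of_le hP))
  have hd : ¬ p ∣ charDegree (χ : G → ℂ) := fun h =>
    hK (h.trans (charDegree_dvd_index_of_le_charKer χ.2 le_rfl))
  obtain ⟨ψ, hψ⟩ := exists_inflIrr_eq (N := K) (ψ := χ) fun n hn => apply_eq_one_of_mem_charKer hn
  let C := (centralizer ((P : Subgroup G) : Set G)).map (QuotientGroup.mk' K)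
  have hfr := Sylow.normalizer_sup_eq_top' P hP
  have : C.Normal := by
    rw [← normalizer_eq_top_iff, eq_top_iff, ← map_top_of_surjective _
      (QuotientGroup.mk'_surjective K), ← hfr, Subgroup.map_sup, (Subgroup.map_eq_bot_iff _).2
      (QuotientGroup.ker_mk' K).ge, sup_bot_eq]
    exact (map_mono (normalizer_le_normalizer_centralizer _)).trans (le_normalizer_map _)
  have := Fintype.ofFinite C
  have := Fintype.ofFinite (G ⧸ K)
  have hC : ¬ p ∣ Nat.card C := fun h => hK (h.trans (card_subgroup_dvd_card C))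
  have h1 : val M (∑ c : C, ((ψ : G ⧸ K → ℂ) c - (ψ : G ⧸ K → ℂ) 1)) < 1 := by
    refine val_sum_lt_one _ _ fun c _ => ?_
    obtain ⟨c, x, hx, rfl⟩ := c
    have := (mem_principal_iff_centralizer_sylow hM P hd).1 hχ x hx
    rwa [hψ, inflIrr_apply, inflIrr_apply_one] at this
  have h2 : classInner (fun c : C => (ψ : G ⧸ K → ℂ) c) (fun _ => 1) ≠ 0 := by
    rw [classInner_one_right]
    refine mul_ne_zero (inv_ne_zero (Nat.cast_ne_zero.2 Nat.card_pos.ne')) fun h0 => ?_
    rw [Finset.sum_sub_distrib, h0, zero_sub, Valuation.map_neg, Finset.sum_const,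
      Finset.card_univ, ← Nat.card_eq_fintype_card, nsmul_eq_mul, map_mul,
      (val_natCast_eq_one_iff hM _).2 hC, one_mul, ← inflIrr_apply_one, ← hψ,
      (val_irr_one_eq_one_iff hM χ).2 hd] at h1
    exact lt_irrefl _ h1
  intro x hx
  have h3 := apply_eq_one_of_classInner_res_one_ne_zero ψ.2 h2 (mem_map_of_mem _ hx)
  rw [hKd, χ.2.mem_charKer, hψ, inflIrr_apply, inflIrr_apply_one]
  exact h3

theorem le_pPrimePCore_of_hasNormalPComplement {L : Subgroup G} [hL : L.Normal]
    (h : HasNormalPComplement p L) : L ≤ pPrimePCore p G := by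
  have h1 : (pResidual p L).map L.subtype ≤ pPrimeCore p G := by
    refine le_pPrimeCore ?_
    rw [card_map_of_injective L.subtype_injective]
    exact hasNormalPComplement_iff_coprime_pResidual.1 h
  have := hL.map _ (QuotientGroup.mk'_surjective (pPrimeCore p G))
  refine map_le_iff_le_comap.1 (le_pCore ?_)
  rintro ⟨_, x, hx, rfl⟩
  obtain ⟨k, hk⟩ := isPGroup_quotient_pResidual p L (⟨x, hx⟩ : L)
  refine ⟨k, Subtype.ext ?_⟩
  rw [← QuotientGroup.mk_pow, QuotientGroup.eq_one_iff] at hk
  have h2 := h1 (mem_map_of_mem _ hk)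
  simpa [← QuotientGroup.mk_pow, QuotientGroup.eq_one_iff] using h2

open Classical in
theorem sum_sq_le_charKer (N : Subgroup G) [N.Normal] :
    ∑ χ ∈ Finset.univ.filter (fun χ : IrrCharacter G => N ≤ charKer (χ : G → ℂ)),
      charDegree (χ : G → ℂ) ^ 2 = N.index := by
  have h := sum_irr_comp (QuotientGroup.mk' N) (QuotientGroup.mk'_surjective N)
    (fun χ : G → ℂ => charDegree χ ^ 2)
  simp only [QuotientGroup.ker_mk'] at h
  rw [← h, index_eq_card, ← sum_charDegree_sq]
  exact Finset.sum_congr rfl fun ψ _ => by rw [charDegree_comp]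

theorem le_charKer_of_irr_res {P N : Subgroup G} [Fintype P] (hPN : P ≤ N)
    (hN : N ≤ normalizer (P : Set G)) {χ : IrrCharacter G}
    (hi : IsIrrCharacter N fun n => (χ : G → ℂ) n)
    (h : classInner (fun u : P => (χ : G → ℂ) u) (fun _ => 1) ≠ 0) : P ≤ charKer (χ : G → ℂ) := by
  have := (normal_subgroupOf_iff_le_normalizer hPN).2 hN
  have := Fintype.ofFinite (P.subgroupOf N)
  have := Fintype.ofFinite N
  intro u hu
  rw [χ.2.mem_charKer]
  refine apply_eq_one_of_classInner_res_one_ne_zero (N := P.subgroupOf N) hi ?_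
    (n := ⟨u, hPN hu⟩) (mem_subgroupOf.2 hu)
  rw [classInner_one_right] at h ⊢
  refine mul_ne_zero (inv_ne_zero (Nat.cast_ne_zero.2 Nat.card_pos.ne')) ?_
  rw [← Equiv.sum_comp (subgroupOfEquivOfLe hPN).toEquiv] at h
  exact right_ne_zero_of_mul h

/-- Isaacs–Smith. -/
theorem pLengthLE_one_of_principal_res (hM : IsPModular p M) (P : Sylow p G)
    (h : ∀ χ ∈ principalBlock M G, IsIrrCharacter (normalizer ((P : Subgroup G) : Set G))
      fun n => (χ : G → ℂ) n) : PLengthLE p 1 G := by
  classical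
  have := Fintype.ofFinite (P : Subgroup G)
  let L := normalClosure (((P : Subgroup G) ⊔ centralizer ((P : Subgroup G) : Set G) :
    Subgroup G) : Set G)
  have hPL : (P : Subgroup G) ≤ L := le_sup_left.trans le_normalClosure
  have hCL : centralizer ((P : Subgroup G) : Set G) ≤ L := le_sup_right.trans le_normalClosure
  have hLi : ¬ p ∣ L.index := fun h => P.not_dvd_index (h.trans (index_dvd_of_le hPL))
  have hiff : ∀ χ : IrrCharacter G, (χ ∈ principalBlock M G ∧
      (P : Subgroup G) ≤ charKer (χ : G → ℂ)) ↔ L ≤ charKer (χ : G → ℂ) := fun χ => by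
    have : (charKer (χ : G → ℂ)).Normal := χ.2.charKer_normal
    refine ⟨fun h => normalClosure_le_normal
      (sup_le h.2 (centralizer_sylow_le_charKer hM P h.1 h.2) :), fun h => ⟨?_, hPL.trans h⟩⟩
    refine (mem_principal_iff_centralizer_sylow hM P fun hd =>
      hLi (hd.trans (charDegree_dvd_index_of_le_charKer χ.2 h))).2 fun c hc => ?_
    rw [apply_eq_one_of_mem_charKer (h (hCL hc)), sub_self, map_zero]
    exact zero_lt_one
  have h1 := (regSet_of_isPBlock hM tr_isPBlock_principalBlock).sum_mul_classInner_res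
    P.isPGroup' (fun _ => 1)
  have h2 : ∑ χ : IrrCharacter G with χ ∈ principalBlock M G,
      (χ : G → ℂ) 1 * classInner (fun u : (P : Subgroup G) => (χ : G → ℂ) u) (fun _ => 1) =
      (L.index : ℂ) := by
    rw [← sum_sq_le_charKer L, ← Finset.filter_congr fun χ _ => hiff χ, ← Finset.filter_filter,
      Finset.sum_filter (s := Finset.filter _ _)]
    push_cast
    refine Finset.sum_congr rfl fun χ hχ => ?_
    split_ifs with hk
    · rw [classInner_one_right, Finset.sum_congr rfl fun u _ =>
        apply_eq_one_of_mem_charKer (hk u.2), Finset.sum_const, Finset.card_univ,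
        ← Nat.card_eq_fintype_card, nsmul_eq_mul,
        inv_mul_cancel_left₀ (Nat.cast_ne_zero.2 Nat.card_pos.ne'), charDegree_cast_irr, sq]
    · rw [not_not.1 fun h0 => hk (le_charKer_of_irr_res le_normalizer le_rfl
        (h χ (Finset.mem_filter.1 hχ).2) h0), mul_zero]
  rw [h2, map_one, mul_one, principalBlock_eq_overSet_of_centralizer_le hM P hPL hCL,
    sum_sq_overSet (isInvSet_principal hM L), mul_comm, ← Nat.cast_mul, Nat.cast_inj] at h1
  have h3 := Nat.eq_of_mul_eq_mul_left (Nat.pos_of_ne_zero FiniteIndex.index_ne_zero) h1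
  have h4 : HasNormalPComplement p L := by
    refine hasNormalPComplement_of_sum_sq_principal hM (P.subtype hPL) ?_
    rw [← h3, Sylow.coe_subtype, Nat.card_congr (subgroupOfEquivOfLe hPL).toEquiv]
  rw [CL.Loc.pLengthLE_one_iff, Nat.coprime_comm, hp.out.coprime_iff_not_dvd]
  exact fun hd => hLi (hd.trans (index_dvd_of_le (le_pPrimePCore_of_hasNormalPComplement h4)))

theorem pPrimeCore_sup_normalizer_of_pLengthLE_one (h : PLengthLE p 1 G) (P : Sylow p G) :
    pPrimeCore p G ⊔ normalizer ((P : Subgroup G) : Set G) = ⊤ := by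
  rw [CL.Loc.pLengthLE_one_iff, Nat.coprime_comm, hp.out.coprime_iff_not_dvd] at h
  obtain ⟨Q, hQ⟩ := exists_sylow_le_of_not_dvd_index' h
  have hP : (P : Subgroup G) ≤ pPrimePCore p G := by
    obtain ⟨g, rfl⟩ := MulAction.exists_smul_eq G Q P
    rw [Sylow.coe_subgroup_smul, ← Subgroup.Normal.conj_smul_eq_self g (pPrimePCore p G)]
    exact Subgroup.pointwise_smul_le_pointwise_smul_iff.2 hQ
  have h2 := CL.Loc.pPrimeCore_sup_eq_of_isSylowIn (isSylowIn_of_le P hP)
  have h3 := Sylow.normalizer_sup_eq_top' P hP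
  have h4 : pPrimePCore p G ≤ pPrimeCore p G ⊔ normalizer ((P : Subgroup G) : Set G) :=
    h2.ge.trans (sup_le (le_normalizer.trans le_sup_right) le_sup_left)
  exact eq_top_iff.2 (h3.ge.trans (sup_le le_sup_right h4))

theorem principal_res_of_pLengthLE_one (hM : IsPModular p M) (h : PLengthLE p 1 G)
    (P : Sylow p G) {χ : IrrCharacter G} (hχ : χ ∈ principalBlock M G) :
    IsIrrCharacter (normalizer ((P : Subgroup G) : Set G)) fun n => (χ : G → ℂ) n := by
  refine isIrrCharacter_restrict_of_charCenter _ χ.2 ?_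
  rw [eq_top_iff, ← pPrimeCore_sup_normalizer_of_pLengthLE_one h P]
  refine sup_le_sup_right (le_trans (fun n hn => ?_) (charKer_le_charCenter _)) _
  exact χ.2.mem_charKer.2 (principal_apply_of_mem hM (not_dvd_card_pPrimeCore p G) hχ hn)

end CL.Blk
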