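/-
Groups with a Sylow subgroup of prime order `p` such that `p` divides an irreducible character degree:
reduction to a nonabelian simple section.
-/
import Cfsg.Agent.Grp.Coprime2
import Cfsg.Agent.Fgs.FitH
import Cfsg.Agent.Odd.BG1b
import Cfsg.Agent.Char.DegTaketa
import Cfsg.Agent.Char.Ito
import Cfsg.Agent.Char.Burnside
import Cfsg.Prelude.Def_DegreeGraph

set_option autoImplicit false

open Cfsg Subgroup CL.Grp CL.Char

namespace CL.Blk.DegOrd

variable {G : Type*} [Group G] [Finite G] {p : ℕ}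

theorem mem_degreePrimes {r d : ℕ} (hr : r.Prime) (hd : d ∈ cdSet G) (h : r ∣ d) : r ∈ degreePrimes G :=
  ⟨hr, d, mem_charDegrees_iff.2 hd, h⟩

/-- Itô: a prime not dividing the index of a normal abelian subgroup divides no degree. -/
theorem not_mem_degreePrimes {r : ℕ} (A : Subgroup G) [A.Normal] (hA : ∀ a ∈ A, ∀ b ∈ A, a * b = b * a)
    (h : ¬ r ∣ A.index) : r ∉ degreePrimes G := by
  rintro ⟨-, d, ⟨χ, rfl⟩, hd⟩
  exact h (hd.trans (isIrr_degree_dvd_index_of_abelian_normal χ.2 χ.2.cast_charDegree.symm A hA))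

theorem not_mem_of_card_prime (hp : p.Prime) (h2 : ¬ p ^ 2 ∣ Nat.card G) (A : Subgroup G) [A.Normal]
    (hA : Nat.card A = p) : p ∉ degreePrimes G := by
  have : Fact p.Prime := ⟨hp⟩
  have : IsCyclic A := isCyclic_of_prime_card hA
  refine not_mem_degreePrimes A (fun a ha b hb => ?_) fun h => h2 ?_
  · exact congrArg Subtype.val (IsCyclic.isMulCommutative.is_comm.comm (⟨a, ha⟩ : A) ⟨b, hb⟩)
  · rw [← A.card_mul_index, hA, sq]
    exact Nat.mul_dvd_mul_left _ h

theorem relIndex_modEq [hp : Fact p.Prime] {X K : Subgroup G} (hX : IsPGroup p X)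
    (hn : X ≤ normalizer (K : Set G)) (hK : ¬ p ∣ Nat.card K) :
    (centralizer (X : Set G)).relIndex K ≡ 1 [MOD p] := by
  have h1 := card_modEq_card_inf_centralizer hX hn
  have h2 := card_inf_mul_relIndex (centralizer (X : Set G)) K
  rw [inf_comm] at h2
  have h3 : ¬ p ∣ Nat.card (K ⊓ centralizer (X : Set G) : Subgroup G) := fun h =>
    hK (h.trans (card_dvd_of_le inf_le_left))
  rw [← h2] at h1
  nth_rewrite 2 [← mul_one (Nat.card (K ⊓ centralizer (X : Set G) : Subgroup G))] at h1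
  exact Nat.ModEq.cancel_left_of_coprime ((Nat.coprime_comm.1 (hp.out.coprime_iff_not_dvd.2 h3)).symm) h1

/-- An `r`-subgroup normalized but not centralized by a `p`-group. -/
theorem exists_pow_of_not_le [hp : Fact p.Prime] {r : ℕ} (hr : r.Prime) {X R : Subgroup G} (hX : IsPGroup p X)
    (hn : X ≤ normalizer (R : Set G)) (hR : IsPGroup r R) (hK : ¬ p ∣ Nat.card R)
    (h : ¬ R ≤ centralizer (X : Set G)) :
    ∃ i, 0 < i ∧ (centralizer (X : Set G)).relIndex R = r ^ i ∧ r ^ i ∣ Nat.card R ∧ r ^ i % p = 1 := by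
  have : Fact r.Prime := ⟨hr⟩
  obtain ⟨k, hk⟩ := hR.exists_card_eq
  have h1 := relIndex_dvd_card (centralizer (X : Set G)) R
  obtain ⟨i, -, hi⟩ := (Nat.dvd_prime_pow hr).1 (hk ▸ h1)
  refine ⟨i, Nat.pos_of_ne_zero ?_, hi, hi ▸ h1, ?_⟩
  · rintro rfl
    exact h (relIndex_eq_one.1 (by rw [hi, pow_zero]))
  · have := relIndex_modEq hX hn hK
    rwa [hi, Nat.ModEq, Nat.mod_eq_of_lt hp.out.one_lt] at this

theorem exists_syl_le_cent [hp : Fact p.Prime] {r : ℕ} (hr : r.Prime) {X N : Subgroup G} (hX : IsPGroup p X)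
    (hn : X ≤ normalizer (N : Set G)) (hN : ¬ p ∣ Nat.card N)
    (h : ∀ i, 0 < i → r ^ i ∣ Nat.card N → r ^ i % p ≠ 1) :
    ∃ R, IsSylowIn r R N ∧ R ≤ centralizer (X : Set G) := by
  have : Fact r.Prime := ⟨hr⟩
  obtain ⟨k, hk⟩ := hX.exists_card_eq
  have := hX.isNilpotent
  obtain ⟨R, hR, hXR⟩ := exists_isSylowIn_le_normalizer r hn
    (hk ▸ Nat.Coprime.pow_left k (hp.out.coprime_iff_not_dvd.2 hN)) (.inl inferInstance)
  refine ⟨R, hR, ?_⟩
  by_contra hc
  have hd := card_dvd_of_le hR.le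
  obtain ⟨i, h0, -, h1, h2⟩ := exists_pow_of_not_le hr hX hXR hR.isPGroup (fun e => hN (e.trans hd)) hc
  exact h i h0 (h1.trans hd) h2

theorem le_cent [hp : Fact p.Prime] {X N : Subgroup G} (hX : IsPGroup p X)
    (hn : X ≤ normalizer (N : Set G)) (hN : ¬ p ∣ Nat.card N)
    (h : ∀ r, r.Prime → ∀ i, 0 < i → r ^ i ∣ Nat.card N → r ^ i % p ≠ 1) : N ≤ centralizer (X : Set G) :=
  le_of_forall_exists_isSylowIn_le fun r hr _ => exists_syl_le_cent hr hX hn hN (h r hr)

/-- The exceptional case: the only prime power `≡ 1` is the full `r`-part of `|G|`. -/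
theorem le_cent_of_exc [hp : Fact p.Prime] {X N : Subgroup G} [N.Normal] (hX : IsPGroup p X)
    (hN : ¬ p ∣ Nat.card N) (hs : Group.IsSolvable N) {r k : ℕ} (hk : ¬ r ^ (k + 1) ∣ Nat.card G)
    (hr : r ∈ degreePrimes G)
    (h : ∀ s, s.Prime → ∀ i, 0 < i → s ^ i ∣ Nat.card N → s ^ i % p = 1 → s = r ∧ i = k) :
    N ≤ centralizer (X : Set G) := by
  rw [le_centralizer_iff]
  obtain ⟨j, hj⟩ := hX.exists_card_eq
  have hc := CL.Odd.coprime_cent_Fitting (A := X) (K := N) le_normalizer_of_normal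
    (hj ▸ Nat.Coprime.pow_left j (hp.out.coprime_iff_not_dvd.2 hN)) hs
  refine (le_inf le_rfl (CL.Fgs.le_cent_fitting_of_pCore fun q hq _ => ?_)).trans hc
  by_contra hq'
  have : Fact q.Prime := ⟨hq⟩
  set R := pCoreOf q N with hR
  have hRp : IsPGroup q R := pCoreOf_isPGroup q N
  have hd : Nat.card R ∣ Nat.card N := card_dvd_of_le (pCoreOf_le q N)
  obtain ⟨i, h0, h1, h2, h3⟩ := exists_pow_of_not_le hq hX le_normalizer_of_normal hRp
    (fun e => hN (e.trans hd)) (fun e => hq' (le_centralizer_iff.1 e))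
  obtain ⟨rfl, rfl⟩ := h q hq i h0 (h2.trans hd) h3
  obtain ⟨m, hm⟩ := hRp.exists_card_eq
  have hmi : m = i := by
    have h4 : i ≤ m := (Nat.pow_dvd_pow_iff_le_right hq.one_lt).1 (hm ▸ h2)
    by_contra h5
    exact hk ((pow_dvd_pow q (by omega)).trans (hm ▸ card_subgroup_dvd_card R))
  subst hmi
  have h6 : Nat.card (centralizer (X : Set G) ⊓ R : Subgroup G) = 1 := by
    have := card_inf_mul_relIndex (centralizer (X : Set G)) R
    rw [h1, hm] at this
    exact (Nat.mul_eq_right (pow_pos hq.pos m).ne').1 this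
  set Z := (center R).map R.subtype with hZ
  have hZR : Z ≤ R := map_subtype_le _
  have : Nontrivial R := by
    rw [← Finite.one_lt_card_iff_nontrivial, hm]
    exact Nat.one_lt_pow h0.ne' hq.one_lt
  have hZ1 : Z ≠ ⊥ := by
    rw [hZ, Ne, map_eq_bot_iff_of_injective _ R.subtype_injective, ← Ne, ← nontrivial_iff_ne_bot]
    exact hRp.center_nontrivial
  have hdZ : Nat.card Z ∣ Nat.card N := (card_dvd_of_le hZR).trans hd
  obtain ⟨i, h0', -, h2', h3'⟩ := exists_pow_of_not_le hq hX le_normalizer_of_normal (hRp.to_le hZR)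
    (fun e => hN (e.trans hdZ))
    (fun e => hZ1 (eq_bot_iff.2 ((le_inf e hZR).trans (card_eq_one.1 h6).le)))
  obtain ⟨-, rfl⟩ := h q hq i h0' (h2'.trans hdZ) h3'
  have hZe : Z = R := eq_of_le_of_card_ge hZR (hm ▸ Nat.le_of_dvd Nat.card_pos h2')
  refine not_mem_degreePrimes R (fun a ha b hb => ?_) (fun e => hk ?_) hr
  · obtain ⟨z, hz, rfl⟩ := hZe.ge hb
    exact congrArg Subtype.val (mem_center_iff.1 hz ⟨a, ha⟩)
  · rw [← R.card_mul_index, hm, pow_succ]
    exact Nat.mul_dvd_mul_left _ e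

/-- The subgroup generated by the elements of order `p`. -/
def gen (p : ℕ) (G : Type*) [Group G] : Subgroup G := closure {x | orderOf x = p}

omit [Finite G] in
theorem mem_gen {x : G} (h : orderOf x = p) : x ∈ gen p G := subset_closure h

instance gen_normal (p : ℕ) (G : Type*) [Group G] : (gen p G).Normal := by
  refine ⟨fun n hn g => ?_⟩
  induction hn using closure_induction with
  | mem x hx => exact mem_gen ((MulAut.conj g).orderOf_eq x ▸ hx)
  | one => simp
  | mul x y _ _ hx hy => simpa [mul_assoc] using mul_mem hx hy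
  | inv x _ hx => simpa [mul_assoc] using inv_mem hx

theorem mem_of_orderOf [hp : Fact p.Prime] (h2 : ¬ p ^ 2 ∣ Nat.card G) {L : Subgroup G} (hL : p ∣ Nat.card L)
    {x : G} (hx : orderOf x = p) (hn : x ∈ normalizer (L : Set G)) : x ∈ L := by
  by_contra h
  have h1 : zpowers x ⊓ L = ⊥ := by
    have := card_dvd_of_le (inf_le_left : zpowers x ⊓ L ≤ zpowers x)
    rw [Nat.card_zpowers, hx] at this
    rcases (Nat.dvd_prime hp.out).1 this with e | e
    · exact card_eq_one.1 e
    · exact absurd ((eq_of_le_of_card_ge inf_le_left (by rw [e, Nat.card_zpowers, hx])).ge (mem_zpowers x)).2 h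
  have h3 := card_sup_of_inf_eq_bot (zpowers_le.2 hn) h1
  rw [Nat.card_zpowers, hx] at h3
  refine h2 (dvd_trans ?_ (card_subgroup_dvd_card (zpowers x ⊔ L)))
  rw [h3, sq]
  exact Nat.mul_dvd_mul_left _ hL

theorem gen_simple [hp : Fact p.Prime] (h1 : p ∣ Nat.card G) (h2 : ¬ p ^ 2 ∣ Nat.card G)
    (hO : pPrimeCore p G = ⊥) : p ∣ Nat.card (gen p G) ∧ IsSimpleGroup (gen p G) := by
  obtain ⟨x, hx⟩ := exists_prime_orderOf_dvd_card' p h1
  have h3 : p ∣ Nat.card (gen p G) := hx.symm.dvd.trans (Subgroup.orderOf_dvd_natCard _ (mem_gen hx))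
  have : Nontrivial (gen p G) := by
    rw [← Finite.one_lt_card_iff_nontrivial]
    exact hp.out.one_lt.trans_le (Nat.le_of_dvd Nat.card_pos h3)
  refine ⟨h3, ⟨fun L hL => ?_⟩⟩
  by_cases h : p ∣ Nat.card L
  · right
    rw [eq_top_iff, ← map_subtype_le_map_subtype, ← MonoidHom.range_eq_map, range_subtype]
    exact (closure_le _).2 fun y hy => mem_of_orderOf h2 (by rwa [card_map_subtype]) hy
      (le_normalizer_map_subtype L (mem_gen hy))
  · left
    rw [eq_bot_iff, ← pPrimeCore_eq_bot_of_isSubnormal (gen_normal p G).isSubnormal hO]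
    exact le_pPrimeCore_of_not_dvd h

theorem centralizer_gen [hp : Fact p.Prime] (hO : pPrimeCore p G = ⊥) [IsSimpleGroup (gen p G)]
    (hc : ¬ IsMulCommutative (gen p G)) : centralizer (gen p G : Set G) = ⊥ := by
  rw [eq_bot_iff, ← hO]
  refine le_pPrimeCore_of_not_dvd fun h => ?_
  obtain ⟨⟨y, hy⟩, hy'⟩ := exists_prime_orderOf_dvd_card' p h
  replace hy' : orderOf y = p := (orderOf_coe _).trans hy'
  have h1 : (⟨y, mem_gen hy'⟩ : gen p G) ∈ center (gen p G) :=
    mem_center_iff.2 fun g => Subtype.ext (hy g g.2)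
  rcases IsSimpleGroup.eq_bot_or_eq_top_of_normal (center (gen p G)) inferInstance with e | e
  · rw [e, mem_bot, Subtype.ext_iff] at h1
    simp only [OneMemClass.coe_one] at h1
    rw [h1, orderOf_one] at hy'
    exact hp.out.one_lt.ne hy'
  · exact hc ⟨⟨fun a b => mem_center_iff.1 (e ▸ mem_top b) a⟩⟩

/-- The main reduction. -/
theorem exists_simple [hp : Fact p.Prime] (h2 : ¬ p ^ 2 ∣ Nat.card G) (hd : p ∈ degreePrimes G)
    (hc : ∀ X N : Subgroup G, N.Normal → IsPGroup p X → ¬ p ∣ Nat.card N → N ≤ centralizer (X : Set G)) :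
    ∃ (N : Subgroup G) (_ : N.Normal) (T : Subgroup (G ⧸ N)) (_ : T.Normal), IsSimpleGroup T ∧
      ¬ IsMulCommutative T ∧ p ∣ Nat.card T ∧ ¬ p ∣ Nat.card N ∧ centralizer (T : Set (G ⧸ N)) = ⊥ := by
  have h1 : p ∣ Nat.card G := by
    obtain ⟨-, d, hd, h⟩ := hd
    exact h.trans (dvd_card_of_mem_cdSet (mem_charDegrees_iff.1 hd))
  set N := pPrimeCore p G
  have hN : ¬ p ∣ Nat.card N := not_dvd_card_pPrimeCore p G
  have hq := card_eq_card_quotient_mul_card_subgroup N
  have hO := pPrimeCore_quotient_pPrimeCore p G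
  obtain ⟨h3, h4⟩ := gen_simple ((hp.out.dvd_mul.1 (hq ▸ h1)).resolve_right hN)
    (fun e => h2 (e.trans (Dvd.intro _ hq.symm))) hO
  have hc' : ¬ IsMulCommutative (gen p (G ⧸ N)) := fun hm => by
    have h5 : Nat.card (gen p (G ⧸ N)) = p := by
      have := (Group.is_simple_iff_prime_card (α := gen p (G ⧸ N))).1 h4
      exact ((Nat.prime_dvd_prime_iff_eq hp.out this).1 h3).symm
    set K := (gen p (G ⧸ N)).comap (QuotientGroup.mk' N)
    have hK : Nat.card K = Nat.card N * p := by rw [card_comap_mk', h5]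
    obtain ⟨X, hX⟩ := exists_isSylowIn (p := p) K
    have hXp : Nat.card X = p := by
      rw [hX.card_eq_pow, hK, Nat.factorization_mul Nat.card_pos.ne' hp.out.ne_zero, Finsupp.add_apply,
        Nat.factorization_eq_zero_of_not_dvd hN, hp.out.factorization_self, zero_add, pow_one]
    have hNK : N ≤ K := by
      nth_rewrite 1 [← QuotientGroup.ker_mk' N]
      exact ker_le_comap _ _
    have hXN : X ⊔ N = K := by
      refine eq_of_le_of_card_ge (sup_le hX.le hNK) ?_
      rw [card_sup_of_inf_eq_bot le_normalizer_of_normal (inf_pPrimeCore_eq_bot hX.isPGroup), hK, hXp, mul_comm]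
    have hn : K ≤ normalizer (X : Set G) := hXN ▸ sup_le le_normalizer
      ((hc X N inferInstance hX.isPGroup hN).trans (centralizer_le_normalizer _))
    have he : pCoreOf p K = X :=
      hX.eq_of_le (pCoreOf_isPGroup p K) (le_pCoreOf hX.le hn hX.isPGroup) (pCoreOf_le p K)
    exact not_mem_of_card_prime hp.out h2 (pCoreOf p K) (he ▸ hXp) hd
  exact ⟨N, inferInstance, _, inferInstance, h4, hc', h3, hN, centralizer_gen hO hc'⟩

end CL.Blk.DegOrd
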