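/-
Groups of the orders of the small simple groups with prescribed primes dividing character degrees.
-/
import Cfsg.Agent.Blk.DegOrdA
import Cfsg.Agent.Blk.Sieve5
import Cfsg.Agent.Fgs.SylSmall
import Cfsg.Agent.Fgs.ClassBasic
import Cfsg.Agent.Char.PRational
import Cfsg.Agent.Char.Codeg
import Cfsg.Agent.Char.Gallagher
import Cfsg.Agent.Char.Congruence

set_option autoImplicit false

open Cfsg Subgroup CL.Grp CL.Char

namespace CL.Blk.DegOrd

variable {G : Type*} [Group G] [Finite G] {p : ℕ}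

theorem exc_of {n r k : ℕ} (h0 : n ≠ 0) (hn : n < 8192)
    (h : ∀ s ∈ n.divisors, s ≠ 1 → (∀ a ∈ s.divisors, a = 1 ∨ a = s) → ∀ i < 13, 0 < i → s ^ i ∣ n →
      s ^ i % p = 1 → s = r ∧ i = k) {s : ℕ} (hs : s.Prime) {i : ℕ} (hi : 0 < i) (hd : s ^ i ∣ n)
    (h1 : s ^ i % p = 1) : s = r ∧ i = k := by
  refine h s (Nat.mem_divisors.2 ⟨(dvd_pow_self s hi.ne').trans hd, h0⟩) hs.one_lt.ne'
    (fun a ha => (Nat.dvd_prime hs).1 (Nat.dvd_of_mem_divisors ha)) i ?_ hi hd h1
  have h2 := (Nat.pow_le_pow_left hs.two_le i).trans (Nat.le_of_dvd (Nat.pos_of_ne_zero h0) hd)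
  exact (Nat.pow_lt_pow_iff_right one_lt_two).1 (h2.trans_lt hn)

theorem le_cent_of [Fact p.Prime] {X N : Subgroup G} (hX : IsPGroup p X)
    (hn : X ≤ normalizer (N : Set G)) (hN : ¬ p ∣ Nat.card N) {n : ℕ} (hd : Nat.card N ∣ n) (h0 : n ≠ 0)
    (hn' : n < 8192) (h : ∀ s ∈ n.divisors, s ≠ 1 → (∀ a ∈ s.divisors, a = 1 ∨ a = s) → ∀ i < 13, 0 < i →
      s ^ i ∣ n → s ^ i % p = 1 → s = 0 ∧ i = 0) : N ≤ centralizer (X : Set G) :=
  le_cent hX hn hN fun _ hr _ hi h1 h2 => hi.ne' (exc_of h0 hn' h hr hi (h1.trans hd) h2).2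

theorem simple_of_card {N : Subgroup G} [N.Normal] {T : Subgroup (G ⧸ N)} [IsSimpleGroup T]
    (h : Nat.card T = Nat.card G) : IsSimpleGroup G := by
  have h1 := Nat.le_of_dvd Nat.card_pos (card_subgroup_dvd_card T)
  have h2 := Nat.le_of_dvd Nat.card_pos (card_quotient_dvd_card N)
  have h3 : T = ⊤ := eq_top_of_card_eq _ (by omega)
  subst h3
  have e := MulEquiv.ofBijective (QuotientGroup.mk' N)
    ((QuotientGroup.mk'_surjective N).bijective_of_nat_card_le (by omega))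
  exact (e.trans topEquiv.symm).isSimpleGroup

/-- The orders of the nonabelian simple groups below 7200. -/
def ords : List ℕ := [60, 168, 360, 504, 660, 1092, 2448, 2520, 3420, 4080, 5616, 6048, 6072]

theorem exists_simple' [hp : Fact p.Prime] {n : ℕ} (hG : Nat.card G = n) (hn : n < 7200) (h2 : ¬ p ^ 2 ∣ n)
    (hd : p ∈ degreePrimes G)
    (hc : ∀ X N : Subgroup G, N.Normal → IsPGroup p X → ¬ p ∣ Nat.card N → N ≤ centralizer (X : Set G)) :
    IsSimpleGroup G ∨ ∃ (N : Subgroup G) (_ : N.Normal) (T : Subgroup (G ⧸ N)) (_ : T.Normal),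
      IsSimpleGroup T ∧ (Nat.card T ∈ ords ∧ p ∣ Nat.card T ∧ Nat.card T ∣ n ∧ Nat.card T ≠ n) ∧
      ¬ p ∣ Nat.card N ∧ centralizer (T : Set (G ⧸ N)) = ⊥ := by
  obtain ⟨N, _, T, _, h3, h4, h5, h6, h7⟩ := exists_simple (hG ▸ h2) hd hc
  by_cases h : Nat.card T = n
  · exact .inl (simple_of_card (h.trans hG.symm))
  have h8 : Nat.card T ∣ n := hG ▸ (card_subgroup_dvd_card T).trans (card_quotient_dvd_card N)
  exact .inr ⟨N, inferInstance, T, inferInstance, h3, ⟨Sieve.card_mem_of_lt h4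
    ((Nat.le_of_dvd (hG ▸ Nat.card_pos) h8).trans_lt hn), h5, h8, h⟩, h6, h7⟩

theorem hc_of [Fact p.Prime] {n : ℕ} (hG : Nat.card G = n) (hn : n < 7200)
    (h : ∀ s ∈ n.divisors, s ≠ 1 → (∀ a ∈ s.divisors, a = 1 ∨ a = s) → ∀ i < 13, 0 < i →
      s ^ i ∣ n → s ^ i % p = 1 → s = 0 ∧ i = 0) (X N : Subgroup G) (_ : N.Normal) (hX : IsPGroup p X)
    (hN : ¬ p ∣ Nat.card N) : N ≤ centralizer (X : Set G) :=
  le_cent_of hX le_normalizer_of_normal hN (hG ▸ card_subgroup_dvd_card N) (hG ▸ Nat.card_pos.ne')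
    (by omega) h

theorem hc_of_exc [hp : Fact p.Prime] {n a b r k : ℕ} (hG : Nat.card G = n) (hn : n < 7200)
    (he : n = 2 ^ a * 3 ^ b * p) (hr : r ∈ degreePrimes G) (hk : ¬ r ^ (k + 1) ∣ n)
    (h : ∀ s ∈ n.divisors, s ≠ 1 → (∀ a ∈ s.divisors, a = 1 ∨ a = s) → ∀ i < 13, 0 < i →
      s ^ i ∣ n → s ^ i % p = 1 → s = r ∧ i = k) (X N : Subgroup G) (_ : N.Normal) (hX : IsPGroup p X)
    (hN : ¬ p ∣ Nat.card N) : N ≤ centralizer (X : Set G) := by
  have hd : Nat.card N ∣ n := hG ▸ card_subgroup_dvd_card N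
  refine le_cent_of_exc hX hN ?_ (hG ▸ hk) hr fun s hs i hi h1 h2 =>
    exc_of (hG ▸ Nat.card_pos.ne') (by omega) h hs hi (h1.trans hd) h2
  have h1 := (hp.out.coprime_iff_not_dvd.2 hN).symm.dvd_of_dvd_mul_right (he ▸ hd)
  obtain ⟨u, v, hu, hv, e⟩ := exists_dvd_and_dvd_of_dvd_mul h1
  obtain ⟨i, -, rfl⟩ := (Nat.dvd_prime_pow Nat.prime_two).1 hu
  obtain ⟨j, -, rfl⟩ := (Nat.dvd_prime_pow Nat.prime_three).1 hv
  exact isSolvable_of_card_eq_pow_mul_pow Nat.prime_two Nat.prime_three e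

theorem relIndex_normalizer_mod [hp : Fact p.Prime] {P H : Subgroup G} (hP : IsSylowIn p P H) :
    (normalizer (P : Set G)).relIndex H % p = 1 := by
  have h1 := card_sylow_modEq_one p H
  rw [Sylow.card_eq_index_normalizer hP.toSylow, Nat.ModEq, Nat.mod_eq_of_lt hp.out.one_lt] at h1
  rw [relIndex, subgroupOf_normalizer_eq hP.le]
  exact h1

theorem card_eq_of_isSylowIn [hp : Fact p.Prime] {P H : Subgroup G} (hP : IsSylowIn p P H)
    (h1 : p ∣ Nat.card H) (h2 : ¬ p ^ 2 ∣ Nat.card H) : Nat.card P = p := by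
  have h3 := (hp.out.dvd_iff_one_le_factorization Nat.card_pos.ne').1 h1
  rw [hp.out.pow_dvd_iff_le_factorization Nat.card_pos.ne'] at h2
  rw [hP.card_eq_pow, show (Nat.card H).factorization p = 1 by omega, pow_one]

omit [Finite G] in
theorem not_le_normalizer {P T : Subgroup G} [IsSimpleGroup T] (h : P ≤ T) (h1 : Nat.card P ≠ 1)
    (h2 : Nat.card P ≠ Nat.card T) : ¬ T ≤ normalizer (P : Set G) := fun hn => by
  rcases IsSimpleGroup.eq_bot_or_eq_top_of_normal _ (normal_subgroupOf_of_le_normalizer' hn) with e | e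
  · exact h1 (by rw [← card_subgroupOf_of_le h, e, card_bot])
  · exact h2 (by rw [← card_subgroupOf_of_le h, e, card_top])

/-- Subgroups of `S₅` containing `A₅`. -/
theorem six_mem {T : Subgroup G} [T.Normal] [IsSimpleGroup T] (hT : Nat.card T = 60) (h3 : 3 ∈ cdSet T)
    (hC : centralizer (T : Set G) = ⊥) (hG : Nat.card G ∣ 360) : Nat.card G = 60 ∨ 6 ∈ cdSet G := by
  have : Fact (Nat.Prime 5) := ⟨by norm_num⟩
  have h25 : ¬ 5 ^ 2 ∣ Nat.card G := fun h => absurd (h.trans hG) (by norm_num)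
  have h60 : 60 ∣ Nat.card G := hT ▸ card_subgroup_dvd_card T
  have key : ∀ K : Subgroup G, K.Normal → ¬ T ≤ K → K = ⊥ := fun K _ h => by
    have h1 : K.subgroupOf T = ⊥ := (IsSimpleGroup.eq_bot_or_eq_top_of_normal _ inferInstance).resolve_right
      fun e => h (subgroupOf_eq_top.1 e)
    rw [eq_bot_iff, ← hC, ← commutator_eq_bot_iff_le_centralizer, eq_bot_iff]
    exact (commutator_le_inf K T).trans (disjoint_iff.1 (subgroupOf_eq_bot.1 h1)).le
  obtain ⟨P⟩ : Nonempty (Sylow 5 G) := inferInstance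
  have hP : Nat.card P = 5 := card_eq_of_isSylowIn (isSylowIn_top P)
    (by rw [card_top]; exact dvd_trans (by norm_num) h60) (by rwa [card_top])
  obtain ⟨x, hx, hPx⟩ := CL.Fgs.exists_sylow_eq_zpowers hP
  have hPT : (P : Subgroup G) ≤ T := by
    rw [hPx, zpowers_le]
    exact mem_of_orderOf h25 (by rw [hT]; norm_num) hx (le_normalizer_of_normal (mem_top x))
  set N := normalizer ((P : Subgroup G) : Set G) with hN
  have hTN : ¬ T ≤ N := not_le_normalizer hPT (by omega) (by omega)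
  have h6 : N.index = 6 := by
    have a1 := card_sup_mul_card_inf_of_normal N T
    rw [show N ⊔ T = ⊤ from P.normalizer_sup_eq_top' hPT, card_top, ← N.card_mul_index, mul_assoc, hT] at a1
    have a2 := Nat.eq_of_mul_eq_mul_left Nat.card_pos a1
    obtain ⟨c, hc⟩ : 5 ∣ Nat.card (N ⊓ T : Subgroup G) := hP ▸ card_dvd_of_le (le_inf le_normalizer hPT)
    have a3 := relIndex_normalizer_mod (isSylowIn_top P)
    rw [relIndex_top_right, ← hN] at a3
    have a4 : N.index ≠ 1 := fun e => hTN (index_eq_one.1 e ▸ le_top)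
    have a5 : N.index ∣ 12 := ⟨c, by rw [hc] at a2; linarith⟩
    have a6 := Nat.le_of_dvd (by norm_num) a5
    generalize N.index = m at *
    interval_cases m <;> omega
  have : FaithfulSMul G (Sylow 5 G) := ⟨fun {a b} h => by
    have h1 := key (MulAction.toPermHom G (Sylow 5 G)).ker inferInstance fun e => hTN fun t ht =>
      Sylow.smul_eq_iff_mem_normalizer.1 (congrFun (congrArg DFunLike.coe (e ht)) P)
    exact (MonoidHom.ker_eq_bot_iff _).1 h1 (Equiv.ext h)⟩
  obtain ⟨j, hj⟩ := CL.Fgs.card_centralizer_dvd_of_unique_fixed (m := 1) (by norm_num) hx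
    (CL.Fgs.fixedBy_sylow_eq_singleton hx hPx) (P.card_eq_index_normalizer.trans h6)
  rw [Nat.factorial_one, mul_one] at hj
  obtain ⟨i, -, hi⟩ := (Nat.dvd_prime_pow (by norm_num)).1 hj
  have hc : Nat.card (centralizer ({x} : Set G)) ≤ 5 := by
    by_contra h
    refine h25 (dvd_trans ?_ (card_subgroup_dvd_card (centralizer ({x} : Set G))))
    rw [hi] at h ⊢
    refine pow_dvd_pow 5 ?_
    by_contra h'
    interval_cases i <;> omega
  have hsub : {y : G | ∃ h ∈ N, h * x * h⁻¹ = y} ⊆ (zpowers x : Set G) \ {1} := by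
    rintro _ ⟨h, hh, rfl⟩
    refine ⟨hPx ▸ (mem_normalizer_iff.1 hh x).1 (hPx ▸ mem_zpowers x), fun e => ?_⟩
    rw [Set.mem_singleton_iff, conj_eq_one_iff] at e
    rw [e, orderOf_one] at hx
    omega
  have h4 : ((zpowers x : Set G) \ {1}).ncard = 4 := by
    rw [Set.ncard_sdiff_singleton_of_mem (one_mem _), ← Nat.card_coe_set_eq]
    change Nat.card (zpowers x) - 1 = 4
    rw [Nat.card_zpowers, hx]
  have h5 := Set.ncard_le_ncard hsub
  have h7 := card_inf_mul_relIndex (centralizer ({x} : Set G)) N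
  have h8 : Nat.card (centralizer ({x} : Set G) ⊓ N : Subgroup G) ≤ 5 := (card_le_of_le inf_le_left).trans hc
  have h9 := N.card_mul_index
  rw [h6] at h9
  rw [← CL.Fgs.ncard_conj_subgroup] at h7
  refine or_iff_not_imp_left.2 fun h => ?_
  have h10 : Nat.card G = 120 := by
    have : Nat.card N ≤ 5 * 4 := h7 ▸ Nat.mul_le_mul h8 (h4 ▸ h5)
    have : 0 < Nat.card G := Nat.card_pos
    omega
  have h11 := Set.eq_of_subset_of_ncard_le hsub (by
    by_contra h'
    have : Nat.card N ≤ 5 * 3 := h7 ▸ Nat.mul_le_mul h8 (by omega)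
    omega)
  have h12 : T.index = 2 := by
    have := T.card_mul_index
    rw [hT, h10] at this
    omega
  obtain ⟨k, hk, hk'⟩ := exists_dvd_of_mem_cdSet_normal h3
  rcases (Nat.dvd_prime Nat.prime_two).1 (h12 ▸ hk) with rfl | rfl
  swap
  · exact hk'
  obtain ⟨χ, hχ, hd⟩ := mem_cdSet.1 hk'
  have h13 : χ x ≠ χ 1 := fun e => by
    have := hχ.charKer_normal
    by_cases h' : T ≤ charKer χ
    · have := (codeg_degree_dvd_index hχ).trans (index_dvd_of_le h')
      rw [hd, h12] at this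
      omega
    · have := hχ.mem_charKer.2 e
      rw [key _ ‹_› h', mem_bot] at this
      rw [this, orderOf_one] at hx
      omega
  have h14 : ∀ g ∈ zpowers x, g ≠ 1 → χ g = χ x := fun g hg h1 => by
    obtain ⟨h, -, rfl⟩ := h11.ge ⟨hg, h1⟩
    exact hχ.isClassFunction _ _
  have := sub_one_le_charDegree_of_pow_eq (p := 5) (k := 1) (by norm_num) hχ.isCharacter
    (by rw [pow_one, ← hx, pow_orderOf_eq_one]) h13 fun g hg m hm => by
      by_cases h1 : g = 1
      · rw [h1, one_pow]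
      rw [h14 g hg h1, h14 _ (pow_mem hg m) fun e => h1 ?_]
      have a1 := orderOf_dvd_of_pow_eq_one e
      have a2 := hx ▸ orderOf_dvd_of_mem_zpowers hg
      exact orderOf_eq_one_iff.1 (Nat.eq_one_of_dvd_coprimes hm a1 a2)
  omega

end CL.Blk.DegOrd
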