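/-
Solvable groups with element orders 1, 2, 3, 4, 6, 8, 13 have no nontrivial normal `13'`-subgroup.
-/
import Cfsg.Agent.Blk.CritLie
import Cfsg.Agent.Blk.DegOrdB
import Cfsg.Agent.Fgs.TwoFrob
import Cfsg.Agent.Perm.SpecFrobCover

set_option autoImplicit false
open Cfsg Subgroup CL.Grp CL.Perm CL.Blk.DegOrd
open scoped commutatorElement

namespace CL.Blk.Crit

variable {G : Type*} [Group G] [Finite G]

/-- the element orders of `L₃(3)` -/
def Om (n : ℕ) : Prop := n = 1 ∨ n = 2 ∨ n = 3 ∨ n = 4 ∨ n = 6 ∨ n = 8 ∨ n = 13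

/-- all element orders are element orders of `L₃(3)` -/
def Sub (G : Type*) [Group G] : Prop := ∀ n ∈ Spec G, Om n

omit [Finite G] in
theorem Sub.om (h : Sub G) (x : G) : Om (orderOf x) := h _ ⟨x, rfl⟩

omit [Finite G] in
theorem Sub.sub (h : Sub G) (H : Subgroup G) : Sub H := fun n hn => h n (spec_subgroup_subset H hn)

omit [Finite G] in
theorem Sub.mul (h : Sub G) {x y : G} (hc : Commute x y) (hco : (orderOf x).Coprime (orderOf y)) :
    Om (orderOf x * orderOf y) := h _ (mul_mem_spec_of_commute hc hco)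

omit [Finite G] in
theorem Sub.dvd_of_commute (h : Sub G) {a y : G} (ha : orderOf a = 13) (hc : Commute a y) : orderOf y ∣ 13 := by
  have h1 := h.mul hc
  rw [ha] at h1
  rcases h.om y with e | e | e | e | e | e | e <;> rw [e] at h1 ⊢ <;>
    first | decide | exact absurd (h1 (by decide)) (by simp [Om])

theorem Sub.fpf (h : Sub G) {A K : Subgroup G} (hA : IsPGroup 13 A) (hK : ¬ 13 ∣ Nat.card K) :
    ∀ a ∈ A, a ≠ 1 → K ⊓ centralizer {a} = ⊥ := fun a ha h1 => by
  have : Fact (Nat.Prime 13) := ⟨by norm_num⟩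
  have h2 := prime_dvd_orderOf_of_mem_isPGroup hA ha h1
  have h3 : orderOf a = 13 := by rcases h.om a with e | e | e | e | e | e | e <;> omega
  refine eq_bot_iff.2 fun y hy => ?_
  rcases (Nat.dvd_prime this.out).1 (h.dvd_of_commute h3 (mem_centralizer_singleton_iff.1 hy.2).symm) with e | e
  · exact orderOf_eq_one_iff.1 e
  · exact absurd (e ▸ K.orderOf_dvd_natCard hy.1) hK

omit [Finite G] in
theorem Sub.sq_eq_one (h : Sub G) {t y : G} (ht : orderOf t = 3) (hc : Commute t y) (hy : ¬ 3 ∣ orderOf y) :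
    y ^ 2 = 1 := by
  have h1 := h.mul hc
  rw [ht] at h1
  rw [← orderOf_dvd_iff_pow_eq_one]
  rcases h.om y with e | e | e | e | e | e | e <;> rw [e] at h1 hy ⊢ <;> simp [Om] at h1 hy ⊢

/-- the last case: a normal 2-subgroup acted on by `13:3` has exponent 4. -/
theorem Sub.pow_four (h : Sub G) {H : Subgroup G} [H.Normal] (hH : IsPGroup 2 H) {x t : G} (hx : orderOf x = 13)
    (ht : orderOf t = 3) (hn : t ∈ normalizer (zpowers x : Set G)) {g : G} (hg : g ∈ H) : g ^ 4 = 1 := by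
  have hp : Fact (Nat.Prime 13) := ⟨by norm_num⟩
  have := Fact.mk Nat.prime_two
  obtain ⟨k, hk⟩ := hH.exists_card_eq
  have hodd : ∀ p, p.Prime → p ≠ 2 → ¬ p ∣ Nat.card H := fun p hp h2 e =>
    h2 ((Nat.prime_dvd_prime_iff_eq hp Nat.prime_two).1 (hp.dvd_of_dvd_pow (hk ▸ e)))
  have h13 := hodd 13 hp.out (by norm_num)
  have ht3 : t ^ 3 = 1 := ht ▸ pow_orderOf_eq_one t
  have hfx := h.fpf (isPGroup_zpowers_of_orderOf_eq hx) h13 x (mem_zpowers x) (ne_one_of_orderOf_prime hp.out hx)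
  have hsq : ∀ y ∈ H, t * y * t⁻¹ = y → y ^ 2 = 1 := fun y hy e => h.sq_eq_one ht (mul_inv_eq_iff_eq_mul.1 e)
    fun e => hodd 3 Nat.prime_three (by norm_num) (e.trans (H.orderOf_dvd_natCard hy))
  have htx : ∀ i, 0 < i → i < 3 → ¬ Commute x (t ^ i) := fun i h0 h3 e => by
    have := h.dvd_of_commute hx e
    rw [(show (orderOf t).Coprime i by rw [ht]; interval_cases i <;> norm_num).orderOf_pow, ht] at this
    omega
  obtain ⟨r, hr, hr'⟩ : ∃ r, (r = 3 ∨ r = 9) ∧ x * t = t * x ^ r := by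
    obtain ⟨n, e⟩ := mem_powers_iff_mem_zpowers.2 ((mem_normalizer_iff.1 (inv_mem hn) x).1 (mem_zpowers x))
    replace e : x ^ (n % 13) = MulAut.conj t⁻¹ x := by rw [← hx, pow_mod_orderOf]; exact e
    have h1 : x ^ ((n % 13) ^ 3) = x ^ 1 := by
      have h2 : (MulAut.conj t⁻¹ ^ 3) x = x := by rw [← map_pow, inv_pow, ht3, inv_one, map_one, MulAut.one_apply]
      rw [pow_one]
      refine Eq.trans ?_ h2
      simp only [pow_succ, pow_zero, one_mul, MulAut.mul_apply, ← e, map_pow, ← pow_mul]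
    rw [pow_eq_pow_iff_modEq, hx] at h1
    have h3 : x * t = t * x ^ (n % 13) := by rw [e]; simp [mul_assoc]
    refine ⟨_, ?_, h3⟩
    have h4 : n % 13 ≠ 1 := fun e => htx 1 one_pos (by norm_num) (by rw [e, pow_one] at h3; rw [pow_one]; exact h3)
    have h5 := Nat.mod_lt n (show 0 < 13 by norm_num)
    generalize n % 13 = r at h1 h4 h5
    interval_cases r <;> simp_all [Nat.ModEq]
  have h2 := lcs_two_eq_bot hH (MulAut.conjNormal x) (MulAut.conjNormal t)
    (by rw [← map_pow, ← hx, pow_orderOf_eq_one, map_one]) (fun y e => Subtype.ext (hfx.le ⟨y.2,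
      mem_centralizer_singleton_iff.2 (mul_inv_eq_iff_eq_mul.1 (congrArg Subtype.val e)).symm⟩)) hr
    (by rw [← map_pow, ← map_mul, ← map_mul, hr']) (by rw [← map_pow, ht3, map_one]) fun a b ha hb => by
      have h1 := hsq _ a.2 (congrArg Subtype.val ha)
      have h2 := hsq _ b.2 (congrArg Subtype.val hb)
      have h3 := hsq _ (a * b).2 (congrArg Subtype.val (by rw [map_mul, ha, hb] : MulAut.conjNormal t (a * b) = _))
      rw [sq, mul_eq_one_iff_eq_inv] at h1 h2 h3
      apply Subtype.ext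
      rw [h3, coe_mul, coe_mul, mul_inv_rev, ← h1, ← h2]
  set Z := H ⊓ centralizer (H : Set G)
  have hZ : ∀ {a b}, a ∈ Z → b ∈ Z → Commute a b := fun ha hb => hb.2 _ ha.1
  have hZn : Z.Normal := inferInstance
  let W : Subgroup G :=
    { carrier := {w | ∃ z ∈ Z, z ^ 2 = w}
      one_mem' := ⟨1, one_mem _, one_pow _⟩
      mul_mem' := by
        rintro _ _ ⟨a, ha, rfl⟩ ⟨b, hb, rfl⟩
        exact ⟨_, mul_mem ha hb, (hZ ha hb).mul_pow 2⟩
      inv_mem' := by
        rintro _ ⟨a, ha, rfl⟩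
        exact ⟨_, inv_mem ha, inv_pow _ _⟩ }
  have hWn : W.Normal := ⟨by
    rintro _ ⟨a, ha, rfl⟩ g
    exact ⟨_, hZn.conj_mem a ha g, conj_pow⟩⟩
  have hWH : W ≤ H := by
    rintro _ ⟨a, ha, rfl⟩
    exact pow_mem ha.1 2
  have h3 := le_centralizer_of_coset_pow_eq_one (hH.to_le hWH) (R := zpowers x) le_normalizer_of_normal
    (by rw [Nat.card_zpowers, hx]; exact hp.out.coprime_iff_not_dvd.2 fun e => h13 (e.trans (card_dvd_of_le hWH)))
    (le_normalizer_of_normal (mem_top t)) hn (m := 3) (by norm_num) (fun i h0 h3 y hy e => by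
      by_contra h1
      have := eq_of_le_of_card_ge (zpowers_le.2 hy) (by
        rw [Nat.card_zpowers, Nat.card_zpowers, hx]
        exact Nat.le_of_dvd (orderOf_pos y)
          (prime_dvd_orderOf_of_mem_isPGroup (isPGroup_zpowers_of_orderOf_eq hx) hy h1))
      obtain ⟨j, rfl⟩ := this.ge (mem_zpowers x)
      exact htx i h0 h3 (Commute.zpow_left e j)) (by
      rintro _ ⟨z, hz, rfl⟩
      have h1 := hZn.conj_mem z hz t
      have h2 := hZn.conj_mem _ h1 t
      have h3 : t * (t * (t * z * t⁻¹) * t⁻¹) * t⁻¹ = z := by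
        calc _ = t ^ 3 * z * (t ^ 3)⁻¹ := by simp only [pow_succ, pow_zero, one_mul, mul_inv_rev, mul_assoc]
          _ = z := by rw [ht3]; group
      have h4 := hsq _ (mul_mem (mul_mem hz h1) h2).1 (by
        calc _ = (t * z * t⁻¹) * (t * (t * z * t⁻¹) * t⁻¹) * (t * (t * (t * z * t⁻¹) * t⁻¹) * t⁻¹) := by group
          _ = _ := by rw [h3, ← (hZ hz (mul_mem h1 h2)).eq, ← mul_assoc])
      rw [(hZ (mul_mem hz h1) h2).mul_pow, (hZ hz h1).mul_pow] at h4
      calc _ = z ^ 2 * (t * z * t⁻¹) ^ 2 * (t * (t * z * t⁻¹) * t⁻¹) ^ 2 * t ^ 3 := by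
            simp only [pow_succ, pow_zero, one_mul, mul_assoc, inv_mul_cancel_left]
        _ = 1 := by rw [h4, ht3, mul_one])
  have h4 : ∀ z ∈ Z, z ^ 2 = 1 := fun z hz => hfx.le ⟨pow_mem hz.1 2,
    mem_centralizer_singleton_iff.2 (h3 (mem_zpowers x) _ ⟨z, hz, rfl⟩)⟩
  have h5 : ∀ y ∈ H, ⁅g, y⁆ ∈ Z := fun y hy => ⟨H.mul_mem (H.mul_mem (H.mul_mem hg hy) (H.inv_mem hg)) (H.inv_mem hy),
    fun c hc => by
      have : ⁅⁅(⟨g, hg⟩ : H), (⟨y, hy⟩ : H)⁆, (⟨c, hc⟩ : H)⁆ ∈ (⊤ : Subgroup H).lowerCentralSeries 2 :=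
        commutator_mem_commutator (commutator_mem_commutator (mem_top _) (mem_top _)) (mem_top _)
      rw [h2, mem_bot, commutatorElement_eq_one_iff_mul_comm] at this
      exact (congrArg Subtype.val this).symm⟩
  rw [show 4 = 2 * 2 from rfl, pow_mul]
  refine h4 _ ⟨pow_mem hg 2, fun y hy => ?_⟩
  have h6 := h4 _ (h5 y hy)
  have h7 := (h5 y hy).2 g hg
  calc y * g ^ 2 = ⁅g, y⁆ ^ 2 * y * g ^ 2 := by rw [h6, one_mul]
    _ = ⁅g, y⁆ * g * y * g := by simp only [sq, commutatorElement_def]; group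
    _ = _ := by rw [← h7]; simp only [sq, commutatorElement_def]; group

theorem Sub.core_eq_bot (h : Sub G) (hs : Group.IsSolvable G) {g : G} (hg : orderOf g = 8) (h3 : 3 ∣ Nat.card G)
    (h13 : 13 ∣ Nat.card G) : pPrimeCore 13 G = ⊥ := by
  have hp : Fact (Nat.Prime 13) := ⟨by norm_num⟩
  have := Fact.mk Nat.prime_two
  have := Fact.mk Nat.prime_three
  by_contra hH
  set H := pPrimeCore 13 G
  have hN : ¬ 13 ∣ Nat.card H := not_dvd_card_pPrimeCore 13 G
  have h2 : ¬ 13 ^ 2 ∣ Nat.card G := fun e => by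
    obtain ⟨A, hA⟩ := Sylow.exists_subgroup_card_pow_prime 13 e
    have := isCyclic_of_fpf hH le_normalizer_of_normal (h.fpf (IsPGroup.of_card hA) hN)
      (.inr ⟨13, 13, hp.out, hp.out, hA⟩)
    have := h _ (spec_subgroup_subset A (by rw [spec_cyclic, hA]; exact dvd_rfl))
    simp [Om] at this
  have hq := card_eq_card_quotient_mul_card_subgroup H
  obtain ⟨h4, h5⟩ := gen_simple ((hp.out.dvd_mul.1 (hq ▸ h13)).resolve_right hN)
    (fun e => h2 (e.trans (Dvd.intro _ hq.symm))) (pPrimeCore_quotient_pPrimeCore 13 G)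
  have h6 : Nat.card (gen 13 (G ⧸ H)) = 13 := by
    have : IsMulCommutative (gen 13 (G ⧸ H)) := ⟨⟨IsSimpleGroup.comm_iff_isSolvable.2 inferInstance⟩⟩
    have := (Group.is_simple_iff_prime_card (α := gen 13 (G ⧸ H))).1 h5
    exact ((Nat.prime_dvd_prime_iff_eq hp.out this).1 h4).symm
  set K := (gen 13 (G ⧸ H)).comap (QuotientGroup.mk' H)
  have hK : Nat.card K = Nat.card H * 13 := by rw [card_comap_mk', h6]
  obtain ⟨X, hX⟩ := exists_isSylowIn (p := 13) K
  have hXp : Nat.card X = 13 := card_eq_of_isSylowIn hX (hK ▸ dvd_mul_left _ _)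
    fun e => h2 (e.trans (card_subgroup_dvd_card K))
  have hXH := inf_pPrimeCore_eq_bot hX.isPGroup
  have hXN : X ⊔ H = K := by
    refine eq_of_le_of_card_ge (sup_le hX.le (QuotientGroup.le_comap_mk' _ _)) ?_
    rw [card_sup_of_inf_eq_bot le_normalizer_of_normal hXH, hK, hXp, mul_comm]
  obtain ⟨⟨x, hxX⟩, hx⟩ := exists_prime_orderOf_dvd_card' (G := X) 13 hXp.symm.dvd
  replace hx : orderOf x = 13 := (orderOf_coe _).trans hx
  obtain rfl : zpowers x = X := eq_of_le_of_card_ge (zpowers_le.2 hxX) (by rw [hXp, Nat.card_zpowers, hx])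
  set L := normalizer (zpowers x : Set G)
  have hfp := h.fpf hX.isPGroup hN
  have hnil := isNilpotent_of_fpf_prime (hx ▸ hp.out) (le_normalizer_of_normal (mem_top x))
    (hfp x hxX (ne_one_of_orderOf_prime hp.out hx))
  have hLH : ∀ y ∈ L, y ∈ H → y = 1 := fun y hy hy' => (hfp x hxX (ne_one_of_orderOf_prime hp.out hx)).le
    ⟨hy', mem_centralizer_singleton_iff.2 (mem_centralizer_of_mem_normalizer_of_disjoint le_normalizer_of_normal
      (disjoint_iff.2 hXH) hy' hy x hxX).symm⟩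
  have hord : ∀ n ∈ L, ∀ y ∈ H, orderOf n ∣ orderOf (y * n) ∧ (y * n) ^ orderOf n ∈ H := fun n hn y hy => by
    have e : ∀ k, ((y * n) ^ k ∈ H ↔ n ^ k ∈ H) := fun k => by
      rw [← QuotientGroup.eq_one_iff, ← QuotientGroup.eq_one_iff, QuotientGroup.mk_pow, QuotientGroup.mk_pow,
        QuotientGroup.mk_mul, (QuotientGroup.eq_one_iff y).2 hy, one_mul]
    exact ⟨orderOf_dvd_of_pow_eq_one (hLH _ (pow_mem hn _) ((e _).1 (by rw [pow_orderOf_eq_one]; exact one_mem _))),
      (e _).2 (by rw [pow_orderOf_eq_one]; exact one_mem _)⟩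
  have hfac : ∀ a : G, ∃ n ∈ L, orderOf n ∣ orderOf a ∧ a ^ orderOf n ∈ H := fun a => by
    obtain ⟨k, hk, e⟩ := hX.frattini le_normalizer_of_normal (mem_top a)
    obtain ⟨b, hb, y, hy, rfl⟩ := (mem_sup_iff_of_le_normalizer' le_normalizer_of_normal).1 (hXN.ge hk)
    have hn : y * a ∈ L := by simpa [mul_assoc] using mul_mem (inv_mem (le_normalizer hb)) e
    exact ⟨_, hn, by simpa using hord _ hn _ (inv_mem hy)⟩
  have hmaz : ∀ n ∈ L, ¬ 13 ∣ orderOf n → ∀ p, p.Prime → p ∣ Nat.card H → Om (p * orderOf n) := by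
    intro n hn hn' p hpp hd
    have := Fact.mk hpp
    have hP := pCoreOf_isPGroup p H
    have hPH := pCoreOf_le p H
    by_contra hc
    refine pCoreOf_ne_bot_of_isNilpotent hnil hd (eq_bot_iff.2 fun y hy => (hfp x hxX
      (ne_one_of_orderOf_prime hp.out hx)).le ⟨hPH hy, mem_centralizer_singleton_iff.2 ?_⟩)
    refine le_centralizer_of_coset_pow_eq_one hP le_normalizer_of_normal
      (hXp ▸ hp.out.coprime_iff_not_dvd.2 fun e => hN (e.trans (card_dvd_of_le hPH)))
      (le_normalizer_of_normal (mem_top n)) hn (orderOf_pos n) (fun i h0 hi a ha e => ?_) (fun a ha => ?_) hxX y hy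
    · by_contra h1
      refine pow_ne_one_of_lt_orderOf h0.ne' hi ((h.fpf hX.isPGroup (K := zpowers n) (by rwa [Nat.card_zpowers])
        a ha h1).le ⟨pow_mem (mem_zpowers n) i, mem_centralizer_singleton_iff.2 e.symm⟩)
    · by_contra h1
      obtain ⟨q, hq, hqd, e⟩ := mul_mem_spec_of_pow_ne_one (pCoreOf p H) (hord n hn a (hPH ha)).1 (by
        rw [← QuotientGroup.eq_one_iff, QuotientGroup.mk_pow, QuotientGroup.mk_mul,
          (QuotientGroup.eq_one_iff a).2 ha, one_mul, ← QuotientGroup.mk_pow, pow_orderOf_eq_one,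
          QuotientGroup.mk_one]) h1
      obtain ⟨k, hk⟩ := hP.exists_card_eq
      rw [(Nat.prime_dvd_prime_iff_eq hq hpp).1 (hq.dvd_of_dvd_pow (hk ▸ hqd))] at e
      exact hc (h _ e)
  have hprime : ∀ p, p.Prime → p ∣ Nat.card G → Om p := fun p hp hd => h _ ((prime_mem_spec_iff hp).2 hd)
  obtain ⟨n, hn, hn8, hgn⟩ := hfac g
  rw [hg] at hn8
  have hn13 : ¬ 13 ∣ orderOf n := fun e => absurd (e.trans hn8) (by norm_num)
  have hn4 : orderOf n ∣ 4 := by
    obtain ⟨p, hpp, hd⟩ := Nat.exists_prime_and_dvd fun e => hH (card_eq_one.1 e)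
    have a := hmaz n hn hn13 p hpp hd
    have b := hpp.two_le
    have := Nat.le_of_dvd (by norm_num) hn8
    generalize orderOf n = m at *
    interval_cases m <;> simp only [Om] at a <;> omega
  have h3H : ¬ 3 ∣ Nat.card H := fun e => by
    have a := hmaz n hn hn13 3 Nat.prime_three e
    obtain ⟨c, hc⟩ : orderOf n ∣ 2 := by
      have := Nat.le_of_dvd (by norm_num) hn4
      generalize orderOf n = m at *
      interval_cases m <;> simp only [Om] at a <;> omega
    obtain ⟨t, ht⟩ := exists_prime_orderOf_dvd_card' 3 e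
    rw [← orderOf_coe] at ht
    have h4 : orderOf (g ^ 2) = 4 := by rw [orderOf_pow' _ two_ne_zero, hg]; rfl
    have hco : (orderOf (t : G)).Coprime (orderOf (g ^ 2)) := by rw [ht, h4]; norm_num
    have := h.mul (commute_of_mem_isNilpotent hnil t.2 (by rw [hc, pow_mul]; exact pow_mem hgn c) hco) hco
    rw [ht, h4] at this
    simp [Om] at this
  have hH2 : IsPGroup 2 H := by
    rw [IsPGroup.iff_card]
    refine ⟨_, Nat.eq_prime_pow_of_unique_prime_dvd Nat.card_pos.ne' fun {p} hpp hd => ?_⟩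
    rcases hprime p hpp (hd.trans (card_subgroup_dvd_card H)) with e | e | e | e | e | e | e <;> subst e <;>
      first | rfl | contradiction
  obtain ⟨a, ha⟩ := exists_prime_orderOf_dvd_card' 3 h3
  obtain ⟨t, htL, ht, hat⟩ := hfac a
  replace ht : orderOf t = 3 := ((Nat.dvd_prime Nat.prime_three).1 (ha ▸ ht)).resolve_left fun e =>
    h3H (ha ▸ H.orderOf_dvd_natCard (by simpa [e] using hat))
  have h2H : 2 ∣ Nat.card H := by
    obtain ⟨k, hk⟩ := hH2.exists_card_eq
    rw [hk]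
    refine dvd_pow_self 2 fun e => hH (card_eq_one.1 (by rw [hk, e, pow_zero]))
  have hn1 : orderOf n = 1 := by
    by_contra e
    obtain ⟨s, hs⟩ := exists_prime_orderOf_dvd_card' (G := zpowers n) 2 (by
      rw [Nat.card_zpowers]
      have := Nat.le_of_dvd (by norm_num) hn4
      generalize orderOf n = m at *
      interval_cases m <;> omega)
    rw [← orderOf_coe] at hs
    have hsL : (s : G) ∈ L := zpowers_le.2 hn s.2
    let f := (IsCyclic.mulAutMulEquiv (zpowers x)).toMonoidHom.comp (zpowers x).normalizerMonoidHom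
    have hf : ∀ (p : ℕ) [Fact p.Prime] (u : L), p ≠ 13 → orderOf (u : G) = p → orderOf (f u) = p := by
      intro p _ u h1 h2
      refine orderOf_eq_prime (by rw [← map_pow, ← h2, orderOf_coe, pow_orderOf_eq_one, map_one]) fun e => h1 ?_
      have h3 : u ∈ (zpowers x).normalizerMonoidHom.ker := (IsCyclic.mulAutMulEquiv (zpowers x)).map_eq_one_iff.1 e
      rw [normalizerMonoidHom_ker] at h3
      exact (Nat.prime_dvd_prime_iff_eq Fact.out hp.out).1 (h2 ▸ h.dvd_of_commute hx (h3 x hxX))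
    have e2 := hf 2 ⟨s, hsL⟩ (by norm_num) hs
    have e3 := hf 3 ⟨t, htL⟩ (by norm_num) ht
    have e6 := orderOf_map_dvd f (⟨s, hsL⟩ * ⟨t, htL⟩)
    rw [map_mul, (Commute.all _ _).orderOf_mul_eq_mul_orderOf_of_coprime (by rw [e2, e3]; norm_num), e2, e3,
      ← orderOf_coe] at e6
    have a := hmaz _ (mul_mem hsL htL)
    have b := h.om ((s : G) * t)
    change _ ∣ orderOf ((s : G) * t) at e6
    have c : orderOf ((s : G) * t) = 6 := by simp only [Om] at b; omega
    rw [c] at a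
    simpa [Om] using a (by norm_num) 2 Nat.prime_two h2H
  rw [hn1, pow_one] at hgn
  exact absurd (hg ▸ orderOf_dvd_of_pow_eq_one (h.pow_four hH2 hx ht htL hgn)) (by norm_num)

end CL.Blk.Crit
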