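/-
Solvable groups critical for the element orders 1, 2, 3, 4, 6, 8, 13 are Frobenius groups `13⁴ : 2S₄`.
-/
import Cfsg.Agent.Blk.CritA

set_option autoImplicit false
open Cfsg Subgroup CL.Grp CL.Perm CL.Blk.DegOrd CL.Odd CL.Fgs

namespace CL.Blk.Crit

variable {G : Type*} [Group G] [Finite G]

theorem Sub.card_dvd (h : Sub G) (hq : PQCyclic G) (h13 : ¬ 13 ∣ Nat.card G) :
    ¬ 3 ^ 2 ∣ Nat.card G ∧ Nat.card G ∣ 48 := by
  have := Fact.mk Nat.prime_two
  have := Fact.mk Nat.prime_three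
  have hc : ∀ A : Subgroup G, IsCyclic A → Om (Nat.card A) := fun A _ =>
    h _ (spec_subgroup_subset A (by rw [spec_cyclic]; exact dvd_rfl))
  have h9 : ¬ 3 ^ 2 ∣ Nat.card G := fun e => by
    obtain ⟨A, hA⟩ := Sylow.exists_subgroup_card_pow_prime 3 e
    simpa [Om, hA] using hc A (hq A 3 3 Nat.prime_three Nat.prime_three hA)
  have h32 : ¬ 2 ^ 5 ∣ Nat.card G := fun e => by
    obtain ⟨A, hA⟩ := Sylow.exists_subgroup_card_pow_prime 2 e
    rcases hq.isCyclic_or_quaternion (IsPGroup.of_card hA) with e | ⟨-, n, ⟨e⟩⟩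
    · simpa [Om, hA] using hc A e
    · have h1 := Nat.card_congr e.toEquiv
      have h2 := h.om (e.symm (QuaternionGroup.a 1))
      rw [orderOf_coe, e.symm.orderOf_eq, QuaternionGroup.orderOf_a_one] at h2
      rw [hA, Nat.card_eq_fintype_card, QuaternionGroup.card] at h1
      simp only [Om] at h2
      omega
  refine ⟨h9, (Nat.dvd_iff_prime_pow_dvd_dvd _ _).2 fun p k hp hd => ?_⟩
  rcases k with _ | k
  · simp
  rcases h _ ((prime_mem_spec_iff hp).2 ((dvd_pow_self p k.succ_ne_zero).trans hd)) with e | e | e | e | e | e | e <;>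
    subst e <;> try contradiction
  · exact (pow_dvd_pow 2 (not_lt.1 fun e => h32 ((pow_dvd_pow 2 e).trans hd) : _ ≤ 4)).trans (by norm_num)
  · exact (pow_dvd_pow 3 (not_lt.1 fun e => h9 ((pow_dvd_pow 3 e).trans hd) : _ ≤ 1)).trans (by norm_num)
  · exact absurd ((dvd_pow_self 13 k.succ_ne_zero).trans hd) h13

theorem Sub.conj_notMem (h : Sub G) {g w : G} (hg : orderOf g = 8) (hw : orderOf w = 3) :
    g * w * g⁻¹ ∉ zpowers w := fun e => by
  obtain ⟨n, e⟩ := mem_powers_iff_mem_zpowers.2 e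
  replace e : w ^ (n % 3) = MulAut.conj g w := by rw [← hw, pow_mod_orderOf]; exact e
  have h1 : n % 3 ≠ 0 := fun h0 => by
    have := (MulAut.conj g).orderOf_eq w
    rw [← e, h0, pow_zero, orderOf_one] at this
    omega
  have h2 : MulAut.conj (g ^ 2) w = w := by
    rw [sq, map_mul, MulAut.mul_apply, ← e, map_pow, ← e, ← pow_mul]
    nth_rewrite 2 [← pow_one w]
    rw [pow_eq_pow_iff_modEq, hw]
    have := Nat.mod_lt n three_pos
    generalize n % 3 = r at *
    interval_cases r <;> simp_all [Nat.ModEq]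
  have h4 : orderOf (g ^ 2) = 4 := by rw [orderOf_pow' _ two_ne_zero, hg]; rfl
  exact absurd (h4 ▸ orderOf_dvd_of_pow_eq_one (h.sq_eq_one hw (mul_inv_eq_iff_eq_mul.1 h2).symm
    (by rw [h4]; norm_num))) (by norm_num)

theorem Sub.compl (h : Sub G) (hq : PQCyclic G) (h13 : ¬ 13 ∣ Nat.card G) {g w z : G} (hg : orderOf g = 8)
    (hw : orderOf w = 3) (hz : orderOf z = 2) : Nat.card G = 48 ∧
      ∃ f : G →* Equiv.Perm (Fin 4), Function.Surjective f ∧ f.ker = zpowers z := by
  classical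
  have := Fact.mk Nat.prime_two
  have := Fact.mk Nat.prime_three
  obtain ⟨h9, h48⟩ := h.card_dvd hq h13
  have hzc := hq.mem_center_of_orderOf_eq_two hz
  have h8 : 8 ∣ Nat.card G := hg ▸ orderOf_dvd_natCard g
  have h3 : 3 ∣ Nat.card G := hw ▸ orderOf_dvd_natCard w
  have hG : Nat.card G = 24 ∨ Nat.card G = 48 := by
    have := Nat.le_of_dvd (by norm_num) h48
    have := Nat.card_pos (α := G)
    omega
  have hcw : Nat.card (zpowers w) = 3 ^ (Nat.card G).factorization 3 := by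
    rw [Nat.card_zpowers, hw]
    rcases hG with e | e <;> rw [e] <;> decide +kernel
  let P : Sylow 3 G := Sylow.ofCard _ hcw
  have hPw : (P : Subgroup G) = zpowers w := rfl
  have hg' := h.conj_notMem hg hw
  have hn : Nat.card (Sylow 3 G) = 4 := by
    have h1 := card_sylow_modEq_one 3 G
    have h2 := (normalizer (P : Set G)).card_mul_index
    rw [← P.card_eq_index_normalizer] at h2
    have h4 : 6 ∣ Nat.card (normalizer (P : Set G)) := by
      have a := (normalizer (P : Set G)).orderOf_dvd_natCard (le_normalizer (H := zpowers w) (mem_zpowers w))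
      have b := Subgroup.orderOf_dvd_natCard _ (center_le_normalizer (P : Set G) hzc)
      rw [hw] at a
      rw [hz] at b
      omega
    have h5 : Nat.card (Sylow 3 G) ≠ 1 := fun e => by
      rw [P.card_eq_index_normalizer, index_eq_one] at e
      exact hg' ((mem_normalizer_iff.1 (e.ge (mem_top g)) w).1 (mem_zpowers w))
    obtain ⟨c, hc⟩ := h4
    rw [hc] at h2
    have h6 : Nat.card (Sylow 3 G) ∣ 8 := by
      rw [← h2, mul_assoc] at h48
      exact (dvd_mul_left _ _).trans (Nat.dvd_of_mul_dvd_mul_left (by norm_num : 0 < 6) h48)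
    have := Nat.le_of_dvd (by norm_num) h6
    generalize Nat.card (Sylow 3 G) = n at *
    interval_cases n <;> simp_all [Nat.ModEq]
  let e : Sylow 3 G ≃ Fin 4 := Finite.equivFinOfCardEq hn
  let f : G →* Equiv.Perm (Fin 4) := e.permCongrHom.toMonoidHom.comp (MulAction.toPermHom G (Sylow 3 G))
  have hf : ∀ u, u ∈ f.ker ↔ ∀ Q : Sylow 3 G, u ∈ normalizer (Q : Set G) := fun u => by
    simp only [f, MonoidHom.mem_ker, MonoidHom.comp_apply, MulEquiv.coe_toMonoidHom, map_eq_one_iff _ e.permCongrHom.injective,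
      Equiv.ext_iff, ← Sylow.smul_eq_iff_mem_normalizer]
    rfl
  have hker : f.ker = zpowers z := by
    refine le_antisymm (fun u hu => ?_) (zpowers_le.2 ((hf z).2 fun Q => center_le_normalizer _ hzc))
    have h1 : ¬ 3 ∣ Nat.card f.ker := fun e => hg' (mem_of_orderOf h9 (by rw [Nat.card_zpowers, hw])
      ((MulAut.conj g).orderOf_eq w ▸ hw) ((hf _).1 (f.normal_ker.conj_mem _
        (mem_of_orderOf h9 e hw (le_normalizer_of_normal (mem_top w))) g) P))
    have h2 := mem_centralizer_of_mem_normalizer_of_disjoint (A := zpowers w) le_normalizer_of_normal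
      (disjoint_of_coprime_natCard (by
        rw [Nat.card_zpowers, hw]; exact Nat.prime_three.coprime_iff_not_dvd.2 h1)) hu ((hf u).1 hu P)
    have h4 := h.sq_eq_one hw (h2 w (mem_zpowers w)) fun e => h1 (e.trans (f.ker.orderOf_dvd_natCard hu))
    by_cases h5 : u = 1
    · exact h5 ▸ one_mem _
    · exact hq.eq_of_orderOf_eq_two (orderOf_eq_prime h4 h5) hz ▸ mem_zpowers u
  have h1 := f.ker.card_mul_index
  have h2 := f.range.card_mul_index
  rw [index_ker, hker, Nat.card_zpowers, hz] at h1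
  rw [Nat.card_perm, Nat.card_fin, show Nat.factorial 4 = 24 from rfl] at h2
  have h4 : Nat.card G = 48 := hG.resolve_left fun e => by
    have h5 : f g ∈ alternatingGroup (Fin 4) :=
      Equiv.Perm.eq_alternatingGroup_of_index_eq_two (G := f.range) (by
        rw [show Nat.card f.range = 12 by omega] at h2; omega) ▸ ⟨g, rfl⟩
    have h6 : ∀ σ : Equiv.Perm (Fin 4), Equiv.Perm.sign σ = 1 → σ ^ 8 = 1 → σ ^ 2 = 1 := by decide +kernel
    have h7 : g ^ 2 ∈ f.ker := by
      rw [MonoidHom.mem_ker, map_pow]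
      exact h6 _ h5 (by rw [← map_pow, ← hg, pow_orderOf_eq_one, map_one])
    have h8 := Subgroup.orderOf_dvd_natCard _ h7
    rw [hker, Nat.card_zpowers, hz, orderOf_pow' _ two_ne_zero, hg] at h8
    norm_num at h8
  refine ⟨h4, f, MonoidHom.range_eq_top.1 (index_eq_one.1 ?_), hker⟩
  rw [show Nat.card f.range = 24 by omega] at h2
  omega

/-- the module bound -/
theorem card_dvd_of_irred {B K : Type*} [Group B] [Finite B] [CommGroup K] [Nontrivial K]
    (σ : B →* MulAut K) (hK : ∀ x : K, x ^ 13 = 1) (hf : ∀ b, orderOf b = 3 → ∀ x, σ b x = x → x = 1) {w w' z : B}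
    (hw : orderOf w = 3) (hw' : orderOf w' = 3) (hz : ∀ x, σ z x = x⁻¹) (hi : (zpowers (w * z)).index ≤ 8)
    (hn : w' ∉ zpowers (w * z))
    (hirr : ∀ A : Subgroup K, A ≠ ⊥ → (∀ b, ∀ x ∈ A, σ b x ∈ A) → A = ⊤) : ∃ n ≤ 7, Nat.card K ∣ 13 ^ n := by
  classical
  have hrel : ∀ b, orderOf b = 3 → ∀ x, x * σ b x * σ (b * b) x = 1 := fun b hb x => hf b hb _ (by
    have : b * (b * b) = 1 := by rw [← pow_three, ← hb, pow_orderOf_eq_one]
    rw [map_mul (σ b), map_mul (σ b), ← MulAut.mul_apply, ← MulAut.mul_apply, ← map_mul, ← map_mul, this, map_one,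
      MulAut.one_apply, mul_comm, mul_assoc])
  obtain ⟨v, hv1, hv⟩ : ∃ v : K, v ≠ 1 ∧ σ w v ∈ zpowers v := by
    obtain ⟨x, hx⟩ := exists_ne (1 : K)
    by_cases h : σ w x * x ^ 4 = 1
    · exact ⟨x, hx, eq_inv_of_mul_eq_one_left h ▸ inv_mem (pow_mem (mem_zpowers x) 4)⟩
    · refine ⟨_, h, 3, ?_⟩
      have h1 := hrel w hw x
      have h2 := hK x
      rw [map_mul, MulAut.mul_apply] at h1
      rw [map_mul, map_pow, eq_inv_of_mul_eq_one_right h1]
      calc (σ w x * x ^ 4) ^ (3 : ℤ) = (x * σ w x)⁻¹ * σ w x ^ 4 * x ^ 13 := by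
            apply Additive.ofMul.injective
            simp only [ofMul_mul, ofMul_pow, ofMul_zpow, ofMul_inv]
            abel
        _ = _ := by rw [h2, mul_one]
  set C := zpowers (w * z)
  have hC : ∀ u ∈ C, σ u v ∈ zpowers v := fun u hu => by
    obtain ⟨n, rfl⟩ := mem_powers_iff_mem_zpowers.2 hu
    clear hu
    induction n with
    | zero => simp
    | succ n ih =>
      obtain ⟨k, hk⟩ := inv_mem hv
      simp only [pow_succ, map_mul, MulAut.mul_apply, hz, map_inv] at ih hk ⊢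
      rw [← map_inv, ← hk, map_zpow]
      exact zpow_mem ih k
  have := Fintype.ofFinite (B ⧸ C)
  let S : Finset K := (Finset.univ.erase ((1 : B) : B ⧸ C)).image fun c => σ c.out v
  have h1 : ∀ b ∉ C, σ b v ∈ closure (S : Set K) := fun b hb => by
    obtain ⟨u, hu⟩ := QuotientGroup.mk_out_eq_mul C b
    obtain ⟨k, hk⟩ := hC _ (inv_mem u.2)
    rw [← mul_inv_eq_iff_eq_mul.2 hu, map_mul, MulAut.mul_apply, ← hk, map_zpow]
    refine zpow_mem (subset_closure (Finset.mem_coe.2 (Finset.mem_image_of_mem _ ?_))) k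
    simpa [QuotientGroup.eq] using hb
  have h2 : v ∈ closure (S : Set K) := by
    rw [eq_inv_of_mul_eq_one_left ((mul_assoc _ _ _).symm.trans (hrel w' hw' v))]
    refine inv_mem (mul_mem (h1 _ hn) (h1 _ fun e => hn ?_))
    have : w' * w' * w' = 1 := by rw [← pow_three', ← hw', pow_orderOf_eq_one]
    exact eq_inv_of_mul_eq_one_right this ▸ inv_mem e
  have h3 : ∀ b, σ b v ∈ closure (S : Set K) := fun b => by
    by_cases hb : b ∈ C
    · exact zpowers_le.2 h2 (hC b hb)
    · exact h1 b hb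
  have h4 := hirr (closure (S : Set K)) (fun e => hv1 (by rwa [e] at h2)) fun b x hx => by
    refine (map_le_iff_le_comap (f := (σ b : K →* K))).2 ((closure_le _).2 fun y hy => ?_) ⟨x, hx, rfl⟩
    obtain ⟨c, -, rfl⟩ := Finset.mem_image.1 hy
    simpa using h3 (b * c.out)
  have : Group.FG K := Group.fg_iff.2 ⟨S, h4, S.finite_toSet⟩
  refine ⟨_, (Group.rank_le h4).trans (Finset.card_image_le.trans ?_), card_dvd_exponent_pow_rank' K hK⟩
  rw [Finset.card_erase_of_mem (Finset.mem_univ _), Finset.card_univ, ← Nat.card_eq_fintype_card]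
  exact Nat.sub_le_of_le_add hi

theorem solvable_case (hs : Group.IsSolvable G) (hS : Spec G = {1, 2, 3, 4, 6, 8, 13})
    (hc : ∀ H : Subgroup G, Spec H = {1, 2, 3, 4, 6, 8, 13} → H = ⊤) :
    ∃ (K H : Subgroup G), K.Normal ∧ IsMulCommutative K ∧ (∀ x ∈ K, x ^ 13 = 1) ∧ Nat.card K = 13 ^ 4 ∧
      K ⊓ H = ⊥ ∧ K ⊔ H = ⊤ ∧ (∀ h ∈ H, h ≠ 1 → ∀ x ∈ K, h * x * h⁻¹ = x → x = 1) ∧
      ∃ (Z : Subgroup ↥H) (_ : Z.Normal), Nat.card Z = 2 ∧ (∀ Z' : Subgroup ↥H, Nat.card Z' = 2 → Z' = Z) ∧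
        Nonempty (↥H ⧸ Z ≃* Equiv.Perm (Fin 4)) := by
  have hp : Fact (Nat.Prime 13) := ⟨by norm_num⟩
  have := Fact.mk Nat.prime_two
  have h : Sub G := fun n hn => by simpa [hS, Om] using hn
  have hm : ∀ n, Om n → n ∈ Spec G := fun n hn => by simpa [hS, Om] using hn
  have hd : ∀ n, Om n → n ∣ Nat.card G := fun n hn => dvd_card_of_mem_spec (hm n hn)
  obtain ⟨g, hg⟩ := hm 8 (by simp [Om])
  have h0 := h.core_eq_bot hs hg (hd 3 (by simp [Om])) (hd 13 (by simp [Om]))
  set K := piCore {13} G with hK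
  have hKp : IsPGroup 13 K := by
    rw [IsPGroup.iff_card]
    exact ⟨_, Nat.eq_prime_pow_of_unique_prime_dvd Nat.card_pos.ne' fun {p} => piCore_isPiSubgroup {13} G p⟩
  have hK1 : K ≠ ⊥ := fun e => by
    have h1 := fittingSubgroup_le_piCore_sup_piCore (G := G) {13}
    have h2 : piCore {13}ᶜ G ≤ pPrimeCore 13 G :=
      le_pPrimeCore_of_not_dvd fun e => piCore_isPiSubgroup {13}ᶜ G 13 hp.out e rfl
    rw [← hK, e, bot_sup_eq] at h1
    have h4 := centralizer_fittingSubgroup_le G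
    rw [le_bot_iff.1 (h1.trans (h2.trans h0.le)), cent_bot] at h4
    rw [mem_bot.1 (h4 (mem_top g)), orderOf_one] at hg
    omega
  obtain ⟨n, hn⟩ := hKp.exists_card_eq
  have h13 : 13 ∣ Nat.card K := hn ▸ dvd_pow_self 13 fun e => hK1 (card_eq_one.1 (by rw [hn, e, pow_zero]))
  have hKe : ∀ x ∈ K, x ^ 13 = 1 := fun x hx => by
    by_cases h1 : x = 1
    · rw [h1, one_pow]
    · have := prime_dvd_orderOf_of_mem_isPGroup hKp hx h1
      rw [← show orderOf x = 13 by rcases h.om x with e | e | e | e | e | e | e <;> omega, pow_orderOf_eq_one]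
  have hsep : PiSep {13} G := fun a b _ hb h1 _ h3 => by
    have := h _ h3
    have := hb.two_le
    rw [Set.mem_singleton_iff.1 h1, Om] at *
    omega
  rcases hsep.frob_or_two_frob hs hK1 (fun e => by
    exact absurd (hg ▸ orderOf_dvd_of_pow_eq_one (hKe g (e.ge (mem_top g)))) (by norm_num)) with ⟨B, hB⟩ | ⟨M, B, _, hB, C, hC⟩
  swap
  · exfalso
    obtain ⟨-, h1, h2, -, h3⟩ := two_frob_structure hB hC
    have h4 := (h3 2 3 Nat.prime_two Nat.prime_three (by norm_num) (hd 2 (by simp [Om])) (hd 3 (by simp [Om]))).1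
      (hm 6 (by simp [Om]))
    obtain ⟨p, hpp, hpd⟩ := Nat.exists_prime_and_dvd fun e => hB.ker_lt.not_ge (relIndex_eq_one.1 e)
    have h5 := h _ ((prime_mem_spec_iff hpp).2 (hpd.trans ((relIndex_dvd_card _ _).trans (card_subgroup_dvd_card M))))
    have h6 := h1.not_two_dvd_nat
    rcases h5 with e | e | e | e | e | e | e <;> subst e <;> try contradiction
    · exact h6 (h4.2 hpd)
    · exact absurd (Nat.eq_one_of_dvd_coprimes h2 hpd (h13.mul_right _)) (by norm_num)
  have hB13 : ¬ 13 ∣ Nat.card B := fun e => absurd (Nat.eq_one_of_dvd_coprimes hB.coprime h13 e) (by norm_num)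
  have hmB : ∀ m, ¬ 13 ∣ m → Om m → ∃ b : B, orderOf b = m := fun m h1 h2 => by
    obtain ⟨a, rfl⟩ := hm m h2
    let e := (isComplement'_of_sdp_top hB.sdp).symm.QuotientMulEquiv
    refine ⟨e a, (e.orderOf_eq _).trans ?_⟩
    rcases orderOf_eq_or_of_exponent K hp.out hKe a with e | e
    · exact e.symm
    · exact absurd (e ▸ dvd_mul_right _ _) h1
  obtain ⟨b, hb⟩ := hmB 8 (by norm_num) (by simp [Om])
  obtain ⟨w, hw⟩ := hmB 3 (by norm_num) (by simp [Om])
  obtain ⟨z, hz⟩ := hmB 2 (by norm_num) (by simp [Om])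
  have hq := hB.reg.pqCyclic hB.ker_ne hB.norm
  obtain ⟨h48, f, hf, hker⟩ := (h.sub B).compl hq hB13 hb hw hz
  obtain ⟨hinv, hcomm⟩ := conj_eq_inv_of_fpf_involution (hB.norm z.2) (by
    rw [← coe_mul, ← sq, ← hz, pow_orderOf_eq_one, coe_one])
    (hB.reg z z.2 (Grp.ne_one_of_orderOf_prime Nat.prime_two ((orderOf_coe z).trans hz)))
  have hfp : ∀ a ∈ B, a ≠ 1 → ∀ x ∈ K, a * x * a⁻¹ = x → x = 1 := fun a ha h1 x hx e =>
    hB.reg.eq_one ha h1 hx (mul_inv_eq_iff_eq_mul.1 e).symm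
  have hcz : Nat.card f.ker = 2 := by rw [hker, Nat.card_zpowers, hz]
  refine ⟨K, B, inferInstance, hcomm, hKe, ?_, hB.inf_eq, hB.sup_eq, hfp, f.ker, inferInstance, hcz, fun Z hZ => ?_,
    ⟨QuotientGroup.quotientKerEquivOfSurjective f hf⟩⟩
  · let _ : CommGroup K := { (inferInstance : Group K) with mul_comm := mul_comm' }
    have := (nontrivial_iff_ne_bot K).2 hK1
    have hzw : Commute w z := mem_center_iff.1 (hq.mem_center_of_orderOf_eq_two hz) w
    have h6 : orderOf (w * z) = 6 := by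
      rw [hzw.orderOf_mul_eq_mul_orderOf_of_coprime (by rw [hw, hz]; norm_num), hw, hz]
    have hw' : orderOf (b * w * b⁻¹) = 3 := (MulAut.conj b).orderOf_eq w ▸ hw
    suffices hk : ∃ k ≤ 7, Nat.card K ∣ 13 ^ k by
      obtain ⟨k, hk, h1⟩ := hk
      have h2 := (dvd_mul_right 16 3).trans (h48 ▸ hB.reg.dvd_pred hB.norm)
      rw [hn] at h1 h2 h13 ⊢
      have := (Nat.pow_dvd_pow_iff_le_right (by norm_num)).1 h1
      have : n ≤ 7 := by omega
      clear * - this h2 h13
      interval_cases n <;> simp_all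
    refine card_dvd_of_irred (K := K) (MulAut.conjNormal.comp B.subtype) (fun x => Subtype.ext (hKe x x.2))
      (fun a ha x e => Subtype.ext (hfp a a.2 (Grp.ne_one_of_orderOf_prime Nat.prime_three ((orderOf_coe a).trans ha))
        x x.2 (congrArg Subtype.val e))) hw hw' (fun x => Subtype.ext (hinv x x.2)) (by
          have := (zpowers (w * z)).card_mul_index
          rw [Nat.card_zpowers, h6, h48] at this
          omega) (fun e => (h.sub B).conj_notMem hb hw ?_) fun A hA hAB => ?_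
    · have := Fact.mk Nat.prime_three
      refine mem_of_orderOf (by rw [h48]; norm_num) (by rw [Nat.card_zpowers, hw]) hw'
        (centralizer_le_normalizer _ ?_)
      obtain ⟨j, hj⟩ := e
      rintro _ ⟨i, rfl⟩
      rw [← hj]
      exact (((Commute.refl w).mul_right hzw).zpow_zpow i j)
    · have hAK := map_subtype_le A
      have hN : B ≤ normalizer (A.map K.subtype : Set G) := fun a ha => mem_normalizer_fintype (by
        rintro _ ⟨x, hx, rfl⟩
        exact ⟨_, hAB ⟨a, ha⟩ x hx, rfl⟩)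
      have h1 := hc (A.map K.subtype ⊔ B) (Set.Subset.antisymm (hS ▸ spec_subgroup_subset _) fun m hm' => by
        by_cases e : 13 ∣ m
        · obtain ⟨⟨x, hx⟩, h1⟩ := (ne_bot_iff_exists_ne_one).1 hA
          refine ⟨⟨x, mem_sup_left ⟨x, hx, rfl⟩⟩, ?_⟩
          rw [← orderOf_coe, orderOf_eq_prime (hKe x x.2) fun e => h1 (Subtype.ext (Subtype.ext e))]
          simp only [Set.mem_insert_iff, Set.mem_singleton_iff] at hm'
          omega
        · obtain ⟨a, ha⟩ := hmB m e (by simpa [Om] using hm')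
          exact ⟨⟨a, mem_sup_right a.2⟩, by rw [← orderOf_coe, ← ha, ← orderOf_coe a]⟩)
      refine eq_top_iff.2 fun x _ => ?_
      obtain ⟨_, ⟨y, hy, rfl⟩, a, ha, e⟩ := (mem_sup_iff_of_le_normalizer hN).1 (h1.ge (mem_top (x : G)))
      have h2 : a = 1 := hB.inf_eq.le ⟨by
        rw [← inv_mul_eq_iff_eq_mul.2 e]; exact K.mul_mem (K.inv_mem y.2) x.2, ha⟩
      rwa [show x = y from Subtype.ext (by rw [e, h2, mul_one]; rfl)]
  · obtain ⟨⟨s, hsZ⟩, hs⟩ := exists_prime_orderOf_dvd_card' (G := Z) 2 hZ.symm.dvd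
    rw [hker]
    refine (eq_of_le_of_card_ge (zpowers_le.2 ?_) (by rw [hZ, Nat.card_zpowers, hz])).symm
    exact hq.eq_of_orderOf_eq_two ((orderOf_coe _).trans hs) hz ▸ hsZ

end CL.Blk.Crit
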