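import Cfsg.Agent.Inv.BF3
import Cfsg.Agent.Grp.PGroupMaxClass
import Cfsg.Agent.Grp.CoresPi
import Cfsg.Agent.Fgs.ClassBasic

/-!
# Order bounds: Landau's theorem, and groups with a four-group with bounded centralizers

* `landau`: the order of a finite group is bounded in terms of its class number.
* `FourHyp.bound`: if `V` is an elementary abelian `2`-subgroup of rank at least two all of whose
  involutions have centralizers of order at most `c`, then the order of `G` is bounded in terms of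
  `c` and the `2`-part of the order of `G`.
-/

set_option autoImplicit false
set_option linter.unusedSectionVars false
open Subgroup Cfsg CL.Grp CL.Inv

namespace CL.Blk

universe u

theorem landau_aux (k : ℕ) : ∀ q : ℚ, ∃ N : ℕ, ∀ s : Multiset ℕ, s.card ≤ k → (∀ n ∈ s, 0 < n) →
    (s.map fun n : ℕ => (n : ℚ)⁻¹).sum = q → ∀ n ∈ s, n ≤ N := by
  induction k with
  | zero =>
    intro q
    refine ⟨0, fun s hs _ _ n hn => ?_⟩
    rw [Nat.le_zero, Multiset.card_eq_zero] at hs
    simp [hs] at hn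
  | succ k ih =>
    intro q
    choose f hf using ih
    set N₀ := ⌈((k + 1 : ℕ) : ℚ) / q⌉₊ with hN₀
    refine ⟨max N₀ ((Finset.range (N₀ + 1)).sup fun m => f (q - (m : ℚ)⁻¹)),
      fun s hs hpos hsum n hn => ?_⟩
    obtain ⟨m, hm, hmin⟩ := s.toFinset.exists_min_image id ⟨n, Multiset.mem_toFinset.2 hn⟩
    rw [Multiset.mem_toFinset] at hm
    have hm0 : (0 : ℚ) < m := by exact_mod_cast hpos m hm
    obtain ⟨s', rfl⟩ := Multiset.exists_cons_of_mem hm
    have hq : 0 < q := by
      rw [← hsum, Multiset.map_cons, Multiset.sum_cons]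
      refine add_pos_of_pos_of_nonneg (inv_pos.2 hm0) (Multiset.sum_nonneg fun x hx => ?_)
      obtain ⟨y, _, rfl⟩ := Multiset.mem_map.1 hx
      positivity
    have hle : q ≤ ((k + 1 : ℕ) : ℚ) * (m : ℚ)⁻¹ := by
      rw [← hsum]
      refine (Multiset.sum_le_card_nsmul _ ((m : ℚ)⁻¹) fun x hx => ?_).trans ?_
      · obtain ⟨y, hy, rfl⟩ := Multiset.mem_map.1 hx
        exact inv_anti₀ hm0 (by exact_mod_cast hmin y (Multiset.mem_toFinset.2 hy))
      · rw [Multiset.card_map, nsmul_eq_mul]
        exact mul_le_mul_of_nonneg_right (by exact_mod_cast hs) (inv_pos.2 hm0).le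
    have hmN : m ≤ N₀ := by
      have h1 : (m : ℚ) ≤ ((k + 1 : ℕ) : ℚ) / q := by
        rw [le_div_iff₀ hq, mul_comm, ← le_div_iff₀ hm0, div_eq_mul_inv]
        exact hle
      exact_mod_cast h1.trans (Nat.le_ceil _)
    rcases Multiset.mem_cons.1 hn with rfl | hn'
    · exact hmN.trans (le_max_left _ _)
    · refine le_trans ?_ (le_max_right _ _)
      refine le_trans ?_ (Finset.le_sup (f := fun m : ℕ => f (q - (m : ℚ)⁻¹))
        (Finset.mem_range.2 (Nat.lt_succ_of_le hmN)))
      refine hf _ s' ?_ (fun x hx => hpos x (Multiset.mem_cons_of_mem hx)) ?_ n hn'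
      · rw [Multiset.card_cons] at hs
        omega
      · rw [← hsum, Multiset.map_cons, Multiset.sum_cons]
        ring

/-- Landau's theorem: there are only finitely many finite groups with a given class number. -/
theorem landau (k : ℕ) : ∃ N : ℕ, ∀ (G : Type u) [Group G] [Finite G],
    Nat.card (ConjClasses G) ≤ k → Nat.card G ≤ N := by
  classical
  obtain ⟨N, hN⟩ := landau_aux k 1
  refine ⟨N, fun G _ _ hk => ?_⟩
  let _ := Fintype.ofFinite (ConjClasses G)
  choose r hr using (ConjClasses.exists_rep : ∀ C : ConjClasses G, ∃ x, ConjClasses.mk x = C)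
  let f : ConjClasses G → ℕ := fun C => Nat.card (centralizer ({r C} : Set G))
  have hf : ∀ C, C.carrier.ncard * f C = Nat.card G := fun C => by
    conv_lhs => rw [← hr C, CL.Fgs.ncard_carrier_mk, hr C]
    exact index_mul_card _
  have hG : (0 : ℚ) < Nat.card G := by exact_mod_cast Nat.card_pos
  have h1 := hN (Finset.univ.val.map f) (by simpa [← Nat.card_eq_fintype_card] using hk)
    (fun n hn => by
      obtain ⟨C, _, rfl⟩ := Multiset.mem_map.1 hn
      exact Nat.card_pos) (by
      rw [Multiset.map_map]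
      change ∑ C : ConjClasses G, ((f C : ℕ) : ℚ)⁻¹ = 1
      have h2 : ∀ C : ConjClasses G, ((f C : ℕ) : ℚ)⁻¹ = (C.carrier.ncard : ℚ) / Nat.card G :=
        fun C => by
          have h3 : (0 : ℚ) < f C := by exact_mod_cast Nat.card_pos
          rw [eq_div_iff hG.ne', ← hf C]
          push_cast
          field_simp
      simp only [h2]
      have h4 := Group.sum_card_conj_classes_eq_card G
      rw [finsum_eq_sum_of_fintype] at h4
      rw [← Finset.sum_div, div_eq_one_iff_eq hG.ne']
      exact_mod_cast h4)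
    (f (ConjClasses.mk 1)) (Multiset.mem_map.2 ⟨_, Finset.mem_univ_val _, rfl⟩)
  have h5 := hf (ConjClasses.mk 1)
  rw [CL.Fgs.ncard_carrier_mk, CL.Fgs.cs_one, one_mul] at h5
  exact h5 ▸ h1

variable {G : Type*} [Group G] [Finite G]

/-- Brauer–Fowler counting: a small class of non-identity elements. -/
theorem exists_ne_one_index_le_of_invol {s t : G} (hs : orderOf s = 2) (ht : orderOf t = 2)
    (hst : s ≠ t) {c : ℕ} (hc : Nat.card (centralizer ({t} : Set G)) ≤ c) :
    ∃ w : G, w ≠ 1 ∧ (centralizer ({w} : Set G)).index ≤ 2 * c ^ 2 := by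
  classical
  by_contra h0
  push Not at h0
  let _ := Fintype.ofFinite G
  have h1 := sq_card_invol_eq_sum (G := G)
  rw [← Finset.add_sum_erase _ _ (Finset.mem_univ (1 : G))] at h1
  have h2 := card_invol_pairs_one_le (G := G)
  have h3 : (2 * c ^ 2 + 1) * ∑ x ∈ Finset.univ.erase (1 : G),
      Nat.card {p : G × G // orderOf p.1 = 2 ∧ orderOf p.2 = 2 ∧ p.1 * p.2 = x} ≤
      Nat.card G * Nat.card G := by
    rw [Finset.mul_sum]
    refine (Finset.sum_le_card_nsmul _ _ (Nat.card G) fun x hx => ?_).trans ?_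
    · refine le_trans (Nat.mul_le_mul (h0 x (Finset.ne_of_mem_erase hx)) (card_invol_pairs_le x)) ?_
      exact (index_mul_card _).le
    · rw [smul_eq_mul]
      refine Nat.mul_le_mul_right _ ?_
      rw [Nat.card_eq_fintype_card]
      exact Finset.card_le_univ _
  have h4 : Nat.card G ≤ Nat.card {t : G // orderOf t = 2} * c := by
    rw [← index_mul_card (centralizer ({t} : Set G))]
    exact Nat.mul_le_mul (index_centralizer_le_card_invol ht) hc
  have h5 : 2 ≤ Nat.card {t : G // orderOf t = 2} := by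
    have : Nontrivial {t : G // orderOf t = 2} :=
      ⟨⟨⟨s, hs⟩, ⟨t, ht⟩, fun h => hst (congrArg Subtype.val h)⟩⟩
    exact Finite.one_lt_card
  generalize Nat.card {t : G // orderOf t = 2} = m at h1 h2 h4 h5
  generalize Nat.card {p : G × G // orderOf p.1 = 2 ∧ orderOf p.2 = 2 ∧ p.1 * p.2 = 1} = e at h1 h2
  generalize (∑ x ∈ Finset.univ.erase (1 : G),
      Nat.card {p : G × G // orderOf p.1 = 2 ∧ orderOf p.2 = 2 ∧ p.1 * p.2 = x}) = S at h1 h3
  have h6 : Nat.card G * Nat.card G ≤ (m * c) * (m * c) := Nat.mul_le_mul h4 h4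
  have h7 : m ^ 2 ≤ 2 * S := by nlinarith
  have h8 : (2 * c ^ 2 + 1) * m ^ 2 ≤ 2 * ((m * c) * (m * c)) := by nlinarith
  nlinarith

theorem index_normalCore_dvd_factorial (H : Subgroup G) : H.normalCore.index ∣ H.index.factorial := by
  rw [normalCore_eq_ker, index_ker, index_eq_card, ← Nat.card_perm]
  exact card_subgroup_dvd_card (MulAction.toPermHom G (G ⧸ H)).range

/-- An abelian normal subgroup of a group with trivial `p'`-core is a `p`-group. -/
theorem card_le_of_comm_of_core_eq_bot {p : ℕ} [hp : Fact p.Prime] (hO : pPrimeCore p G = ⊥)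
    (A : Subgroup G) [hA : A.Normal] (hc : ∀ x ∈ A, ∀ y ∈ A, x * y = y * x) :
    Nat.card A ≤ p ^ (Nat.card G).factorization p := by
  set n := ordCompl[p] (Nat.card G) with hn
  have hG0 : Nat.card G ≠ 0 := Nat.card_pos.ne'
  have hpn : ¬ p ∣ n := Nat.not_dvd_ordCompl hp.out hG0
  let B : Subgroup G :=
    { carrier := {x | x ∈ A ∧ x ^ n = 1}
      one_mem' := ⟨one_mem _, one_pow _⟩
      mul_mem' := fun {x y} hx hy => ⟨mul_mem hx.1 hy.1, by
        rw [Commute.mul_pow (hc x hx.1 y hy.1), hx.2, hy.2, one_mul]⟩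
      inv_mem' := fun {x} hx => ⟨inv_mem hx.1, by rw [inv_pow, hx.2, inv_one]⟩ }
  have hB : B.Normal := ⟨fun x hx g => ⟨hA.conj_mem x hx.1 g, by rw [conj_pow, hx.2]; simp⟩⟩
  have hB' : ¬ p ∣ Nat.card B := fun h => by
    obtain ⟨x, hx⟩ := exists_prime_orderOf_dvd_card' p h
    refine hpn ?_
    rw [← hx, ← orderOf_coe]
    exact orderOf_dvd_of_pow_eq_one x.2.2
  have hB0 : B = ⊥ := le_bot_iff.1 (hO ▸ le_pPrimeCore_of_not_dvd hB')
  have hP : IsPGroup p A := fun x => ⟨(Nat.card G).factorization p, Subtype.ext (by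
    have : (x : G) ^ p ^ (Nat.card G).factorization p ∈ B := ⟨pow_mem x.2 _, by
      rw [← pow_mul, Nat.ordProj_mul_ordCompl_eq_self, pow_card_eq_one']⟩
    rw [hB0, mem_bot] at this
    simpa using this)⟩
  obtain ⟨k, hk⟩ := IsPGroup.iff_card.1 hP
  rw [hk]
  refine Nat.pow_le_pow_right hp.out.pos ?_
  rw [← hp.out.pow_dvd_iff_le_factorization hG0, ← hk]
  exact card_subgroup_dvd_card A

/-- A small class gives a small normal subgroup when the `p'`-core is trivial. -/
theorem exists_normal_card_le_of_index {p : ℕ} [Fact p.Prime] (hO : pPrimeCore p G = ⊥) {w : G}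
    (hw : w ≠ 1) {K : ℕ} (hK : (centralizer ({w} : Set G)).index ≤ K) :
    ∃ M : Subgroup G, M.Normal ∧ M ≠ ⊥ ∧
      Nat.card M ≤ K.factorial * p ^ (Nat.card G).factorization p := by
  set N := (centralizer ({w} : Set G)).normalCore with hN
  have hwM : w ∈ centralizer (N : Set G) := fun x hx =>
    mem_centralizer_singleton_iff.1 (normalCore_le _ hx)
  refine ⟨centralizer (N : Set G), inferInstance, fun h => hw (by rwa [h, mem_bot] at hwM), ?_⟩
  have h1 := card_le_of_comm_of_core_eq_bot hO (N ⊓ centralizer (N : Set G))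
    fun x hx y hy => hy.2 x hx.1
  have h2 : N.relIndex (centralizer (N : Set G)) ≤ K.factorial :=
    (relIndex_le_of_le_right le_top (by rw [relIndex_top_right]; exact index_ne_zero_of_finite)).trans
      (by
        rw [relIndex_top_right]
        exact (Nat.le_of_dvd (Nat.factorial_pos _) (index_normalCore_dvd_factorial _)).trans
          (Nat.factorial_le hK))
  have h3 := (N.subgroupOf (centralizer (N : Set G))).index_mul_card
  rw [← inf_subgroupOf_right, Nat.card_congr (subgroupOfEquivOfLe inf_le_right).toEquiv,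
    inf_subgroupOf_right] at h3
  rw [← h3]
  exact Nat.mul_le_mul h2 h1

/-- Brauer's cube bound with a uniform bound for the centralizers of involutions. -/
theorem card_lt_cube_of_invol_bound {s t : G} (hs : orderOf s = 2) (ht : orderOf t = 2)
    (hnc : ¬ IsConj s t) {c : ℕ}
    (hc : ∀ u : G, orderOf u = 2 → Nat.card (centralizer ({u} : Set G)) ≤ c) :
    Nat.card G < c ^ 3 := by
  obtain ⟨u, hu, hmax⟩ := Set.exists_max_image {u : G | orderOf u = 2}
    (fun u => Nat.card (centralizer ({u} : Set G))) (Set.toFinite _) ⟨s, hs⟩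
  have h : Nat.card G < Nat.card (centralizer ({u} : Set G)) ^ 3 := by
    by_cases h1 : IsConj s u
    · exact brauer_cube_bound t u ht hu (fun h2 => hnc (h1.trans h2.symm)) hmax
    · exact brauer_cube_bound s u hs hu h1 hmax
  exact h.trans_le (Nat.pow_le_pow_left (hc u hu) 3)

/-- `V` is an elementary abelian `2`-group of rank at least two whose involutions have
centralizers of order at most `c`. -/
structure FourHyp (V : Subgroup G) (c : ℕ) : Prop where
  sq : ∀ v ∈ V, v * v = 1
  two : ∃ s ∈ V, ∃ t ∈ V, s ≠ 1 ∧ t ≠ 1 ∧ s ≠ t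
  cent : ∀ v ∈ V, v ≠ 1 → Nat.card (centralizer ({v} : Set G)) ≤ c

namespace FourHyp

variable {V : Subgroup G} {c : ℕ}

omit [Finite G] in
theorem orderOf_eq (h : FourHyp V c) {v : G} (hv : v ∈ V) (h1 : v ≠ 1) : orderOf v = 2 :=
  orderOf_eq_prime (by rw [pow_two]; exact h.sq v hv) h1

theorem quot (h : FourHyp V c) (N : Subgroup G) [N.Normal] (hN : ∀ v ∈ V, v ∈ N → v = 1) :
    FourHyp (V.map (QuotientGroup.mk' N)) c where
  sq := by
    rintro _ ⟨v, hv, rfl⟩
    rw [← map_mul, h.sq v hv, map_one]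
  two := by
    obtain ⟨s, hs, t, ht, hs1, ht1, hst⟩ := h.two
    refine ⟨_, mem_map_of_mem _ hs, _, mem_map_of_mem _ ht,
      fun e => hs1 (hN s hs ((QuotientGroup.eq_one_iff s).1 e)),
      fun e => ht1 (hN t ht ((QuotientGroup.eq_one_iff t).1 e)), fun e => hst ?_⟩
    have := hN _ (mul_mem (inv_mem hs) ht) (QuotientGroup.eq.1 e)
    exact inv_mul_eq_one.1 this
  cent := by
    rintro _ ⟨v, hv, rfl⟩ h1
    exact (card_centralizer_quotient_le N v).trans (h.cent v hv fun e => h1 (by rw [e, map_one]))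

theorem eq_one_of_mem_odd (h : FourHyp V c) {O : Subgroup G} (hO : ¬ 2 ∣ Nat.card O) {v : G}
    (hv : v ∈ V) (hvO : v ∈ O) : v = 1 := by
  by_contra h1
  exact hO (h.orderOf_eq hv h1 ▸ orderOf_dvd_natCard O hvO)

/-- A normal subgroup of odd order has order less than `c ^ 3`. -/
theorem card_odd_lt (h : FourHyp V c) (O : Subgroup G) [hOn : O.Normal]
    (hO : ¬ 2 ∣ Nat.card O) : Nat.card O < c ^ 3 := by
  obtain ⟨s, hs, t, ht, hs1, ht1, hst⟩ := h.two
  have hVH : V ≤ O ⊔ V := le_sup_right
  refine lt_of_le_of_lt (card_le_of_le (le_sup_left : O ≤ O ⊔ V))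
    (card_lt_cube_of_invol_bound (s := ⟨s, hVH hs⟩) (t := ⟨t, hVH ht⟩) ?_ ?_ ?_ ?_)
  · rw [← orderOf_coe]; exact h.orderOf_eq hs hs1
  · rw [← orderOf_coe]; exact h.orderOf_eq ht ht1
  · intro hc
    obtain ⟨g, hg⟩ := isConj_iff.1 hc
    have hg' : (g : G) * s * (g : G)⁻¹ = t := congrArg Subtype.val hg
    obtain ⟨o, ho, v, hv, hov⟩ := (mem_sup_of_normal_left (s := O) (t := V)).1 g.2
    have hcomm : v * s * v⁻¹ = s := by
      have e1 := h.sq _ (mul_mem hv hs)
      have e2 := h.sq v hv
      have e3 := h.sq s hs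
      rw [← eq_inv_of_mul_eq_one_left e2]
      calc v * s * v = (v * s * (v * s)) * s := by rw [mul_assoc (v * s), mul_assoc v s s, e3, mul_one]
        _ = s := by rw [e1, one_mul]
    have h2 : t * s⁻¹ ∈ O := by
      rw [← hg', ← hov]
      have : o * v * s * (o * v)⁻¹ * s⁻¹ = o * (s * o⁻¹ * s⁻¹) := by
        calc o * v * s * (o * v)⁻¹ * s⁻¹ = o * (v * s * v⁻¹) * o⁻¹ * s⁻¹ := by group
          _ = o * (s * o⁻¹ * s⁻¹) := by rw [hcomm]; group
      rw [this]
      exact mul_mem ho (hOn.conj_mem _ (inv_mem ho) s)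
    exact hst (mul_inv_eq_one.1 (h.eq_one_of_mem_odd hO (mul_mem ht (inv_mem hs)) h2)).symm
  · intro u hu
    rw [← orderOf_coe] at hu
    obtain ⟨o, ho, v, hv, hov⟩ := (mem_sup_of_normal_left (s := O) (t := V)).1 u.2
    have hv1 : v ≠ 1 := fun e => hO (by
      rw [← hu, ← hov, e, mul_one]
      exact orderOf_dvd_natCard O ho)
    have hconj : IsConj (u : G) v := by
      by_contra hn
      obtain ⟨z, hz, hz2, -⟩ := exists_invol_commute_of_not_isConj
        (by rw [← pow_two, ← hu, pow_orderOf_eq_one]) (h.sq v hv) hn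
      rw [← hov, mul_assoc, h.sq v hv, mul_one] at hz
      exact hO (hz2 ▸ orderOf_dvd_natCard O (zpowers_le.2 ho hz))
    refine le_trans ?_ (h.cent v hv hv1)
    have e1 := CL.Fgs.cs_eq_of_isConj hconj
    have e2 := (centralizer ({(u : G)} : Set G)).index_mul_card
    have e3 := (centralizer ({v} : Set G)).index_mul_card
    rw [e1, ← e3] at e2
    rw [← Nat.eq_of_mul_eq_mul_left (Nat.pos_of_ne_zero index_ne_zero_of_finite) e2]
    refine Nat.card_le_card_of_injective
      (fun x => (⟨x.1.1, mem_centralizer_singleton_iff.2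
        (congrArg Subtype.val (mem_centralizer_singleton_iff.1 x.2))⟩ :
          centralizer ({(u : G)} : Set G))) fun x y e => ?_
    exact Subtype.ext (Subtype.ext (Subtype.mk.inj e))

theorem card_le_of_mem (h : FourHyp V c) (M : Subgroup G) [hM : M.Normal] {v : G} (hv : v ∈ V)
    (h1 : v ≠ 1) (hvM : v ∈ M) : Nat.card G ≤ Nat.card M * c := by
  rw [← index_mul_card (centralizer ({v} : Set G)), ← bf_card_isConj_eq_index]
  refine Nat.mul_le_mul ?_ (h.cent v hv h1)
  refine Nat.card_le_card_of_injective (fun y => (⟨y.1, ?_⟩ : M)) fun x y e =>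
    Subtype.ext (Subtype.mk.inj e)
  obtain ⟨g, hg⟩ := isConj_iff.1 y.2
  exact hg ▸ hM.conj_mem v hvM g

end FourHyp

theorem factorization_card_quotient_add (p : ℕ) (N : Subgroup G) [N.Normal] :
    (Nat.card (G ⧸ N)).factorization p + (Nat.card N).factorization p =
      (Nat.card G).factorization p := by
  rw [card_eq_card_quotient_mul_card_subgroup N,
    Nat.factorization_mul Nat.card_pos.ne' Nat.card_pos.ne', Finsupp.add_apply]

/-- The order of a group with a four-group with bounded centralizers of involutions is bounded in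
terms of that bound and the order of a Sylow `2`-subgroup. -/
theorem FourHyp.bound (c a : ℕ) : ∃ N : ℕ, ∀ (G : Type u) [Group G] [Finite G] (V : Subgroup G),
    FourHyp V c → (Nat.card G).factorization 2 ≤ a → Nat.card G ≤ N := by
  induction a with
  | zero =>
    refine ⟨0, fun G _ _ V h ha => ?_⟩
    obtain ⟨s, hs, -, -, hs1, -⟩ := h.two
    have := (Nat.prime_two.dvd_iff_one_le_factorization Nat.card_pos.ne').1
      (h.orderOf_eq hs hs1 ▸ orderOf_dvd_natCard s)
    omega
  | succ a ih =>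
    obtain ⟨N, hN⟩ := ih
    refine ⟨((2 * c ^ 2).factorial * 2 ^ (a + 1)) * (c + N) * c ^ 3, fun G _ _ V h ha => ?_⟩
    have hO := not_dvd_card_pPrimeCore 2 G
    have h' := h.quot (pPrimeCore 2 G) fun v hv hvO => h.eq_one_of_mem_odd hO hv hvO
    rw [card_eq_card_quotient_mul_card_subgroup (pPrimeCore 2 G)]
    refine Nat.mul_le_mul ?_ (h.card_odd_lt _ hO).le
    have ha' : (Nat.card (G ⧸ pPrimeCore 2 G)).factorization 2 ≤ a + 1 := by
      have := factorization_card_quotient_add 2 (pPrimeCore 2 G)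
      omega
    have hO' := pPrimeCore_quotient_pPrimeCore 2 G
    generalize V.map (QuotientGroup.mk' (pPrimeCore 2 G)) = W at h'
    obtain ⟨s, hs, t, ht, hs1, ht1, hst⟩ := h'.two
    obtain ⟨w, hw, hK⟩ := exists_ne_one_index_le_of_invol (h'.orderOf_eq hs hs1)
      (h'.orderOf_eq ht ht1) hst (h'.cent t ht ht1)
    obtain ⟨M, hM, hM1, hMc⟩ := exists_normal_card_le_of_index hO' hw hK
    have hMc' : Nat.card M ≤ (2 * c ^ 2).factorial * 2 ^ (a + 1) :=
      hMc.trans (Nat.mul_le_mul_left _ (Nat.pow_le_pow_right two_pos ha'))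
    by_cases hW : ∀ v ∈ W, v ∈ M → v = 1
    · have h2 : 2 ∣ Nat.card M := by
        by_contra h2
        exact hM1 (le_bot_iff.1 (hO' ▸ le_pPrimeCore_of_not_dvd h2))
      have h3 := (Nat.prime_two.dvd_iff_one_le_factorization Nat.card_pos.ne').1 h2
      have h4 := factorization_card_quotient_add 2 M
      have h5 := hN _ _ (h'.quot M hW) (by omega)
      rw [card_eq_card_quotient_mul_card_subgroup M, mul_comm]
      exact Nat.mul_le_mul hMc' (h5.trans (Nat.le_add_left _ _))
    · push Not at hW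
      obtain ⟨v, hv, hvM, hv1⟩ := hW
      exact (h'.card_le_of_mem M hv hv1 hvM).trans (Nat.mul_le_mul hMc' (Nat.le_add_right _ _))

end CL.Blk
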