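import Cfsg.Agent.Blk.Knorr
import Cfsg.Agent.Blk.Principal
import Cfsg.Agent.Blk.Quot
import Cfsg.Agent.Blk.RkFeit
import Cfsg.Agent.Blk.Landau

/-!
# Major subsections and Brauer's deficiency classes
-/

set_option autoImplicit false
set_option linter.unusedSectionVars false
open scoped MonoidAlgebra
open MonoidAlgebra Cfsg CL.Grp CL.Char Subgroup CL.Blk.Pair

namespace CL.Blk

universe u

variable {G : Type*} [Group G] [Finite G] {M : Ideal AlgInt} {p : ℕ} [Fact p.Prime]

/-- Existence of major subsections: for a central element `y` of a defect group of `B` some block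
of `C_G(y)` of the same defect induces `B`. -/
theorem exists_major_subsection (hM : IsPModular p M) {B : Set (IrrCharacter G)}
    (hB : IsPBlock M B) {D : Subgroup G} (hD : IsDefectGroup p M B D) {y : G} (hy : y ∈ D)
    (hyc : y ∈ centralizer (D : Set G)) :
    ∃ b : Set (IrrCharacter (centralizer ({y} : Set G))),
      IsInducedBlock M (centralizer ({y} : Set G)) b B ∧ blockDefect p b = blockDefect p B := by
  classical
  have hDp := tr_isPGroup_of_isDefectGroup hD
  have hP : IsPGroup p (zpowers y) := hDp.to_le (zpowers_le.2 hy)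
  have hC := centralizer_zpowers_eq y
  have hPH : zpowers y ≤ centralizer ({y} : Set G) :=
    zpowers_le.2 (mem_centralizer_singleton_iff.2 rfl)
  have hHN : centralizer ({y} : Set G) ≤ normalizer (zpowers y : Set G) :=
    hC ▸ centralizer_le_normalizer _
  have hDH : D ≤ centralizer ({y} : Set G) := fun x hx =>
    mem_centralizer_singleton_iff.2 (hyc x hx)
  have hsum := brTo_eBlk_eq_sum hM hP hPH hC.le hHN hB
  have h0 := br_eBlk_ne_zero_of_isDefectGroup hM hB hD
  have h1 : br D (eBlk M B) = ∑ b ∈ blocks M (centralizer ({y} : Set G)) with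
      IsInducedBlock M (centralizer ({y} : Set G)) b B,
      br D (hat M (centralizer ({y} : Set G)) b) := by
    rw [← map_sum]
    simp only [hat]
    rw [← map_sum, ← hsum]
    ext g
    by_cases hg : g ∈ centralizer (D : Set G)
    · have hg' : g ∈ centralizer ({y} : Set G) := mem_centralizer_singleton_iff.2 (hg y hy).symm
      rw [coeff_br_of_mem _ hg, coeff_br_of_mem _ hg]
      exact ((coeff_incl _ _ ⟨g, hg'⟩).trans
        (coeff_brTo_of_mem _ _ _ (h := ⟨g, hg'⟩) (hC.symm ▸ hg'))).symm
    · rw [coeff_br_of_not_mem _ hg, coeff_br_of_not_mem _ hg]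
  rw [h1] at h0
  obtain ⟨b, hb, hb0⟩ := Finset.exists_ne_zero_of_sum_ne_zero h0
  have hind := (Finset.mem_filter.1 hb).2
  refine ⟨b, hind, le_antisymm (blockDefect_le_of_isInducedBlock hM hind.1 hB hind) ?_⟩
  have h2 := card_le_of_br_hat_ne_zero hM hind.1 hDp hDH hb0
  rwa [card_defectGroup hM hB hD, Nat.pow_le_pow_iff_right hM.1.one_lt] at h2

/-- Brauer's third main theorem for centralizers of `p`-elements. -/
theorem eq_principal_iff_of_isInducedBlock_centralizer (hM : IsPModular p M) {y : G}
    (hy : ∃ k : ℕ, orderOf y = p ^ k) {b : Set (IrrCharacter (centralizer ({y} : Set G)))}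
    {B : Set (IrrCharacter G)} (h : IsInducedBlock M (centralizer ({y} : Set G)) b B) :
    B = principalBlock M G ↔ b = principalBlock M (centralizer ({y} : Set G)) := by
  have h1 := indSet_principal_centralizer hM hy
  constructor
  · rintro rfl
    obtain ⟨ξ, hξ⟩ := pblock_nonempty hM h.1
    exact pblock_eq_of_mem hM h.1 (tr_isPBlock_principalBlock) hξ (h1 ▸ subset_indSet hM h hξ)
  · rintro rfl
    obtain ⟨ξ, hξ⟩ := pblock_nonempty hM h.1
    exact isInducedBlock_unique hM h ((mem_indSet_iff hM h.1 hξ).1 (h1.symm ▸ hξ))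

/-- `G` has deficiency class `r`: no non-principal block has defect at least `r`. -/
def DefClass (p : ℕ) (M : Ideal AlgInt) (G : Type*) [Group G] (r : ℕ) : Prop :=
  ∀ B : Set (IrrCharacter G), IsPBlock M B → B ≠ principalBlock M G → blockDefect p B < r

theorem DefClass.centralizer (hM : IsPModular p M) {r : ℕ} (h : DefClass p M G r) {y : G}
    (hy : ∃ k : ℕ, orderOf y = p ^ k) : DefClass p M (centralizer ({y} : Set G)) r := by
  intro b hb hb0
  obtain ⟨B, hB⟩ := inducedBlockDefined_centralizer_singleton hM hy hb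
  exact (blockDefect_le_of_isInducedBlock hM hb hB.2.1 hB).trans_lt (h B hB.2.1 fun e =>
    hb0 ((eq_principal_iff_of_isInducedBlock_centralizer hM hy hB).1 e))

theorem DefClass.of_centralizer (hM : IsPModular p M) {r : ℕ} (hr : 0 < r)
    (h : ∀ y : G, orderOf y = p → DefClass p M (Subgroup.centralizer ({y} : Set G)) r) :
    DefClass p M G r := by
  intro B hB hB0
  by_contra hlt
  push Not at hlt
  obtain ⟨D, hD⟩ := exists_isDefectGroup hM hB
  have hDp := tr_isPGroup_of_isDefectGroup hD
  have hD1 : Nontrivial D := by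
    rw [← Finite.one_lt_card_iff_nontrivial, card_defectGroup hM hB hD]
    exact Nat.one_lt_pow (by omega) hM.1.one_lt
  have hZ := hDp.center_nontrivial
  have hZp : IsPGroup p (center D) := hDp.to_subgroup _
  obtain ⟨k, hk0, hk⟩ := hZp.nontrivial_iff_card.1 hZ
  obtain ⟨z, hz⟩ := exists_prime_orderOf_dvd_card' (G := center D) p
    (hk ▸ dvd_pow_self p hk0.ne')
  rw [← orderOf_coe, ← orderOf_coe] at hz
  obtain ⟨b, hb, hbd⟩ := exists_major_subsection hM hB hD z.1.2 fun x hx =>
    congrArg Subtype.val (mem_center_iff.1 z.2 ⟨x, hx⟩)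
  have := h _ hz b hb.1 fun e =>
    hB0 ((eq_principal_iff_of_isInducedBlock_centralizer hM ⟨1, by rw [hz, pow_one]⟩ hb).2 e)
  omega

/-- Factoring out a nontrivial central `p`-subgroup lowers the deficiency class. -/
theorem DefClass.quotient (hM : IsPModular p M) {r : ℕ} (h : DefClass p M G (r + 1))
    (N : Subgroup G) [N.Normal] (hN : IsPGroup p N) (hN1 : N ≠ ⊥)
    (hZ : Subgroup.centralizer (N : Set G) = ⊤) : DefClass p M (G ⧸ N) r := by
  intro b hb hb0
  obtain ⟨B, hB, hsub⟩ := exists_dominating hM hb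
  obtain ⟨χ, hχ⟩ := pblock_nonempty hM hb
  have hB0 : B ≠ principalBlock M G := by
    rintro rfl
    have h1 := isPBlock_preimage_inflIrr_of_index (k := 0) hM hN (by rw [hZ, index_top, pow_zero]) hB
    have h2 := pblock_eq_of_mem hM hb h1 hχ (hsub hχ)
    obtain ⟨ψ, hψ⟩ := pblock_nonempty hM (tr_isPBlock_principalBlock (M := M) (G := G ⧸ N))
    exact hb0 (pblock_eq_of_mem hM hb tr_isPBlock_principalBlock
      (h2.symm ▸ principalBlock_subset_preimage_inflIrr hM hψ) hψ)
  have h3 := h B hB hB0
  obtain ⟨D, hD⟩ := exists_isDefectGroup hM hb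
  obtain ⟨P, hP, hDP⟩ := exists_isDefectGroup_map_ge hM hB hb hsub hD
  have hNP := le_defectGroup_of_normal hM hB hP hN
  have h4 : Nat.card (P.map (QuotientGroup.mk' N)) * Nat.card N = Nat.card P := by
    have e1 := (N.subgroupOf P).index_mul_card
    rw [Nat.card_congr (subgroupOfEquivOfLe hNP).toEquiv] at e1
    rw [← e1, ← relIndex_ker, QuotientGroup.ker_mk']
    rfl
  have h5 : 1 < Nat.card N := (one_lt_card_iff_ne_bot N).2 hN1
  have h6 := card_le_of_le hDP
  rw [card_defectGroup hM hb hD] at h6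
  rw [card_defectGroup hM hB hP] at h4
  have h7 : p ^ blockDefect p b < p ^ blockDefect p B := by
    rw [← h4]
    exact lt_of_lt_of_le ((Nat.lt_mul_iff_one_lt_right (pow_pos hM.1.pos _)).2 h5)
      (Nat.mul_le_mul_right _ h6)
  rw [Nat.pow_lt_pow_iff_right hM.1.one_lt] at h7
  omega

/-- A group with only one block has bounded order. -/
theorem exists_bound_of_defClass_zero (p : ℕ) [Fact p.Prime] (a : ℕ) : ∃ N : ℕ,
    ∀ (G : Type u) [Group G] [Finite G] (M : Ideal AlgInt), IsPModular p M →
      (Nat.card G).factorization p ≤ a → DefClass p M G 0 → Nat.card G ≤ N := by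
  obtain ⟨N, hN⟩ := landau.{u} (p ^ (2 * a) + 4)
  refine ⟨N, fun G _ _ M hM ha h => hN G ?_⟩
  have h1 : principalBlock M G = Set.univ := Set.eq_univ_of_forall fun χ => by
    by_contra hχ
    exact Nat.not_lt_zero _ (h (blockOf M (χ : G → ℂ)) ⟨χ, rfl⟩ fun e =>
      hχ (e ▸ self_mem_blockOf hM χ))
  have h2 := Rk.four_mul_card_le hM (tr_isPBlock_principalBlock (M := M) (G := G))
  rw [blockDefect_principal hM, h1, Nat.card_univ, card_irr_eq_card_conjClasses] at h2
  have h3 : p ^ (2 * (Nat.card G).factorization p) ≤ p ^ (2 * a) :=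
    Nat.pow_le_pow_right hM.1.pos (by omega)
  omega

/-- Brauer's bound for groups of deficiency class `r` with an elementary abelian subgroup of
order `2 ^ (r + 1)`. -/
theorem exists_bound_of_defClass (a r : ℕ) : ∃ N : ℕ,
    ∀ (G : Type u) [Group G] [Finite G] (M : Ideal AlgInt), IsPModular 2 M →
      (Nat.card G).factorization 2 ≤ a → DefClass 2 M G r → ∀ E : Subgroup G,
      (∀ x ∈ E, x * x = 1) → Nat.card E = 2 ^ (r + 1) → Nat.card G ≤ N := by
  induction r with
  | zero =>
    obtain ⟨N, hN⟩ := exists_bound_of_defClass_zero.{u} 2 a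
    exact ⟨N, fun G _ _ M hM ha h _ _ _ => hN G M hM ha h⟩
  | succ r ih =>
    obtain ⟨c, hc⟩ := ih
    obtain ⟨N, hN⟩ := FourHyp.bound.{u} (c * 2) a
    refine ⟨N, fun G _ _ M hM ha h E hE hEc => hN G E ⟨hE, ?_, fun y hy hy1 => ?_⟩ ha⟩
    · have h1 : 2 < Nat.card E := by
        rw [hEc]
        exact lt_of_lt_of_le (by norm_num) (Nat.pow_le_pow_right two_pos (by omega : 2 ≤ r + 1 + 1))
      have _ := Fintype.ofFinite E
      rw [Nat.card_eq_fintype_card, Fintype.two_lt_card_iff] at h1
      obtain ⟨x, y, z, hxy, hxz, hyz⟩ := h1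
      refine ⟨_, (x⁻¹ * y).2, _, (x⁻¹ * z).2, fun e => hxy (inv_mul_eq_one.1 (Subtype.ext e)),
        fun e => hxz (inv_mul_eq_one.1 (Subtype.ext e)),
        fun e => hyz (mul_left_cancel (Subtype.ext e : x⁻¹ * y = x⁻¹ * z))⟩
    · have hy2 : orderOf y = 2 := orderOf_eq_prime (by rw [pow_two]; exact hE y hy) hy1
      set C := Subgroup.centralizer ({y} : Set G) with hC
      have hyC : y ∈ C := mem_centralizer_singleton_iff.2 rfl
      have hEC : E ≤ C := fun x hx => mem_centralizer_singleton_iff.2 (by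
        have e1 := hE _ (mul_mem hx hy)
        calc x * y = (x * y)⁻¹ := eq_inv_of_mul_eq_one_left e1
          _ = y * x := by
            rw [mul_inv_rev, ← eq_inv_of_mul_eq_one_left (hE x hx),
              ← eq_inv_of_mul_eq_one_left (hE y hy)])
      set Z : Subgroup C := zpowers ⟨y, hyC⟩ with hZ
      have hZc : Nat.card Z = 2 := by rw [hZ, Nat.card_zpowers, ← orderOf_coe, hy2]
      have hZtop : Subgroup.centralizer (Z : Set C) = ⊤ := by
        rw [hZ, centralizer_zpowers_eq, eq_top_iff]
        exact fun x _ => mem_centralizer_singleton_iff.2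
          (Subtype.ext (mem_centralizer_singleton_iff.1 x.2))
      have hZn : Z.Normal := ⟨fun n hn g => by
        have : g ∈ Subgroup.centralizer (Z : Set C) := hZtop ▸ mem_top g
        rwa [← this n hn, mul_inv_cancel_right]⟩
      have h1 : DefClass 2 M (C ⧸ Z) r :=
        (h.centralizer hM ⟨1, by rw [hy2, pow_one]⟩).quotient hM Z
          (IsPGroup.of_card (n := 1) (by rw [hZc, pow_one]))
          ((one_lt_card_iff_ne_bot Z).1 (by omega)) hZtop
      have h2 : (Nat.card (C ⧸ Z)).factorization 2 ≤ a := by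
        have e1 := factorization_card_quotient_add 2 Z
        have e2 := factorization_card_eq_add 2 C
        omega
      have hZE : Z ≤ E.subgroupOf C := zpowers_le.2 hy
      have h3 := hc (C ⧸ Z) M hM h2 h1 ((E.subgroupOf C).map (QuotientGroup.mk' Z)) (by
        rintro _ ⟨x, hx, rfl⟩
        rw [← map_mul, show x * x = 1 from Subtype.ext (hE x hx), map_one]) (by
        have e1 := (Z.subgroupOf (E.subgroupOf C)).index_mul_card
        rw [Nat.card_congr (subgroupOfEquivOfLe hZE).toEquiv,
          Nat.card_congr (subgroupOfEquivOfLe hEC).toEquiv, hEc, hZc, pow_succ] at e1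
        rw [← relIndex_ker, QuotientGroup.ker_mk']
        exact Nat.eq_of_mul_eq_mul_right two_pos e1)
      rw [card_eq_card_quotient_mul_card_subgroup Z, hZc]
      exact Nat.mul_le_mul_right _ h3

end CL.Blk
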