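/-
The minimum of `p^d C⁻¹` for blocks with cyclic defect groups, and Brauer's bounds for `k(B)`.
-/
import Cfsg.Agent.Blk.CycPerf
import Cfsg.Agent.Blk.CMin
import Cfsg.Agent.Blk.RkQuot2
import Cfsg.Agent.Blk.StarAct
import Cfsg.Agent.Blk.Deficiency

set_option autoImplicit false
set_option linter.unusedSectionVars false

namespace CL.Blk

open MonoidAlgebra Cfsg CL.Char CL.Grp CL.Blk.Rk CL.Blk.Pair Subgroup
open scoped ComplexConjugate

universe u

theorem card_le_cyc_form {ι : Type*} [Fintype ι] {x : ι → ℤ} (hx : x ≠ 0) {m : ℕ} (hm : 1 ≤ m) :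
    (Fintype.card ι : ℤ) ≤ (1 + m * Fintype.card ι) * ∑ i, x i ^ 2 - m * (∑ i, x i) ^ 2 := by
  classical
  set s := Finset.univ.filter fun i => x i ≠ 0 with hs
  have h1 : ∑ i ∈ s, x i = ∑ i, x i := Finset.sum_filter_ne_zero _
  have h2 : ∑ i ∈ s, x i ^ 2 = ∑ i, x i ^ 2 :=
    Finset.sum_subset (Finset.subset_univ _) fun i _ hi => by simpa [hs] using hi
  have h3 := sq_sum_le_card_mul_sum_sq (s := s) (f := x)
  have h4 : (s.card : ℤ) ≤ ∑ i ∈ s, x i ^ 2 := by
    simpa using Finset.card_nsmul_le_sum s (fun i => x i ^ 2) 1 fun i hi =>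
      (one_le_sq_iff_one_le_abs _).2 (Int.one_le_abs (Finset.mem_filter.1 hi).2)
  have h5 : (s.card : ℤ) ≤ Fintype.card ι := by exact_mod_cast Finset.card_le_univ s
  have h6 : (1 : ℤ) ≤ s.card := by
    obtain ⟨i, hi⟩ := Function.ne_iff.1 hx
    exact_mod_cast Finset.card_pos.2 ⟨i, Finset.mem_filter.2 ⟨Finset.mem_univ i, hi⟩⟩
  rw [h1, h2] at h3
  rw [h2] at h4
  have h7 : (1 : ℤ) ≤ m := by exact_mod_cast hm
  generalize ∑ i, x i ^ 2 = S at *
  generalize (∑ i, x i) ^ 2 = T at *
  generalize (s.card : ℤ) = n at *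
  generalize (Fintype.card ι : ℤ) = e at *
  generalize (m : ℤ) = m at *
  have h8 : 0 ≤ (m - 1) * (e * S - T) := mul_nonneg (by omega) (by nlinarith)
  have h9 : 0 ≤ (n - 1) * (e - n) := mul_nonneg (by omega) (by omega)
  have h10 : 0 ≤ (1 + e - n) * (S - n) := mul_nonneg (by omega) (by omega)
  nlinarith

variable {G : Type u} [Group G] {p : ℕ} [hp : Fact p.Prime] {M : Ideal AlgInt}
  {B : Set (IrrCharacter G)}

variable (p B) in
/-- `l(B)` is a lower bound for the nonzero values of the form `p^d C⁻¹`. -/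
def RankMin [Fintype G] : Prop := ∀ θ, IsGeneralizedCharacter G θ → (bForm p B θ θ).re ≠ 0 →
  (blockRank p B : ℝ) ≤ (bForm p B θ θ).re

theorem CyData.rankMin [Fintype G] {A : Type*} [CommGroup A] [Fintype A] [Fintype (A →* ℂˣ)]
    {E : Subgroup (MulAut A)} [Fintype E] [Fintype (cyJ E)] {ψ : E ⊕ cyJ E → IrrCharacter G}
    {s : E ⊕ cyJ E → ℤ} {I : (A →* ℂˣ) → G → ℂ} (h : CyData p M B E ψ s I) : RankMin p B := by
  classical
  intro θ hθ h0
  have hb := regClosed_of_isPBlock h.hM h.hB
  choose a ha using fun j => hθ.exists_int_classInner (ψ j).2.isGeneralizedCharacter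
  set φ : E → G → ℂ := fun i => pRegularPart p ((s (.inl i) : ℂ) • (ψ (.inl i) : G → ℂ)) with hφ
  set w := ∑ i, φ i with hw
  have hY : ∀ O, pRegularPart p ((s (.inr O) : ℂ) • (ψ (.inr O) : G → ℂ)) = -w := fun O => by
    rw [eq_neg_iff_add_eq_zero, hw, ← pReg_sum, ← pReg_add, ← pReg_zero (p := p), pReg_eq_iff]
    intro g hg
    simpa using h.rel O hg
  set x : E → ℤ := fun i => a (.inl i) * s (.inl i) - ∑ O, a (.inr O) * s (.inr O) with hx
  have hs : ∀ j, (a j : ℂ) • (ψ j : G → ℂ) = ((a j * s j : ℤ) : ℂ) • (s j : ℂ) • (ψ j : G → ℂ) :=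
    fun j => by rw [smul_smul, Int.cast_mul, mul_assoc, h.s_mul_self', mul_one]
  have hv : regProj p B θ = ∑ i, (x i : ℂ) • φ i := by
    rw [regProj_apply, ← h.range, blockPart_range h.inj, Fintype.sum_sum_type]
    simp only [ha, hs, pReg_add, pReg_sum, pReg_smul _ ((_ : ℂ) • _), hY, hx, Int.cast_sub,
      sub_smul, Finset.sum_sub_distrib, ← Finset.smul_sum, ← hw, smul_neg, Finset.sum_neg_distrib,
      ← Finset.sum_smul, Int.cast_sum]
    rw [← sub_eq_add_neg]
  have hPr : ∀ i, pRegularPart p (CyData.proj ψ s i) = CyData.proj ψ s i := fun i =>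
    pReg_eq_self_iff.2 fun g hg => h.proj_sing i (not_not.1 hg)
  have hP : ∀ i, CyData.proj ψ s i = φ i + (Fintype.card (cyJ E) : ℂ) • w := fun i => by
    rw [← hPr, CyData.proj, pReg_sub, pReg_sum]
    simp only [hY, Finset.sum_const, Finset.card_univ, smul_neg, sub_neg_eq_add, Nat.cast_smul_eq_nsmul]
    rfl
  have hφP : ∀ i j, classInner (φ j) (CyData.proj ψ s i) = if j = i then 1 else 0 := fun i j => by
    rw [classInner_pReg_left, hPr]
    simp only [CyData.proj, classInner_smul_left, classInner_sub_right, classInner_sum_right,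
      classInner_smul_right, classInner_irr, h.inj.eq_iff, Sum.inl.injEq, reduceCtorEq, if_false,
      mul_zero, Finset.sum_const_zero, sub_zero, map_intCast]
    split_ifs with hij
    · rw [hij, mul_one, h.s_mul_self']
    · simp
  set v := regProj p B θ with hv'
  have h1 : ∀ i, classInner v (φ i) = x i - Fintype.card (cyJ E) * classInner v w := fun i => by
    have h2 : classInner v (CyData.proj ψ s i) = x i := by
      rw [hv, classInner_sum_left]
      simp [classInner_smul_left, hφP]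
    rw [← h2, hP, classInner_add_right, classInner_smul_right, map_natCast, add_sub_cancel_right]
  have h2 : (1 + Fintype.card (cyJ E) * Fintype.card E) * classInner v w = ∑ i, (x i : ℂ) := by
    have h3 : classInner v w = ∑ i, classInner v (φ i) := classInner_sum_right _ _ _
    simp only [h1, Finset.sum_sub_distrib, Finset.sum_const, Finset.card_univ, nsmul_eq_mul] at h3
    linear_combination h3
  have h3 : bForm p B θ θ = (((1 + Fintype.card (cyJ E) * Fintype.card E) * ∑ i, x i ^ 2 -
      Fintype.card (cyJ E) * (∑ i, x i) ^ 2 : ℤ) : ℂ) := by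
    have h4 : (p : ℂ) ^ blockDefect p B = 1 + Fintype.card (cyJ E) * Fintype.card E := by
      rw [← Nat.cast_pow, ← h.cardA, h.free.card, Nat.card_eq_fintype_card, Nat.card_eq_fintype_card]
      push_cast; rfl
    have h5 : classInner v v = ∑ i, (x i : ℂ) * classInner v (φ i) := by
      conv_lhs => arg 2; rw [hv]
      simp [classInner_sum_right, classInner_smul_right]
    rw [bForm_eq_regProj hb, ← hv', h4, h5]
    simp only [h1, mul_sub, Finset.sum_sub_distrib, ← Finset.sum_mul, ← sq]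
    push_cast
    linear_combination (-(Fintype.card (cyJ E) : ℂ) * ∑ i, (x i : ℂ)) * h2
  have hx0 : x ≠ 0 := fun h4 => h0 ((bForm_self_re_eq_zero_iff hp.out hb _).2 (by
    rw [← hv', hv, h4]; simp))
  have := h.free.nonempty h.dvd
  rw [h3, Complex.intCast_re, h.rank, Nat.card_eq_fintype_card]
  exact_mod_cast card_le_cyc_form hx0 Fintype.card_pos

theorem rankMin_of_isCyclic [Fintype G] (hM : IsPModular p M) (hB : IsPBlock M B) {D : Subgroup G}
    (hD : IsDefectGroup p M B D) (hc : IsCyclic D) : RankMin p B := by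
  by_cases h1 : D = ⊥
  · refine fun θ hθ h0 => le_trans ?_ (one_le_bForm_self hM hB hθ h0)
    have := blockRank_le_card (p := p) B
    rw [(blockDefect_eq_zero_iff_card hM hB).1 ((defectGroup_eq_bot_iff hM hB hD).1 h1)] at this
    exact_mod_cast this
  have : NeZero (Nat.card D) := ⟨Nat.card_pos.ne'⟩
  have := Fintype.ofFinite (Multiplicative (ZMod (Nat.card D)) →* ℂˣ)
  obtain ⟨e, h⟩ := exists_isMax_of_isDefectGroup hM hB hD
  obtain ⟨E, ψ, s, I, h, -⟩ := exists_cyData (A := Multiplicative (ZMod (Nat.card D))) hM hB h hc h1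
    inferInstance (by simp)
  have := Fintype.ofFinite E
  have := Fintype.ofFinite (cyJ E)
  exact h.rankMin

theorem blockPart_comp_mk [Fintype G] {N : Subgroup G} [N.Normal] [Fintype (G ⧸ N)]
    {η : G ⧸ N → ℂ} (hη : IsClassFunction _ η) :
    blockPart B (fun g : G => η g) = fun g : G => blockPart (inflIrr N ⁻¹' B) η g := by
  classical
  have h1 : (fun g : G => η g) =
      ∑ ψ : IrrCharacter (G ⧸ N), classInner η ψ • (inflIrr N ψ : G → ℂ) := by
    funext g
    simp only [Finset.sum_apply, Pi.smul_apply, smul_eq_mul, inflIrr_apply]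
    exact hη.apply_eq_sum_irr g
  rw [h1, Rk.blockPart_sum, Rk.blockPart_eq_sum_ite]
  funext g
  simp only [Finset.sum_apply, Rk.blockPart_smul, Pi.smul_apply, smul_eq_mul]
  refine Finset.sum_congr rfl fun ψ _ => ?_
  by_cases h : inflIrr N ψ ∈ B
  · simp [Rk.blockPart_irr_of_mem h, h, inflIrr_apply]
  · simp [Rk.blockPart_irr_of_notMem h, h]

/-- The block dominated modulo a central `p`-subgroup. -/
theorem isDefectGroup_preimage_of_central [Finite G] (hM : IsPModular p M) (hB : IsPBlock M B)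
    {D N : Subgroup G} [N.Normal] (hN : IsPGroup p N) (hZ : centralizer (N : Set G) = ⊤)
    (hD : IsDefectGroup p M B D) : IsPBlock M (inflIrr N ⁻¹' B) ∧
      IsDefectGroup p M (inflIrr N ⁻¹' B) (D.map (QuotientGroup.mk' N)) ∧
      p ^ blockDefect p (inflIrr N ⁻¹' B) * Nat.card N = p ^ blockDefect p B ∧
      blockRank p (inflIrr N ⁻¹' B) = blockRank p B := by
  have h1 := isPBlock_preimage_inflIrr_of_index (k := 0) hM hN (by rw [hZ, index_top, pow_zero]) hB
  obtain ⟨b, hb, hsub, hD'⟩ := exists_dominated_isDefectGroup hM hN hB hD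
  obtain ⟨χ, hχ⟩ := pblock_nonempty hM hb
  obtain rfl := pblock_eq_of_mem hM hb h1 hχ (hsub hχ)
  refine ⟨h1, hD', ?_, blockRank_preimage_inflIrr hM hN (fun g _ => hZ ▸ mem_top g) hB⟩
  rw [← card_defectGroup hM h1 hD', ← card_defectGroup hM hB hD, card_map_mk',
    ← Nat.card_congr (subgroupOfEquivOfLe (le_defectGroup_of_normal hM hB hD hN)).toEquiv]
  exact (N.subgroupOf D).index_mul_card

theorem RankMin.of_quot [Fintype G] {N : Subgroup G} [N.Normal] [Fintype (G ⧸ N)]
    (h : RankMin p (inflIrr N ⁻¹' B)) (hM : IsPModular p M) (hB : IsPBlock M B) (hN : IsPGroup p N)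
    (hZ : centralizer (N : Set G) = ⊤) : RankMin p B := by
  obtain ⟨D, hD⟩ := exists_isDefectGroup hM hB
  obtain ⟨-, -, h1, h2⟩ := isDefectGroup_preimage_of_central hM hB hN hZ hD
  have hc : ∀ g : G, ¬ p ∣ orderOf g → g ∈ centralizer (N : Set G) := fun g _ => hZ ▸ mem_top g
  have hb := regClosed_of_isPBlock hM hB
  intro θ hθ
  obtain ⟨η, hη, h3⟩ := exists_genChar_eq_on_pRegular hp.out hN hc hθ
  have h4 : bForm p B θ θ = bForm p (inflIrr N ⁻¹' B) η η := by
    have h5 : regProj p B θ = regProj p B fun g : G => η g := by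
      rw [← hb.regProj_pReg hθ.isClassFunction, h3,
        hb.regProj_pReg (θ := fun g : G => η g) fun g h => hη.isClassFunction g h]
    rw [bForm_eq_regProj hb, h5, hb.classInner_regProj_regProj, regProj_apply,
      blockPart_comp_mk hη.isClassFunction, classInner_pReg_comp_mk hp.out hN hc, bForm_apply,
      regProj_apply, ← Nat.cast_pow, ← h1, Nat.cast_mul, Nat.cast_pow, mul_assoc,
      mul_inv_cancel_left₀ (natCard_ne_zero (G := N))]
  rw [h4, ← h2]
  exact h η hη

section Bounds

variable [Fintype G] {H : Subgroup G} [Fintype H] {u : G} {b : Set (IrrCharacter H)}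

theorem RankMin.card_le (h : RankMin p b) (hM : IsPModular p M) (hH : IsCent H u)
    (hu : ∃ k : ℕ, orderOf u = p ^ k) (hind : IsInducedBlock M H b B)
    (hd : blockDefect p b = blockDefect p B) : Nat.card B ≤ p ^ blockDefect p B := by
  have h1 := card_mul_le_of_min hM hH hu hind hd (Nat.cast_nonneg _) h
  exact_mod_cast le_of_mul_le_mul_right h1
    (Nat.cast_pos.2 (blockRank_pos hp.out (tr_nonempty hM hind.1)))

theorem RankMin.card_height_zero_le (h : RankMin p b) (hM : IsPModular p M) (hH : IsCent H u)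
    (hu : ∃ k : ℕ, orderOf u = p ^ k) (hind : IsInducedBlock M H b B) :
    Nat.card {χ : IrrCharacter G // χ ∈ B ∧ blockHeight p B (χ : G → ℂ) = 0} ≤
      p ^ blockDefect p b := by
  classical
  obtain ⟨k, hk⟩ := exists_pow_succ_eq_one hu
  have hb := regClosed_of_isPBlock hM hind.1
  have h1 := card_mul_le_of_form hM.1 hH hk (bForm p b) (bForm_self_re_nonneg hb) (conj_bForm hb)
    (Nat.cast_nonneg _) h
    (Finset.univ.filter fun χ : IrrCharacter G => χ ∈ B ∧ blockHeight p B (χ : G → ℂ) = 0)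
    (fun χ hχ h0 => regProj_shift_ne_zero_of_height_zero hM hH hu hind
      (Finset.mem_filter.1 hχ).2.1 (Finset.mem_filter.1 hχ).2.2
      ((bForm_self_re_eq_zero_iff hM.1 hb _).1 h0))
    (T := (p : ℝ) ^ blockDefect p b * blockRank p b) fun t ht => le_trans
      (Finset.sum_le_sum_of_subset_of_nonneg (Finset.monotone_filter_right _ fun _ _ h => h.1)
        fun _ _ _ => bForm_self_re_nonneg hb _)
      (sum_re_cMat_self hM (hH.pow_of_not_dvd hM.1 hu ht) (orderOf_pow_pElt hM.1 hu t) hind).le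
  rw [natCard_subtype_eq]
  exact_mod_cast le_of_mul_le_mul_right h1
    (Nat.cast_pos.2 (blockRank_pos hp.out (tr_nonempty hM hind.1)))

end Bounds

theorem centralizer_zpowers_self (z : G) : centralizer ((zpowers
    (⟨z, (isCent_centralizer z).self_mem⟩ : centralizer ({z} : Set G)) : Subgroup _) :
      Set (centralizer ({z} : Set G))) = ⊤ := by
  rw [centralizer_zpowers_eq, eq_top_iff]
  exact fun x _ => mem_centralizer_singleton_iff.2 (Subtype.ext (mem_centralizer_singleton_iff.1 x.2))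

/-- Reduction along a major subsection. -/
theorem exists_major_quot [Finite G] (hM : IsPModular p M) (hB : IsPBlock M B) {D : Subgroup G}
    (hD : IsDefectGroup p M B D) {z : G} (hz : z ∈ D) (hzc : D ≤ centralizer {z}) :
    ∃ (K : Type u) (_ : Group K) (_ : Finite K) (c : Set (IrrCharacter K)) (f : D →* K),
      IsPBlock M c ∧ IsDefectGroup p M c f.range ∧ f ⟨z, hz⟩ = 1 ∧
      p ^ blockDefect p c * orderOf z = p ^ blockDefect p B ∧
      (IsCyclic f.range → Nat.card B ≤ p ^ blockDefect p B) ∧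
      Nat.card B ≤ p ^ blockDefect p B * Nat.card c ∧
      Nat.card {χ : IrrCharacter G // χ ∈ B ∧ blockHeight p B (χ : G → ℂ) = 0} ^ 2 ≤
        p ^ (2 * blockDefect p B) * Nat.card c := by
  have := Fintype.ofFinite G
  have hH := isCent_centralizer z
  set H := centralizer ({z} : Set G)
  have := Fintype.ofFinite H
  obtain ⟨e, h⟩ := exists_isMax_of_isDefectGroup hM hB hD
  obtain ⟨b, hb, hbv⟩ := h.exists_hat_below hM hz hH
  have hind := h.isInducedBlock_below hM hB hz hH hb hbv
  obtain ⟨h1, h2⟩ := h.blockDefect_below_of_central hM hB hz hH hzc hb hbv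
  have hu := h.pElt hM hz
  have hZ := centralizer_zpowers_self z
  set N := zpowers (⟨z, hH.self_mem⟩ : H) with hN
  have : N.Normal := normalizer_eq_top_iff.1 (top_le_iff.1 (hZ ▸ centralizer_le_normalizer _))
  have := Fintype.ofFinite (H ⧸ N)
  have hNp : IsPGroup p N := isPGroup_zpowers_of_orderOf (by simpa using hu)
  obtain ⟨h3, h4, h5, h6⟩ := isDefectGroup_preimage_of_central hM hb hNp hZ h1
  have h7 : ((QuotientGroup.mk' N).comp (inclusion hzc)).range =
      (D.subgroupOf H).map (QuotientGroup.mk' N) := by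
    rw [MonoidHom.range_comp, inclusion_range]
  have h8 := blockRank_le_card (p := p) (inflIrr N ⁻¹' b)
  refine ⟨H ⧸ N, inferInstance, inferInstance, inflIrr N ⁻¹' b,
    (QuotientGroup.mk' N).comp (inclusion hzc), h3, h7 ▸ h4,
    (QuotientGroup.eq_one_iff _).2 (mem_zpowers _), ?_, fun hc => ?_, ?_, ?_⟩
  · rw [← h2, ← h5, Nat.card_zpowers, orderOf_mk]
  · exact ((rankMin_of_isCyclic hM h3 h4 (h7 ▸ hc)).of_quot hM hb hNp hZ).card_le hM hH hu hind h2
  · have h9 := card_mul_le_of_min hM hH hu hind h2 zero_le_one fun θ hθ => one_le_bForm_self hM hb hθ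
    rw [mul_one, ← h6] at h9
    exact le_trans (by exact_mod_cast h9) (Nat.mul_le_mul_left _ h8)
  · exact (card_height_zero_sq_le hM hH hu hind).trans (h2 ▸ h6 ▸ Nat.mul_le_mul_left _ h8)

theorem isCyclic_range_of_closure_pair {D K : Type*} [Group D] [Group K] (f : D →* K) {u v : D}
    (h : closure {u, v} = ⊤) (hu : f u = 1) : IsCyclic f.range := by
  have h1 : f.range ≤ zpowers (f v) := by
    rw [MonoidHom.range_eq_map, ← h, MonoidHom.map_closure, closure_le, Set.image_pair, hu]
    exact Set.pair_subset (one_mem _) (mem_zpowers _)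
  exact isCyclic_of_injective (inclusion h1) (inclusion_injective h1)

/-- Brauer: `k(B) ≤ |D|` if `D` is abelian of rank at most two. -/
theorem card_le_of_closure_pair [Finite G] (hM : IsPModular p M) (hB : IsPBlock M B)
    {D : Subgroup G} (hD : IsDefectGroup p M B D) {u v : D} (hu : D ≤ centralizer {(u : G)})
    (h : closure {u, v} = ⊤) : Nat.card B ≤ p ^ blockDefect p B := by
  obtain ⟨K, _, _, c, f, -, -, h1, -, h2, -⟩ := exists_major_quot hM hB hD u.2 hu
  exact h2 (isCyclic_range_of_closure_pair f h h1)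

theorem exists_central_ne_one [Finite G] (hM : IsPModular p M) (hB : IsPBlock M B)
    {D : Subgroup G} (hD : IsDefectGroup p M B D) (h0 : blockDefect p B ≠ 0) :
    ∃ z ∈ D, D ≤ centralizer {z} ∧ p ∣ orderOf z := by
  have hDp := tr_isPGroup_of_isDefectGroup hD
  have hD1 : Nontrivial D := by
    rw [← Finite.one_lt_card_iff_nontrivial, card_defectGroup hM hB hD]
    exact Nat.one_lt_pow h0 hM.1.one_lt
  have hZ := hDp.center_nontrivial
  obtain ⟨k, hk0, hk⟩ := (hDp.to_subgroup (center D)).nontrivial_iff_card.1 hZ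
  obtain ⟨z, hz⟩ := exists_prime_orderOf_dvd_card' (G := center D) p
    (hk ▸ dvd_pow_self p hk0.ne')
  rw [← orderOf_coe, ← orderOf_coe] at hz
  exact ⟨z, z.1.2, fun x hx => mem_centralizer_singleton_iff.2
    (congrArg Subtype.val (mem_center_iff.1 z.2 ⟨x, hx⟩)), hz ▸ dvd_rfl⟩

theorem lt_of_pow_mul_eq {a b n : ℕ} (h : p ^ a * n = p ^ b) (hn : p ∣ n) : a < b := by
  obtain ⟨m, rfl⟩ := hn
  exact (Nat.pow_dvd_pow_iff_le_right hp.out.one_lt).1 ⟨m, by rw [← h, pow_succ, mul_assoc]⟩

theorem isCyclic_of_blockDefect_le_one [Finite G] (hM : IsPModular p M) (hB : IsPBlock M B)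
    {D : Subgroup G} (hD : IsDefectGroup p M B D) (h : blockDefect p B ≤ 1) : IsCyclic D :=
  isCyclic_of_card_dvd_prime (p := p)
    (by rw [card_defectGroup hM hB hD]; simpa using pow_dvd_pow p h)

theorem card_le_pow_of_defect_le_two [Finite G] (hM : IsPModular p M) (hB : IsPBlock M B)
    (hd : blockDefect p B ≤ 2) : Nat.card B ≤ p ^ blockDefect p B := by
  by_cases h0 : blockDefect p B = 0
  · rw [(blockDefect_eq_zero_iff_card hM hB).1 h0, h0, pow_zero]
  obtain ⟨D, hD⟩ := exists_isDefectGroup hM hB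
  obtain ⟨z, hz, hzc, hzp⟩ := exists_central_ne_one hM hB hD h0
  obtain ⟨K, _, _, c, f, hc, h1, -, h2, h3, -⟩ := exists_major_quot hM hB hD hz hzc
  have := lt_of_pow_mul_eq h2 hzp
  exact h3 (isCyclic_of_blockDefect_le_one hM hc h1 (by omega))

theorem card_le_pow_of_three_le_defect (hM : IsPModular p M) (d : ℕ) :
    ∀ (G : Type u) [Group G] [Finite G] (B : Set (IrrCharacter G)), IsPBlock M B →
      blockDefect p B = d → 3 ≤ d → Nat.card B ≤ p ^ (2 * d - 2) := by
  induction d using Nat.strong_induction_on with | _ d ih =>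
  intro G _ _ B hB hd h3
  by_cases hh : ∀ χ ∈ B, blockHeight p B (χ : G → ℂ) = 0
  swap
  · push Not at hh
    obtain ⟨χ, hχ, h0⟩ := hh
    have := two_mul_card_le_of_pos_height hM hB hχ h0
    rw [hd] at this
    omega
  obtain ⟨D, hD⟩ := exists_isDefectGroup hM hB
  obtain ⟨z, hz, hzc, hzp⟩ := exists_central_ne_one hM hB hD (by omega)
  obtain ⟨K, _, _, c, f, hc, -, -, h2, -, -, h4⟩ := exists_major_quot hM hB hD hz hzc
  have h5 := lt_of_pow_mul_eq h2 hzp
  have h6 : Nat.card c ≤ p ^ (2 * d - 4) := by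
    by_cases h6 : blockDefect p c ≤ 2
    · exact (card_le_pow_of_defect_le_two hM hc h6).trans (Nat.pow_le_pow_right hp.out.pos (by omega))
    · exact (ih _ (hd ▸ h5) K c hc rfl (by omega)).trans (Nat.pow_le_pow_right hp.out.pos (by omega))
  rw [Nat.card_congr (Equiv.subtypeEquivRight (q := (· ∈ B)) fun χ => and_iff_left_of_imp (hh χ)),
    hd] at h4
  refine (Nat.pow_le_pow_iff_left two_ne_zero).1 (h4.trans ((Nat.mul_le_mul_left _ h6).trans ?_))
  rw [← pow_add, ← pow_mul]
  exact Nat.pow_le_pow_right hp.out.pos (by omega)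

end CL.Blk
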