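/-
Interface of the project on blocks of `p`-solvable groups with abelian defect groups: the extension theorem for
the Glauberman correspondent.
-/
import Cfsg.Agent.Char.McK2

set_option autoImplicit false

open Cfsg

namespace CL.DG

universe u

/-- The extension theorem of Dade: let `K` be a normal `p'`-subgroup of `G`, `P` an abelian `p`-subgroup with
`G = K N_G(P)`, and `χ` a character of `G` whose restriction `θ` to `K` is irreducible. Then the Glauberman
correspondent `η` of `θ` in `C = C_K(P)` extends to `N_G(P)`. -/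
def Ext (p : ℕ) : Prop :=
  ∀ (G : Type u) [Group G] [Finite G] (K P C : Subgroup G) [K.Normal] (hCK : C ≤ K)
    (hCN : C ≤ Subgroup.normalizer (P : Set G)),
    ¬ p ∣ Nat.card K → IsPGroup p P → (∀ x ∈ P, ∀ y ∈ P, x * y = y * x) →
    C = K ⊓ Subgroup.centralizer (P : Set G) → K ⊔ Subgroup.normalizer (P : Set G) = ⊤ →
    ∀ χ : G → ℂ, IsCharacter G χ → IsIrrCharacter K (fun k : K => χ k) →
    ∀ η : C → ℂ, IsIrrCharacter C η → CL.Char.GlRel p (Subgroup.inclusion hCK) (fun k : K => χ k) η →
    ∃ ψ : Subgroup.normalizer (P : Set G) → ℂ, IsCharacter _ ψ ∧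
      ∀ c : C, ψ (Subgroup.inclusion hCN c) = η c

end CL.DG
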