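/-
Perfect bijections (perfect isometries with all signs `+1`) between sets of irreducible characters: symmetry,
transitivity, the identity of a union of blocks, twisted inflation, induction, and the consequences for the
number of characters and the `p`-regular rank.
-/
import Cfsg.Agent.Blk.FongRey
import Cfsg.Agent.Blk.Orth
import Cfsg.Agent.Blk.ClassSumF
import Cfsg.Agent.Blk.PPart
import Cfsg.Agent.Char.Orth2

set_option autoImplicit false

open Cfsg Subgroup CL.Char CL.Blk
open scoped ComplexConjugate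

namespace CL.DG

variable {G H L : Type*} [Group G] [Group H] [Group L] {M : Ideal AlgInt} {p : ℕ}

/-- A perfect two-variable function, in terms of the valuation ring. -/
structure PF (p : ℕ) (M : Ideal AlgInt) (μ : G → H → ℂ) : Prop where
  l : ∀ x y, μ x y / Nat.card (centralizer ({x} : Set G)) ∈ valRing M
  r : ∀ x y, μ x y / Nat.card (centralizer ({y} : Set H)) ∈ valRing M
  s : ∀ x y, ¬ (IsPRegular p x ↔ IsPRegular p y) → μ x y = 0

theorem PF.symm {μ : G → H → ℂ} (h : PF p M μ) : PF p M (fun y x => μ x y) :=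
  ⟨fun y x => h.r x y, fun y x => h.l x y, fun y x hn => h.s x y fun hh => hn hh.symm⟩

/-- There is a perfect bijection between `c` and `B`. -/
def PB (p : ℕ) (M : Ideal AlgInt) (c : Set (IrrCharacter H)) (B : Set (IrrCharacter G)) : Prop :=
  ∃ (n : ℕ) (a : Fin n → IrrCharacter G) (b : Fin n → IrrCharacter H), Function.Injective a ∧
    Function.Injective b ∧ Set.range a = B ∧ Set.range b = c ∧
    PF p M (fun x y => ∑ j, (a j : G → ℂ) x * (b j : H → ℂ) y)

theorem pb_of_fintype {J : Type*} [Fintype J] {a : J → IrrCharacter G} {b : J → IrrCharacter H}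
    (ha : Function.Injective a) (hb : Function.Injective b)
    (h : PF p M (fun x y => ∑ j, (a j : G → ℂ) x * (b j : H → ℂ) y)) :
    PB p M (Set.range b) (Set.range a) := by
  let e := (Fintype.equivFin J).symm
  refine ⟨_, a ∘ e, b ∘ e, ha.comp e.injective, hb.comp e.injective, e.surjective.range_comp a,
    e.surjective.range_comp b, ?_⟩
  convert h using 3 with x y
  exact e.sum_comp fun j => (a j : G → ℂ) x * (b j : H → ℂ) y

theorem PB.symm {c : Set (IrrCharacter H)} {B : Set (IrrCharacter G)} (h : PB p M c B) : PB p M B c := by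
  obtain ⟨n, a, b, ha, hb, rfl, rfl, h⟩ := h
  refine ⟨n, b, a, hb, ha, rfl, rfl, ?_⟩
  convert h.symm using 4 with y x j
  rw [mul_comm]

/-- The average of a class function whose values are divisible by the centralizer orders. -/
theorem avg_mem [Fintype H] {f : H → ℂ} (hf : IsClassFunction H f)
    (h : ∀ y, f y / Nat.card (centralizer ({y} : Set H)) ∈ valRing M) :
    (Nat.card H : ℂ)⁻¹ * ∑ y, f y ∈ valRing M := by
  classical
  have := Fintype.ofFinite (ConjClasses H)
  rw [sum_classFunction hf, Finset.mul_sum]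
  refine sum_mem fun K _ => ?_
  convert h K.out using 1
  have h1 : (Nat.card (centralizer ({K.out} : Set H)) : ℂ) ≠ 0 := natCard_ne_zero
  have h2 : ((centralizer ({K.out} : Set H)).index : ℂ) ≠ 0 := Nat.cast_ne_zero.2 index_ne_zero_of_finite
  rw [← card_mul_index (centralizer ({K.out} : Set H)), Nat.cast_mul]
  field_simp

theorem card_cent_inv (y : H) :
    Nat.card (centralizer ({y⁻¹} : Set H)) = Nat.card (centralizer ({y} : Set H)) := by
  congr 3
  ext z
  simp only [mem_centralizer_singleton_iff]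
  exact ⟨fun h => by simpa using (Commute.inv_right h : Commute z y⁻¹⁻¹).eq,
    fun h => (Commute.inv_right h : Commute z y⁻¹)⟩

theorem isPRegular_inv (y : H) : IsPRegular p y⁻¹ ↔ IsPRegular p y := by
  rw [IsPRegular, IsPRegular, orderOf_inv]

theorem PF.comp [Fintype H] {μ : G → H → ℂ} {ν : H → L → ℂ} (h : PF p M μ) (h' : PF p M ν)
    (hμ : ∀ x, IsClassFunction H (μ x)) (hν : ∀ z, IsClassFunction H fun y => ν y z) :
    PF p M (fun x z => (Nat.card H : ℂ)⁻¹ * ∑ y, μ x y * ν y⁻¹ z) := by
  have hc : ∀ x z (c : ℂ), IsClassFunction H fun y => μ x y * ν y⁻¹ z / c := fun x z c y g => by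
    have h1 := hν z y⁻¹ g
    simp only at h1
    simp only [hμ x y g, show (g * y * g⁻¹)⁻¹ = g * y⁻¹ * g⁻¹ by group, h1]
  refine ⟨fun x z => ?_, fun x z => ?_, fun x z hn => ?_⟩
  · rw [mul_div_assoc, Finset.sum_div]
    refine avg_mem (hc x z _) fun y => ?_
    have := mul_mem (h.l x y) (h'.l y⁻¹ z)
    rw [card_cent_inv] at this
    convert this using 1
    ring
  · rw [mul_div_assoc, Finset.sum_div]
    refine avg_mem (hc x z _) fun y => ?_
    convert mul_mem (h.r x y) (h'.r y⁻¹ z) using 1
    ring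
  · rw [Finset.sum_eq_zero, mul_zero]
    intro y _
    by_cases hy : IsPRegular p x ↔ IsPRegular p y
    · rw [h'.s y⁻¹ z (by rw [isPRegular_inv, ← hy]; exact hn), mul_zero]
    · rw [h.s x y hy, zero_mul]

theorem avg_irr [Fintype H] (χ ψ : IrrCharacter H) [Decidable (χ = ψ)] :
    (Nat.card H : ℂ)⁻¹ * ∑ y, (χ : H → ℂ) y * (ψ : H → ℂ) y⁻¹ = if χ = ψ then 1 else 0 := by
  have := classInner_irr χ ψ
  rw [classInner_def] at this
  simp only [irr_conj] at this
  rw [this]
  congr

/-- Applying the kernel to a combination of the characters on the right. -/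
theorem avg_kernel [Fintype H] {J : Type*} [Fintype J] (u : J → ℂ) {b : J → IrrCharacter H}
    (hb : Function.Injective b) (v : J → ℂ) :
    (Nat.card H : ℂ)⁻¹ * ∑ y, (∑ j, u j * (b j : H → ℂ) y) * (∑ j, (b j : H → ℂ) y⁻¹ * v j) =
      ∑ j, u j * v j := by
  classical
  have e : ∀ y, (∑ j, u j * (b j : H → ℂ) y) * (∑ j, (b j : H → ℂ) y⁻¹ * v j) =
      ∑ i, ∑ j, u i * v j * ((b i : H → ℂ) y * (b j : H → ℂ) y⁻¹) := fun y => by
    rw [Finset.sum_mul_sum]
    exact Finset.sum_congr rfl fun i _ => Finset.sum_congr rfl fun j _ => by ring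
  simp only [e]
  rw [Finset.sum_comm, Finset.mul_sum]
  refine Finset.sum_congr rfl fun i _ => ?_
  rw [Finset.sum_comm, Finset.mul_sum, Finset.sum_eq_single i]
  · rw [← Finset.mul_sum, mul_left_comm, avg_irr, if_pos rfl, mul_one]
  · intro j _ hj
    rw [← Finset.mul_sum, mul_left_comm, avg_irr, if_neg (fun h => hj (hb h).symm), mul_zero]
  · exact fun h => absurd (Finset.mem_univ _) h

theorem isClassFunction_kernel {J : Type*} [Fintype J] (u : J → ℂ) (b : J → IrrCharacter H) :
    IsClassFunction H fun y => ∑ j, u j * (b j : H → ℂ) y := fun y g =>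
  Finset.sum_congr rfl fun j _ => by rw [(b j).2.isClassFunction y g]

theorem PB.trans [Finite H] {d : Set (IrrCharacter L)} {c : Set (IrrCharacter H)}
    {B : Set (IrrCharacter G)} (h' : PB p M d c) (h : PB p M c B) : PB p M d B := by
  have := Fintype.ofFinite H
  obtain ⟨n, a, b, ha, hb, rfl, rfl, h⟩ := h
  obtain ⟨n', b', a', hb', ha', hr, rfl, h'⟩ := h'
  let e : Fin n ≃ Fin n' :=
    ((Equiv.ofInjective b hb).trans (Equiv.setCongr hr.symm)).trans (Equiv.ofInjective b' hb').symm
  have he : ∀ j, b' (e j) = b j := fun j => Equiv.apply_ofInjective_symm hb' _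
  rw [← e.surjective.range_comp a']
  refine ⟨n, a, a' ∘ e, ha, ha'.comp e.injective, rfl, rfl, ?_⟩
  have := h.comp h' (fun x => isClassFunction_kernel _ b) fun z => by
    simpa only [mul_comm] using isClassFunction_kernel (fun j => (a' j : L → ℂ) z) b'
  convert this using 3 with x z
  simp only [Function.comp_apply]
  rw [← avg_kernel (fun j => (a j : G → ℂ) x) hb fun j => (a' (e j) : L → ℂ) z]
  congr 1
  refine Finset.sum_congr rfl fun y _ => ?_
  rw [← e.sum_comp fun j => (b' j : H → ℂ) y⁻¹ * (a' j : L → ℂ) z]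
  simp only [he]

/-- The kernel of the identity of a union of blocks is perfect. -/
theorem pf_self [Finite G] (hM : IsPModular p M) {U : Set (IrrCharacter G)} (hU : blockIdem U ∈ OG M G)
    {J : Type*} [Fintype J] {a : J → IrrCharacter G} (ha : Function.Injective a) (hr : Set.range a = U) :
    PF p M (fun x y => ∑ j, (a j : G → ℂ) x * (a j : G → ℂ) y) := by
  classical
  have e : ∀ x y, ∑ j, (a j : G → ℂ) x * (a j : G → ℂ) y =
      ∑ χ : IrrCharacter G with χ ∈ U, (χ : G → ℂ) x * (χ : G → ℂ) y := fun x y => by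
    refine Finset.sum_nbij a (fun j _ => ?_) ha.injOn (fun χ hχ => ?_) fun _ _ => rfl
    · exact Finset.mem_filter.2 ⟨Finset.mem_univ _, hr ▸ Set.mem_range_self j⟩
    · obtain ⟨j, rfl⟩ : χ ∈ Set.range a := hr ▸ (Finset.mem_filter.1 hχ).2
      exact ⟨j, Finset.mem_univ _, rfl⟩
  have l : ∀ x y, (∑ j, (a j : G → ℂ) x * (a j : G → ℂ) y) / Nat.card (centralizer ({x} : Set G)) ∈
      valRing M := fun x y => by
    have := coeff_mem_valRing (mul_mem hU (classSum_mem_OG x)) y⁻¹
    rw [coeff_blockIdem_mul_classSum] at this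
    simp only [irr_conj, inv_inv] at this
    rw [e, div_eq_inv_mul]
    convert this
  have s : ∀ x y, IsPRegular p x → ¬ IsPRegular p y →
      ∑ j, (a j : G → ℂ) x * (a j : G → ℂ) y = 0 := fun x y hx hy => by
    obtain ⟨z, hz⟩ := exists_isPPart hM.1 y⁻¹
    have := orth_of_mem_coeffSubring' hM hU (isPPart_one hx) hz fun h1 => hy <| by
      rw [isConj_one_right] at h1
      rw [← isPRegular_inv]
      exact isPPart_one_iff.1 (h1 ▸ hz)
    rw [e]
    simpa only [inv_inv] using this
  refine ⟨l, fun x y => by simpa only [mul_comm] using l y x, fun x y hn => ?_⟩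
  by_cases hx : IsPRegular p x
  · exact s x y hx fun hy => hn ⟨fun _ => hy, fun _ => hx⟩
  · simpa only [mul_comm] using s y x (by by_contra hy; exact hn ⟨fun h => absurd h hx, fun h => absurd h hy⟩) hx

theorem isPRegular_map [Finite L] (hp : p.Prime) (α : L →* G) (hα : ¬ p ∣ Nat.card α.ker) (x : L) :
    IsPRegular p (α x) ↔ IsPRegular p x := by
  refine ⟨fun h h' => ?_, fun h h' => h (h'.trans (orderOf_map_dvd α x))⟩
  have h1 : x ^ orderOf (α x) ∈ α.ker := by rw [MonoidHom.mem_ker, map_pow, pow_orderOf_eq_one]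
  have h2 : orderOf x ∣ orderOf (α x) * Nat.card α.ker := by
    rw [orderOf_dvd_iff_pow_eq_one, pow_mul]
    exact congrArg Subtype.val (pow_card_eq_one' (x := (⟨_, h1⟩ : α.ker)))
  exact ((hp.dvd_mul).1 (h'.trans h2)).elim h hα

theorem cent_div_mem [Finite L] [Finite G] (hM : IsPModular p M) (α : L →* G) (hα : ¬ p ∣ Nat.card α.ker)
    (x : L) : (Nat.card (centralizer ({α x} : Set G)) : ℂ) / Nat.card (centralizer ({x} : Set L)) ∈
      valRing M := by
  let f : centralizer ({x} : Set L) →* G := α.comp (centralizer ({x} : Set L)).subtype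
  have h1 : f.range ≤ centralizer ({α x} : Set G) := by
    rintro _ ⟨z, rfl⟩
    rw [mem_centralizer_singleton_iff]
    have := mem_centralizer_singleton_iff.1 z.2
    change α z * α x = α x * α z
    rw [← map_mul, ← map_mul, this]
  have h2 : Nat.card f.ker ∣ Nat.card α.ker := by
    rw [← card_map_of_injective (K := f.ker) (subtype_injective _)]
    exact card_dvd_of_le (by rintro _ ⟨z, hz, rfl⟩; exact hz)
  have h3 : Nat.card (centralizer ({x} : Set L)) = Nat.card f.ker * Nat.card f.range := by
    rw [← card_mul_index f.ker, index_ker]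
  obtain ⟨k, hk⟩ := card_dvd_of_le h1
  have h4 : (Nat.card f.range : ℂ) ≠ 0 := natCard_ne_zero
  have h5 : (Nat.card f.ker : ℂ) ≠ 0 := natCard_ne_zero
  convert mul_mem (natCast_mem (valRing M) k) (inv_natCast_mem_valRing hM fun h => hα (h.trans h2)) using 1
  rw [h3, hk]
  push_cast
  field_simp

/-- Twisted inflation along a homomorphism with `p'`-kernel is perfect. -/
theorem pb_twist [Finite L] [Finite G] (hM : IsPModular p M) (α : L →* G) (hα : ¬ p ∣ Nat.card α.ker)
    {e : L → ℂ} (he : ∀ x, e x ∈ valRing M) {U : Set (IrrCharacter G)} (hU : blockIdem U ∈ OG M G)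
    {V : Set (IrrCharacter L)} (h1 : ∀ β ∈ U, ∃ ψ ∈ V, ∀ x, (ψ : L → ℂ) x = (β : G → ℂ) (α x) * e x)
    (h2 : ∀ ψ ∈ V, ∃ β ∈ U, ∀ x, (ψ : L → ℂ) x = (β : G → ℂ) (α x) * e x)
    (h3 : ∀ β ∈ U, ∀ β' ∈ U, (∀ x, (β : G → ℂ) (α x) * e x = (β' : G → ℂ) (α x) * e x) → β = β') :
    PB p M U V := by
  have := Fintype.ofFinite U
  choose I hI hI' using h1
  have hs := pf_self hM hU (J := U) Subtype.val_injective Subtype.range_coe
  have hr : Set.range (fun β : U => I β β.2) = V := by
    refine Set.Subset.antisymm (by rintro _ ⟨β, rfl⟩; exact hI _ _) fun ψ hψ => ?_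
    obtain ⟨β, hβ, h⟩ := h2 ψ hψ
    exact ⟨⟨β, hβ⟩, Subtype.ext (funext fun x => (hI' β hβ x).trans (h x).symm)⟩
  have := pb_of_fintype (p := p) (M := M) (a := fun β : U => I β β.2) (b := Subtype.val)
    (fun β β' h => Subtype.ext (h3 β β.2 β' β'.2 fun x => by
      rw [← hI' _ β.2, ← hI' _ β'.2]; exact congrFun (congrArg Subtype.val h) x))
    Subtype.val_injective (by
      have e' : ∀ x y, ∑ β : U, (I β β.2 : L → ℂ) x * ((β : IrrCharacter G) : G → ℂ) y =
          e x * ∑ β : U, ((β : IrrCharacter G) : G → ℂ) (α x) * ((β : IrrCharacter G) : G → ℂ) y :=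
        fun x y => by
          rw [Finset.mul_sum]
          exact Finset.sum_congr rfl fun β _ => by rw [hI']; ring
      simp only [e']
      refine ⟨fun x y => ?_, fun x y => ?_, fun x y hn => ?_⟩
      · convert mul_mem (mul_mem (he x) (hs.l (α x) y)) (cent_div_mem hM α hα x) using 1
        have : (Nat.card (centralizer ({α x} : Set G)) : ℂ) ≠ 0 := natCard_ne_zero
        field_simp
      · rw [mul_div_assoc]
        exact mul_mem (he x) (hs.r (α x) y)
      · rw [hs.s (α x) y (by rwa [isPRegular_map hM.1 α hα]), mul_zero])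
  rwa [hr, Subtype.range_coe] at this

/-- Induction is perfect. -/
theorem pb_ind [Fintype G] (hM : IsPModular p M) {T : Subgroup G} {A : Set (IrrCharacter T)}
    (hA : blockIdem A ∈ OG M T) (h : ∀ ψ ∈ A, IsIrrCharacter G (indFun T (ψ : T → ℂ)))
    (hinj : Set.InjOn (indIrr T) A) : PB p M A (indIrr T '' A) := by
  have := Fintype.ofFinite A
  have := Fintype.ofFinite T
  have hs := pf_self hM hA (J := A) Subtype.val_injective Subtype.range_coe
  have := pb_of_fintype (p := p) (M := M) (a := fun ψ : A => indIrr T ψ) (b := Subtype.val)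
    (fun ψ ψ' h => Subtype.ext (hinj ψ.2 ψ'.2 h)) Subtype.val_injective (by
      have e' : ∀ x y, ∑ ψ : A, (indIrr T ψ : G → ℂ) x * ((ψ : IrrCharacter T) : T → ℂ) y =
          indFun T (fun t => ∑ ψ : A, ((ψ : IrrCharacter T) : T → ℂ) t * ((ψ : IrrCharacter T) : T → ℂ) y)
            x := fun x y => by
        have : (fun t => ∑ ψ : A, ((ψ : IrrCharacter T) : T → ℂ) t * ((ψ : IrrCharacter T) : T → ℂ) y) =
            ∑ ψ : A, ((ψ : IrrCharacter T) : T → ℂ) y • ((ψ : IrrCharacter T) : T → ℂ) := by
          ext t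
          simp only [Finset.sum_apply, Pi.smul_apply, smul_eq_mul, mul_comm]
        rw [this, indFun_sum, Finset.sum_apply]
        refine Finset.sum_congr rfl fun ψ _ => ?_
        rw [indFun_smul, coe_indIrr (h _ ψ.2), Pi.smul_apply, smul_eq_mul, mul_comm]
      have hc : ∀ y, IsClassFunction T
          fun t => ∑ ψ : A, ((ψ : IrrCharacter T) : T → ℂ) t * ((ψ : IrrCharacter T) : T → ℂ) y :=
        fun y => by
          simpa only [mul_comm] using
            isClassFunction_kernel (fun ψ : A => ((ψ : IrrCharacter T) : T → ℂ) y) Subtype.val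
      simp only [e']
      refine ⟨fun x y => ?_, fun x y => ?_, fun x y hn => ?_⟩
      · rw [← classInner_classInd_right x (indFun_isClassFunction _),
          frobenius_reciprocity _ (isClassFunction_classInd x), classInner_def]
        refine avg_mem ((hc y).mul ((isClassFunction_classInd x).restrict T).conj) fun t => ?_
        by_cases ht : IsConj x t
        · rw [classInd_of_isConj ht, map_one, mul_one]
          exact hs.l t y
        · rw [classInd_of_not_isConj ht, map_zero, mul_zero, zero_div]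
          exact zero_mem _
      · rw [div_eq_inv_mul, ← indFun_const_mul]
        exact indFun_mem_valRing ((hc y).smul _) (fun t => by
          rw [Pi.smul_apply, smul_eq_mul, ← div_eq_inv_mul]; exact hs.r t y) x
      · refine indFun_eq_zero_of_conj _ fun g hg => hs.s _ y ?_
        have : IsPRegular p (⟨g⁻¹ * x * g, hg⟩ : T) ↔ IsPRegular p x := by
          rw [IsPRegular, IsPRegular, ← orderOf_coe]
          rw [show orderOf (g⁻¹ * x * g) = orderOf x from
            (SemiconjBy.orderOf_eq g⁻¹ (by simp [SemiconjBy, mul_assoc] : SemiconjBy g⁻¹ x (g⁻¹ * x * g))).symm]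
        rwa [this])
  rwa [Subtype.range_coe, ← Set.image_eq_range] at this

/-- Transport along an isomorphism. -/
theorem pb_equiv [Finite G] (hM : IsPModular p M) (e : L ≃* G) {U : Set (IrrCharacter G)}
    (hU : blockIdem U ∈ OG M G) : PB p M U (irrEquiv e '' U) := by
  have : Finite L := Finite.of_equiv G e.symm.toEquiv
  refine pb_twist hM (e : L →* G) (e := fun _ => 1) ?_ (fun _ => one_mem _) hU
    (fun β hβ => ⟨_, ⟨β, hβ, rfl⟩, fun x => by rw [mul_one]; rfl⟩)
    (by rintro _ ⟨β, hβ, rfl⟩; exact ⟨β, hβ, fun x => by rw [mul_one]; rfl⟩) fun β _ β' _ h => ?_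
  · rw [(MonoidHom.ker_eq_bot_iff _).2 e.injective, card_bot]
    exact hM.1.not_dvd_one
  · refine Subtype.ext (funext fun g => ?_)
    simpa using h (e.symm g)

theorem PB.card_eq {c : Set (IrrCharacter H)} {B : Set (IrrCharacter G)} (h : PB p M c B) :
    Nat.card c = Nat.card B := by
  obtain ⟨n, a, b, ha, hb, rfl, rfl, -⟩ := h
  rw [← Nat.card_congr (Equiv.ofInjective a ha), ← Nat.card_congr (Equiv.ofInjective b hb)]

theorem ker_le [Finite H] {n : ℕ} {a : Fin n → IrrCharacter G} {b : Fin n → IrrCharacter H}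
    (hb : Function.Injective b) (h : PF p M (fun x y => ∑ j, (a j : G → ℂ) x * (b j : H → ℂ) y)) :
    LinearMap.ker (Fintype.linearCombination ℂ fun j => pRegularPart p (b j : H → ℂ)) ≤
      LinearMap.ker (Fintype.linearCombination ℂ fun j => pRegularPart p (a j : G → ℂ)) := by
  have := Fintype.ofFinite H
  intro v hv
  rw [LinearMap.mem_ker, Fintype.linearCombination_apply] at hv ⊢
  ext x
  simp only [Finset.sum_apply, Pi.smul_apply, smul_eq_mul, pRegularPart, Pi.zero_apply]
  by_cases hx : IsPRegular p x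
  · simp only [if_pos hx]
    rw [Finset.sum_congr rfl fun j _ => mul_comm _ _, ← avg_kernel (fun j => (a j : G → ℂ) x) hb v,
      Finset.sum_eq_zero, mul_zero]
    intro y _
    by_cases hy : IsPRegular p y
    · have := congrFun hv y⁻¹
      simp only [Finset.sum_apply, Pi.smul_apply, smul_eq_mul, pRegularPart, Pi.zero_apply,
        if_pos ((isPRegular_inv y).2 hy)] at this
      rw [Finset.sum_congr rfl fun j _ => mul_comm ((b j : H → ℂ) y⁻¹) _, this, mul_zero]
    · rw [h.s x y fun hh => hy (hh.1 hx), zero_mul]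
  · simp only [if_neg hx, mul_zero, Finset.sum_const_zero]

theorem PB.blockRank_eq [Finite G] [Finite H] {c : Set (IrrCharacter H)} {B : Set (IrrCharacter G)}
    (h : PB p M c B) : blockRank p c = blockRank p B := by
  obtain ⟨n, a, b, ha, hb, rfl, rfl, h⟩ := h
  have h1 := ker_le hb h
  have h2 := ker_le ha (by simpa only [mul_comm] using h.symm)
  have h3 := LinearMap.finrank_range_add_finrank_ker
    (Fintype.linearCombination ℂ fun j => pRegularPart p (b j : H → ℂ))
  have h4 := LinearMap.finrank_range_add_finrank_ker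
    (Fintype.linearCombination ℂ fun j => pRegularPart p (a j : G → ℂ))
  rw [le_antisymm h1 h2, ← h4, add_left_inj, Fintype.range_linearCombination,
    Fintype.range_linearCombination] at h3
  rw [blockRank, blockRank, ← Set.range_comp, ← Set.range_comp]
  exact h3

theorem PB.exists_isPerfectIsometry [Finite G] [Finite H] (hM : IsPModular p M) {c : Set (IrrCharacter H)}
    {B : Set (IrrCharacter G)} (h : PB p M c B) : ∃ I ε, IsPerfectIsometry p M c B I ε := by
  obtain ⟨n, a, b, ha, hb, rfl, rfl, h⟩ := h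
  let I : IrrCharacter H → IrrCharacter G := Function.extend b a fun _ => irrOne G
  have hI : ∀ j, I (b j) = a j := fun j => hb.extend_apply _ _ j
  refine ⟨I, fun _ => 1, ⟨?_, ?_, ?_⟩, fun _ _ => Or.inl rfl, fun x y => ?_⟩
  · rintro _ ⟨j, rfl⟩
    exact ⟨j, (hI j).symm⟩
  · rintro _ ⟨i, rfl⟩ _ ⟨j, rfl⟩ hij
    rw [hI, hI] at hij
    rw [ha hij]
  · rintro _ ⟨j, rfl⟩
    exact ⟨b j, ⟨j, rfl⟩, hI j⟩
  have e : signedBijectionKernel (Set.range b) I (fun _ => 1) x y =
      ∑ j, (a j : G → ℂ) x * (b j : H → ℂ) y := by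
    rw [signedBijectionKernel, finsum_mem_range hb, finsum_eq_sum_of_fintype]
    exact Finset.sum_congr rfl fun j _ => by rw [hI, Int.cast_one, one_mul]
  have halg : IsAlgebraic ℚ (∑ j, (a j : G → ℂ) x * (b j : H → ℂ) y) :=
    isAlgebraic_sum _ _ fun j _ => (isAlgebraic_irr _ _).mul (isAlgebraic_irr _ _)
  rw [e]
  refine ⟨(memLocalRing_iff hM (isAlgebraic_div halg (isAlgebraic_natCast _))).2 (h.l x y),
    (memLocalRing_iff hM (isAlgebraic_div halg (isAlgebraic_natCast _))).2 (h.r x y), ?_⟩
  by_cases hn : IsPRegular p x ↔ IsPRegular p y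
  · exact Or.inl hn
  · exact Or.inr (h.s x y hn)

end CL.DG
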