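/-
Perfect bijections from character triples: the characters over an invariant character of a normal `p'`-subgroup
and the characters of the normalizer of an abelian `p`-subgroup over the Glauberman correspondent.
-/
import Cfsg.Agent.Blk.DGP1
import Cfsg.Agent.Blk.DGDefs
import Cfsg.Agent.Blk.FongP
import Cfsg.Agent.Char.McK3

set_option autoImplicit false

open Cfsg Subgroup CL.Char CL.Blk
open scoped ComplexConjugate

namespace CL.DG

universe u

variable {M : Ideal AlgInt} {p : ℕ}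

/-- The irreducible characters over `θ` along `k`. -/
def ovS {K X : Type*} [Group K] [Group X] (k : K →* X) (θ : K → ℂ) : Set (IrrCharacter X) :=
  {χ | Ovr k θ χ}

theorem ovS_mem_OG {K X : Type*} [Group K] [Group X] [Finite X] (hM : IsPModular p M) {k : K →* X}
    {c : X →* MulAut K} (h : NEmb k c) (hK : ¬ p ∣ Nat.card K) {θ : K → ℂ} (hθ : IsIrrCharacter K θ) :
    blockIdem (ovS k θ) ∈ OG M X := by
  have := h.normal
  have := h.finite
  have := Fintype.ofFinite k.range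
  have h1 := blockIdem_overSet_mem_OG hM (blockIdem_mem_OG_of_not_dvd_card hM (h.card_range ▸ hK)
    ({⟨h.tr θ, h.tr_irr hθ⟩} : Set (IrrCharacter k.range)))
  convert h1 using 2
  ext χ
  rw [mem_overSet_singleton, over_iff]
  exact h.ovr_tr (i := k.range.subtype) fun _ => rfl

theorem pb_cover {Γ X Y L Z : Type*} [Group Γ] [Group X] [Group Y] [Group L] [Group Z] [Finite Γ]
    (hM : IsPModular p M) (π : Γ →* X) (hπ : Function.Surjective π) (hπp : ¬ p ∣ Nat.card π.ker)
    (ι : L →* Γ) (hι : Function.Injective ι) (q : Γ →* Y) (hq : Function.Surjective q)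
    (hk : q.ker = ι.range) (hL : ¬ p ∣ Nat.card L) {ε : Γ → ℂ} (hε : IsCharacter Γ ε) {ν : L → ℂ}
    (hν : IsIrrCharacter L ν) (he : ∀ a, ε (ι a) = ν a) (z : Z →* Γ) (hz : z.range = π.ker)
    (hc : z.range ≤ center Γ) (hzi : Function.Injective (q.comp z)) (lam : Z →* ℂˣ)
    (hl : ∀ a x, ε (z a * x) = lam a * ε x) {i : L →* X} (hi : ∀ a, π (ι a) = i a) {c : X →* MulAut L}
    (hic : NEmb i c) : PB p M (ovS (q.comp z) fun a => (lam⁻¹ a : ℂ)) (ovS i ν) := by
  have : Finite X := Finite.of_surjective π hπ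
  have : Finite Y := Finite.of_surjective q hq
  have : Finite L := Finite.of_injective ι hι
  have := Fintype.ofFinite L
  have := Fintype.ofFinite Γ
  have hn : ι.range.Normal := hk ▸ q.normal_ker
  have h1 : IsIrrCharacter L fun a => ε (ι a) := funext he ▸ hν
  have h2 := isIrrCharacter_range_of_comp ι hι h1
  have h3 : (q.comp z).range ≤ center Y := by
    rintro _ ⟨a, rfl⟩
    refine mem_center_iff.2 fun y => ?_
    obtain ⟨x, rfl⟩ := hq y
    rw [MonoidHom.comp_apply, ← map_mul, ← map_mul, mem_center_iff.1 (hc ⟨a, rfl⟩)]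
  have h4 := fun β (hβ : IsIrrCharacter Y β) => ovr_central_iff hzi h3 (isIrrCharacter_linear lam⁻¹) hβ
  have hε1 : ε 1 = ν 1 := by rw [← he, map_one]
  have hZ : ¬ p ∣ Nat.card Z := by
    rw [Nat.card_congr (MonoidHom.ofInjective (f := z) (Function.Injective.of_comp hzi)).toEquiv, hz]
    exact hπp
  let V : Set (IrrCharacter Γ) := {ψ | ∃ χ ∈ ovS i ν, ∀ x, (ψ : Γ → ℂ) x = (χ : X → ℂ) (π x) * 1}
  have p1 : PB p M (ovS i ν) V := pb_twist hM π hπp (e := fun _ => 1) (fun _ => one_mem _)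
    (ovS_mem_OG hM hic hL hν)
    (fun χ hχ => ⟨⟨_, χ.2.comp_of_surjective π hπ⟩, ⟨χ, hχ, fun _ => (mul_one _).symm⟩,
      fun _ => (mul_one _).symm⟩) (fun _ h => h) fun χ _ χ' _ h => Subtype.ext (funext fun g => by
        obtain ⟨x, rfl⟩ := hπ g
        simpa using h x)
  refine PB.trans ?_ p1.symm
  refine pb_twist hM q (e := ε) ?_ (fun x => char_mem_valRing M hε x)
    (ovS_mem_OG hM (nemb_central hzi h3) hZ (isIrrCharacter_linear lam⁻¹)) ?_ ?_ fun β _ β' _ h => ?_
  · rw [hk, ← Nat.card_congr (MonoidHom.ofInjective hι).toEquiv]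
    exact hL
  · rintro ⟨β, hβ⟩ hβo
    have h5 := gallagher_irr hε h2 (hβ.comp_of_surjective q hq) (hk ▸ ker_le_charKer_comp β q)
    obtain ⟨χ, hχ, h6⟩ := h5.exists_comp_eq π hπ (by
      rw [← hz]
      rintro _ ⟨a, rfl⟩ x
      have h6 := (h4 β hβ).1 hβo a
      simp only [Pi.mul_apply, map_mul, hl]
      erw [apply_mul_of_mem_charCenter hβ.one_ne_zero (hβ.center_le_charCenter (h3 ⟨a, rfl⟩)), h6]
      simp
      field_simp)
    refine ⟨⟨_, h5⟩, ⟨⟨χ, hχ⟩, ?_, fun x => (congrFun h6 x).trans (mul_one _).symm⟩, fun _ => rfl⟩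
    change Ovr i ν χ
    rw [ovr_iff, show (fun a => χ (i a)) = β 1 • ν from funext fun a => by
      rw [← hi, ← congrFun h6 (ι a), Pi.mul_apply, MonoidHom.mem_ker.1 (hk.ge ⟨a, rfl⟩), he]; rfl,
      classInner_smul_left, hν.classInner_self, mul_one]
    exact hβ.one_ne_zero
  · rintro ψ ⟨χ, hχ, hψ⟩
    obtain ⟨β, hβ, h5, h6⟩ := gallagher_surj_hom ι hι hn hε h1 (χ.2.comp_of_surjective π hπ)
      (by simpa only [hi, he] using ovr_iff.1 hχ)
    obtain ⟨β, hβ', rfl⟩ := hβ.exists_comp_eq q hq (hk ▸ h5)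
    refine ⟨⟨β, hβ'⟩, (h4 β hβ').2 fun a => ?_, fun x => by rw [hψ, mul_one]; exact congrFun h6 x⟩
    have h7 := congrFun h6 (z a)
    have h8 := congrFun h6 1
    have h9 := hl a 1
    have h10 := hβ'.one_ne_zero
    have h11 := hν.one_ne_zero
    simp only [Pi.mul_apply, MonoidHom.mem_ker.1 (hz.le ⟨a, rfl⟩), map_one, mul_one] at h7 h8 h9
    rw [h8, h9, hε1, ← mul_assoc, mul_left_inj' h11] at h7
    have h12 := left_ne_zero_of_mul (h7 ▸ h10)
    simp only [MonoidHom.comp_apply, h7]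
    simp
    field_simp
  · have h5 := gallagher_inj hε h2 (hk ▸ ker_le_charKer_comp (β : Y → ℂ) q)
      (hk ▸ ker_le_charKer_comp (β' : Y → ℂ) q) (funext h)
    exact Subtype.ext (funext fun y => by
      obtain ⟨x, rfl⟩ := hq y
      exact congrFun h5 x)

/-- The invariant case. -/
theorem pb_inv [hp : Fact p.Prime] (hE : Ext.{u} p) (hM : IsPModular p M) {G : Type u} [Group G] [Finite G]
    {K P C : Subgroup G} [hKn : K.Normal] (hCK : C ≤ K) (hCN : C ≤ normalizer (P : Set G))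
    (hK : ¬ p ∣ Nat.card K) (hP : IsPGroup p P) (hab : ∀ x ∈ P, ∀ y ∈ P, x * y = y * x)
    (hC : C = K ⊓ centralizer (P : Set G)) (hKN : K ⊔ normalizer (P : Set G) = ⊤) {θ : IrrCharacter K}
    (hθ : IsInvSet {θ}) {η : C → ℂ} (hη : IsIrrCharacter C η)
    (r : GlRel p (inclusion hCK) (θ : K → ℂ) η) :
    PB p M (ovS (inclusion hCN) η) (ovS K.subtype (θ : K → ℂ)) := by
  obtain ⟨D⟩ := nonempty_charCover K θ.2 (isInvSet_singleton_iff.1 hθ)
  have hZ := not_dvd_card_ker_charCover hp.out hK D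
  have hZ' : (Nat.card D.π.ker).Coprime p := ((Nat.Prime.coprime_iff_not_dvd hp.out).2 hZ).symm
  obtain ⟨R, hR, hRP⟩ : ∃ R : Subgroup D.Γ, IsPGroup p R ∧ R.map D.π = P := by
    obtain ⟨R, hR⟩ := CL.Grp.exists_isSylowIn p (P.comap D.π)
    have h1 := CL.Loc.isSylowIn_map hR D.π
    rw [map_comap_eq_self_of_surjective D.π_surj] at h1
    exact ⟨R, hR.isPGroup, CL.Loc.isSylowIn_eq_of_isPGroup h1 hP⟩
  have hN : normalizer (R : Set D.Γ) = (normalizer (P : Set G)).comap D.π := by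
    rw [← hRP, ← CL.Loc.map_normalizer_eq_of_coprime_ker D.π_surj hZ' hR, comap_map_eq,
      sup_eq_left.2 (D.ker_central.trans (center_le_normalizer _))]
  have hCe : centralizer (R : Set D.Γ) = (centralizer (P : Set G)).comap D.π := by
    rw [← hRP, ← CL.Loc.map_centralizer_eq_of_coprime_ker D.π_surj hZ' hR, comap_map_eq,
      sup_eq_left.2 (D.ker_central.trans (center_le_centralizer _))]
  have hRab : ∀ x ∈ R, ∀ y ∈ R, x * y = y * x := fun x hx y hy => by
    have h1 : y ∈ centralizer (R : Set D.Γ) := by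
      rw [hCe]
      exact fun a ha => hab a ha _ (hRP ▸ mem_map_of_mem D.π hy)
    exact h1 x hx
  have hK' : ¬ p ∣ Nat.card (K.comap D.π) := by
    have h1 := card_mul_index (K.comap D.π)
    rw [D.index_comap, D.card_Γ, ← card_mul_index K, ← mul_assoc,
      mul_left_inj' index_ne_zero_of_finite] at h1
    rw [h1, hp.out.dvd_mul]
    exact fun h => h.elim hZ hK
  have hCK' : C.comap D.π ≤ K.comap D.π := comap_mono hCK
  have hCN' : C.comap D.π ≤ normalizer (R : Set D.Γ) := hN ▸ comap_mono hCN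
  have hC' : C.comap D.π = K.comap D.π ⊓ centralizer (R : Set D.Γ) := by rw [hCe, hC, comap_inf]
  have hRK : R ≤ normalizer ((K.comap D.π : Subgroup D.Γ) : Set D.Γ) := by
    rw [normalizer_eq_top]; exact le_top
  have hθ' := D.ext_res_irr (D.range_le_comap (le_refl K))
  obtain ⟨η', hη', -, r'⟩ := (mck_glCorr hp.out hR hK' hRK hC' hCK').ex _ hθ'
    ((le_istab hRK).2 fun g a => D.ext_irr.isClassFunction a g)
  obtain ⟨ψ, hψ, hψe⟩ := hE D.Γ (K.comap D.π) R (C.comap D.π) hCK' hCN' hK' hR hRab hC'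
    (by rw [hN, comap_sup_eq _ _ _ D.π_surj, hKN, comap_top]) D.ext D.ext_irr.isCharacter hθ' η' hη' r'
  have hψi : IsIrrCharacter _ ψ := isIrrCharacter_of_comp hψ (inclusion hCN') (funext hψe ▸ hη')
  have hιC : ∀ a : C, D.ι.comp (inclusion hCK) a ∈ C.comap D.π := fun a => by
    rw [mem_comap, MonoidHom.comp_apply, D.π_ι]; exact a.2
  let b : C →* C.comap D.π := (D.ι.comp (inclusion hCK)).codRestrict _ hιC
  have hb : (fun a => η' (b a)) = η := by
    have h1 := r'.comp (j' := inclusion hCK) (D.ιH (le_refl K)) b fun _ => rfl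
    have h2 : (fun g => D.ext (D.ιH (le_refl K) g : K.comap D.π)) = (θ : K → ℂ) := D.ext_comp_ι
    rw [h2] at h1
    refine h1.unique hp.out r (isIrrCharacter_comp_of_charCenter b hη' fun g => ?_) hη
    obtain ⟨z, hz⟩ := D.exists_eq_ι_mul (x := g) (hCK g.2)
    refine ⟨⟨z, D.ker_le_comap C z.2⟩, hη'.center_le_charCenter (mem_center_iff.2 fun w =>
      Subtype.ext (D.ker_comm z w)), ⟨D.π g, g.2⟩, Subtype.ext ?_⟩
    exact hz.trans (D.ker_comm z _)
  set q := QuotientGroup.mk' D.ι.range with hq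
  have hqs : Function.Surjective q := QuotientGroup.mk'_surjective _
  have hz : Function.Injective (q.comp D.π.ker.subtype) := (injective_iff_map_eq_one _).2 fun a ha =>
    Subtype.ext (mem_bot.1 (D.range_ι_inf_ker.le ⟨(QuotientGroup.eq_one_iff _).1 ha, a.2⟩))
  have p1 := pb_cover hM D.π D.π_surj hZ D.ι D.ι_injective q hqs (QuotientGroup.ker_mk' _) hK
    D.ext_irr.isCharacter θ.2 D.ext_ι D.π.ker.subtype (range_subtype _) (by simpa using D.ker_central) hz
    D.ν D.ext_ker_mul (i := K.subtype) D.π_ι (nemb_subtype K)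
  have hPK : P ≤ normalizer (K : Set G) := by rw [normalizer_eq_top]; exact le_top
  have hKC := mck_inf_eq hp.out hP hK hPK le_rfl hC hCN
  have hzN : ∀ a : D.π.ker, D.π.ker.subtype a ∈ normalizer (R : Set D.Γ) := fun a =>
    center_le_normalizer _ (D.ker_central a.2)
  have hπN : ∀ x : normalizer (R : Set D.Γ),
      D.π.comp (normalizer (R : Set D.Γ)).subtype x ∈ normalizer (P : Set G) := fun x => hN.le x.2
  have hNC : normalizer (P : Set G) ≤ normalizer (C : Set G) := by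
    rw [← hKC]
    exact fun g hg => inf_normalizer_le_normalizer_inf
      ⟨by rw [normalizer_eq_top]; exact mem_top g, le_normalizer hg⟩
  have p2 := pb_cover hM ((D.π.comp (normalizer (R : Set D.Γ)).subtype).codRestrict _ hπN) ?_ ?_
    ((inclusion hCN').comp b) ?_ (q.comp (normalizer (R : Set D.Γ)).subtype) ?_ ?_
    (fun h => hK (h.trans (card_dvd_of_le hCK))) hψ hη (fun a => (hψe _).trans (congrFun hb a))
    (D.π.ker.subtype.codRestrict _ hzN) ?_ ?_ hz D.ν ?_ (i := inclusion hCN)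
    (fun a => Subtype.ext (D.π_ι _)) (nemb_inclusion hCN hNC)
  · exact p2.symm.trans p1
  · rintro ⟨g, hg⟩
    obtain ⟨x, rfl⟩ := D.π_surj g
    exact ⟨⟨x, hN.ge hg⟩, rfl⟩
  · rw [MonoidHom.ker_codRestrict, ← MonoidHom.comap_ker]
    exact fun h => hZ (h.trans (card_comap_dvd_of_injective _ _ (subtype_injective _)))
  · exact fun a a' h => inclusion_injective hCK (D.ι_injective (congrArg Subtype.val h))
  · intro y
    obtain ⟨x, rfl⟩ := hqs y
    obtain ⟨k, hk, n, hn, e⟩ := mem_sup_of_normal_left.1 (hKN.ge (mem_top (D.π x)))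
    refine ⟨⟨(D.ι ⟨k, hk⟩)⁻¹ * x, hN.ge ?_⟩, ?_⟩
    · rw [mem_comap, map_mul, map_inv, D.π_ι, ← e, inv_mul_cancel_left]
      exact hn
    · change q (_ * x) = q x
      rw [map_mul, map_inv, show q (D.ι ⟨k, hk⟩) = 1 from (QuotientGroup.eq_one_iff _).2 ⟨_, rfl⟩,
        inv_one, one_mul]
  · ext x
    constructor
    · intro hx
      obtain ⟨k, hk⟩ : (x : D.Γ) ∈ D.ι.range := (QuotientGroup.eq_one_iff _).1 hx
      have h1 : (k : G) ∈ C := hKC.le ⟨k.2, by rw [← D.π_ι, hk]; exact hπN x⟩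
      exact ⟨⟨k, h1⟩, Subtype.ext hk⟩
    · rintro ⟨a, rfl⟩
      exact (QuotientGroup.eq_one_iff _).2 ⟨_, rfl⟩
  · ext x
    simp only [MonoidHom.mem_ker, Subtype.ext_iff]
    exact ⟨fun ⟨a, e⟩ => e ▸ a.2, fun hx => ⟨⟨x, hx⟩, rfl⟩⟩
  · rintro _ ⟨a, rfl⟩
    exact mem_center_iff.2 fun w => Subtype.ext (D.ker_comm a w)
  · intro a x
    have := Fintype.ofFinite (C.comap D.π)
    let a' : C.comap D.π := ⟨a, D.ker_le_comap C a.2⟩
    have h0 : Ovr (inclusion hCK') η' fun k : K.comap D.π => D.ext k :=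
      ovr_iff.2 (r'.classInner_ne_zero hp.out hη')
    have h1 := h0.central_eq hθ' hη' (z := a')
      (mem_center_iff.2 fun w => Subtype.ext (D.ker_comm a w))
      (mem_center_iff.2 fun w => Subtype.ext (D.ker_comm a w))
    rw [apply_mul_of_mem_charCenter hψi.one_ne_zero (hψi.center_le_charCenter
      (mem_center_iff.2 fun w => Subtype.ext (D.ker_comm a w)))]
    congr 1
    have h2 := hψe a'
    have h3 := hψe 1
    rw [map_one] at h3
    erw [h2, h3, ← h1]
    change D.ext a / D.ext 1 = _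
    rw [D.ext_ker, D.ext_one, mul_div_cancel_right₀ _ (Nat.cast_ne_zero.2 D.d_pos.ne')]

end CL.DG
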