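/-
Blocks of `p`-solvable groups with abelian defect groups: reduction of the perfect bijection with the Brauer
correspondent to the extension theorem for the Glauberman correspondent.
-/
import Cfsg.Agent.Blk.DGP2
import Cfsg.Agent.Blk.FongP2
import Cfsg.Agent.Blk.First
import Cfsg.Agent.Blk.Second
import Cfsg.Agent.Blk.ChainRank
import Cfsg.Agent.Blk.PairIncl

set_option autoImplicit false

open Cfsg Subgroup CL.Char CL.Blk
open scoped ComplexConjugate Pointwise

namespace CL.DG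

universe u

variable {M : Ideal AlgInt} {p : ℕ}

section Cov

variable {G : Type*} [Group G] [Finite G] {K H : Subgroup G} [hKn : K.Normal]

omit hKn in
theorem over_iff_ovr {χ : G → ℂ} {θ : IrrCharacter K} : Over K χ (θ : K → ℂ) ↔ Ovr K.subtype θ.1 χ := by
  have := Fintype.ofFinite K
  rw [over_iff, ovr_iff]
  rfl

omit hKn in
theorem over_subIrr_iff_ovr (hKH : K ≤ H) {ψ : H → ℂ} {θ : IrrCharacter K} :
    Over (K.subgroupOf H) ψ (subIrr hKH θ : K.subgroupOf H → ℂ) ↔ Ovr (inclusion hKH) θ.1 ψ := by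
  have := Fintype.ofFinite K
  rw [over_subIrr_iff, ovr_iff]
  rfl

theorem cov_sub (hM : IsPModular p M) (hK : ¬ p ∣ Nat.card K) {θ : IrrCharacter K} (hθ : IsInvSet {θ})
    {c : Set (IrrCharacter H)} {B : Set (IrrCharacter G)} (hind : IsInducedBlock M H c B)
    {χ : IrrCharacter G} (hχ : χ ∈ B) (ho : Over K (χ : G → ℂ) (θ : K → ℂ)) {ψ : IrrCharacter H}
    (hψ : ψ ∈ c) {η : IrrCharacter (K.subgroupOf H)} (hη : Over (K.subgroupOf H) (ψ : H → ℂ) η.1)
    [Fintype (K.subgroupOf H)] {m : ℤ}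
    (hm : classInner (fun a : K.subgroupOf H => (θ : K → ℂ) ⟨(a : H), a.2⟩) η.1 = m) : ¬ (p : ℤ) ∣ m := by
  classical
  intro hd
  have hz := hθ.incl_mem_center
  have h1 := val_omega_trunc_sub_lt_one hM hind hψ hχ hz
    (incl_mem_OG K (blockIdem_mem_OG_of_not_dvd_card hM hK {θ}))
  rw [ho.omega_incl hz, omega_blockIdem_of_mem (Set.mem_singleton θ)] at h1
  have h2 : incl (K.subgroupOf H) (trunc (K.subgroupOf H) (trunc H (incl K (blockIdem {θ})))) =
      trunc H (incl K (blockIdem {θ})) := grpAlg_ext fun g => by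
    rw [coeff_incl_trunc]
    split_ifs with hg
    · rfl
    · rw [coeff_trunc, coeff_incl_of_notMem K _ (g := g) hg]
  rw [← h2, hη.omega_incl (h2.symm ▸ trunc_mem_center_of_center H hz), omega_eq_sum] at h1
  have h3 : ∀ a : K.subgroupOf H, (trunc (K.subgroupOf H) (trunc H (incl K (blockIdem {θ})))).coeff a =
      (Nat.card K : ℂ)⁻¹ * ((θ : K → ℂ) 1 * conj ((θ : K → ℂ) ⟨(a : H), a.2⟩)) := fun a => by
    rw [coeff_trunc, coeff_trunc, coeff_incl_of_mem K _ (g := (a : H)) a.2, blockIdem_singleton, coeff_charIdem]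
  have h4 : classInner η.1 (fun a : K.subgroupOf H => (θ : K → ℂ) ⟨(a : H), a.2⟩) = m := by
    rw [← conj_classInner, hm, map_intCast]
  obtain ⟨k, hk⟩ := irr_charDegree_dvd_card η
  have h5 : ∑ a, (trunc (K.subgroupOf H) (trunc H (incl K (blockIdem {θ})))).coeff a * η.1 a / η.1 1 =
      (Nat.card K : ℂ)⁻¹ * (θ : K → ℂ) 1 * k * m := by
    have h6 : (k : ℂ) ≠ 0 := Nat.cast_ne_zero.2 (by
      rintro rfl
      exact Nat.card_pos.ne' (hk.trans (mul_zero _)))
    have h7 := irr_one_ne_zero η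
    rw [← h4, classInner_def, hk, Nat.cast_mul, irr_natCast_charDegree, Finset.mul_sum, Finset.mul_sum]
    refine Finset.sum_congr rfl fun a _ => ?_
    rw [h3]
    field_simp
  rw [h5] at h1
  have h8 := val_mul_lt_one_right (mul_mem (mul_mem (inv_natCast_mem_valRing hM hK) (irr_mem_valRing θ 1))
    (natCast_mem (valRing M) k)) ((val_intCast_lt_one_iff hM m).2 hd)
  exact h8.ne (val_eq_one_of_val_sub_one_lt h1)

/-- A block of `H` inducing a block over `θ` lies over the constituent of `θ` with multiplicity prime to `p`. -/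
theorem cov (hM : IsPModular p M) (hK : ¬ p ∣ Nat.card K) {θ : IrrCharacter K} (hθ : IsInvSet {θ})
    {c : Set (IrrCharacter H)} {B : Set (IrrCharacter G)} (hind : IsInducedBlock M H c B)
    {χ : IrrCharacter G} (hχ : χ ∈ B) (ho : Over K (χ : G → ℂ) (θ : K → ℂ)) {ψ : IrrCharacter H}
    (hψ : ψ ∈ c) {A : Type*} [Group A] (i : A →* H) (hi : Function.Injective i) (j : A →* K)
    (hij : ∀ a, ((i a : H) : G) = j a) (hr : ∀ h : H, (h : G) ∈ K → h ∈ i.range) {η : A → ℂ}
    (hη : IsIrrCharacter A η) (r : GlRel p j (θ : K → ℂ) η) : Ovr i η (ψ : H → ℂ) := by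
  have : Finite A := Finite.of_injective i hi
  have := Fintype.ofFinite A
  have := Fintype.ofFinite (K.subgroupOf H)
  have h1 : i.range = K.subgroupOf H := le_antisymm (by
    rintro _ ⟨a, rfl⟩
    rw [mem_subgroupOf, hij]
    exact (j a).2) hr
  let e : A ≃* K.subgroupOf H := (MonoidHom.ofInjective hi).trans (MulEquiv.subgroupCongr h1)
  obtain ⟨η₀, h2⟩ := exists_over (K.subgroupOf H) ψ
  by_cases h3 : η = fun a => η₀.1 (e a)
  · exact (ovr_congr (k := (K.subgroupOf H).subtype) e (fun _ => rfl) (congrFun h3)).2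
      (over_iff_ovr.1 h2)
  · obtain ⟨m, hm⟩ := (θ.2.isCharacter.comp j).exists_nat_classInner (η₀.2.comp_mulEquiv e).isCharacter
    refine absurd (r.dvd_mult hη (η₀.2.comp_mulEquiv e) h3 (m := m) (by exact_mod_cast hm))
      (cov_sub hM hK hθ hind hχ ho hψ h2 ?_)
    rw [← classInner_comp_mulEquiv e, Int.cast_natCast, ← hm]
    congr 2
    ext a
    exact congrArg _ (Subtype.ext (hij a))

end Cov

/-- The isomorphism onto a subgroup given by an injective homomorphism. -/
noncomputable def eqv {A G : Type*} [Group A] [Group G] (u : A →* G) (hu : Function.Injective u)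
    {L : Subgroup G} (h : u.range = L) : A ≃* L :=
  (MonoidHom.ofInjective hu).trans (MulEquiv.subgroupCongr h)

section Step

variable [hp : Fact p.Prime] {G : Type u} [Group G] {K P C : Subgroup G} [hKn : K.Normal]

theorem le_norm_of_normal (P : Subgroup G) : P ≤ normalizer (K : Set G) := by
  rw [normalizer_eq_top]; exact le_top

theorem norm_le_norm_inf {N : Subgroup G} (h : K ⊓ N = C) : N ≤ normalizer (C : Set G) := by
  rw [← h]
  exact fun g hg => inf_normalizer_le_normalizer_inf ⟨le_norm_of_normal ⊤ (mem_top g), le_normalizer hg⟩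

theorem mem_stab_iff [Finite G] {U : Subgroup G} (θ : IrrCharacter K) (g : U) :
    (g : G) ∈ blockStab {θ} ↔ (fun a => (θ : K → ℂ) (mckConj (le_norm_of_normal U) g a)) = θ := by
  rw [mem_blockStab, Set.image_singleton, Set.singleton_eq_singleton_iff, Subtype.ext_iff]
  rfl

/-- The stabilizer of the Glauberman correspondent. -/
theorem stab_eq [Finite G] (hK : ¬ p ∣ Nat.card K) (hP : IsPGroup p P)
    (hC : C = K ⊓ centralizer (P : Set G)) (hCK : C ≤ K) (hCN : C ≤ normalizer (P : Set G))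
    [(C.subgroupOf (normalizer (P : Set G))).Normal] {θ : IrrCharacter K} (hPθ : P ≤ blockStab {θ})
    {η : IrrCharacter C} (r : GlRel p (inclusion hCK) (θ : K → ℂ) (η : C → ℂ)) :
    (blockStab {θ}).subgroupOf (normalizer (P : Set G)) = blockStab {subIrr hCN η} := by
  have hNC := norm_le_norm_inf (mck_inf_eq hp.out hP hK (le_norm_of_normal P) le_rfl hC hCN)
  have h0 : ∀ g : normalizer (P : Set G), g ∈ blockStab {subIrr hCN η} ↔
      (fun a => (η : C → ℂ) (mckConj hNC g a)) = η := fun g => by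
    rw [mem_blockStab, Set.image_singleton, Set.singleton_eq_singleton_iff, Subtype.ext_iff]
    exact ⟨fun h => funext fun a => congrFun h ⟨⟨a, hCN a.2⟩, a.2⟩,
      fun h => funext fun a => congrFun h ⟨(a : normalizer (P : Set G)), a.2⟩⟩
  have h1 : ∀ s : P, ∀ a, (θ : K → ℂ) (mckConj (le_norm_of_normal P) s a) = (θ : K → ℂ) a :=
    fun s => congrFun ((mem_stab_iff θ s).1 (hPθ s.2))
  ext g
  rw [mem_subgroupOf, mem_stab_iff, h0]
  have r' := r.mckConj (le_norm_of_normal _) hNC g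
  refine ⟨fun h => ?_, fun h => ?_⟩
  · rw [h] at r'
    exact r'.unique hp.out r (η.2.comp_mulEquiv _) η.2
  · rw [h] at r'
    refine (mck_glCorr hp.out hP hK (le_norm_of_normal P) hC hCK).inj _ _ _ (θ.2.comp_mulEquiv _)
      ((le_istab (le_norm_of_normal P)).2 fun s a => ?_) θ.2 ((le_istab (le_norm_of_normal P)).2 h1) η.2 r' r
    rw [← h1 ⟨g * s * (g : G)⁻¹, (mem_normalizer_iff.1 g.2 s).1 s.2⟩ (mckConj _ g a)]
    refine congrArg _ (Subtype.ext ?_)
    simp only [coe_mckConj]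
    group

theorem exists_gl [Finite G] (hK : ¬ p ∣ Nat.card K) (hP : IsPGroup p P)
    (hC : C = K ⊓ centralizer (P : Set G)) (hCK : C ≤ K) {θ : IrrCharacter K} (hPθ : P ≤ blockStab {θ}) :
    ∃ η : IrrCharacter C, GlRel p (inclusion hCK) (θ : K → ℂ) (η : C → ℂ) := by
  obtain ⟨η, hη, -, r⟩ := (mck_glCorr hp.out hP hK (le_norm_of_normal P) hC hCK).ex _ θ.2
    ((le_istab (le_norm_of_normal P)).2 fun s => congrFun ((mem_stab_iff θ s).1 (hPθ s.2)))
  exact ⟨⟨η, hη⟩, r⟩

/-- The Fong--Reynolds step. -/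
theorem pb_step [Fintype G] (hM : IsPModular p M) (hK : ¬ p ∣ Nat.card K) {θ : IrrCharacter K}
    {T : Subgroup G} (hKT : K ≤ T) (hT : T = blockStab {θ}) {B' : Set (IrrCharacter T)}
    (hB' : IsPBlock M B') (hc' : Covers (K.subgroupOf T) B' (subIrr hKT '' {θ})) {D : Subgroup T}
    (hD : IsDefectGroup p M B' D) (ih : ∀ c' : Set (IrrCharacter (normalizer (D : Set T))),
      IsInducedBlock M _ c' B' → PB p M c' B') (hP : P = D.map T.subtype)
    {c : Set (IrrCharacter (normalizer (P : Set G)))} (hc : IsInducedBlock M _ c (indIrr T '' B')) :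
    PB p M c (indIrr T '' B') := by
  have hb := isPBlock_singleton_of_not_dvd_card hM hK θ
  have hB := fr_isInducedBlock hM hb hKT hT hB' hc'
  have hTI := fr_isTISet hM hb hKT hT hB' hc'
  have hBP : IsDefectGroup p M (indIrr T '' B') P := hP ▸ fr_isDefectGroup hM hb hKT hT hB' hc' hD
  have hPp := tr_isPGroup_of_isDefectGroup hBP
  have hPT : P ≤ T := hP ▸ map_subtype_le D
  obtain ⟨C, hC⟩ : ∃ C, C = K ⊓ centralizer (P : Set G) := ⟨_, rfl⟩
  have hCK : C ≤ K := hC ▸ inf_le_left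
  have hCN : C ≤ normalizer (P : Set G) := hC ▸ inf_le_right.trans (centralizer_le_normalizer _)
  have hKC := mck_inf_eq hp.out hPp hK (le_norm_of_normal P) le_rfl hC hCN
  have : (C.subgroupOf (normalizer (P : Set G))).Normal :=
    (normal_subgroupOf_iff_le_normalizer hCN).2 (norm_le_norm_inf hKC)
  obtain ⟨η, r⟩ := exists_gl hK hPp hC hCK (hT ▸ hPT)
  have hT₀ := stab_eq hK hPp hC hCK hCN (hT ▸ hPT) r
  rw [← hT] at hT₀
  have hN : ∀ x : T, (x : G) ∈ normalizer (P : Set G) ↔ x ∈ normalizer (D : Set T) := fun x => by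
    rw [hP]; exact Pair.mem_normalizer_map
  let f₁ : T.subgroupOf (normalizer (P : Set G)) ≃* (T ⊓ normalizer (P : Set G) : Subgroup G) :=
    eqv ((normalizer (P : Set G)).subtype.comp (Subgroup.subtype _))
      ((subtype_injective _).comp (subtype_injective _)) (le_antisymm
        (by rintro _ ⟨x, rfl⟩; exact ⟨x.2, x.1.2⟩) fun x hx => ⟨⟨⟨x, hx.2⟩, hx.1⟩, rfl⟩)
  let f₂ : normalizer (D : Set T) ≃* (T ⊓ normalizer (P : Set G) : Subgroup G) :=
    eqv (T.subtype.comp (Subgroup.subtype _)) ((subtype_injective _).comp (subtype_injective _))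
      (le_antisymm (by rintro _ ⟨x, rfl⟩; exact ⟨x.1.2, (hN _).2 x.2⟩)
        fun x hx => ⟨⟨⟨x, hx.1⟩, (hN ⟨x, hx.1⟩).1 hx.2⟩, rfl⟩)
  have hf₂ : ∀ x, (((f₂.symm x : normalizer (D : Set T)) : T) : G) = x := fun x =>
    congrArg Subtype.val (f₂.apply_symm_apply x)
  obtain ⟨c', hc'', -⟩ := existsUnique_isInducedBlock_normalizer hM hB' hD
  have hc₀ := isPBlock_image f₂.symm hc''.1
  have hc₁ := isPBlock_image f₁ hc₀
  have hb₀ := isPBlock_singleton_of_not_dvd_card hM (fun h => hK (h.trans (by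
    rw [Nat.card_congr (subgroupOfEquivOfLe hCN).toEquiv]; exact card_dvd_of_le hCK))) (subIrr hCN η)
  have h₀ : C.subgroupOf (normalizer (P : Set G)) ≤ T.subgroupOf (normalizer (P : Set G)) :=
    hT₀ ▸ le_blockStab _
  have hcov : Covers ((C.subgroupOf _).subgroupOf (T.subgroupOf (normalizer (P : Set G))))
      (irrEquiv f₁ '' (irrEquiv f₂.symm '' c')) (subIrr h₀ '' {subIrr hCN η}) := by
    obtain ⟨χ, hχ, _, ⟨_, rfl, rfl⟩, ho⟩ := hc'
    obtain ⟨ψ, hψ⟩ := tr_nonempty hM hc''.1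
    have h1 := isInvSet_subIrr_of_le_blockStab hKT hT.le
    rw [Set.image_singleton] at h1
    let i : C →* normalizer (D : Set T) :=
      (inclusion (hCK.trans hKT)).codRestrict _ fun a => (hN _).1 (hCN a.2)
    let j : C →* K.subgroupOf T := (inclusion (hCK.trans hKT)).codRestrict _ fun a => hCK a.2
    have h2 := cov hM (by rwa [Nat.card_congr (subgroupOfEquivOfLe hKT).toEquiv]) h1 hc'' hχ ho hψ i
      (fun a b h => Subtype.ext (congrArg (fun x : normalizer (D : Set T) => ((x : T) : G)) h)) j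
      (fun _ => rfl) (fun h hh => ⟨⟨_, hKC.le ⟨hh, (hN _).2 h.2⟩⟩, rfl⟩) η.2
      (r.comp (j' := j) (subgroupOfEquivOfLe hKT) (MonoidHom.id C) fun _ => rfl)
    refine Over.covers (χ := irrEquiv f₁ (irrEquiv f₂.symm ψ)) (θ := subIrr h₀ (subIrr hCN η))
      ((over_subIrr_iff_ovr h₀).2 ((ovr_congr (subgroupOfEquivOfLe hCN) (fun a => ?_) fun _ => rfl).2 h2))
      ⟨_, ⟨ψ, hψ, rfl⟩, rfl⟩ ⟨_, rfl, rfl⟩
    refine congrArg ψ.1 (Subtype.ext (Subtype.ext ?_))
    exact hf₂ _
  have := Fintype.ofFinite (normalizer (P : Set G))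
  have hβ := fr_isInducedBlock hM hb₀ h₀ hT₀ hc₁ hcov
  have hTI' := fr_isTISet hM hb₀ h₀ hT₀ hc₁ hcov
  have h3 := (isInducedBlock_trans_iff hM f₁ (fun _ => rfl) hβ hB.2.1).2
    ((isInducedBlock_trans_iff hM f₂ (fun _ => rfl) (c := irrEquiv f₂.symm '' c')
      (by rwa [irrEquiv_image_symm_image]) hB.2.1).1 hB)
  rw [(existsUnique_isInducedBlock_normalizer hM hB.2.1 hBP).unique hc h3]
  exact (pb_ind hM (blockIdem_mem_OG hM hc₁) hTI'.isIrr hTI'.injOn).symm.trans
    ((pb_equiv hM f₁ (blockIdem_mem_OG hM hc₀)).symm.trans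
      ((pb_equiv hM f₂.symm (blockIdem_mem_OG hM hc''.1)).symm.trans
        ((ih c' hc'').trans (pb_ind hM (blockIdem_mem_OG hM hB') hTI.isIrr hTI.injOn))))

omit hKn in
theorem sup_normalizer_eq_top [Finite G] (hG : IsPConstrained p G) (hP : IsPGroup p P)
    (hi : ¬ p ∣ P.index) (hab : ∀ x ∈ P, ∀ y ∈ P, x * y = y * x) :
    pPrimeCore p G ⊔ normalizer (P : Set G) = ⊤ := by
  set q := QuotientGroup.mk' (pPrimeCore p G)
  have hq : Function.Surjective q := QuotientGroup.mk'_surjective _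
  have h1 : pCore p _ ≤ P.map q :=
    CL.Grp.pCore_le_sylow ((hP.map q).toSylow fun h => hi (h.trans (index_map_dvd _ hq)))
  have h2 : P.map q = pCore p _ := le_antisymm (le_trans (by
    rintro _ ⟨x, hx, rfl⟩ y hy
    obtain ⟨z, hz, rfl⟩ := h1 hy
    rw [← map_mul, ← map_mul, hab x hx z hz]) (CL.Loc.isPConstrained_iff.1 hG)) h1
  have h3 := CL.Loc.map_normalizer_quotient_of_coprime (CL.Grp.pPrimeCore_coprime p G) hP
  have h4 := congrArg (comap q) (h3.trans (by rw [h2, normalizer_eq_top]) : _ = ⊤)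
  rwa [comap_map_eq, comap_top, QuotientGroup.ker_mk', sup_comm] at h4

/-- The case of an invariant character of `O_{p'}(G)`. -/
theorem pb_base [Finite G] (hE : Ext.{u} p) (hM : IsPModular p M) (hG : IsPConstrained p G)
    (hKd : K = pPrimeCore p G) {θ : IrrCharacter K} (hθ : IsInvSet {θ}) {B : Set (IrrCharacter G)}
    (hB : IsPBlock M B) (hc' : Covers K B {θ}) (hBP : IsDefectGroup p M B P)
    (hab : ∀ x ∈ P, ∀ y ∈ P, x * y = y * x) {c : Set (IrrCharacter (normalizer (P : Set G)))}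
    (hc : IsInducedBlock M _ c B) : PB p M c B := by
  have hK : ¬ p ∣ Nat.card K := hKd ▸ CL.Grp.not_dvd_card_pPrimeCore p G
  have e := fong_eq_overSet hM hG hKd hθ hB hc'
  have hPp := tr_isPGroup_of_isDefectGroup hBP
  have hT := isInvSet_iff_blockStab_eq_top.1 hθ
  obtain ⟨C, hC⟩ : ∃ C, C = K ⊓ centralizer (P : Set G) := ⟨_, rfl⟩
  have hCK : C ≤ K := hC ▸ inf_le_left
  have hCN : C ≤ normalizer (P : Set G) := hC ▸ inf_le_right.trans (centralizer_le_normalizer _)
  have hKC := mck_inf_eq hp.out hPp hK (le_norm_of_normal P) le_rfl hC hCN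
  have : (C.subgroupOf (normalizer (P : Set G))).Normal :=
    (normal_subgroupOf_iff_le_normalizer hCN).2 (norm_le_norm_inf hKC)
  obtain ⟨η, r⟩ := exists_gl hK hPp hC hCK (θ := θ) (hT ▸ le_top)
  have hT₀ := stab_eq hK hPp hC hCK hCN (hT ▸ le_top) r
  rw [hT, top_subgroupOf] at hT₀
  have h1 : overSet (C.subgroupOf (normalizer (P : Set G))) {subIrr hCN η} = ovS (inclusion hCN) η.1 :=
    Set.ext fun ψ => mem_overSet_singleton.trans (over_subIrr_iff_ovr hCN)
  have h2 : overSet K {θ} = ovS K.subtype θ.1 := Set.ext fun χ => mem_overSet_singleton.trans over_iff_ovr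
  obtain ⟨χ, hχ, _, rfl, ho⟩ := hc'
  obtain ⟨ψ, hψ⟩ := tr_nonempty hM hc.1
  have h3 := cov hM hK hθ hc hχ ho hψ (inclusion hCN) (inclusion_injective _) (inclusion hCK)
    (fun _ => rfl) (fun h hh => ⟨⟨_, hKC.le ⟨hh, h.2⟩⟩, rfl⟩) η.2 r
  have h4 := fong_eq_overSet hM (CL.Loc.isPConstrained_normalizer hG hPp)
    (K := C.subgroupOf (normalizer (P : Set G))) (by
      rw [← hKC, hKd, ← CL.Loc.pPrimeCoreOf_normalizer hG hPp, subgroupOf,
        comap_map_eq_self_of_injective (subtype_injective _)])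
    (isInvSet_iff_blockStab_eq_top.2 hT₀.symm) hc.1
    ((mem_overSet_singleton.1 (h1.ge h3)).covers hψ rfl)
  rw [h4, h1, e, h2]
  refine pb_inv hE hM hCK hCN hK hPp hab hC ?_ hθ η.2 r
  rw [hKd]
  exact sup_normalizer_eq_top hG hPp (fong_not_dvd_index hM hG hKd hθ (e ▸ hBP)) hab

end Step

theorem pb_main [hp : Fact p.Prime] (hE : Ext.{u} p) (hM : IsPModular p M) (n : ℕ) :
    ∀ (G : Type u) [Group G] [Finite G], Nat.card G = n → IsPSolvable p G →
      ∀ B : Set (IrrCharacter G), IsPBlock M B → ∀ P : Subgroup G, IsDefectGroup p M B P →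
        (∀ x ∈ P, ∀ y ∈ P, x * y = y * x) → ∀ c : Set (IrrCharacter (normalizer (P : Set G))),
          IsInducedBlock M _ c B → PB p M c B := by
  induction n using Nat.strong_induction_on with
  | _ n ih =>
  intro G _ _ hn hG B hB P hP hab c hc
  cases nonempty_fintype G
  have hKp : ¬ p ∣ Nat.card (pPrimeCore p G) := CL.Grp.not_dvd_card_pPrimeCore p G
  obtain ⟨χ, hχ⟩ := tr_nonempty hM hB
  obtain ⟨θ, hθ⟩ := exists_over (pPrimeCore p G) χ
  have hb := isPBlock_singleton_of_not_dvd_card hM hKp θ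
  have hcv : Covers (pPrimeCore p G) B {θ} := hθ.covers hχ rfl
  by_cases hT : blockStab {θ} = (⊤ : Subgroup G)
  · exact pb_base hE hM (CL.Loc.isPConstrained_of_isPSolvable hG) rfl
      (isInvSet_iff_blockStab_eq_top.2 hT) hB hcv hP hab hc
  set T := blockStab {θ}
  have hKT : pPrimeCore p G ≤ T := le_blockStab _
  obtain ⟨B', hB', hc', rfl⟩ := fr_exists hM hb hKT rfl hB hcv
  obtain ⟨D, hD⟩ := exists_isDefectGroup hM hB'
  obtain ⟨g, rfl⟩ := exists_conj_eq_of_isDefectGroup hM hB (fr_isDefectGroup hM hb hKT rfl hB' hc' hD) hP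
  let f : normalizer ((D.map T.subtype : Subgroup G) : Set G) ≃*
      normalizer ((MulAut.conj g • D.map T.subtype : Subgroup G) : Set G) :=
    (equivSMul (MulAut.conj g) _).trans (MulEquiv.subgroupCongr (CL.Grp.normalizer_conj_smul g _).symm)
  have h1 : irrEquiv (MulAut.conj g) '' (indIrr T '' B') = indIrr T '' B' := by
    have : ∀ χ : IrrCharacter G, irrEquiv (MulAut.conj g) χ = χ := fun χ =>
      Subtype.ext (funext fun x => χ.2.isClassFunction x g)
    simp only [this, Set.image_id']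
  have h2 := (isInducedBlock_image (M := M) (MulAut.conj g) f (fun _ => rfl)).2 hc
  rw [h1] at h2
  refine (pb_equiv hM f (blockIdem_mem_OG hM hc.1)).trans (pb_step hM hKp hKT rfl hB' hc' hD
    (ih _ (hn ▸ CL.Grp.card_lt_of_ne_top hT) T rfl (CL.Loc.isPSolvable_subgroup hG T) B' hB' D hD
      fun x hx y hy => ?_) rfl h2)
  have h3 := hab _ (smul_mem_pointwise_smul _ (MulAut.conj g) _ (mem_map_of_mem T.subtype hx)) _
    (smul_mem_pointwise_smul _ (MulAut.conj g) _ (mem_map_of_mem T.subtype hy))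
  rw [← smul_mul', ← smul_mul', smul_left_cancel_iff] at h3
  exact Subtype.ext h3

theorem s4643_of_ext [hp : Fact p.Prime] (hE : Ext.{u} p) (hM : IsPModular p M) {G : Type u} [Group G]
    [Finite G] (hG : IsPSolvable p G) {B : Set (IrrCharacter G)} (hB : IsPBlock M B) {P : Subgroup G}
    (hP : IsDefectGroup p M B P) (hab : ∀ x ∈ P, ∀ y ∈ P, x * y = y * x)
    {c : Set (IrrCharacter (normalizer (P : Set G)))} (hc : IsInducedBlock M _ c B) :
    Nat.card c = Nat.card B ∧ blockRank p c = blockRank p B ∧ ∃ I ε, IsPerfectIsometry p M c B I ε :=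
  have h := pb_main hE hM _ G rfl hG B hB P hP hab c hc
  ⟨h.card_eq, h.blockRank_eq, h.exists_isPerfectIsometry hM⟩

end CL.DG
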