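/-
Extensions of characters of the principal block of a normal subgroup `N` of `G` when every coset of `N` contains
an element whose `N`-class has `p'`-size (Alperin, Dade).
-/
import Cfsg.Agent.Blk.PrincCrit2
import Cfsg.Agent.Blk.Quot
import Cfsg.Agent.Blk.Defect2
import Cfsg.Agent.Char.Extension
import Cfsg.Agent.Char.Triple

set_option autoImplicit false

open Cfsg MonoidAlgebra Subgroup
open scoped ComplexConjugate

namespace CL.Blk

variable {G : Type*} [Group G] [Finite G] {p : ℕ} {M : Ideal AlgInt} {N : Subgroup G}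

/-! ### The central character on the centraliser algebra -/

theorem evalFun_fixed_mul {χ : G → ℂ} (hχ : IsCharacter G χ) (hN : IsIrrCharacter N fun n : N => χ n)
    {z : ℂ[G]} (hz : z ∈ fixedAlg ℂ N) (a : ℂ[G]) :
    evalFun χ (z * a) = omega χ z * evalFun χ a := by
  obtain ⟨n, ρ, rfl⟩ := hχ
  have := CL.Char.isIrreducible_of_isIrrCharacter_character
    (ρ.comp N.subtype : Representation ℂ N (Fin n → ℂ)) hN
  have h := CL.Char.eq_scalar_of_commute (ρ.comp N.subtype : Representation ℂ N (Fin n → ℂ))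
    (ρ.asAlgebraHom z) fun g => by
      rw [MonoidHom.comp_apply, ← ρ.asAlgebraHom_single_one, ← map_mul, ← map_mul,
        Subgroup.subtype_apply, (mem_fixedAlg'.1 hz) g g.2]
  rw [evalFun_character, evalFun_character, map_mul, omega_apply, evalFun_character,
    Representation.char_one]
  conv_lhs => rw [h, smul_mul_assoc, ← Module.End.one_eq_id, one_mul, map_smul, smul_eq_mul]

theorem omega_fixed_mul {χ : G → ℂ} (hχ : IsCharacter G χ) (hN : IsIrrCharacter N fun n : N => χ n)
    {z : ℂ[G]} (hz : z ∈ fixedAlg ℂ N) (a : ℂ[G]) : omega χ (z * a) = omega χ z * omega χ a := by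
  rw [omega_apply, evalFun_fixed_mul hχ hN hz, omega_apply χ a, mul_div_assoc]

/-- The central character of an extension, on the centraliser algebra. -/
noncomputable def omegaFix {χ : G → ℂ} (hχ : IsCharacter G χ)
    (hN : IsIrrCharacter N fun n : N => χ n) : fixedAlg ℂ N →ₐ[ℂ] ℂ :=
  AlgHom.ofLinearMap (omega χ ∘ₗ (fixedAlg ℂ N).val.toLinearMap) (omega_one hN.one_ne_zero)
    fun z w => omega_fixed_mul hχ hN z.2 w

theorem omega_fixed_mem_valRing {χ : G → ℂ} (hχ : IsCharacter G χ)
    (hN : IsIrrCharacter N fun n : N => χ n) {z : ℂ[G]} (hz : z ∈ fixedAlg ℂ N) (hzO : z ∈ OG M G) :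
    omega χ z ∈ valRing M := by
  have h1 : IsIntegral (valRing M).toSubring (⟨z, hz⟩ : fixedAlg ℂ N) :=
    (isIntegral_algHom_iff ((fixedAlg ℂ N).val.restrictScalars (valRing M).toSubring)
      Subtype.val_injective).1 (isIntegral_of_mem_OG hzO)
  obtain ⟨q, hq, h2⟩ := h1.map ((omegaFix hχ hN).restrictScalars (valRing M).toSubring)
  exact mem_valuationSubring_of_monic (valRing M) hq h2

/-! ### Sums over `N`-classes -/

open Classical in
/-- The sum of the `N`-conjugates of `x`. -/
noncomputable def relClassSum (N : Subgroup G) (x : G) : ℂ[G] :=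
  ofFun fun g => if ∃ n ∈ N, n * x * n⁻¹ = g then 1 else 0

open Classical in
theorem coeff_relClassSum (x g : G) :
    (relClassSum N x).coeff g = if ∃ n ∈ N, n * x * n⁻¹ = g then 1 else 0 := rfl

theorem relClassSum_mem_OG (x : G) : relClassSum N x ∈ OG M G :=
  ofFun_mem_OG fun g => by split_ifs; exacts [one_mem _, zero_mem _]

theorem relClassSum_mem_fixedAlg (x : G) : relClassSum N x ∈ fixedAlg ℂ N := by
  classical
  refine mem_fixedAlg.2 fun y hy g => ?_
  rw [coeff_relClassSum, coeff_relClassSum]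
  refine if_congr ⟨fun ⟨n, hn, h⟩ => ⟨y⁻¹ * n, mul_mem (inv_mem hy) hn, ?_⟩,
    fun ⟨n, hn, h⟩ => ⟨y * n, mul_mem hy hn, by rw [← h]; group⟩⟩ rfl rfl
  calc y⁻¹ * n * x * (y⁻¹ * n)⁻¹ = y⁻¹ * (n * x * n⁻¹) * y := by group
    _ = g := by rw [h]; group

omit [Finite G] in
theorem card_relClass (x : G) :
    Nat.card {g : G // ∃ n ∈ N, n * x * n⁻¹ = g} = (centralizer ({x} : Set G)).relIndex N := by
  let _ : MulAction N G := MulAction.compHom G (MulAut.conj.comp N.subtype)
  have h1 : (centralizer ({x} : Set G)).subgroupOf N = MulAction.stabilizer N x := by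
    ext n
    rw [mem_subgroupOf, mem_centralizer_singleton_iff, MulAction.mem_stabilizer_iff]
    exact mul_inv_eq_iff_eq_mul.symm
  rw [relIndex, h1, MulAction.index_stabilizer, ← Nat.card_coe_set_eq]
  exact Nat.card_congr (Equiv.subtypeEquivRight fun g =>
    ⟨fun ⟨n, hn, h⟩ => ⟨⟨n, hn⟩, h⟩, fun ⟨n, h⟩ => ⟨n, n.2, h⟩⟩)

theorem evalFun_relClassSum {χ : G → ℂ} (hχ : IsClassFunction G χ) (x : G) :
    evalFun χ (relClassSum N x) = ((centralizer ({x} : Set G)).relIndex N : ℂ) * χ x := by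
  classical
  have := Fintype.ofFinite G
  rw [evalFun_apply, ← card_relClass, Nat.card_eq_fintype_card, Fintype.card_subtype,
    Finset.card_filter, Nat.cast_sum, Finset.sum_mul]
  refine Finset.sum_congr rfl fun g _ => ?_
  rw [coeff_relClassSum]
  split_ifs with h
  · obtain ⟨n, -, rfl⟩ := h
    rw [hχ, Nat.cast_one]
  · simp

theorem omega_relClassSum {χ : G → ℂ} (hχ : IsClassFunction G χ) (x : G) :
    omega χ (relClassSum N x) = ((centralizer ({x} : Set G)).relIndex N : ℂ) * χ x / χ 1 := by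
  rw [omega_apply, evalFun_relClassSum hχ]

/-- Homogeneous integral members of the centraliser algebra. -/
def IsHomog (M : Ideal AlgInt) (N : Subgroup G) (q : G ⧸ N) (a : ℂ[G]) : Prop :=
  a ∈ fixedAlg ℂ N ∧ a ∈ OG M G ∧ ∀ g : G, a.coeff g ≠ 0 → (g : G ⧸ N) = q

theorem IsHomog.mul [N.Normal] {q r : G ⧸ N} {a b : ℂ[G]} (ha : IsHomog M N q a)
    (hb : IsHomog M N r b) : IsHomog M N (q * r) (a * b) := by
  have := Fintype.ofFinite G
  refine ⟨mul_mem ha.1 hb.1, mul_mem ha.2.1 hb.2.1, fun g hg => ?_⟩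
  rw [coeff_mul_sum] at hg
  obtain ⟨x, -, hx⟩ := Finset.exists_ne_zero_of_sum_ne_zero hg
  rw [← ha.2.2 x (left_ne_zero_of_mul hx), ← hb.2.2 _ (right_ne_zero_of_mul hx), ← QuotientGroup.mk_mul,
    mul_inv_cancel_left]

theorem isHomog_relClassSum [N.Normal] (x : G) : IsHomog M N x (relClassSum N x) := by
  refine ⟨relClassSum_mem_fixedAlg x, relClassSum_mem_OG x, fun g hg => ?_⟩
  rw [coeff_relClassSum] at hg
  split_ifs at hg with h
  · obtain ⟨n, hn, rfl⟩ := h
    simp [(QuotientGroup.eq_one_iff n).2 hn]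
  · exact (hg rfl).elim

theorem isHomog_cosetPart [N.Normal] (q : G ⧸ N) {a : ℂ[G]} (ha : a ∈ fixedAlg ℂ N)
    (haO : a ∈ OG M G) : IsHomog M N q (cosetPart N q a) := by
  refine ⟨cosetPart_mem_fixedAlg N q ha, mem_OG.2 fun g => ?_, fun g hg => ?_⟩
  · rw [coeff_cosetPart]
    split_ifs
    exacts [coeff_mem_valRing haO g, zero_mem _]
  · rw [coeff_cosetPart] at hg
    split_ifs at hg with h
    exacts [h, (hg rfl).elim]

omit [Finite G] in
theorem IsHomog.incl_trunc [N.Normal] {a : ℂ[G]} (ha : IsHomog M N 1 a) : incl N (trunc N a) = a :=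
  incl_trunc_of_support N a fun g hg => by_contra fun h =>
    hg ((QuotientGroup.eq_one_iff g).1 (ha.2.2 g h))

omit [Finite G] in
theorem omega_incl (χ : G → ℂ) (a : ℂ[N]) : omega χ (incl N a) = omega (fun n : N => χ n) a := by
  rw [omega_apply, omega_apply, evalFun_incl]; rfl

theorem IsHomog.red_omega [N.Normal] (hM : IsPModular p M) {a : ℂ[G]} (ha : IsHomog M N 1 a)
    {χ : G → ℂ} {θ : IrrCharacter N} (hθ : θ ∈ principalBlock M N) (h : ∀ n : N, χ n = (θ : N → ℂ) n) :
    red M (omega χ a) = red M (omega (fun _ => 1) a) := by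
  rw [← ha.incl_trunc, omega_incl, omega_incl, funext h]
  exact (red_omega_eq_of_sameBlock hM (χ := CL.Char.irrOne N) hθ (trunc_mem_center ha.1)
    (trunc_mem_OG N ha.2.1)).symm

theorem IsHomog.omega_mul {q : G ⧸ N} {a : ℂ[G]} (ha : IsHomog M N q a) {f χ : G → ℂ} {c : ℂ}
    (h1 : f 1 = 1) (hf : ∀ g : G, (g : G ⧸ N) = q → f g = c) :
    omega (fun g => f g * χ g) a = c * omega χ a := by
  have := Fintype.ofFinite G
  rw [omega_eq_sum, omega_eq_sum, Finset.mul_sum]
  refine Finset.sum_congr rfl fun g _ => ?_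
  by_cases h : a.coeff g = 0
  · simp [h]
  · rw [hf g (ha.2.2 g h), h1]; ring

variable (p) in
/-- Every coset of `N` contains an element whose `N`-class has `p'`-size. -/
def CosetCov (N : Subgroup G) : Prop :=
  ∀ g : G, ∃ x : G, (x : G ⧸ N) = g ∧ ¬ p ∣ (centralizer ({x} : Set G)).relIndex N

omit [Finite G] in
theorem isIrrCharacter_res_one : IsIrrCharacter N fun _ : N => (1 : ℂ) := (CL.Char.irrOne N).2

/-- A multiplicative function to the residue field lifts to a linear character of `p'`-order. -/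
theorem exists_monoidHom_red_eq (hM : IsPModular p M) (φ : G →* resField M) :
    ∃ lam : G →* ℂˣ, ¬ p ∣ orderOf lam ∧ ∀ g, red M (lam g) = φ g := by
  have hp : p.Prime := hM.1
  have := charP_resField hM
  have : ExpChar (resField M) p := ExpChar.prime hp
  set m := ordCompl[p] (Nat.card G) with hm
  have hm0 : m ≠ 0 := (Nat.ordCompl_pos p Nat.card_pos.ne').ne'
  have hpm : ¬ p ∣ m := Nat.not_dvd_ordCompl hp Nat.card_pos.ne'
  have h1 : ∀ g, φ g ^ m = 1 := fun g => by
    rw [← ExpChar.pow_prime_pow_mul_eq_one_iff p ((Nat.card G).factorization p), hm,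
      Nat.ordProj_mul_ordCompl_eq_self, ← map_pow, pow_card_eq_one', map_one]
  choose z hz1 hz2 using fun g => exists_pow_eq_one_red_eq hm0 (h1 g)
  let f : G →* ℂ :=
    { toFun := z
      map_one' := eq_of_red_eq_of_pow_eq_one hM hpm hpm (hz1 1) (one_pow m) (by
        rw [hz2, map_one, red_one])
      map_mul' := fun a b => eq_of_red_eq_of_pow_eq_one hM hpm hpm (hz1 _)
        (by rw [mul_pow, hz1, hz1, mul_one]) (by
          rw [red_mul (mem_valRing_of_pow_eq_one hm0 (hz1 a)) (mem_valRing_of_pow_eq_one hm0 (hz1 b)),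
            hz2, hz2, hz2, map_mul]) }
  refine ⟨f.toHomUnits, fun h => hpm (h.trans (orderOf_dvd_of_pow_eq_one ?_)), hz2⟩
  ext g
  have h2 : f g ^ m = 1 := hz1 g
  simpa using h2

theorem monoidHom_mem_valRing (lam : G →* ℂˣ) (g : G) : (lam g : ℂ) ∈ valRing M :=
  mem_valRing_of_pow_eq_one (orderOf_pos g).ne' (by
    rw [← Units.val_pow_eq_pow_val, ← map_pow, pow_orderOf_eq_one, map_one, Units.val_one])

/-- The reduction of the central character of an extension is that of a linear character. -/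
theorem exists_linear_red_omega [N.Normal] (hM : IsPModular p M) (hcov : CosetCov p N) {χ : G → ℂ}
    (hχ : IsCharacter G χ) {θ : IrrCharacter N} (hθ : θ ∈ principalBlock M N)
    (h : ∀ n : N, χ n = (θ : N → ℂ) n) :
    ∃ lam : G →* ℂˣ, (∀ n ∈ N, lam n = 1) ∧ ¬ p ∣ orderOf lam ∧ ∀ (g : G) (a : ℂ[G]),
      IsHomog M N g a → red M (omega χ a) = red M (lam g) * red M (omega (fun _ => 1) a) := by
  have hN : IsIrrCharacter N fun n : N => χ n := by rw [funext h]; exact θ.2
  have h1 : IsCharacter G fun _ => (1 : ℂ) := (CL.Char.irrOne G).2.isCharacter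
  let w : ℂ[G] → resField M := fun a => red M (omega χ a)
  let e : ℂ[G] → resField M := fun a => red M (omega (fun _ => 1) a)
  have hw : ∀ {q r a b}, IsHomog M N q a → IsHomog M N r b → w (a * b) = w a * w b := fun ha hb => by
    simp only [w]
    rw [omega_fixed_mul hχ hN ha.1, red_mul (omega_fixed_mem_valRing hχ hN ha.1 ha.2.1)
      (omega_fixed_mem_valRing hχ hN hb.1 hb.2.1)]
  have he : ∀ {q r a b}, IsHomog M N q a → IsHomog M N r b → e (a * b) = e a * e b := fun ha hb => by
    simp only [e]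
    rw [omega_fixed_mul h1 isIrrCharacter_res_one ha.1,
      red_mul (omega_fixed_mem_valRing h1 isIrrCharacter_res_one ha.1 ha.2.1)
      (omega_fixed_mem_valRing h1 isIrrCharacter_res_one hb.1 hb.2.1)]
  have hs : ∀ g : G, ∃ s, IsHomog M N g s ∧ e s ≠ 0 := fun g => by
    obtain ⟨x, hx, hd⟩ := hcov g
    refine ⟨_, hx ▸ isHomog_relClassSum x, ?_⟩
    simp only [e]
    rwa [omega_relClassSum h1.isClassFunction, mul_one, div_one, red_natCast, Ne,
      natCast_resField_eq_zero_iff hM]
  choose s hs1 hs2 using hs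
  have key : ∀ (g : G) (a : ℂ[G]), IsHomog M N g a → w a = w (s g) / e (s g) * e a := fun g a ha => by
    have h2 : ∀ b, IsHomog M N g b → w b * w (s g⁻¹) = e b * e (s g⁻¹) := fun b hb => by
      have h3 := hb.mul (hs1 g⁻¹)
      rw [← QuotientGroup.mk_mul, mul_inv_cancel, QuotientGroup.mk_one] at h3
      rw [← hw hb (hs1 _), ← he hb (hs1 _)]
      exact h3.red_omega hM hθ h
    have h3 := h2 _ (hs1 g)
    have h4 : w (s g⁻¹) ≠ 0 := right_ne_zero_of_mul (h3 ▸ mul_ne_zero (hs2 g) (hs2 _))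
    have h5 := hs2 g
    apply mul_right_cancel₀ h4
    rw [h2 a ha]
    field_simp
    linear_combination (-e a) * h3
  have hone : ∀ n ∈ N, w (s n) / e (s n) = 1 := fun n hn => by
    have h3 := hs1 n
    rw [(QuotientGroup.eq_one_iff n).2 hn] at h3
    rw [div_eq_one_iff_eq (hs2 n)]
    exact h3.red_omega hM hθ h
  let φ : G →* resField M :=
    { toFun := fun g => w (s g) / e (s g)
      map_one' := hone 1 N.one_mem
      map_mul' := fun a b => by
        have h3 := key (a * b) _ ((hs1 a).mul (hs1 b))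
        rw [hw (hs1 a) (hs1 b), he (hs1 a) (hs1 b)] at h3
        have := hs2 a
        have := hs2 b
        rw [div_mul_div_comm, h3, mul_div_cancel_right₀ _ (mul_ne_zero (hs2 a) (hs2 b))] }
  obtain ⟨lam, h3, h4⟩ := exists_monoidHom_red_eq hM φ
  refine ⟨lam, fun n hn => Units.ext (eq_one_of_red_eq_one hM h3 ?_ ((h4 n).trans (hone n hn))), h3,
    fun g a ha => h4 g ▸ key g a ha⟩
  rw [← Units.val_pow_eq_pow_val, ← MonoidHom.pow_apply, pow_orderOf_eq_one, MonoidHom.one_apply,
    Units.val_one]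

variable (M N) in
/-- The reduction of the central character of `χ` on the centraliser algebra is the augmentation. -/
def IsDadeExt (χ : G → ℂ) : Prop :=
  ∀ a ∈ fixedAlg ℂ N, a ∈ OG M G → red M (omega χ a) = red M (omega (fun _ => 1) a)

theorem exists_isDadeExt [N.Normal] (hM : IsPModular p M) (hcov : CosetCov p N) {χ : G → ℂ}
    (hχ : IsCharacter G χ) {θ : IrrCharacter N} (hθ : θ ∈ principalBlock M N)
    (h : ∀ n : N, χ n = (θ : N → ℂ) n) :
    ∃ lam : G →* ℂˣ, (∀ n ∈ N, lam n = 1) ∧ ¬ p ∣ orderOf lam ∧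
      IsDadeExt M N fun g => (lam g : ℂ) * χ g := by
  have hN : IsIrrCharacter N fun n : N => χ n := by rw [funext h]; exact θ.2
  have h1 : IsCharacter G fun _ => (1 : ℂ) := (CL.Char.irrOne G).2.isCharacter
  obtain ⟨lam, h2, h3, h4⟩ := exists_linear_red_omega hM hcov hχ hθ h
  refine ⟨lam⁻¹, fun n hn => by simp [h2 n hn], (orderOf_inv lam).symm ▸ h3, fun a ha haO => ?_⟩
  have := Fintype.ofFinite (G ⧸ N)
  have key : ∀ q, omega (fun g => (lam⁻¹ g : ℂ) * χ g) (cosetPart N q a) ∈ valRing M ∧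
      red M (omega (fun g => (lam⁻¹ g : ℂ) * χ g) (cosetPart N q a)) =
        red M (omega (fun _ => 1) (cosetPart N q a)) := fun q => by
    obtain ⟨x, rfl⟩ := QuotientGroup.mk_surjective q
    have h5 := isHomog_cosetPart (M := M) (x : G ⧸ N) ha haO
    have h6 := omega_fixed_mem_valRing hχ hN h5.1 h5.2.1
    rw [h5.omega_mul (c := (lam⁻¹ x : ℂ)) (by simp) fun g hg => by
      rw [show x = g * (g⁻¹ * x) by group, map_mul, MonoidHom.inv_apply lam (g⁻¹ * x),
        h2 _ (QuotientGroup.eq.1 hg), inv_one, mul_one]]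
    refine ⟨mul_mem (monoidHom_mem_valRing _ _) h6, ?_⟩
    rw [red_mul (monoidHom_mem_valRing _ _) h6, h4 x _ h5, ← mul_assoc,
      ← red_mul (monoidHom_mem_valRing _ _) (monoidHom_mem_valRing _ _)]
    simp [red_one]
  rw [← sum_cosetPart N a, map_sum, map_sum, red_sum _ _ fun q _ => (key q).1, red_sum _ _ fun q _ =>
    omega_fixed_mem_valRing h1 isIrrCharacter_res_one (isHomog_cosetPart (M := M) q ha haO).1
      (isHomog_cosetPart q ha haO).2.1]
  exact Finset.sum_congr rfl fun q _ => (key q).2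

theorem IsDadeExt.mem_principal (hM : IsPModular p M) {χ : G → ℂ} (h : IsDadeExt M N χ)
    {J : Subgroup G} (hJ : N ≤ J) {ξ : IrrCharacter J} (hξ : ∀ y : J, (ξ : J → ℂ) y = χ y) :
    ξ ∈ principalBlock M J := by
  refine (sameBlock_iff_red hM (χ := CL.Char.irrOne J)).2 fun g => ?_
  have h1 := h (incl J (classSum ℂ g)) (fixedAlg_anti hJ (incl_mem_fixedAlg (classSum_mem_center g)))
    (incl_mem_OG J (classSum_mem_OG g))
  rw [omega_incl, omega_incl, ← funext hξ] at h1
  rw [← irr_omega_classSum, ← irr_omega_classSum, h1]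
  rfl

theorem IsDadeExt.mem_principal_top (hM : IsPModular p M) {χ : IrrCharacter G}
    (h : IsDadeExt M N (χ : G → ℂ)) : χ ∈ principalBlock M G := by
  refine (sameBlock_iff_red hM (χ := CL.Char.irrOne G)).2 fun g => ?_
  rw [← irr_omega_classSum, ← irr_omega_classSum,
    h _ (center_le_fixedAlg N (classSum_mem_center g)) (classSum_mem_OG g)]
  rfl

omit [Finite G] in
theorem cosetCov_of_sup_centralizer [N.Normal] {P : Subgroup G} (hP : ¬ p ∣ P.relIndex N)
    (h : N ⊔ centralizer (P : Set G) = ⊤) : CosetCov p N := fun g => by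
  have hg : g ∈ ((centralizer (P : Set G) ⊔ N : Subgroup G) : Set G) := by
    rw [sup_comm, h]; trivial
  rw [Subgroup.mul_normal] at hg
  obtain ⟨c, hc, n, hn, rfl⟩ := hg
  refine ⟨c, QuotientGroup.eq.2 (by simpa using hn), fun h1 => hP (h1.trans ?_)⟩
  exact relIndex_dvd_of_le_left N (le_centralizer_singleton_iff.2 hc)

theorem not_dvd_relIndex_map_sylow [Fact p.Prime] (P : Sylow p N) :
    ¬ p ∣ ((P : Subgroup N).map N.subtype).relIndex N := by
  rw [relIndex, subgroupOf, comap_map_eq_self_of_injective N.subtype_injective]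
  exact P.not_dvd_index

/-- Members of the principal block of `N` are invariant. -/
theorem conjIrr_eq_of_cosetCov [N.Normal] (hM : IsPModular p M) (hcov : CosetCov p N)
    {θ : IrrCharacter N} (hθ : θ ∈ principalBlock M N) (g : G) : conjIrr g θ = θ := by
  have h1 : IsCharacter G fun _ => (1 : ℂ) := (CL.Char.irrOne G).2.isCharacter
  obtain ⟨x, hx, hxd⟩ := hcov g
  obtain ⟨y, hy, hyd⟩ := hcov g⁻¹
  have hs := isHomog_relClassSum (M := M) (N := N) x
  have hst := hs.mul (isHomog_relClassSum y)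
  rw [hx] at hs
  rw [hx, hy, ← QuotientGroup.mk_mul, mul_inv_cancel, QuotientGroup.mk_one] at hst
  by_contra hne
  have hconj : ∀ u : G, (u : G ⧸ N) = g → conjIrr u θ = conjIrr g θ := fun u hu => by
    rw [show g = u * (u⁻¹ * g) by group, ← conjIrr_conjIrr, conjIrr_of_mem (QuotientGroup.eq.1 hu)]
  set e := incl N (charIdem (θ : N → ℂ)) with he
  have h2 : e * relClassSum N x = relClassSum N x * incl N (charIdem (conjIrr g θ : N → ℂ)) := by
    have := Fintype.ofFinite G
    rw [eq_sum_single (relClassSum N x), Finset.mul_sum, Finset.sum_mul]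
    refine Finset.sum_congr rfl fun u _ => ?_
    by_cases h : (relClassSum N x).coeff u = 0
    · simp [h]
    · rw [← hconj u (hs.2.2 u h), incl_charIdem_conjIrr, ← he,
        show single u ((relClassSum N x).coeff u) = (relClassSum N x).coeff u • single u (1 : ℂ) by simp,
        mul_smul_comm, smul_mul_assoc, ← mul_assoc, ← mul_assoc, single_mul_single, mul_inv_cancel,
        mul_one, ← one_def, one_mul]
  have h3 : e * relClassSum N x = 0 := by
    rw [he, ← charIdem_mul_self, map_mul, mul_assoc, ← he, h2, ← mul_assoc, he,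
      ← fixedAlg_mul_incl_comm hs.1, mul_assoc, ← map_mul, charIdem_mul_charIdem_of_ne (Ne.symm hne),
      map_zero, mul_zero]
  have h4 : charIdem (θ : N → ℂ) * trunc N (relClassSum N x * relClassSum N y) = 0 := by
    rw [← trunc_incl_mul, ← mul_assoc, ← he, h3, zero_mul, map_zero]
  have h5 := omega_center_mul θ.2 (irr_charIdem_mem_center θ)
    (trunc N (relClassSum N x * relClassSum N y))
  rw [h4, map_zero, omega_charIdem, if_pos rfl, one_mul] at h5
  have h6 := red_omega_eq_of_sameBlock hM (χ := CL.Char.irrOne N) hθ (trunc_mem_center hst.1)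
    (trunc_mem_OG N hst.2.1)
  rw [← h5, red_zero, CL.Char.coe_irrOne, ← omega_incl (fun _ => 1), hst.incl_trunc,
    omega_fixed_mul h1 isIrrCharacter_res_one hs.1, omega_relClassSum h1.isClassFunction,
    omega_relClassSum h1.isClassFunction, mul_one, mul_one, div_one, div_one, ← Nat.cast_mul, red_natCast,
    natCast_resField_eq_zero_iff hM] at h6
  exact ((Nat.Prime.dvd_mul hM.1).1 h6).elim hxd hyd

/-- A root of unity congruent to one has `p`-power order. -/
theorem pow_ordProj_eq_one_of_red_eq_one (hM : IsPModular p M) {z : ℂ} {n : ℕ} (hn : n ≠ 0)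
    (hz : z ^ n = 1) (h1 : red M z = 1) : z ^ p ^ n.factorization p = 1 :=
  eq_one_of_red_eq_one hM (Nat.not_dvd_ordCompl hM.1 hn)
    (by rw [← pow_mul, Nat.ordProj_mul_ordCompl_eq_self, hz])
    (by rw [red_pow (mem_valRing_of_pow_eq_one hn hz), h1, one_pow])

theorem realizes_pow_of_cosetCov [N.Normal] (hM : IsPModular p M) (hcov : CosetCov p N)
    {θ : IrrCharacter N} (hθ : θ ∈ principalBlock M N) (C : CL.Char.CharCover N (θ : N → ℂ)) :
    ∃ a : ℕ, C.Realizes (p ^ a) := by
  have hcov' : CosetCov p C.ι.range := fun g => by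
    obtain ⟨x, hx, hd⟩ := hcov (C.π g)
    have h1 : x⁻¹ * C.π g ∈ N := QuotientGroup.eq.1 hx
    have h2 : C.π (g * (C.ι ⟨_, h1⟩)⁻¹) = x := by rw [map_mul, map_inv, C.π_ι]; group
    refine ⟨g * (C.ι ⟨_, h1⟩)⁻¹, QuotientGroup.eq.2 ⟨⟨_, h1⟩, by group⟩, ?_⟩
    generalize g * (C.ι ⟨_, h1⟩)⁻¹ = y at h2
    subst h2
    rw [← index_comap]
    convert hd using 2
    rw [relIndex]
    congr 1
    ext n
    rw [mem_comap, mem_subgroupOf, mem_centralizer_singleton_iff, mem_centralizer_singleton_iff,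
      eq_comm, ← mul_inv_eq_iff_eq_mul, C.ι_conj, C.ι_injective.eq_iff, Subtype.ext_iff,
      mul_inv_eq_iff_eq_mul, eq_comm]
  have hθ' : (⟨_, C.ext_range_irr⟩ : IrrCharacter C.ι.range) ∈ principalBlock M C.ι.range :=
    (mem_principal_comp_mulEquiv_iff hM (MonoidHom.ofInjective C.ι_injective)
      fun n => (C.ext_ι n).symm).1 hθ
  obtain ⟨lam, h1, -, h2⟩ := exists_linear_red_omega hM hcov' C.ext_irr.isCharacter hθ' fun _ => rfl
  refine ⟨(Nat.card C.Γ).factorization p, lam ^ p ^ (Nat.card C.Γ).factorization p,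
    fun n => by simp [h1 _ ⟨n, rfl⟩], fun z => ?_⟩
  have h3 := h2 z (single (z : C.Γ) 1) ⟨center_le_fixedAlg _ (by
    rw [← classSum_of_mem_center (C.ker_central z.2)]; exact classSum_mem_center _),
    single_one_mem_OG _, fun g hg => by
      classical
      rw [coeff_single_ite] at hg
      split_ifs at hg with h
      exacts [h ▸ rfl, (hg rfl).elim]⟩
  have hd : (C.d : ℂ) ≠ 0 := Nat.cast_ne_zero.2 C.d_pos.ne'
  rw [omega_single, omega_single, C.ext_ker, C.ext_one, one_mul, mul_div_cancel_right₀ _ hd, mul_one,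
    div_one, red_one, mul_one] at h3
  have h4 : ((lam⁻¹ z : ℂˣ) : ℂ) ∈ valRing M := monoidHom_mem_valRing _ _
  have h5 := pow_ordProj_eq_one_of_red_eq_one hM (z := (C.ν z : ℂ) * (lam⁻¹ z : ℂˣ))
    (Nat.card_pos (α := C.Γ)).ne' (by
      rw [mul_pow, ← Units.val_pow_eq_pow_val, ← Units.val_pow_eq_pow_val, ← map_pow, ← map_pow,
        pow_card_eq_one', show z ^ Nat.card C.Γ = 1 from Subtype.ext (by simp), map_one, map_one]
      simp) (by
      rw [red_mul (monoidHom_mem_valRing _ _) h4, h3, ← red_mul (monoidHom_mem_valRing _ _) h4]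
      simp [red_one])
  rw [← Units.val_mul, ← Units.val_pow_eq_pow_val, Units.val_eq_one, mul_pow, MonoidHom.inv_apply, inv_pow,
    mul_inv_eq_one] at h5
  exact h5.symm

/-- Dade: for `p'`-index the members of the principal block of `N` extend. -/
theorem exists_isDadeExt_of_not_dvd [N.Normal] (hM : IsPModular p M) (hcov : CosetCov p N)
    (hidx : ¬ p ∣ N.index) {θ : IrrCharacter N} (hθ : θ ∈ principalBlock M N) :
    ∃ χ : IrrCharacter G, IsDadeExt M N (χ : G → ℂ) ∧ ∀ n : N, (χ : G → ℂ) n = (θ : N → ℂ) n := by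
  obtain ⟨C⟩ := CL.Char.nonempty_charCover N θ.2 fun g n => by
    rw [← conjIrr_apply, conjIrr_eq_of_cosetCov hM hcov hθ]
  obtain ⟨a, ha⟩ := realizes_pow_of_cosetCov hM hcov hθ C
  obtain ⟨η, hη, he⟩ := (ha.of_coprime C.realizes_index (Nat.Coprime.pow_left _
    ((Nat.Prime.coprime_iff_not_dvd hM.1).2 hidx))).exists_extension
  obtain ⟨lam, h1, -, h2⟩ := exists_isDadeExt hM hcov hη.isCharacter hθ he
  exact ⟨⟨_, hη.monoidHom_mul lam⟩, h2, fun n => by simp [h1 n n.2, he]⟩

/-- Two members of the principal block over an extendible character agree when every coset contains an element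
whose class has `p'`-size. -/
theorem eq_of_mem_principal_of_over [N.Normal] [Fintype N] (hM : IsPModular p M) (hidx : ¬ p ∣ N.index)
    (hcov : ∀ g : G, ∃ x : G, (x : G ⧸ N) = g ∧ ¬ p ∣ (centralizer ({x} : Set G)).index)
    {χ ψ : IrrCharacter G} (hχ : χ ∈ principalBlock M G) (hψ : ψ ∈ principalBlock M G)
    (hN : IsIrrCharacter N fun n : N => (χ : G → ℂ) n)
    (h : classInner (fun n : N => (ψ : G → ℂ) n) (fun n : N => (χ : G → ℂ) n) ≠ 0) : ψ = χ := by
  obtain ⟨β, hβ, hβN, he⟩ := CL.Char.gallagher_surj χ.2.isCharacter hN ψ.2 h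
  obtain ⟨γ, hγ⟩ := exists_inflIrr_eq (N := N) (ψ := ⟨β, hβ⟩) fun n hn => hβ.mem_charKer.1 (hβN hn)
  have hγ' : ∀ g : G, β g = (γ : G ⧸ N → ℂ) g := fun g => congrFun (congrArg Subtype.val hγ) g
  have := Fintype.ofFinite (G ⧸ N)
  have h1 : ∀ q, val M ((γ : G ⧸ N → ℂ) q / (γ : G ⧸ N → ℂ) 1 - 1) < 1 := fun q => by
    obtain ⟨g, rfl⟩ := QuotientGroup.mk_surjective q
    obtain ⟨x, hx, hd⟩ := hcov g
    have h2 := val_irr_div_sub_one_of_mem_principal hM hχ hd
    have h3 := val_irr_div_sub_one_of_mem_principal hM hψ hd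
    have h4 : val M ((χ : G → ℂ) x / (χ : G → ℂ) 1) = 1 := val_eq_one_of_sub_lt (map_one _) h2
    have h5 := (val M).map_sub_lt h3 h2
    rw [← hx, ← QuotientGroup.mk_one, ← hγ', ← hγ', ← mul_one (val M _), ← h4, ← map_mul]
    rw [h4]
    convert h5 using 2
    have := hβ.one_ne_zero
    have := irr_one_ne_zero χ
    rw [he, Pi.mul_apply, Pi.mul_apply]
    field_simp
    ring
  have h2 : γ = CL.Char.irrOne (G ⧸ N) := by
    by_contra hne
    have h3 := val_sum_lt_one Finset.univ _ fun q _ => h1 q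
    rw [Finset.sum_sub_distrib, ← Finset.sum_div, γ.2.sum_eq_zero
      (fun h4 => hne (Subtype.ext h4)), zero_div, zero_sub, Valuation.map_neg, Finset.sum_const,
      Finset.card_univ, nsmul_eq_mul, mul_one, val_natCast_lt_one_iff hM, ← Nat.card_eq_fintype_card] at h3
    exact hidx h3
  refine Subtype.ext (funext fun g => ?_)
  rw [he, Pi.mul_apply, hγ', h2, CL.Char.irrOne_apply, one_mul]

end CL.Blk
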