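/-
A simple group of order 5616: the principal 13-block and centralizers of elements of even order.
-/
import Cfsg.Agent.Blk.AltSevenA
import Cfsg.Agent.Char.ClassAlg
import Cfsg.Agent.Inv.POSimple
import Cfsg.Agent.Known.StSplit
import Cfsg.Agent.Spor.SelfCent

set_option autoImplicit false

namespace CL.Blk.L33

open Finset CL.Blk CL.Char CL.Inv CL.Inv.PO Cfsg Subgroup ComplexConjugate
open scoped Classical

variable {G : Type*} [Group G] [Fintype G]

section tools

theorem card_pairs_mul (a b c : G) :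
    (Nat.card {p : G × G // IsConj a p.1 ∧ IsConj b p.2 ∧ p.1 * p.2 = c} : ℂ) *
      Nat.card (centralizer ({a} : Set G)) * Nat.card (centralizer ({b} : Set G)) =
      Nat.card G * ∑ χ : IrrCharacter G,
        (χ : G → ℂ) a * (χ : G → ℂ) b * conj ((χ : G → ℂ) c) / (χ : G → ℂ) 1 := by
  have e1 := congrArg (Nat.cast : ℕ → ℂ) (card_isConj_mul_card_centralizer a)
  have e2 := congrArg (Nat.cast : ℕ → ℂ) (card_isConj_mul_card_centralizer b)
  have h0 := natCard_ne_zero (G := G)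
  rw [classAlg_card_pairs a b c]
  push_cast at e1 e2
  generalize ∑ χ : IrrCharacter G,
    (χ : G → ℂ) a * (χ : G → ℂ) b * conj ((χ : G → ℂ) c) / (χ : G → ℂ) 1 = s
  field_simp
  linear_combination s * ((Nat.card {x : G // IsConj b x} * Nat.card (centralizer ({b} : Set G))) *
    e1 + Nat.card G * e2)

theorem sum_norm_sq_le (S : Finset (IrrCharacter G)) (a : G) :
    ∑ χ ∈ S, ‖(χ : G → ℂ) a‖ ^ 2 ≤ Nat.card (centralizer ({a} : Set G)) :=
  sum_irr_norm_sq a ▸ sum_le_univ_sum_of_nonneg fun _ => sq_nonneg _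

theorem sum_norm_add_sq_le (S : Finset (IrrCharacter G)) {a b : G} (h : ¬ IsConj a b) :
    ∑ χ ∈ S, ‖(χ : G → ℂ) a + (χ : G → ℂ) b‖ ^ 2 ≤
      Nat.card (centralizer ({a} : Set G)) + Nat.card (centralizer ({b} : Set G)) := by
  refine (sum_le_univ_sum_of_nonneg fun _ => sq_nonneg _).trans_eq ?_
  have h1 := congrArg Complex.re (sum_irr_mul_conj_of_not_isConj h)
  rw [Complex.re_sum, Complex.zero_re] at h1
  simp only [← Complex.normSq_eq_norm_sq, Complex.normSq_add, sum_add_distrib, ← mul_sum, h1]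
  simp only [Complex.normSq_eq_norm_sq, sum_irr_norm_sq, mul_zero, add_zero]

omit [Fintype G] in
theorem orderOf_conj {a b : G} (h : IsConj a b) : orderOf a = orderOf b := by
  obtain ⟨c, hc⟩ := h
  exact SemiconjBy.orderOf_eq _ hc

omit [Fintype G] in
/-- An element that is not conjugate to its inverse is not a product of two involutions. -/
theorem card_pairs_eq_zero {a b c : G} (ha : a * a = 1) (hb : b * b = 1) (hc : ¬ IsConj c c⁻¹) :
    Nat.card {p : G × G // IsConj a p.1 ∧ IsConj b p.2 ∧ p.1 * p.2 = c} = 0 := by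
  have key : ∀ {u v : G}, u * u = 1 → IsConj u v → v⁻¹ = v := fun {u v} hu h => by
    obtain ⟨g, rfl⟩ := isConj_iff.1 h
    rw [inv_eq_iff_mul_eq_one, conj_mul, hu, mul_one, mul_inv_cancel]
  rw [Nat.card_eq_zero]
  refine .inl ⟨fun ⟨p, h1, h2, h3⟩ => hc (isConj_iff.2 ⟨p.1, ?_⟩)⟩
  rw [← h3, mul_inv_rev, key hb h2, ← mul_assoc]
  nth_rewrite 1 [← key ha h1]
  rw [inv_mul_cancel, one_mul]

theorem not_isConj_inv {p : ℕ} [Fact p.Prime] {x : G} {C : Subgroup G} (K : Ctx p x C)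
    (hN : Odd (Nat.card (Nz x))) : ¬ IsConj x x⁻¹ := fun hc => by
  obtain ⟨g, hg⟩ := isConj_iff.1 hc
  have h1 : g ∈ Nz x := CL.Spor.mem_normalizer_zpowers (hg ▸ inv_mem (mem_zpowers x))
  obtain ⟨k, hk⟩ := hN.of_dvd_nat (CL.Spor.orderOf_dvd_card_of_mem h1)
  have h3 : g ^ 2 ∈ centralizer ({x} : Set G) := by
    rw [mem_centralizer_singleton_iff, ← mul_inv_eq_iff_eq_mul]
    calc g ^ 2 * x * (g ^ 2)⁻¹ = g * (g * x * g⁻¹) * g⁻¹ := by rw [pow_two]; group
      _ = (g * x * g⁻¹)⁻¹ := by rw [hg]; nth_rewrite 2 [← inv_inv x, ← hg]; group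
      _ = x := by rw [hg, inv_inv]
  have h4 : g ∈ centralizer ({x} : Set G) := by
    have : g = (g ^ 2) ^ (k + 1) := by
      rw [← pow_mul, show 2 * (k + 1) = orderOf g + 1 by omega, pow_succ, pow_orderOf_eq_one,
        one_mul]
    exact this ▸ pow_mem h3 _
  rw [mem_centralizer_singleton_iff.1 h4, mul_inv_cancel_right, eq_inv_iff_mul_eq_one, ← pow_two,
    ← orderOf_dvd_iff_pow_eq_one] at hg
  have h5 := hN.of_dvd_nat (CL.Spor.orderOf_dvd_card_of_mem
    (show x ∈ Nz x from le_normalizer (mem_zpowers x)))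
  rcases (Nat.dvd_prime Nat.prime_two).1 hg with h | h
  · exact K.x_ne_one (orderOf_eq_one_iff.1 h)
  · rw [h] at h5
    exact absurd h5 (by decide)

end tools

/-- The characters of the principal 13-block. -/
structure Hyp (x : G) (α β : IrrCharacter G) : Prop where
  card : Nat.card G = 5616
  ord : orderOf x = 13
  cent : ∀ g : G, 13 ∣ orderOf g → ¬ 2 ∣ orderOf g
  nreal : ¬ IsConj x x⁻¹
  dα : charDegree (α : G → ℂ) = 12
  dβ : charDegree (β : G → ℂ) = 27
  αx : (α : G → ℂ) x = -1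
  βx : (β : G → ℂ) x = 1
  int : ∀ g, ∃ n : ℤ, (α : G → ℂ) g = n
  cases : ∀ χ : IrrCharacter G, χ = irrOne G ∨ χ = α ∨ χ = β ∨ charDegree (χ : G → ℂ) = 16 ∨
    (χ : G → ℂ) x = 0

theorem arith {s t ε : ℤ} {a b m : ℕ}
    (ha : (s = 1 ∧ (a = 27 ∨ a = 144)) ∨ (s = -1 ∧ a = 12))
    (hb : (t = 1 ∧ (b = 27 ∨ b = 144)) ∨ (t = -1 ∧ b = 12))
    (hm : (ε = 1 ∧ (m = 3 ∨ m = 16 ∨ m = 432)) ∨ (ε = -1 ∧ m = 36)) (hle : a ≤ b)
    (h : ε * m = 1 * (1 : ℕ) + (s * a + t * b)) :
    s = -1 ∧ a = 12 ∧ t = 1 ∧ b = 27 ∧ m = 16 := by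
  rcases ha with ⟨rfl, rfl | rfl⟩ | ⟨rfl, rfl⟩ <;> rcases hb with ⟨rfl, rfl | rfl⟩ | ⟨rfl, rfl⟩ <;>
    rcases hm with ⟨rfl, h'⟩ | ⟨rfl, h'⟩ <;> omega

theorem exists_hyp [IsSimpleGroup G] (hG : Nat.card G = 5616) : ∃ (x : G) (α β : IrrCharacter G),
    Hyp x α β := by
  have : Fact (Nat.Prime 13) := ⟨by norm_num⟩
  have hna : ¬ IsMulCommutative G := not_isMulCommutative_of_not_prime (by rw [hG]; norm_num)
  have hperf := commutator_eq_top_of_simple hna
  obtain ⟨x, ⟨K⟩⟩ := exists_ctx_of_dvd (G := G) (p := 13) (by rw [hG]; norm_num)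
    (by rw [hG]; norm_num)
  have hC := (centralizer_eq_zpowers_of_three_primes (a := 4) (b := 3) Nat.prime_two
    Nat.prime_three Fact.out (by norm_num) (by norm_num) hG K.hx).le
  have hf : K.f = 3 := by
    have h2 := K.card_G hC
    have h4 := K.index_N_modEq
    have h5 : K.f ∣ 12 := K.f_dvd
    have h6 := Nat.le_of_dvd (by norm_num) h5
    rw [hG] at h2
    unfold Nat.ModEq at h4
    interval_cases K.f <;> omega
  obtain ⟨M, hM⟩ := exists_isPModular' (Fact.out : Nat.Prime 13)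
  obtain ⟨D, h1, hs1⟩ := K.exists_data_principal hM
  obtain ⟨α, β, hα1, hβ1, hαβ, hle, hX⟩ : ∃ α β, irrOne G ≠ α ∧ irrOne G ≠ β ∧ α ≠ β ∧
      charDegree (α : G → ℂ) ≤ charDegree (β : G → ℂ) ∧ D.X = {irrOne G, α, β} := by
    obtain ⟨a, b, hab, h⟩ := card_eq_two.1
      ((card_erase_of_mem h1).trans (by rw [D.card_X_one, hf]))
    have ha : a ∈ D.X.erase (irrOne G) := by simp [h]
    have hb : b ∈ D.X.erase (irrOne G) := by simp [h]
    have h2 := (insert_erase h1).symm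
    rw [h] at h2
    rcases le_total (charDegree (a : G → ℂ)) (charDegree (b : G → ℂ)) with e | e
    · exact ⟨a, b, (ne_of_mem_erase ha).symm, (ne_of_mem_erase hb).symm, hab, e, h2⟩
    · exact ⟨b, a, (ne_of_mem_erase hb).symm, (ne_of_mem_erase ha).symm, hab.symm, e,
        h2.trans (by rw [pair_comm])⟩
  have hi : (centralizer ({x} : Set G)).index = 432 := by
    have := (centralizer ({x} : Set G)).card_mul_index
    rw [K.card_C hC, hG] at this
    omega
  have key : ∀ d ∈ Nat.divisors 432, (d % 13 = 1 → d = 1 ∨ d = 27 ∨ d = 144) ∧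
      (d % 13 = 12 → d = 12) ∧ (d % 13 = 3 → d = 3 ∨ d = 16 ∨ d = 432) ∧ (d % 13 = 10 → d = 36) := by
    decide +kernel
  have hdX : ∀ ψ ∈ D.X, irrOne G ≠ ψ →
      (D.s ψ = 1 ∧ (charDegree (ψ : G → ℂ) = 27 ∨ charDegree (ψ : G → ℂ) = 144)) ∨
      (D.s ψ = -1 ∧ charDegree (ψ : G → ℂ) = 12) := fun ψ hψ hψ1 => by
    have hmod := D.deg_X_one hψ
    have hd1 : charDegree (ψ : G → ℂ) ≠ 1 := fun h => hψ1 (eq_irrOne_of_perfect hperf h).symm
    have := key _ (Nat.mem_divisors.2 ⟨hi ▸ D.deg_X_dvd hψ, by norm_num⟩)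
    unfold Int.ModEq at hmod
    rcases D.hs ψ hψ with e | e <;> rw [e] at hmod
    · exact .inl ⟨e, (this.1 (by omega)).resolve_left hd1⟩
    · exact .inr ⟨e, this.2.1 (by omega)⟩
  have hdμ : (D.ε = 1 ∧ (charDegree (D.μ 1 : G → ℂ) = 3 ∨ charDegree (D.μ 1 : G → ℂ) = 16 ∨
      charDegree (D.μ 1 : G → ℂ) = 432)) ∨ (D.ε = -1 ∧ charDegree (D.μ 1 : G → ℂ) = 36) := by
    have hmod := D.deg_μ_one 1
    have := key _ (Nat.mem_divisors.2 ⟨hi ▸ D.deg_μ_dvd 1, by norm_num⟩)
    unfold Int.ModEq at hmod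
    rcases D.hε with e | e <;> rw [e, hf] at hmod
    · exact .inl ⟨e, this.2.2.1 (by omega)⟩
    · exact .inr ⟨e, this.2.2.2 (by omega)⟩
  have hα : α ∈ D.X := by simp [hX]
  have hβ : β ∈ D.X := by simp [hX]
  have hrel := D.deg_rel 1
  rw [hX, sum_insert (by simp [hα1, hβ1]), sum_pair hαβ, hs1, CL.Spor.charDegree_irrOne] at hrel
  obtain ⟨e1, e2, e3, e4, e5⟩ := arith (hdX α hα hα1) (hdX β hβ hβ1) hdμ hle hrel
  have hc : ∀ χ : IrrCharacter G, χ = irrOne G ∨ χ = α ∨ χ = β ∨ charDegree (χ : G → ℂ) = 16 ∨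
      (χ : G → ℂ) x = 0 := fun χ => by
    by_cases h : χ ∈ principalBlock M G
    · rcases (D.mem_iff χ).1 h with h | ⟨k, rfl⟩
      · simp only [hX, mem_insert, mem_singleton] at h
        tauto
      · exact .inr (.inr (.inr (.inl ((D.deg_μ k 1).trans e5))))
    · exact .inr (.inr (.inr (.inr (D.apply_eq_zero_of_notMem hC h K.sing_x))))
  refine ⟨x, α, β, hG, K.hx, fun g hg h2 => ?_, not_isConj_inv K (by
    rw [K.card_N_self hC, hf]; decide), e2, e4, by rw [D.X_sing_one hα K.sing_x, e1]; simp,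
    by rw [D.X_sing_one hβ K.sing_x, e3]; simp, CL.Blk.A7.exists_int_of_gal fun σ => ?_, hc⟩
  · have := h2.trans (orderOf_dvd_of_pow_eq_one (K.pow_eq_one_of_sing hC hg))
    omega
  · have h2 := (CL.Blk.A7.charDegree_galIrr σ α).trans e2
    rcases hc (galIrr σ α) with e | e | e | e | e
    · rw [e, CL.Spor.charDegree_irrOne] at h2; omega
    · exact e
    · rw [e] at h2; omega
    · omega
    · rw [galIrr_apply, D.X_sing_one hα K.sing_x, e1] at e
      simp at e

namespace Hyp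

variable {x : G} {α β : IrrCharacter G} (h : Hyp x α β)
include h

theorem sum_eq {g : G} (hg : 2 ∣ orderOf g) (F : IrrCharacter G → ℂ)
    (hF : ∀ χ : IrrCharacter G, (χ : G → ℂ) g = 0 ∨ (χ : G → ℂ) x = 0 → F χ = 0) :
    ∑ χ, F χ = F (irrOne G) + F α + F β := by
  have h1 := h.dα
  have h2 := h.dβ
  have h3 := CL.Spor.charDegree_irrOne (G := G)
  rw [← sum_subset (subset_univ {irrOne G, α, β}) fun χ _ hχ => ?_, sum_insert, sum_pair, add_assoc]
  · rintro rfl; omega
  · simp only [mem_insert, mem_singleton]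
    rintro (rfl | rfl) <;> omega
  simp only [mem_insert, mem_singleton, not_or] at hχ
  refine hF χ ?_
  rcases h.cases χ with e | e | e | e | e
  · exact absurd e hχ.1
  · exact absurd e hχ.2.1
  · exact absurd e hχ.2.2
  · exact .inl (CL.Spor.eq_zero_of_defect_zero Nat.prime_two χ (by rw [e, h.card]; norm_num) hg)
  · exact .inr e

theorem sum_three (F : IrrCharacter G → ℝ) :
    ∑ χ ∈ {irrOne G, α, β}, F χ = F (irrOne G) + F α + F β := by
  have h1 := h.dα
  have h2 := h.dβ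
  have h3 := CL.Spor.charDegree_irrOne (G := G)
  rw [sum_insert, sum_pair, add_assoc]
  · rintro rfl; omega
  · simp only [mem_insert, mem_singleton]
    rintro (rfl | rfl) <;> omega

theorem β_eq {g : G} (hg : 2 ∣ orderOf g) : (β : G → ℂ) g = (α : G → ℂ) g - 1 := by
  have h1 := sum_irr_mul_conj_of_not_isConj (g := g) (h := x) fun e =>
    h.cent g (by rw [orderOf_conj e, h.ord]) hg
  rw [h.sum_eq hg _ (by rintro χ (e | e) <;> simp [e]), h.αx, h.βx] at h1
  simp at h1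
  linear_combination h1

theorem pairs {a b : G} (ha : 2 ∣ orderOf a) (hb : 2 ∣ orderOf b) {u v : ℤ}
    (hu : (α : G → ℂ) a = u) (hv : (α : G → ℂ) b = v) :
    (Nat.card {p : G × G // IsConj a p.1 ∧ IsConj b p.2 ∧ p.1 * p.2 = x} : ℤ) *
      Nat.card (centralizer ({a} : Set G)) * Nat.card (centralizer ({b} : Set G)) =
      5616 - 468 * (u * v) + 208 * ((u - 1) * (v - 1)) := by
  have h1 := card_pairs_mul a b x
  rw [h.sum_eq ha _ (by rintro χ (e | e) <;> simp [e]), h.αx, h.βx, h.β_eq ha, h.β_eq hb, hu, hv,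
    ← α.2.cast_charDegree, ← β.2.cast_charDegree, h.dα, h.dβ, h.card] at h1
  apply Int.cast_injective (α := ℂ)
  push_cast at h1 ⊢
  rw [h1]
  simp
  ring

theorem α_invol {t : G} (ht : orderOf t = 2) : (α : G → ℂ) t = 4 := by
  obtain ⟨u, hu⟩ := h.int t
  have h1 := h.pairs ht.symm.dvd ht.symm.dvd hu hu
  have h2 : t * t = 1 := by rw [← sq, ← ht, pow_orderOf_eq_one]
  rw [card_pairs_eq_zero h2 h2 h.nreal] at h1
  have h3 : (u - 4) * (5 * u + 28) = 0 := by push_cast at h1; linarith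
  rw [hu, show u = 4 by rcases mul_eq_zero.1 h3 with e | e <;> omega]
  simp

theorem le_card {g : G} (hg : 2 ∣ orderOf g) {v : ℤ} (hv : (α : G → ℂ) g = v) :
    1 + v ^ 2 + (v - 1) ^ 2 ≤ Nat.card (centralizer ({g} : Set G)) := by
  have h1 := sum_norm_sq_le {irrOne G, α, β} g
  rw [h.sum_three, h.β_eq hg, hv, ← Int.cast_one, ← Int.cast_sub, Complex.norm_intCast,
    Complex.norm_intCast, sq_abs, sq_abs] at h1
  simp only [coe_irrOne, norm_one, one_pow] at h1
  exact_mod_cast h1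

theorem card_invol {t : G} (ht : orderOf t = 2) : Nat.card (centralizer ({t} : Set G)) = 48 := by
  have h1 := h.le_card ht.symm.dvd (v := 4) (by rw [h.α_invol ht]; simp)
  have h2 : ¬ 3 ^ 2 ∣ Nat.card (centralizer ({t} : Set G)) := fun e => by
    have := CL.Chev.St.dvd_of_defect_zero Nat.prime_three β.2 (d := 27) (k := 208)
      (by rw [← β.2.cast_charDegree, h.dβ]) h.card (by norm_num) (g := t) (z := 3)
      (by rw [h.β_eq ht.symm.dvd, h.α_invol ht]; norm_num) e
    norm_num at this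
  have h3 : ¬ 13 ∣ Nat.card (centralizer ({t} : Set G)) := fun e => by
    obtain ⟨c, hc, hcq⟩ := CL.Spor.exists_mem_orderOf_prime _ (by norm_num) e
    have hcy : Commute c t := mem_centralizer_singleton_iff.1 hc
    have := hcy.orderOf_mul_eq_mul_orderOf_of_coprime (by rw [ht, hcq]; norm_num)
    rw [ht, hcq] at this
    exact h.cent (c * t) (by rw [this]; norm_num) (by rw [this]; norm_num)
  have key : ∀ d ∈ Nat.divisors 5616, ¬ 3 ^ 2 ∣ d → ¬ 13 ∣ d → 26 ≤ d → d = 48 := by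
    decide +kernel
  exact key _ (Nat.mem_divisors.2 ⟨h.card ▸ card_subgroup_dvd_card _, by norm_num⟩) h2 h3
    (by omega)

/-- Elements of even order other than involutions. -/
theorem cent_even {g : G} (hg : 2 ∣ orderOf g) (hg2 : orderOf g ≠ 2) :
    ((α : G → ℂ) g = 0 ∧ Nat.card (centralizer ({g} : Set G)) ∣ 8) ∨
      Nat.card (centralizer ({g} : Set G)) ∣ 6 := by
  obtain ⟨v, hv⟩ := h.int g
  obtain ⟨t, ht, ht2⟩ := CL.Spor.exists_mem_orderOf_prime (zpowers g) Nat.prime_two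
    (by rwa [Nat.card_zpowers])
  have h1 : Nat.card (centralizer ({g} : Set G)) ∣ 48 := by
    rw [← h.card_invol ht2]
    refine card_dvd_of_le fun c hc => ?_
    obtain ⟨k, rfl⟩ := ht
    exact mem_centralizer_singleton_iff.2
      (Commute.zpow_right (mem_centralizer_singleton_iff.1 hc) k)
  have h2 := h.le_card hg hv
  have h3 := h.pairs ht2.symm.dvd hg (u := 4) (by rw [h.α_invol ht2]; simp) hv
  rw [h.card_invol ht2] at h3
  have h4 : v ≠ 4 := fun e => by
    have h5 := sum_norm_add_sq_le {irrOne G, α, β} (a := t) (b := g) fun e =>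
      hg2 (by rw [← orderOf_conj e, ht2])
    rw [h.sum_three, h.β_eq hg, h.β_eq ht2.symm.dvd, hv, h.α_invol ht2, e, h.card_invol ht2] at h5
    have h6 : (Nat.card (centralizer ({g} : Set G)) : ℝ) ≤ 48 := by
      exact_mod_cast Nat.le_of_dvd (by norm_num) h1
    generalize (Nat.card (centralizer ({g} : Set G)) : ℝ) = c at h5 h6
    norm_num at h5
    linarith
  generalize Nat.card {p : G × G // IsConj t p.1 ∧ IsConj g p.2 ∧ p.1 * p.2 = x} = N at h3
  generalize Nat.card (centralizer ({g} : Set G)) = c at *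
  have h5 : (c : ℤ) ∣ 8 - 2 * v := by
    refine IsCoprime.dvd_of_dvd_mul_left (y := 13) ?_ ⟨N, by push_cast at h3; linarith⟩
    exact Nat.isCoprime_iff_coprime.2 (Nat.Coprime.coprime_dvd_left h1 (by norm_num))
  have h6 : 0 ≤ (N : ℤ) * c := by positivity
  have h7 := Int.le_of_dvd (by
    have : 0 ≤ 8 - 2 * v := by push_cast at h3; linarith
    omega) h5
  have h8 : v = -1 ∨ v = 0 ∨ v = 1 := by
    have : v ^ 2 < 2 ^ 2 := by nlinarith
    have := abs_lt.1 (abs_lt_of_sq_lt_sq this (by norm_num))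
    omega
  rcases h8 with rfl | rfl | rfl
  · have h9 : c ∣ 10 := Int.natCast_dvd_natCast.1 h5
    have := Nat.le_of_dvd (by norm_num) (Nat.dvd_gcd h9 h1)
    norm_num at this h2
    omega
  · exact .inl ⟨by simpa using hv, Int.natCast_dvd_natCast.1 h5⟩
  · exact .inr (Int.natCast_dvd_natCast.1 h5)

theorem exists_dvd_degree : ∃ χ : IrrCharacter G, 13 ∣ charDegree (χ : G → ℂ) := by
  by_contra! h0
  obtain ⟨t, ht⟩ := exists_prime_orderOf_dvd_card' (G := G) 2 (by rw [h.card]; norm_num)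
  have h1 := sum_irr_mul_conj_of_not_isConj (g := t) (h := 1) fun e => by
    rw [orderOf_conj e, orderOf_one] at ht
    omega
  rw [h.sum_eq ht.symm.dvd _ ?_, h.β_eq ht.symm.dvd, h.α_invol ht, ← α.2.cast_charDegree,
    ← β.2.cast_charDegree, h.dα, h.dβ, map_natCast, map_natCast] at h1
  · norm_num at h1
  rintro χ (e | e)
  · simp [e]
  · exact absurd (dvd_degree_of_apply_eq_zero χ.2.isGeneralizedCharacter (by norm_num) (k := 1)
      (by rw [pow_one, ← h.ord, pow_orderOf_eq_one]) e χ.2.cast_charDegree.symm) (h0 χ)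

end Hyp

end CL.Blk.L33
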