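/-
A simple group of order 5616 is `PSL₃(3)`.
-/
import Cfsg.Agent.Blk.LThreeA
import Cfsg.Agent.Inv.ZStar
import Cfsg.Agent.S3412

set_option autoImplicit false

namespace CL.Blk.L33

open Finset CL.Blk CL.Char CL.Inv Cfsg Subgroup
open scoped Classical

theorem false_of_sixteen {X : Type*} [Group X] [Fintype X] (hX : Nat.card X = 16) {W : Subgroup X}
    (hW : Nat.card W = 8) (hc : ∀ a ∈ W, ∀ b ∈ W, a * b = b * a) {t y : X} (ht : t ∈ W) (hy : y ∈ W)
    (ht2 : t * t = 1) (hy2 : y * y = 1) (t1 : t ≠ 1) (y1 : y ≠ 1) (hty : t ≠ y)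
    (hZ : ∀ z ∈ center X, z * z = 1) (hT : #{s : X | s * s = 1} % 4 = 2) : False := by
  have hi : W.index = 2 := by have := W.card_mul_index; rw [hW, hX] at this; omega
  have := W.normal_of_index_eq_two hi
  let : CommGroup W := { (inferInstance : Group W) with mul_comm := fun a b => Subtype.ext (hc a a.2 b b.2) }
  have h1 : 4 ∣ #{s : X | s * s = 1 ∧ s ∈ W} := by
    have e : #{s : X | s * s = 1 ∧ s ∈ W} = Nat.card (powMonoidHom 2 : W →* W).ker := by
      rw [← Fintype.card_subtype, ← Nat.card_eq_fintype_card]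
      exact Nat.card_congr ⟨fun s => ⟨⟨s, s.2.2⟩, Subtype.ext ((pow_two _).trans s.2.1)⟩,
        fun s => ⟨s.1, (pow_two _).symm.trans (congrArg Subtype.val s.2), s.1.2⟩, fun _ => rfl, fun _ => rfl⟩
    have h2 : 2 < #{s : X | s * s = 1 ∧ s ∈ W} := two_lt_card_iff.2 ⟨1, t, y, by simp, by simp [ht, ht2],
      by simp [hy, hy2], t1.symm, y1.symm, hty⟩
    have h3 := hW ▸ card_subgroup_dvd_card (powMonoidHom 2 : W →* W).ker
    rw [e] at h2 ⊢
    have h4 := Nat.le_of_dvd (by norm_num) h3
    generalize Nat.card (powMonoidHom 2 : W →* W).ker = k at *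
    interval_cases k <;> omega
  have h2 := card_filter_add_card_filter_not (s := ({s : X | s * s = 1} : Finset X)) (· ∈ W)
  rw [filter_filter, filter_filter] at h2
  obtain ⟨s, hs⟩ := card_pos.1 (by omega : 0 < #{s : X | s * s = 1 ∧ s ∉ W})
  obtain ⟨s2, sW⟩ := (mem_filter.1 hs).2
  have si : s⁻¹ = s := inv_eq_of_mul_eq_one_right s2
  let φ : W →* W := (MulAut.conjNormal s : MulAut W).toMonoidHom
  have hφ : ∀ w : W, (φ w : X) = s * w * s⁻¹ := fun _ => rfl
  have hφφ : ∀ w, φ (φ w) = w := fun w => Subtype.ext (by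
    rw [hφ, hφ, si, ← mul_assoc, ← mul_assoc, s2, one_mul, mul_assoc, s2, mul_one])
  have h3 : #{s : X | s * s = 1 ∧ s ∉ W} = Nat.card (MonoidHom.id W * φ).ker := by
    rw [← Fintype.card_subtype, ← Nat.card_eq_fintype_card]
    have key : ∀ w : W, w ∈ (MonoidHom.id W * φ).ker ↔ w * s * (w * s) = 1 := fun w => by
      rw [MonoidHom.mem_ker, MonoidHom.mul_apply, Subtype.ext_iff, Subgroup.coe_mul, hφ, si]
      simp [mul_assoc]
    refine (Nat.card_congr ⟨fun w => ⟨w * s, (key w).1 w.2, fun e => sW ((W.mul_mem_cancel_left w.1.2).1 e)⟩,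
      fun g => ⟨⟨g * s, (W.mul_mem_iff_of_index_two hi).2 (iff_of_false g.2.2 sW)⟩, (key _).2
        (by simpa [mul_assoc, s2] using g.2.1)⟩, fun w => ?_, fun g => ?_⟩).symm
    · simp [mul_assoc, s2]
    · simp [mul_assoc, s2]
  have h4 : Nat.card (MonoidHom.id W * φ).ker ≤ 2 := by
    have h5 := hW ▸ card_subgroup_dvd_card (MonoidHom.id W * φ).ker
    have h6 := Nat.le_of_dvd (by norm_num) h5
    rw [h3] at h2
    generalize Nat.card (MonoidHom.id W * φ).ker = k at *
    interval_cases k <;> omega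
  have h5 : (φ * (MonoidHom.id W)⁻¹).ker ≤ (MonoidHom.id W * φ).ker := fun w hw => by
    have e : φ w = w := mul_inv_eq_one.1 hw
    have e1 : s * w = w * s := mul_inv_eq_iff_eq_mul.1 ((hφ w).symm.trans (congrArg Subtype.val e))
    refine MonoidHom.mem_ker.2 ?_
    rw [MonoidHom.mul_apply, e]
    refine Subtype.ext (hZ w (mem_center_iff.2 fun g => ?_))
    by_cases hg : g ∈ W
    · exact hc g hg w w.2
    · have e2 := hc _ ((W.mul_mem_iff_of_index_two hi).2 (iff_of_false hg sW)) w w.2
      rw [mul_assoc, e1, ← mul_assoc, ← mul_assoc] at e2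
      exact mul_right_cancel e2
  have h6 : (φ * (MonoidHom.id W)⁻¹).range ≤ (MonoidHom.id W * φ).ker := by
    rintro _ ⟨w, rfl⟩
    simp [MonoidHom.mem_ker, hφφ]
  have h7 := (φ * (MonoidHom.id W)⁻¹).ker.card_mul_index
  rw [index_ker, hW] at h7
  have h8 := Nat.mul_le_mul ((card_le_of_le h5).trans h4) ((card_le_of_le h6).trans h4)
  omega

variable {G : Type*} [Group G] [Fintype G]

namespace Hyp

variable {x : G} {α β : IrrCharacter G} (h : Hyp x α β)
include h

theorem cent_le {g : G} (hg : 2 ∣ orderOf g) (hg2 : orderOf g ≠ 2) : Nat.card (centralizer ({g} : Set G)) ≤ 8 :=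
  (h.cent_even hg hg2).elim (fun e => Nat.le_of_dvd (by norm_num) e.2) fun e =>
    (Nat.le_of_dvd (by norm_num) e).trans (by norm_num)

theorem two_elt {S : Subgroup G} (hS : Nat.card S = 16) {g : G} (hg : g ∈ S) (h2 : g * g ≠ 1) :
    2 ∣ orderOf g ∧ orderOf g ≠ 2 ∧ (α : G → ℂ) g = 0 := by
  obtain ⟨k, -, hk⟩ := (Nat.dvd_prime_pow Nat.prime_two (m := 4)).1 (hS ▸ S.orderOf_dvd_natCard hg)
  have h3 : ¬ orderOf g ∣ 2 := fun e => h2 (sq g ▸ orderOf_dvd_iff_pow_eq_one.1 e)
  have h4 : 4 ∣ orderOf g := by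
    rw [hk] at h3 ⊢
    rcases k with _ | _ | k
    · simp at h3
    · simp at h3
    · exact ⟨2 ^ k, by ring⟩
  have h5 : orderOf g ≠ 2 := fun e => h3 e.dvd
  refine ⟨by omega, h5, (h.cent_even (by omega) h5).elim (·.1) fun e => ?_⟩
  have := h4.trans ((Subgroup.orderOf_dvd_natCard _ (mem_centralizer_singleton_iff.2 rfl)).trans e)
  omega

theorem count {S : Subgroup G} (hS : Nat.card S = 16) : #{s : S | s * s = 1} % 4 = 2 := by
  obtain ⟨m, -, hm⟩ := CL.Spor.exists_nat_sum_subgroup α.2.isCharacter S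
  have h1 : ∀ s : S, (α : G → ℂ) s = (if s * s = 1 then 4 else 0) + if s = 1 then 8 else 0 := fun s => by
    by_cases e : s = 1
    · simp [e, ← α.2.cast_charDegree, h.dα]; norm_num
    by_cases e2 : s * s = 1
    · rw [if_pos e2, if_neg e, add_zero]
      exact h.α_invol (by rw [orderOf_coe]; exact orderOf_eq_prime (by rwa [sq]) e)
    · rw [if_neg e2, if_neg e, add_zero]
      exact (h.two_elt hS s.2 fun e3 => e2 (Subtype.ext e3)).2.2
  simp only [h1, sum_add_distrib, sum_ite_eq', mem_univ, if_true, ← sum_filter, sum_const, nsmul_eq_mul, hS] at hm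
  have h2 : #{s : S | s * s = 1} * 4 + 8 = 16 * m := by exact_mod_cast hm
  omega

theorem card_cent_four {t y : G} (ht : orderOf t = 2) (hy : orderOf y = 2) (hty : t ≠ y) (hc : y * t = t * y) :
    Nat.card (centralizer ({t} : Set G) ⊓ centralizer {y} : Subgroup G) = 4 := by
  have t2 : t * t = 1 := by rw [← sq, ← ht, pow_orderOf_eq_one]
  have y2 : y * y = 1 := by rw [← sq, ← hy, pow_orderOf_eq_one]
  have t1 : t ≠ 1 := fun e => by simp [e] at ht
  have y1 : y ≠ 1 := fun e => by simp [e] at hy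
  set D := centralizer ({t} : Set G) ⊓ centralizer {y}
  have hV := (isKleinFour_closure_pair ht hy hty hc.symm).card_four
  have hVD : closure {t, y} ≤ D := (closure_le _).2 (Set.insert_subset
    ⟨mem_centralizer_singleton_iff.2 rfl, mem_centralizer_singleton_iff.2 hc.symm⟩
    (Set.singleton_subset_iff.2 ⟨mem_centralizer_singleton_iff.2 hc, mem_centralizer_singleton_iff.2 rfl⟩))
  have hDV : ∀ g ∈ D, closure {t, y} ≤ centralizer {g} := fun g hg => (closure_le _).2 (Set.insert_subset
    (mem_centralizer_singleton_iff.2 (mem_centralizer_singleton_iff.1 hg.1).symm)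
    (Set.singleton_subset_iff.2 (mem_centralizer_singleton_iff.2 (mem_centralizer_singleton_iff.1 hg.2).symm)))
  have h3 : ¬ 3 ∣ Nat.card D := fun e => by
    obtain ⟨g, hg, hg3⟩ := CL.Spor.exists_mem_orderOf_prime D Nat.prime_three e
    have c1 : Commute g t := mem_centralizer_singleton_iff.1 hg.1
    have o1 : orderOf (g * t) = 6 := by
      rw [c1.orderOf_mul_eq_mul_orderOf_of_coprime (by rw [hg3, ht]; norm_num), hg3, ht]
    have a1 := h.cent_le (g := g * t) (by omega) (by omega)
    have a2 := hV ▸ card_dvd_of_le (hDV (g * t) (mul_mem hg (hVD (subset_closure (by simp)))))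
    have a3 := o1 ▸ Subgroup.orderOf_dvd_natCard (centralizer {g * t}) (mem_centralizer_singleton_iff.2 rfl)
    have a4 : 0 < Nat.card (centralizer ({g * t} : Set G)) := Nat.card_pos
    omega
  have h8 : ¬ 8 ∣ Nat.card D := fun e => by
    have := Fact.mk Nat.prime_two
    obtain ⟨K, hK, hVK⟩ := Sylow.exists_subgroup_card_pow_succ (p := 2) (n := 2) (H := (closure {t, y}).subgroupOf D)
      e ((CL.Grp.card_subgroupOf_of_le hVD).trans hV)
    have hW : Nat.card (K.map D.subtype) = 8 := (CL.Grp.card_map_subtype K).trans hK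
    have hVW : closure {t, y} ≤ K.map D.subtype := (map_subgroupOf_eq_of_le hVD).ge.trans (map_mono hVK)
    have hWD : K.map D.subtype ≤ D := map_subtype_le K
    generalize K.map D.subtype = W at hW hVW hWD
    obtain ⟨S, hS, hWS⟩ := Sylow.exists_subgroup_card_pow_succ (p := 2) (n := 3) (H := W)
      (by rw [h.card]; norm_num) hW
    have hi : (closure {t, y}).relIndex W = 2 := by
      have := CL.Grp.card_mul_relIndex hVW
      rw [hV, hW] at this
      omega
    refine false_of_sixteen hS (W := W.subgroupOf S) ((CL.Grp.card_subgroupOf_of_le hWS).trans hW)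
      (fun a ha b hb => Subtype.ext ?_) (t := ⟨t, hWS (hVW (subset_closure (by simp)))⟩)
      (y := ⟨y, hWS (hVW (subset_closure (by simp)))⟩) (hVW (subset_closure (by simp)))
      (hVW (subset_closure (by simp))) (Subtype.ext t2) (Subtype.ext y2) (fun e => t1 (congrArg Subtype.val e))
      (fun e => y1 (congrArg Subtype.val e)) (fun e => hty (congrArg Subtype.val e)) (fun z hz => ?_)
      (by convert h.count hS)
    · by_cases e1 : (a : G) ∈ closure {t, y}
      · exact mem_centralizer_singleton_iff.1 (hDV _ (hWD hb) e1)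
      by_cases e2 : (b : G) ∈ closure {t, y}
      · exact (mem_centralizer_singleton_iff.1 (hDV _ (hWD ha) e2)).symm
      have e3 : (⟨a, ha⟩ * ⟨b, hb⟩ : W) ∈ (closure {t, y}).subgroupOf W :=
        (mul_mem_iff_of_index_two hi).2 (iff_of_false e1 e2)
      have e4 : (a : G) * b * a = a * (a * b) := mem_centralizer_singleton_iff.1 (hDV _ (hWD ha) e3)
      exact (mul_left_cancel ((mul_assoc _ _ _).symm.trans e4)).symm
    · by_contra e1
      obtain ⟨a1, a2, -⟩ := h.two_elt hS z.2 fun e => e1 (Subtype.ext e)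
      have a3 := card_le_of_le (show S ≤ centralizer {(z : G)} from fun g hg =>
        mem_centralizer_singleton_iff.2 (congrArg Subtype.val (mem_center_iff.1 hz ⟨g, hg⟩)))
      have a4 := h.cent_le a1 a2
      omega
  have h4 := hV ▸ card_dvd_of_le hVD
  have h5 := h.card_invol ht ▸ card_dvd_of_le (inf_le_left : D ≤ _)
  have h6 := Nat.le_of_dvd (by norm_num) h5
  generalize Nat.card D = k at *
  interval_cases k <;> omega

end Hyp

omit [Fintype G] in
theorem card_cent_sub (t : G) (g : centralizer ({t} : Set G)) : Nat.card (centralizer ({g} : Set _)) =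
    Nat.card (centralizer ({t} : Set G) ⊓ centralizer {(g : G)} : Subgroup G) := by
  rw [inf_comm, ← CL.Grp.card_subgroupOf_eq]
  congr 2
  ext k
  simp [mem_centralizer_singleton_iff, mem_subgroupOf, Subtype.ext_iff]

theorem nonempty_equiv [IsSimpleGroup G] (hG : Nat.card G = 5616) :
    Nonempty (G ≃* Matrix.ProjectiveSpecialLinearGroup (Fin 3) (ZMod 3)) := by
  obtain ⟨x, α, β, h⟩ := exists_hyp hG
  obtain ⟨t, ht⟩ := exists_prime_orderOf_dvd_card' (G := G) 2 (by rw [hG]; norm_num)
  obtain ⟨y, hy, hty, hc⟩ : ∃ y, orderOf y = 2 ∧ t ≠ y ∧ y * t = t * y := by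
    by_contra! h1
    have := zstar_card_eq_two_of_simple (z := t) ⟨ht, fun g hg => by
      by_contra e
      exact h1 _ ((orderOf_conj (isConj_iff.2 ⟨g, rfl⟩)).symm.trans ht) (Ne.symm e) hg.symm⟩
    omega
  have hX := CL.Blk.GL23Rec.nonempty_equiv (h.card_invol ht) (x := ⟨t, mem_centralizer_singleton_iff.2 rfl⟩)
    (y := ⟨y, mem_centralizer_singleton_iff.2 hc⟩) (by rw [← orderOf_coe]; exact ht)
    (mem_center_iff.2 fun g => Subtype.ext (mem_centralizer_singleton_iff.1 g.2)) (fun g hg => by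
      have c1 : Commute (g : G) t := mem_centralizer_singleton_iff.1 g.2
      rw [card_cent_sub]
      by_cases e1 : orderOf (g : G) = 2
      · rw [h.card_cent_four ht e1 (fun e => hg ((Subtype.ext e.symm : g = ⟨t, _⟩) ▸ mem_zpowers _)) c1]
        norm_num
      by_cases e2 : 2 ∣ orderOf (g : G)
      · exact ((card_le_of_le inf_le_right).trans (h.cent_le e2 e1)).trans_lt (by norm_num)
      have o1 := c1.orderOf_mul_eq_mul_orderOf_of_coprime (by
        rw [ht, Nat.coprime_comm, Nat.prime_two.coprime_iff_not_dvd]; exact e2)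
      have o2 : orderOf (g : G) ≠ 1 := fun e => hg ((Subtype.ext (orderOf_eq_one_iff.1 e) : g = 1) ▸ one_mem _)
      refine ((card_le_of_le fun k hk => mem_centralizer_singleton_iff.2 ?_).trans
        (h.cent_le (g := g * t) (by rw [o1, ht]; omega) (by rw [o1, ht]; omega))).trans_lt (by norm_num)
      exact Commute.mul_right (mem_centralizer_singleton_iff.1 hk.2) (mem_centralizer_singleton_iff.1 hk.1))
    (Subtype.ext (by rw [Subgroup.coe_mul, ← sq, ← hy, pow_orderOf_eq_one]; rfl))
    ((card_cent_sub t _).trans (h.card_cent_four ht hy hty hc))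
  have hO : pResidual 2 G = ⊤ := CL.Inv.pResidual_eq_top_of_index_ne_two fun H e => by
    rcases (H.normal_of_index_eq_two e).eq_bot_or_eq_top with rfl | rfl
    · rw [index_bot] at e; omega
    · rw [index_top] at e; omega
  rcases Cfsg.Agent.S2916.result hO t ht hX with ⟨K, _, _, hK, ⟨e⟩⟩ | ⟨⟨e⟩⟩
  · exact ⟨e.trans (CL.SLn.pslMapEquiv (ZMod.ringEquivOfPrime K Nat.prime_three hK).symm)⟩
  · have := Nat.card_congr e.toEquiv
    rw [hG, CL.Spor.card_M11] at this
    omega

end CL.Blk.L33
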