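/-
The simple groups of order less than 6000 are determined by their order and character degree graph.
-/
import Cfsg.Agent.Blk.DegOrdB
import Cfsg.Agent.Blk.AltSevenD
import Cfsg.Agent.Blk.LThreeB
import Cfsg.Agent.Inv.PSL2pC
import Cfsg.Agent.Known.SL2Irr2
import Cfsg.Agent.Cls.SmallIso
import Cfsg.Agent.Cls.SL2Sub
import Cfsg.Agent.S0497
import Cfsg.Agent.S1011
import Cfsg.Agent.S0981

set_option autoImplicit false

open Cfsg Subgroup CL.Grp CL.Char

namespace CL.Blk.DegOrd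

variable {G : Type*} [Group G] [Finite G]

theorem unique_prime {A : Type*} [Group A] [Finite A] [IsSimpleGroup G] [IsSimpleGroup A]
    (h : Nat.card G = Nat.card A) (p : ℕ) (hp : p.Prime) (h2 : p ≠ 2) (hA : 2 * Nat.card A = p * (p ^ 2 - 1)) :
    Nonempty (G ≃* A) := by
  have : Fact p.Prime := ⟨hp⟩
  obtain ⟨e⟩ := CL.Inv.psl2p_of_simple (G := G) h2 (h ▸ hA) (ZMod.card p)
  obtain ⟨e'⟩ := CL.Inv.psl2p_of_simple (G := A) h2 hA (ZMod.card p)
  exact ⟨e.trans e'.symm⟩

/-- Simple groups of order less than 6000 are determined by their order. -/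
theorem unique {A : Type*} [Group A] [Finite A] [IsSimpleGroup G] [IsSimpleGroup A]
    (h : Nat.card G = Nat.card A) (hA : Nat.card A ∈ ords) (hlt : Nat.card A < 6000) : Nonempty (G ≃* A) := by
  simp only [ords, List.mem_cons, List.not_mem_nil, or_false] at hA
  rcases hA with e | e | e | e | e | e | e | e | e | e | e | e | e
  · exact unique_prime h 5 (by norm_num) (by norm_num) (by rw [e]; norm_num)
  · exact unique_prime h 7 (by norm_num) (by norm_num) (by rw [e]; norm_num)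
  · obtain ⟨f⟩ := Cfsg.Agent.S0497.result (h.trans e)
    obtain ⟨f'⟩ := Cfsg.Agent.S0497.result e
    exact ⟨f.trans f'.symm⟩
  · obtain ⟨F, _, _, hF⟩ := CL.SL2.exists_field_of_card 2 3 (by norm_num) (by norm_num)
    obtain ⟨f⟩ := Cfsg.Agent.S1011.result (h.trans e) hF
    obtain ⟨f'⟩ := Cfsg.Agent.S1011.result e hF
    exact ⟨f.trans f'.symm⟩
  · exact unique_prime h 11 (by norm_num) (by norm_num) (by rw [e]; norm_num)
  · exact unique_prime h 13 (by norm_num) (by norm_num) (by rw [e]; norm_num)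
  · exact unique_prime h 17 (by norm_num) (by norm_num) (by rw [e]; norm_num)
  · obtain ⟨f⟩ := A7.nonempty_equiv_alt_seven (h.trans e)
    obtain ⟨f'⟩ := A7.nonempty_equiv_alt_seven e
    exact ⟨f.trans f'.symm⟩
  · exact unique_prime h 19 (by norm_num) (by norm_num) (by rw [e]; norm_num)
  · obtain ⟨F, _, _, hF⟩ := CL.SL2.exists_field_of_card 2 4 (by norm_num) (by norm_num)
    obtain ⟨f⟩ := Cfsg.Agent.S0981.result (h.trans e) hF
    obtain ⟨f'⟩ := Cfsg.Agent.S0981.result e hF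
    exact ⟨f.trans f'.symm⟩
  · let _ := Fintype.ofFinite G
    let _ := Fintype.ofFinite A
    obtain ⟨f⟩ := L33.nonempty_equiv (h.trans e)
    obtain ⟨f'⟩ := L33.nonempty_equiv e
    exact ⟨f.trans f'.symm⟩
  · omega
  · omega

/-- Character degrees of a small simple group with the order of `PSL₂(q)`. -/
theorem degrees [IsSimpleGroup G] {n : ℕ} (hG : Nat.card G = n) (p k q d : ℕ)
    (h : n ∈ ords ∧ n < 6000 ∧ p ∈ Sieve.primes ∧ k ≠ 0 ∧ p ^ k = q ∧ Nat.gcd 2 (q - 1) = d ∧ 0 < d ∧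
      d * n = q * (q ^ 2 - 1) ∧ 4 ≤ q ∧ ¬ q - 1 ∣ 4) :
    q ∈ cdSet G ∧ q - 1 ∈ cdSet G ∧ q + 1 ∈ cdSet G ∧ ∀ d ∈ cdSet G, d ∣ q ∨ d ∣ q + 1 ∨ d ∣ q - 1 := by
  classical
  obtain ⟨h1, h2, h3, h4, rfl, h5, h6, h7, h8, h9⟩ := h
  obtain ⟨F, _, _, hF⟩ := CL.SL2.exists_field_of_card p k (Sieve.prime_of_mem h3) h4
  have := CL.SLn.isSimpleGroup_PSL_fin (F := F) 2 le_rfl fun _ => hF ▸ h8
  have hc := CL.Cls.card_PSL_two_of_card hF h5 h6 h7
  have : Finite (CL.GL2.PSL2 F) := Nat.finite_of_card_ne_zero (by rw [hc, ← hG]; exact Nat.card_pos.ne')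
  obtain ⟨e⟩ := unique (A := CL.GL2.PSL2 F) (hG.trans hc.symm) (hc ▸ h1) (hc ▸ h2)
  simp only [← mem_charDegrees_iff, CL.GL2.charDegrees_congr e, ← hF] at h8 h9 ⊢
  exact ⟨CL.GL2.card_mem_charDegrees_PSL2, CL.GL2.sub_one_mem_charDegrees_PSL2 h8,
    CL.GL2.add_one_mem_charDegrees_PSL2 h9,
    fun d hd => CL.GL2.dvd_of_mem_charDegrees_SL2 (CL.GL2.charDegrees_PSL2_subset hd)⟩

theorem simple_360 (hG : Nat.card G = 360) (h5 : 5 ∈ degreePrimes G) (h10 : ∃ d ∈ cdSet G, 2 * 5 ∣ d)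
    (h6 : ¬ ∃ d ∈ cdSet G, 2 * 3 ∣ d) : IsSimpleGroup G := by
  have : Fact (Nat.Prime 5) := ⟨by norm_num⟩
  have hc := hc_of (p := 5) hG (by norm_num) (by decide +kernel)
  obtain h | ⟨N, _, T, _, _, hT, hN, hC⟩ := exists_simple' hG (by norm_num) (by norm_num) h5 hc
  · exact h
  exfalso
  replace hT : Nat.card T = 60 :=
    (by decide +kernel : ∀ t ∈ ords, 5 ∣ t ∧ t ∣ 360 ∧ t ≠ 360 → t = 60) _ hT.1 hT.2
  have h3 : 3 ∈ cdSet T := (degrees hT 2 2 4 1 (by decide +kernel)).2.1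
  obtain h60 | h := six_mem hT h3 hC (hG ▸ card_quotient_dvd_card N)
  swap
  · exact h6 ⟨6, cdSet_quotient_subset N h, dvd_rfl⟩
  have hT' : T = ⊤ := eq_top_of_card_eq _ (hT.trans h60.symm)
  subst hT'
  have : IsSimpleGroup (G ⧸ N) := topEquiv.symm.isSimpleGroup
  rw [cdSet_eq_of_mulEquiv topEquiv] at h3
  have hN6 : Nat.card N = 6 := by
    have := card_eq_card_quotient_mul_card_subgroup N
    rw [hG, h60] at this
    omega
  obtain ⟨x, hx⟩ := exists_prime_orderOf_dvd_card' (G := G) 5 (by rw [hG]; norm_num)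
  set C := centralizer (N : Set G)
  have hxC : x ∈ C := le_centralizer_iff.1 (hc (zpowers x) N inferInstance
    (IsPGroup.of_card (n := 1) (by rw [Nat.card_zpowers, hx, pow_one])) hN) (mem_zpowers x)
  have hCN : C ⊔ N = ⊤ := by
    rcases IsSimpleGroup.eq_bot_or_eq_top_of_normal (C.map (QuotientGroup.mk' N))
      (Normal.map inferInstance _ (QuotientGroup.mk'_surjective N)) with e | e
    · rw [Subgroup.map_eq_bot_iff, QuotientGroup.ker_mk'] at e
      exact absurd (hx ▸ Subgroup.orderOf_dvd_natCard N (e hxC)) hN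
    · have := congrArg (comap (QuotientGroup.mk' N)) e
      rwa [comap_map_eq, QuotientGroup.ker_mk', comap_top] at this
  have hna : ¬ ∀ a b : N, a * b = b * a := fun h => by
    have h1 : N ≤ C := fun a ha b hb => congrArg Subtype.val (h ⟨b, hb⟩ ⟨a, ha⟩)
    rw [sup_eq_left.2 h1] at hCN
    have h2 : N ≤ center G := fun a ha => mem_center_iff.2 fun g => ((hCN.ge (mem_top g)) a ha).symm
    obtain ⟨_, hd, k, rfl⟩ := h10
    obtain ⟨χ, hχ, hd'⟩ := mem_cdSet.1 hd
    have h3 := hχ.charDegree_sq_le_index_center.trans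
      (Nat.le_of_dvd (Nat.pos_of_ne_zero index_ne_zero_of_finite) (index_dvd_of_le h2))
    have h4 := pos_of_mem_cdSet hd
    rw [hd', index_eq_card, h60] at h3
    have := (Nat.pow_le_pow_left (show 10 ≤ 2 * 5 * k by omega) 2).trans h3
    omega
  let f : N →* G ⧸ C := (QuotientGroup.mk' C).comp N.subtype
  have hs : Function.Surjective f := by
    rw [← MonoidHom.range_eq_top, MonoidHom.range_comp, range_subtype]
    apply comap_injective (QuotientGroup.mk'_surjective C)
    rw [comap_map_eq, QuotientGroup.ker_mk', comap_top, sup_comm, hCN]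
  have hk : f.ker ≤ center N := fun a ha => mem_center_iff.2 fun b =>
    Subtype.ext (((QuotientGroup.eq_one_iff _).1 ha : (a : G) ∈ C) b b.2)
  have hb : Function.Bijective f := by
    refine hs.bijective_of_nat_card_le ?_
    have h1 := hN6 ▸ card_dvd_of_surjective f hs
    by_contra h
    have : Fact (Nat.Prime 3) := ⟨by norm_num⟩
    have : IsCyclic (G ⧸ C) := by
      by_cases h2 : Nat.card (G ⧸ C) ∣ 2
      · exact isCyclic_of_card_dvd_prime h2
      refine isCyclic_of_card_dvd_prime (p := 3) ?_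
      rw [hN6, not_le] at h
      generalize Nat.card (G ⧸ C) = m at *
      interval_cases m <;> omega
    exact hna (f.isMulCommutative_of_isCyclic_of_ker_le_center hk).is_comm.comm
  rw [comm_iff_cdSet_subset] at hna
  push Not at hna
  obtain ⟨d, hd, hd1⟩ := hna
  obtain ⟨θ, hθ, rfl⟩ := mem_cdSet.1 hd
  have h2 : charDegree θ = 2 := by
    have a1 := hN6 ▸ dvd_card_of_mem_cdSet hd
    have a2 := hθ.charDegree_sq_le_index_center.trans
      (Nat.le_of_dvd Nat.card_pos (index_dvd_card _))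
    have a3 := Nat.le_of_dvd (by norm_num) a1
    rw [hN6] at a2
    generalize charDegree θ = m at *
    interval_cases m <;> omega
  let e := MulEquiv.ofBijective f hb
  have hχ := hθ.comp_of_surjective (e.symm.toMonoidHom.comp (QuotientGroup.mk' C))
    (e.symm.surjective.comp (QuotientGroup.mk'_surjective C))
  obtain ⟨β, hβ, hβ3⟩ := mem_cdSet.1 h3
  have := gallagher_irr (N := N) hχ.isCharacter (by
    convert hθ using 2 with n
    exact congrArg θ (e.symm_apply_apply n))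
    (hβ.comp_of_surjective (QuotientGroup.mk' N) (QuotientGroup.mk'_surjective N)) (le_charKer_inflate β)
  refine h6 ⟨_, this.charDegree_mem_cdSet, dvd_of_eq (Nat.cast_injective (R := ℂ) ?_)⟩
  rw [this.cast_charDegree, Pi.mul_apply, map_one, map_one, ← hβ.cast_charDegree, ← hθ.cast_charDegree, h2, hβ3]
  norm_num

theorem simple_504 (hG : Nat.card G = 504) (h7 : 7 ∈ degreePrimes G) (h2 : 2 ∈ degreePrimes G)
    (h6 : ¬ ∃ d ∈ cdSet G, 2 * 3 ∣ d) : IsSimpleGroup G := by
  have : Fact (Nat.Prime 7) := ⟨by norm_num⟩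
  obtain h | ⟨N, _, T, _, _, hT, -, -⟩ := exists_simple' hG (by norm_num) (by norm_num) h7
    (hc_of_exc (a := 3) (b := 2) (k := 3) hG (by norm_num) (by norm_num) h2 (by norm_num) (by decide +kernel))
  · exact h
  replace hT : Nat.card T = 168 :=
    (by decide +kernel : ∀ t ∈ ords, 7 ∣ t ∧ t ∣ 504 ∧ t ≠ 504 → t = 168) _ hT.1 hT.2
  obtain ⟨k, -, hk⟩ := exists_dvd_of_mem_cdSet_normal (degrees hT 7 1 7 2 (by decide +kernel)).2.1
  exact absurd ⟨_, cdSet_quotient_subset N hk, Dvd.intro_left k rfl⟩ h6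

theorem simple_2520 (hG : Nat.card G = 2520) (h5 : 5 ∈ degreePrimes G) (h7 : 7 ∈ degreePrimes G) :
    IsSimpleGroup G := by
  have : Fact (Nat.Prime 5) := ⟨by norm_num⟩
  have : Fact (Nat.Prime 7) := ⟨by norm_num⟩
  obtain h | ⟨N, _, T, _, _, hT, -, hC⟩ := exists_simple' hG (by norm_num) (by norm_num) h5
    (hc_of hG (by norm_num) (by decide +kernel))
  · exact h
  exfalso
  replace hT : Nat.card T = 60 ∨ Nat.card T = 360 :=
    (by decide +kernel : ∀ t ∈ ords, 5 ∣ t ∧ t ∣ 2520 ∧ t ≠ 2520 → t = 60 ∨ t = 360) _ hT.1 hT.2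
  have hq := card_eq_card_quotient_mul_card_subgroup N
  by_cases hN : 7 ∣ Nat.card N
  · obtain ⟨P, hP⟩ := exists_isSylowIn (p := 7) N
    have h1 : Nat.card N ∣ 42 := by
      obtain ⟨c, hc⟩ : 60 ∣ Nat.card (G ⧸ N) :=
        dvd_trans (by rcases hT with e | e <;> rw [e] <;> norm_num) (card_subgroup_dvd_card T)
      exact ⟨c, by rw [hG, hc] at hq; linarith⟩
    have h2 := relIndex_normalizer_mod hP
    have h3 := (relIndex_dvd_card (normalizer (P : Set G)) N).trans h1
    have h4 := Nat.le_of_dvd (by norm_num) h3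
    have h5 : N ≤ normalizer (P : Set G) := by
      rw [← relIndex_eq_one]
      generalize (normalizer (P : Set G)).relIndex N = m at *
      interval_cases m <;> omega
    have he : pCoreOf 7 N = P :=
      hP.eq_of_le (pCoreOf_isPGroup 7 N) (le_pCoreOf hP.le h5 hP.isPGroup) (pCoreOf_le 7 N)
    exact not_mem_of_card_prime (by norm_num) (by rw [hG]; norm_num) (pCoreOf 7 N)
      (he ▸ card_eq_of_isSylowIn hP hN fun e => absurd (e.trans h1) (by norm_num)) h7
  obtain ⟨y, hy⟩ := exists_prime_orderOf_dvd_card' (G := G ⧸ N) 7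
    (((by norm_num : Nat.Prime 7).dvd_mul.1 (by rw [← hq, hG]; norm_num)).resolve_right hN)
  have hY : IsPGroup 7 (zpowers y) := IsPGroup.of_card (n := 1) (by rw [Nat.card_zpowers, hy, pow_one])
  have h7T : ¬ 7 ∣ Nat.card T := by rcases hT with e | e <;> rw [e] <;> norm_num
  have hn : ¬ T ≤ centralizer (zpowers y : Set (G ⧸ N)) := fun h => by
    have := le_centralizer_iff.1 h (mem_zpowers y)
    rw [hC, mem_bot] at this
    rw [this, orderOf_one] at hy
    omega
  rcases hT with hT | hT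
  · exact hn (le_cent_of hY le_normalizer_of_normal h7T hT.dvd (by norm_num) (by norm_num) (by decide +kernel))
  have key : ∀ r, r.Prime → r ≠ 2 → ∃ R, IsSylowIn r R T ∧ R ≤ centralizer (zpowers y : Set (G ⧸ N)) :=
    fun r hr h2 => exists_syl_le_cent hr hY le_normalizer_of_normal h7T fun i hi h1 h3 =>
      h2 (exc_of (k := 3) (by norm_num) (by norm_num) (by decide +kernel) hr hi (hT ▸ h1) h3).1
  have : Fact (Nat.Prime 3) := ⟨by norm_num⟩
  obtain ⟨Q, hQ, hQ'⟩ := key 3 (by norm_num) (by norm_num)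
  obtain ⟨P, hP, hP'⟩ := key 5 (by norm_num) (by norm_num)
  have hP5 : Nat.card P = 5 := card_eq_of_isSylowIn hP (by rw [hT]; norm_num) (by rw [hT]; norm_num)
  set C := centralizer (zpowers y : Set (G ⧸ N))
  have a1 := card_inf_mul_relIndex C T
  have a2 : C.relIndex T % 7 = 1 := relIndex_modEq hY le_normalizer_of_normal h7T
  have a3 : ¬ 3 ∣ C.relIndex T := fun e => hQ.not_dvd (e.trans (relIndex_dvd_of_le_left _ hQ'))
  have a4 : ¬ 5 ∣ C.relIndex T := fun e => hP.not_dvd (e.trans (relIndex_dvd_of_le_left _ hP'))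
  have a5 : C.relIndex T = 8 :=
    (by decide +kernel : ∀ m ∈ Nat.divisors 360, m % 7 = 1 → ¬ 3 ∣ m → ¬ 5 ∣ m → m ≠ 1 → m = 8) _
      (Nat.mem_divisors.2 ⟨hT ▸ relIndex_dvd_card C T, by norm_num⟩) a2 a3 a4 fun e => hn (relIndex_eq_one.1 e)
  have a6 : Nat.card (C ⊓ T : Subgroup (G ⧸ N)) = 45 := by
    rw [a5, hT] at a1
    omega
  have a7 : C ⊓ T ≤ normalizer (P : Set (G ⧸ N)) :=
    relIndex_eq_one.1 ((by decide +kernel : ∀ m ∈ Nat.divisors 45, m % 5 = 1 → m = 1) _
      (Nat.mem_divisors.2 ⟨a6 ▸ relIndex_dvd_card _ (C ⊓ T), by norm_num⟩)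
      (relIndex_normalizer_mod (hP.of_le (le_inf hP' hP.le) inf_le_right)))
  refine not_le_normalizer hP.le (by omega) (by omega) ?_
  have b1 := relIndex_normalizer_mod hP
  have b2 := relIndex_dvd_of_le_left T a7
  rw [inf_relIndex_right, a5] at b2
  have b3 := Nat.le_of_dvd (by norm_num) b2
  rw [← relIndex_eq_one]
  generalize (normalizer (P : Set (G ⧸ N))).relIndex T = m at *
  interval_cases m <;> omega

theorem mem_degreePrimes_of_lt {p : ℕ} (hp : p.Prime) {x : G} (hx : orderOf x = p)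
    (h : Nat.card (centralizer ({x} : Set G)) < Nat.card (ConjClasses G)) : p ∈ degreePrimes G := by
  classical
  by_contra hn
  let _ := Fintype.ofFinite G
  have h1 := card_le_sum_irr_norm_sq (G := G) Finset.univ (fun _ _ _ => Finset.mem_univ _) x fun χ _ e =>
    hn (mem_degreePrimes hp χ.2.charDegree_mem_cdSet (dvd_degree_of_apply_eq_zero χ.2.isGeneralizedCharacter hp
      (k := 1) (by rw [pow_one, ← hx, pow_orderOf_eq_one]) e χ.2.cast_charDegree.symm))
  rw [sum_irr_norm_sq, Finset.card_univ, ← Nat.card_eq_fintype_card, card_irr_eq_card_conjClasses] at h1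
  exact absurd h (not_lt.2 (by exact_mod_cast h1))

theorem eight_le [IsSimpleGroup G] (hG : Nat.card G = 2520) : 8 ≤ Nat.card (ConjClasses G) := by
  obtain ⟨e⟩ := A7.nonempty_equiv_alt_seven hG
  let f : ConjClasses G → Multiset ℕ := Quotient.lift (fun g => (e g).1.cycleType) fun a b h =>
    Equiv.Perm.isConj_iff_cycleType_eq.1 (((alternatingGroup (Fin 7)).subtype.comp e.toMonoidHom).map_isConj h)
  have h : (({0, {2, 2}, {3}, {3, 3}, {4, 2}, {5}, {3, 2, 2}, {7}} : Finset (Multiset ℕ)) : Set (Multiset ℕ)) ⊆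
      f '' Set.univ := fun m hm => by
    have h1 : (m.sum ≤ Fintype.card (Fin 7) ∧ ∀ a ∈ m, 2 ≤ a) ∧ Even (m.sum + m.card) := by
      rw [Finset.mem_coe] at hm
      revert m
      decide +kernel
    obtain ⟨g, rfl⟩ := (Equiv.Perm.exists_with_cycleType_iff (Fin 7)).2 h1.1
    refine ⟨ConjClasses.mk (e.symm ⟨g, ?_⟩), trivial, congrArg (fun g => g.1.cycleType) (e.apply_symm_apply _)⟩
    rw [Equiv.Perm.mem_alternatingGroup, Equiv.Perm.sign_of_cycleType, h1.2.neg_one_pow]
  have h1 := (Set.ncard_le_ncard h).trans (Set.ncard_image_le (Set.toFinite _))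
  rwa [Set.ncard_univ, Set.ncard_coe_finset] at h1

theorem primes_2520 [IsSimpleGroup G] (hG : Nat.card G = 2520) : 5 ∈ degreePrimes G ∧ 7 ∈ degreePrimes G := by
  have : Fact (Nat.Prime 5) := ⟨by norm_num⟩
  have : Fact (Nat.Prime 7) := ⟨by norm_num⟩
  let _ := Fintype.ofFinite G
  obtain ⟨χ, n, h⟩ := A7.exists_hyp hG
  obtain ⟨x, hx⟩ := exists_prime_orderOf_dvd_card' (G := G) 5 (by rw [hG]; norm_num)
  obtain ⟨y, hy⟩ := exists_prime_orderOf_dvd_card' (G := G) 7 (by rw [hG]; norm_num)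
  have := eight_le hG
  exact ⟨mem_degreePrimes_of_lt (by norm_num) hx (by rw [h.cent5 hx]; omega),
    mem_degreePrimes_of_lt (by norm_num) hy (by rw [(h.cent7 hy).1]; omega)⟩

theorem simple_easy {n : ℕ} (hG : Nat.card G = n) (p : ℕ) (hd : p ∈ degreePrimes G)
    (h : n < 7200 ∧ ¬ p ^ 2 ∣ n ∧ ∀ t ∈ ords, p ∣ t → t ∣ n → t = n)
    (hc : ∀ [Fact p.Prime], ∀ X N : Subgroup G, N.Normal → IsPGroup p X → ¬ p ∣ Nat.card N →
      N ≤ centralizer (X : Set G)) : IsSimpleGroup G := by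
  have : Fact p.Prime := ⟨hd.1⟩
  obtain h' | ⟨N, _, T, _, _, ⟨h1, h2, h3, h4⟩, -⟩ := exists_simple' hG h.1 h.2.1 hd hc
  · exact h'
  · exact absurd (h.2.2 _ h1 h2 h3) h4

theorem simple_of_graph {S : Type*} [Group S] [Finite S] [IsSimpleGroup S] (hS : Nat.card S ∈ ords)
    (hlt : Nat.card S < 6000) (hG : Nat.card G = Nat.card S) (h1 : degreePrimes G = degreePrimes S)
    (h2 : degreeGraph G = degreeGraph S) : IsSimpleGroup G := by
  have edge : ∀ r s : ℕ, r.Prime → s.Prime → r ≠ s →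
      ((∃ d ∈ cdSet G, r * s ∣ d) ↔ ∃ d ∈ cdSet S, r * s ∣ d) := fun r s hr hs hrs => by
    have : (degreeGraph G).Adj r s ↔ (degreeGraph S).Adj r s := by rw [h2]
    simpa only [degreeGraph, hr, hs, ne_eq, hrs, not_false_eq_true, true_and, mem_charDegrees_iff] using this
  have mem : ∀ r d : ℕ, r.Prime → d ∈ cdSet S → r ∣ d → r ∈ degreePrimes G := fun r d hr hd h =>
    h1 ▸ mem_degreePrimes hr hd h
  have six : ∀ a b c : ℕ, (∀ d ∈ cdSet S, d ∣ a ∨ d ∣ b ∨ d ∣ c) → ¬ 6 ∣ a ∧ ¬ 6 ∣ b ∧ ¬ 6 ∣ c →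
      ¬ ∃ d ∈ cdSet G, 2 * 3 ∣ d := fun a b c h h' => by
    rw [edge 2 3 (by norm_num) (by norm_num) (by norm_num)]
    rintro ⟨d, hd, h6⟩
    rcases h d hd with e | e | e
    exacts [h'.1 (h6.trans e), h'.2.1 (h6.trans e), h'.2.2 (h6.trans e)]
  simp only [ords, List.mem_cons, List.not_mem_nil, or_false] at hS
  rcases hS with e | e | e | e | e | e | e | e | e | e | e | e | e <;> rw [e] at hG
  · exact simple_easy hG 5 (mem 5 _ (by norm_num) (degrees e 2 2 4 1 (by decide +kernel)).2.2.1 dvd_rfl)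
      (by decide +kernel) (hc_of hG (by norm_num) (by decide +kernel))
  · have h := degrees e 7 1 7 2 (by decide +kernel)
    exact simple_easy hG 7 (mem 7 _ (by norm_num) h.1 dvd_rfl) (by decide +kernel)
      (hc_of_exc (a := 3) (b := 1) (k := 3) hG (by norm_num) (by norm_num)
        (mem 2 _ (by norm_num) h.2.1 (by norm_num)) (by norm_num) (by decide +kernel))
  · have h := degrees e 3 2 9 2 (by decide +kernel)
    exact simple_360 hG (mem 5 _ (by norm_num) h.2.2.1 (by norm_num))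
      ((edge 2 5 (by norm_num) (by norm_num) (by norm_num)).2 ⟨_, h.2.2.1, dvd_rfl⟩)
      (six _ _ _ h.2.2.2 (by norm_num))
  · have h := degrees e 2 3 8 1 (by decide +kernel)
    exact simple_504 hG (mem 7 _ (by norm_num) h.2.1 dvd_rfl) (mem 2 _ (by norm_num) h.1 (by norm_num))
      (six _ _ _ h.2.2.2 (by norm_num))
  · exact simple_easy hG 11 (mem 11 _ (by norm_num) (degrees e 11 1 11 2 (by decide +kernel)).1 dvd_rfl)
      (by decide +kernel) (hc_of hG (by norm_num) (by decide +kernel))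
  · exact simple_easy hG 13 (mem 13 _ (by norm_num) (degrees e 13 1 13 2 (by decide +kernel)).1 dvd_rfl)
      (by decide +kernel) (hc_of hG (by norm_num) (by decide +kernel))
  · exact simple_easy hG 17 (mem 17 _ (by norm_num) (degrees e 17 1 17 2 (by decide +kernel)).1 dvd_rfl)
      (by decide +kernel) (hc_of hG (by norm_num) (by decide +kernel))
  · exact simple_2520 hG (h1 ▸ (primes_2520 e).1) (h1 ▸ (primes_2520 e).2)
  · exact simple_easy hG 19 (mem 19 _ (by norm_num) (degrees e 19 1 19 2 (by decide +kernel)).1 dvd_rfl)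
      (by decide +kernel) (hc_of hG (by norm_num) (by decide +kernel))
  · exact simple_easy hG 17 (mem 17 _ (by norm_num) (degrees e 2 4 16 1 (by decide +kernel)).2.2.1 dvd_rfl)
      (by decide +kernel) (hc_of hG (by norm_num) (by decide +kernel))
  · let _ := Fintype.ofFinite S
    obtain ⟨x, α, β, h⟩ := L33.exists_hyp e
    obtain ⟨χ, hχ⟩ := h.exists_dvd_degree
    exact simple_easy hG 13 (mem 13 _ (by norm_num) χ.2.charDegree_mem_cdSet hχ) (by decide +kernel)
      (hc_of_exc (a := 4) (b := 3) (k := 3) hG (by norm_num) (by norm_num)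
        (mem 3 _ (by norm_num) β.2.charDegree_mem_cdSet (by rw [h.dβ]; norm_num)) (by norm_num)
        (by decide +kernel))
  · omega
  · omega

end CL.Blk.DegOrd
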