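import Cfsg.Agent.Blk.FongP2
import Cfsg.Agent.Blk.CentDef
import Cfsg.Agent.Blk.First2
import Cfsg.Agent.Blk.RkContr
import Cfsg.Agent.Char.GoingDown

/-! Roots of blocks, normal defect groups (Reynolds), height zero characters over central
characters, and blocks with commutative defect group over a normal subgroup of `p`-power index. -/

open scoped MonoidAlgebra ComplexConjugate Pointwise commutatorElement
open MonoidAlgebra Cfsg CL.Grp CL.Char Subgroup CL.Blk.Pair

set_option linter.unusedSectionVars false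

namespace CL.Blk

variable {G : Type*} [Group G] [Finite G] {M : Ideal AlgInt} {p : ℕ}

theorem subgroupOf_sup_centralizer_eq_top {D H : Subgroup G}
    (hH : H = D ⊔ centralizer (D : Set G)) :
    D.subgroupOf H ⊔ centralizer ((D.subgroupOf H : Subgroup H) : Set H) = ⊤ := by
  have hDH : D ≤ H := hH ▸ le_sup_left
  have hCH : centralizer (D : Set G) ≤ H := hH ▸ le_sup_right
  have h1 : (centralizer (D : Set G)).subgroupOf H ≤
      centralizer ((D.subgroupOf H : Subgroup H) : Set H) := by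
    intro x hx
    rw [mem_subgroupOf, mem_centralizer_iff] at hx
    rw [mem_centralizer_iff]
    intro y hy
    exact Subtype.ext (hx _ (mem_subgroupOf.1 hy))
  rw [eq_top_iff]
  refine le_trans ?_ (sup_le_sup_left h1 _)
  rw [← subgroupOf_sup hDH hCH, ← hH, subgroupOf_self]

variable [hp : Fact p.Prime] {B : Set (IrrCharacter G)}

/-- A root of the block `B` at the defect group `D`. -/
theorem exists_root (hM : IsPModular p M) (hB : IsPBlock M B) {D H : Subgroup G}
    (hD : IsDefectGroup p M B D) (hH : H = D ⊔ centralizer (D : Set G)) :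
    ∃ b : Set (IrrCharacter H), IsInducedBlock M H b B ∧ IsDefectGroup p M b (D.subgroupOf H) := by
  have hDH : D ≤ H := hH ▸ le_sup_left
  have hCH : centralizer (D : Set G) ≤ H := hH ▸ le_sup_right
  have hHN : H ≤ normalizer (D : Set G) := hH ▸ sup_centralizer_le_normalizer D
  obtain ⟨b, hb⟩ := (exists_isInducedBlock_iff hM (tr_isPGroup_of_isDefectGroup hD) hDH hCH hHN
    hB).2 (trunc_eBlk_ne_zero_of_isDefectGroup hM hB hD)
  exact ⟨b, hb, isDefectGroup_subgroupOf_of_isInducedBlock hM hDH hHN hb hD⟩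

theorem blockHeight_eq_of_apply_one {D : Type*} [Group D] [Finite D] {θ χ : IrrCharacter G}
    (hθ : θ ∈ B) (h0 : blockHeight p B (θ : G → ℂ) = 0) {ζ : IrrCharacter D}
    (h : (χ : G → ℂ) 1 = (ζ : D → ℂ) 1 * (θ : G → ℂ) 1) :
    blockHeight p B (χ : G → ℂ) = (charDegree (ζ : D → ℂ)).factorization p := by
  have h1 : charDegree (χ : G → ℂ) = charDegree (ζ : D → ℂ) * charDegree (θ : G → ℂ) := by
    apply CL.Blk.charDegree_eq_of_eq
    rw [h, Nat.cast_mul, charDegree_cast_irr, charDegree_cast_irr]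
  rw [blockHeight_def, h1, Nat.factorization_mul (charDegree_ne_zero ζ.2) (charDegree_ne_zero θ.2),
    Finsupp.add_apply, (blockHeight_eq_zero_iff_eq hθ).1 h0, Nat.add_sub_cancel]

/-- `G = D C(D)`: every member of the block restricts to a multiple of an irreducible character
of `D` whose degree gives the height. -/
theorem dc_exists_irr_height {D : Subgroup G} (hM : IsPModular p M) (hB : IsPBlock M B)
    (hD : IsDefectGroup p M B D) (hG : D ⊔ centralizer (D : Set G) = ⊤) {χ : IrrCharacter G}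
    (hχ : χ ∈ B) : ∃ ζ : IrrCharacter D,
      (∀ u : D, (χ : G → ℂ) u * (ζ : D → ℂ) 1 = (χ : G → ℂ) 1 * (ζ : D → ℂ) u) ∧
      blockHeight p B (χ : G → ℂ) = (charDegree (ζ : D → ℂ)).factorization p := by
  obtain ⟨θ, hθ, h, -, -⟩ := dc_exists_canon hM hB hD hG
  obtain ⟨ζ, hζ⟩ := dc_exists_irr hM hB hD hG hθ h hχ
  have h1 : ∀ u : D, (χ : G → ℂ) u = (ζ : D → ℂ) u * (θ : G → ℂ) 1 := fun u => by
    simpa using hζ u 1 (by simpa using hp.out.one_lt.ne')
  have h2 : (χ : G → ℂ) 1 = (ζ : D → ℂ) 1 * (θ : G → ℂ) 1 := by simpa using h1 1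
  refine ⟨ζ, fun u => ?_, blockHeight_eq_of_apply_one hθ (dc_canon_height hM hB hD hG hθ h) h2⟩
  rw [h1 u, h2]; ring

theorem dc_exists_mem_height {D : Subgroup G} (hM : IsPModular p M) (hB : IsPBlock M B)
    (hD : IsDefectGroup p M B D) (hG : D ⊔ centralizer (D : Set G) = ⊤) (ζ : IrrCharacter D) :
    ∃ χ ∈ B, (∀ u : D, (χ : G → ℂ) u * (ζ : D → ℂ) 1 = (χ : G → ℂ) 1 * (ζ : D → ℂ) u) ∧
      blockHeight p B (χ : G → ℂ) = (charDegree (ζ : D → ℂ)).factorization p := by
  obtain ⟨θ, hθ, h, -, -⟩ := dc_exists_canon hM hB hD hG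
  obtain ⟨Φ, -, hr, hΦ⟩ := dc_exists_equiv hM hB hD hG hθ h
  have h1 : ∀ u : D, (Φ ζ : G → ℂ) u = (ζ : D → ℂ) u * (θ : G → ℂ) 1 := fun u => by
    simpa using hΦ ζ u 1 (by simpa using hp.out.one_lt.ne')
  have h2 : (Φ ζ : G → ℂ) 1 = (ζ : D → ℂ) 1 * (θ : G → ℂ) 1 := by simpa using h1 1
  refine ⟨Φ ζ, hr ▸ Set.mem_range_self ζ, fun u => ?_,
    blockHeight_eq_of_apply_one hθ (dc_canon_height hM hB hD hG hθ h) h2⟩
  rw [h1 u, h2]; ring

theorem irr_one_eq_one_of_isPGroup {D : Type*} [Group D] [Finite D] (hD : IsPGroup p D)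
    {ζ : IrrCharacter D} (h : (charDegree (ζ : D → ℂ)).factorization p = 0) :
    (ζ : D → ℂ) 1 = 1 := by
  obtain ⟨k, hk⟩ := hD.exists_card_eq
  have h1 : charDegree (ζ : D → ℂ) ∣ p ^ k := hk ▸ charDegree_dvd_card ζ.2
  obtain ⟨j, -, hj⟩ := (Nat.dvd_prime_pow hp.out).1 h1
  rw [hj, Nat.factorization_pow_self hp.out] at h
  rw [← charDegree_cast_irr, hj, h]; simp

theorem comm_iff_subgroupOf {P H : Subgroup G} (hPH : P ≤ H) :
    (∀ a ∈ P, ∀ c ∈ P, a * c = c * a) ↔ ∀ a c : P.subgroupOf H, a * c = c * a := by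
  constructor
  · intro h a c
    exact Subtype.ext (Subtype.ext (h _ (mem_subgroupOf.1 a.2) _ (mem_subgroupOf.1 c.2)))
  · intro h a ha c hc
    have := h ⟨⟨a, hPH ha⟩, mem_subgroupOf.2 ha⟩ ⟨⟨c, hPH hc⟩, mem_subgroupOf.2 hc⟩
    exact congrArg (fun x : P.subgroupOf H => ((x : H) : G)) this

theorem dc_comm_iff_height_zero {D : Subgroup G} (hM : IsPModular p M) (hB : IsPBlock M B)
    (hD : IsDefectGroup p M B D) (hG : D ⊔ centralizer (D : Set G) = ⊤) :
    (∀ a c : D, a * c = c * a) ↔ ∀ χ ∈ B, blockHeight p B (χ : G → ℂ) = 0 := by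
  rw [comm_iff_forall_irr_one_eq_one]
  constructor
  · intro h χ hχ
    obtain ⟨ζ, -, hζ⟩ := dc_exists_irr_height hM hB hD hG hχ
    rw [hζ, ζ.2.isCharacter.charDegree_eq_one_iff.2 (h ζ)]; simp
  · intro h ζ
    obtain ⟨χ, hχ, -, hζ⟩ := dc_exists_mem_height hM hB hD hG ζ
    exact irr_one_eq_one_of_isPGroup (tr_isPGroup_of_isDefectGroup hD) (hζ ▸ h χ hχ)

section Normal

variable {P H : Subgroup G} [P.Normal] [H.Normal]

theorem not_dvd_relIndex_blockStab_root (hM : IsPModular p M)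
    (hP : IsDefectGroup p M B P) (hH : H = P ⊔ centralizer (P : Set G))
    {b : Set (IrrCharacter H)} (hb : IsInducedBlock M H b B) : ¬ p ∣ H.relIndex (blockStab b) := by
  have hHN : H ≤ normalizer (P : Set G) := hH ▸ sup_centralizer_le_normalizer P
  have hbP := isDefectGroup_subgroupOf_of_isInducedBlock hM (hH ▸ le_sup_left) hHN hb hP
  have h := (isDefectGroup_iff_not_dvd_relIndex hM (tr_isPGroup_of_isDefectGroup hP) hH hbP hb).1 hP
  have h2 : normalizer (P : Set G) ⊓ stab (hat M H b) = blockStab b := by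
    ext g
    rw [normalizer_eq_top, top_inf_eq, mem_stab, mem_blockStab_iff_cj hM hb.1]
  rwa [h2] at h

/-- Normal defect group: heights are read off in the root. -/
theorem Over.blockHeight_eq_root (hM : IsPModular p M)
    (hP : IsDefectGroup p M B P) (hH : H = P ⊔ centralizer (P : Set G))
    {b : Set (IrrCharacter H)} (hb : IsInducedBlock M H b B) {χ : IrrCharacter G} (hχ : χ ∈ B)
    {ξ : IrrCharacter H} (hξ : ξ ∈ b) (h : Over H (χ : G → ℂ) (ξ : H → ℂ)) :
    blockHeight p B (χ : G → ℂ) = blockHeight p b (ξ : H → ℂ) := by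
  have hPH : P ≤ H := hH ▸ le_sup_left
  have hHN : H ≤ normalizer (P : Set G) := hH ▸ sup_centralizer_le_normalizer P
  have hbP := isDefectGroup_subgroupOf_of_isInducedBlock hM hPH hHN hb hP
  have hd : blockDefect p B = blockDefect p b := by
    have h1 := card_defectGroup hM hb.2.1 hP
    rw [card_of_isDefectGroup_subgroupOf hM hb.1 hPH hbP] at h1
    exact (Nat.pow_right_injective hp.out.two_le h1).symm
  have e1 := factorization_charDegree_add_blockDefect (p := p) hχ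
  have e2 := factorization_charDegree_add_blockDefect (p := p) hξ
  have e3 := factorization_card_eq_add p H
  have e4 := h.factorization_charDegree_le (p := p)
  obtain ⟨e, he, e5⟩ := h.exists_charDegree_eq
  have e6 : (blockStab b).index ∣ (inertia H (ξ : H → ℂ)).index :=
    index_dvd_of_le (inertia_le_blockStab hM hb.1 hξ)
  have e7 : H.index.factorization p = (blockStab b).index.factorization p := by
    rw [← relIndex_mul_index (le_blockStab b), Nat.factorization_mul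
      (show H.relIndex (blockStab b) ≠ 0 from
        FiniteIndex.index_ne_zero (H := H.subgroupOf (blockStab b))) FiniteIndex.index_ne_zero,
      Finsupp.add_apply, Nat.factorization_eq_zero_of_not_dvd
        (not_dvd_relIndex_blockStab_root hM hP hH hb), zero_add]
  have e8 : (blockStab b).index.factorization p ≤ (inertia H (ξ : H → ℂ)).index.factorization p :=
    (Nat.factorization_le_iff_dvd FiniteIndex.index_ne_zero FiniteIndex.index_ne_zero).2 e6 p
  have e9 : (charDegree (χ : G → ℂ)).factorization p = e.factorization p +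
      (inertia H (ξ : H → ℂ)).index.factorization p + (charDegree (ξ : H → ℂ)).factorization p := by
    rw [e5, Nat.factorization_mul (mul_ne_zero he FiniteIndex.index_ne_zero)
      (charDegree_ne_zero ξ.2), Nat.factorization_mul he FiniteIndex.index_ne_zero]
    simp
  omega

end Normal

/-- Reynolds: height zero conjecture for normal defect groups. -/
theorem comm_iff_height_zero_of_normal (hM : IsPModular p M) (hB : IsPBlock M B) {P : Subgroup G}
    [P.Normal] (hP : IsDefectGroup p M B P) :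
    (∀ a ∈ P, ∀ c ∈ P, a * c = c * a) ↔ ∀ χ ∈ B, blockHeight p B (χ : G → ℂ) = 0 := by
  obtain ⟨b, hb, hbP⟩ := exists_root hM hB hP rfl
  have hc := covers_of_isInducedBlock hM hb
  rw [comm_iff_subgroupOf (le_sup_left : P ≤ P ⊔ centralizer (P : Set G)),
    dc_comm_iff_height_zero hM hb.1 hbP (subgroupOf_sup_centralizer_eq_top rfl)]
  constructor
  · intro h χ hχ
    obtain ⟨ξ, hξ, ho⟩ := hc.exists_over_of_mem_left hM hB hb.1 hχ
    rw [ho.blockHeight_eq_root hM hP rfl hb hχ hξ, h ξ hξ]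
  · intro h ξ hξ
    obtain ⟨χ, hχ, ho⟩ := hc.exists_over_of_mem_right hM (blockIdem_mem_OG hM hB) hb.1 hξ
    rw [← ho.blockHeight_eq_root hM hP rfl hb hχ hξ, h χ hχ]

/-- A height zero member of `b^G` has a height zero constituent in `b`. -/
theorem exists_over_height_zero_of_isInducedBlock (hM : IsPModular p M) {H : Subgroup G}
    {b : Set (IrrCharacter H)} (hb : IsInducedBlock M H b B) {χ : IrrCharacter G} (hχ : χ ∈ B)
    (h0 : blockHeight p B (χ : G → ℂ) = 0) :
    ∃ ξ ∈ b, Over H (χ : G → ℂ) (ξ : H → ℂ) ∧ blockHeight p b (ξ : H → ℂ) = 0 := by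
  classical
  have := Fintype.ofFinite G
  have := Fintype.ofFinite H
  have h1 := (Rk.val_nDeg_res_eq_one_iff hM hb χ).2 ⟨hχ, h0⟩
  by_contra hne
  push Not at hne
  rw [Rk.nDeg_eq_sum] at h1
  refine absurd h1 (ne_of_lt ?_)
  refine (val M).map_sum_lt one_ne_zero fun ξ hξ => ?_
  have hξb : ξ ∈ b := (Finset.mem_filter.1 hξ).2
  by_cases ho : Over H (χ : G → ℂ) (ξ : H → ℂ)
  · rw [map_mul, Rk.val_nDeg_irr hM hξb]
    have h2 : val M (classInner (fun c : H => (χ : G → ℂ) c) (ξ : H → ℂ)) ≤ 1 :=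
      val_le_one_iff.2 (Rk.genChar_classInner_mem_valRing
        (χ.2.isCharacter.restrict H).isGeneralizedCharacter
        ξ.2.isCharacter.isGeneralizedCharacter)
    have h3 : val M (p : ℂ) ^ blockHeight p b (ξ : H → ℂ) < 1 :=
      pow_lt_one₀ zero_le (val_prime_lt_one hM) (hne ξ hξb ho)
    exact lt_of_le_of_lt (mul_le_of_le_one_left' h2) h3
  · rw [over_iff, not_not] at ho
    rw [ho, zero_mul, map_zero]; exact zero_lt_one

theorem Over.apply_eq_of_center {H : Subgroup G} {χ : IrrCharacter G} {ξ : IrrCharacter H}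
    (h : Over H (χ : G → ℂ) (ξ : H → ℂ)) {z : H} (hz : (z : G) ∈ center G) :
    (χ : G → ℂ) z / (χ : G → ℂ) 1 = (ξ : H → ℂ) z / (ξ : H → ℂ) 1 := by
  have h1 := h.omega_incl (z := single z 1) (by
    rw [incl_single, ← classSum_of_mem_center hz]; exact classSum_mem_center _)
  simpa [incl_single, omega_single] using h1

/-- A height zero character over a central linear character forces it to extend to the defect
group. -/
theorem exists_extend_of_height_zero (hM : IsPModular p M) (hB : IsPBlock M B) {D : Subgroup G}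
    (hD : IsDefectGroup p M B D) {χ : IrrCharacter G} (hχ : χ ∈ B)
    (h0 : blockHeight p B (χ : G → ℂ) = 0) :
    ∃ μ : D →* ℂˣ, ∀ z : D, (z : G) ∈ center G → (χ : G → ℂ) z = (χ : G → ℂ) 1 * (μ z : ℂ) := by
  obtain ⟨b, hb, hbD⟩ := exists_root hM hB hD rfl
  have hDH : D ≤ D ⊔ centralizer (D : Set G) := le_sup_left
  obtain ⟨ξ, hξ, ho, hξ0⟩ := exists_over_height_zero_of_isInducedBlock hM hb hχ h0
  obtain ⟨ζ, hζ, hζh⟩ := dc_exists_irr_height hM hb.1 hbD (subgroupOf_sup_centralizer_eq_top rfl) hξ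
  have hζ1 := irr_one_eq_one_of_isPGroup (tr_isPGroup_of_isDefectGroup hbD) (hζh ▸ hξ0)
  obtain ⟨ν, hν⟩ := (linearIrrEquiv _).surjective ⟨ζ, hζ1⟩
  refine ⟨ν.comp (subgroupOfEquivOfLe hDH).symm.toMonoidHom, fun z hz => ?_⟩
  have h1 := ho.apply_eq_of_center (z := ⟨z, hDH z.2⟩) hz
  have h2 := hζ ⟨⟨z, hDH z.2⟩, mem_subgroupOf.2 z.2⟩
  have h3 := linearIrrEquiv_apply ν ⟨⟨z, hDH z.2⟩, mem_subgroupOf.2 z.2⟩
  rw [hν] at h3
  rw [hζ1, mul_one] at h2
  simp only at h1 h2 h3
  rw [h2, h3, mul_div_cancel_left₀ _ (irr_one_ne_zero ξ), div_eq_iff (irr_one_ne_zero χ)] at h1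
  rw [h1, mul_comm]; rfl

section AbelianDefect

variable {N : Subgroup G} [hN : N.Normal] {b : Set (IrrCharacter N)}

theorem commutator_le_of_sup_eq_top {P : Subgroup G} (h : P ⊔ N = ⊤)
    (hP : ∀ x ∈ P, ∀ y ∈ P, x * y = y * x) : commutator G ≤ N := by
  have h1 : ∀ g : G, ∃ u ∈ P, (u : G ⧸ N) = g := fun g => by
    have hg : g ∈ ((P ⊔ N : Subgroup G) : Set G) := by rw [h]; trivial
    rw [mul_normal] at hg
    obtain ⟨u, hu, n, hn, rfl⟩ := hg
    exact ⟨u, hu, by simp [(QuotientGroup.eq_one_iff n).2 hn]⟩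
  rw [commutator_def, commutator_le]
  intro x _ y _
  obtain ⟨u, hu, hx⟩ := h1 x
  obtain ⟨v, hv, hy⟩ := h1 y
  rw [← QuotientGroup.eq_one_iff]
  have h2 : ((⁅x, y⁆ : G) : G ⧸ N) = ((⁅u, v⁆ : G) : G ⧸ N) := by
    simp only [commutatorElement_def, QuotientGroup.mk_mul, QuotientGroup.mk_inv, hx, hy]
  rw [h2, commutatorElement_eq_one_iff_mul_comm.2 (hP u hu v hv), QuotientGroup.mk_one]

/-- Commutative defect group mapping onto the `p`-group `G/N`: members restrict irreducibly. -/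
theorem isIrr_res_of_comm_defect (hM : IsPModular p M) (hB : IsPBlock M B) {k : ℕ}
    (hk : N.index = p ^ k) {P : Subgroup G} (hP : IsDefectGroup p M B P) (h : P ⊔ N = ⊤)
    (hab : ∀ x ∈ P, ∀ y ∈ P, x * y = y * x) {χ : IrrCharacter G} (hχ : χ ∈ B) :
    IsIrrCharacter N (fun n : N => (χ : G → ℂ) n) := by
  refine isIrrCharacter_res_of_forall_linear (commutator_le_of_sup_eq_top h hab) χ.2
    fun lam hker hl => ?_
  have h1 : P ≤ lam.ker := fun u hu => by
    obtain ⟨g, ⟨y, hy, -, -, hyp⟩, -, hg⟩ := exists_lam_classSum_mul_ne_zero hM hB hP hχ hu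
      (mem_centralizer_iff.2 fun v hv => hab v hv u hu)
    have h2 := hl g
    have h3 : (lam g : ℂ) = 1 :=
      mul_right_cancel₀ (irr_ne_zero_of_lam_classSum hg) (by rw [h2, one_mul])
    have h4 : lam y = 1 := hker (mem_of_index_eq_pow_of_not_dvd_orderOf hp.out hk hyp)
    rw [← hy, map_mul, h4, mul_one] at h3
    exact Units.ext h3
  have h2 : lam.ker = ⊤ := by rw [eq_top_iff, ← h]; exact sup_le h1 hker
  exact MonoidHom.ker_eq_top_iff.1 h2

theorem over_of_res_eq {H : Subgroup G} {χ : IrrCharacter G} {θ : IrrCharacter H}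
    (h : ∀ n : H, (χ : G → ℂ) n = (θ : H → ℂ) n) : Over H (χ : G → ℂ) (θ : H → ℂ) := by
  have := Fintype.ofFinite H
  rw [over_iff, show (fun n : H => (χ : G → ℂ) n) = (θ : H → ℂ) from funext h, θ.2.classInner_self]
  exact one_ne_zero

theorem Over.res_eq_of_isIrr {H : Subgroup G} {χ : IrrCharacter G} {θ : IrrCharacter H}
    (h : Over H (χ : G → ℂ) (θ : H → ℂ)) (hi : IsIrrCharacter H fun n : H => (χ : G → ℂ) n)
    (n : H) : (χ : G → ℂ) n = (θ : H → ℂ) n := by
  have := Fintype.ofFinite H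
  exact congrFun (hi.eq_of_classInner_ne_zero θ.2 (over_iff.1 h)) n

theorem card_irr_le_charKer_of_commutator_le (h : commutator G ≤ N) :
    Nat.card {β : G → ℂ // IsIrrCharacter G β ∧ N ≤ charKer β} = N.index := by
  have h1 : ∀ a c : G ⧸ N, a * c = c * a := fun a c => by
    obtain ⟨a, rfl⟩ := QuotientGroup.mk_surjective a
    obtain ⟨c, rfl⟩ := QuotientGroup.mk_surjective c
    rw [← commutatorElement_eq_one_iff_mul_comm]
    have : ((⁅a, c⁆ : G) : G ⧸ N) = 1 := (QuotientGroup.eq_one_iff _).2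
      (h (commutator_mem_commutator (mem_top a) (mem_top c)))
    simpa [commutatorElement_def] using this
  rw [index_eq_card, ← card_irr_of_comm h1, ← card_irr_le_charKer N]
  exact Nat.card_congr
    ⟨fun β => ⟨⟨β.1, β.2.1⟩, β.2.2⟩, fun χ => ⟨χ.1.1, χ.1.2, χ.2⟩, fun _ => rfl, fun _ => rfl⟩

theorem card_over_of_extends (h : commutator G ≤ N) {χ : IrrCharacter G} {θ : IrrCharacter N}
    (he : ∀ n : N, (χ : G → ℂ) n = (θ : N → ℂ) n) :
    Nat.card {ψ : IrrCharacter G // Over N (ψ : G → ℂ) (θ : N → ℂ)} = N.index := by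
  have := Fintype.ofFinite N
  have h1 : (fun n : N => (χ : G → ℂ) n) = (θ : N → ℂ) := funext he
  have h2 := gallagher_bijOn (N := N) χ.2.isCharacter (h1 ▸ θ.2)
  rw [← card_irr_le_charKer_of_commutator_le h]
  rw [h1] at h2
  refine Eq.trans ?_ (Nat.card_congr h2.equiv).symm
  exact Nat.card_congr
    { toFun := fun ψ => ⟨ψ.1.1, ψ.1.2, over_iff.1 ψ.2⟩
      invFun := fun ψ => ⟨⟨ψ.1, ψ.2.1⟩, over_iff.2 ψ.2.2⟩
      left_inv := fun _ => rfl
      right_inv := fun _ => rfl }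

theorem pRegularPart_eq_extendByZero (hk : ∀ g : G, ¬ p ∣ orderOf g → g ∈ N) (χ : G → ℂ) :
    pRegularPart p χ = extendByZero N (pRegularPart p fun n : N => χ n) := by
  funext g
  by_cases hg : g ∈ N
  · rw [extendByZero_of_mem _ hg]
    by_cases h : IsPRegular p g
    · rw [Rk.pReg_of_reg h, Rk.pReg_of_reg]
      simpa [IsPRegular, ← Subgroup.orderOf_coe] using h
    · rw [Rk.pReg_of_sing h, Rk.pReg_of_sing]
      simpa [IsPRegular, ← Subgroup.orderOf_coe] using h
  · rw [extendByZero_of_not_mem _ hg, Rk.pReg_of_sing fun h => hg (hk g h)]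

theorem blockRank_eq_of_res (hk : ∀ g : G, ¬ p ∣ orderOf g → g ∈ N)
    (h1 : ∀ χ ∈ B, ∃ θ ∈ b, ∀ n : N, (χ : G → ℂ) n = (θ : N → ℂ) n)
    (h2 : ∀ θ ∈ b, ∃ χ ∈ B, ∀ n : N, (χ : G → ℂ) n = (θ : N → ℂ) n) :
    blockRank p B = blockRank p b := by
  let L : (N → ℂ) →ₗ[ℂ] (G → ℂ) := Function.ExtendByZero.linearMap ℂ (Subtype.val : N → G)
  have hL : Function.Injective L := Function.extend_injective Subtype.val_injective _
  have h3 : (fun χ : IrrCharacter G => pRegularPart p (χ : G → ℂ)) '' B =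
      L '' ((fun θ : IrrCharacter N => pRegularPart p (θ : N → ℂ)) '' b) := by
    ext f
    constructor
    · rintro ⟨χ, hχ, rfl⟩
      obtain ⟨θ, hθ, he⟩ := h1 χ hχ
      refine ⟨_, ⟨θ, hθ, rfl⟩, ?_⟩
      simp only
      rw [pRegularPart_eq_extendByZero hk, funext he]; rfl
    · rintro ⟨_, ⟨θ, hθ, rfl⟩, rfl⟩
      obtain ⟨χ, hχ, he⟩ := h2 θ hθ
      refine ⟨χ, hχ, ?_⟩
      simp only
      rw [pRegularPart_eq_extendByZero hk, funext he]; rfl
  rw [blockRank, blockRank, h3, ← Submodule.map_span]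
  exact (Submodule.equivMapOfInjective L hL _).finrank_eq.symm

theorem card_eq_mul_of_fibers {α β : Type*} [Finite α] [Finite β] (f : α → β) {n : ℕ}
    (h : ∀ y, Nat.card {x // f x = y} = n) : Nat.card α = n * Nat.card β := by
  have := Fintype.ofFinite β
  rw [← Nat.card_congr (Equiv.sigmaFiberEquiv f), Nat.card_sigma]
  simp [h, mul_comm]

/-- Knörr–Puig: commutative defect groups over a normal subgroup of `p`-power index. -/
theorem comm_defect_over_pow_index (hM : IsPModular p M) {k : ℕ} (hk : N.index = p ^ k)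
    (hb : IsPBlock M b) (hinv : IsInvSet b) (hB : IsPBlock M B) (hc : Covers N B b)
    {P : Subgroup G} (hP : IsDefectGroup p M B P) (hab : ∀ x ∈ P, ∀ y ∈ P, x * y = y * x) :
    (∀ χ ∈ B, ∃ θ ∈ b, ∀ n : N, (χ : G → ℂ) n = (θ : N → ℂ) n) ∧
    (∀ θ ∈ b, Nat.card {χ : IrrCharacter G // χ ∈ B ∧ ∀ n : N, (χ : G → ℂ) n = (θ : N → ℂ) n}
      = N.index) ∧ Nat.card B = N.index * Nat.card b ∧ blockRank p B = blockRank p b := by
  have htop := hc.sup_eq_top_of_index_eq_pow hM hk hB hb hinv hP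
  have hirr : ∀ χ ∈ B, IsIrrCharacter N (fun n : N => (χ : G → ℂ) n) := fun χ hχ =>
    isIrr_res_of_comm_defect hM hB hk hP htop hab hχ
  have h1 : ∀ χ ∈ B, ∃ θ ∈ b, ∀ n : N, (χ : G → ℂ) n = (θ : N → ℂ) n := fun χ hχ =>
    ⟨⟨_, hirr χ hχ⟩, hc.mem_of_isInvSet hM hB hb hinv hχ (over_of_res_eq fun _ => rfl),
      fun _ => rfl⟩
  have h2 : ∀ θ ∈ b, ∃ χ ∈ B, ∀ n : N, (χ : G → ℂ) n = (θ : N → ℂ) n := fun θ hθ => by
    obtain ⟨χ, hχ, ho⟩ := hc.exists_over_of_mem_right hM (blockIdem_mem_OG hM hB) hb hθ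
    exact ⟨χ, hχ, ho.res_eq_of_isIrr (hirr χ hχ)⟩
  have h3 : ∀ θ ∈ b, Nat.card {χ : IrrCharacter G //
      χ ∈ B ∧ ∀ n : N, (χ : G → ℂ) n = (θ : N → ℂ) n} = N.index := fun θ hθ => by
    obtain ⟨χ, -, he⟩ := h2 θ hθ
    rw [← card_over_of_extends (commutator_le_of_sup_eq_top htop hab) he]
    refine Nat.card_congr (Equiv.subtypeEquivRight fun ψ => ⟨fun h => over_of_res_eq h.2,
      fun h => ?_⟩)
    have hψ : ψ ∈ B := by
      rw [hc.eq_overSet_of_index_eq_pow hM hk hB hb]; exact ⟨θ, hθ, h⟩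
    exact ⟨hψ, h.res_eq_of_isIrr (hirr ψ hψ)⟩
  refine ⟨h1, h3, ?_, blockRank_eq_of_res
    (fun g hg => mem_of_index_eq_pow_of_not_dvd_orderOf hp.out hk hg) h1 h2⟩
  choose f hf hf' using h1
  refine card_eq_mul_of_fibers (fun χ : B => (⟨f χ.1 χ.2, hf χ.1 χ.2⟩ : b)) fun θ => ?_
  rw [← h3 θ.1 θ.2]
  exact Nat.card_congr
    { toFun := fun χ => ⟨χ.1.1, χ.1.2, fun n => by
        rw [hf' _ χ.1.2 n]; exact congrArg (fun θ : b => (θ.1 : N → ℂ) n) χ.2⟩
      invFun := fun χ => ⟨⟨χ.1, χ.2.1⟩, Subtype.ext (Subtype.ext (funext fun n => by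
        rw [← χ.2.2 n]; exact (hf' _ χ.2.1 n).symm))⟩
      left_inv := fun _ => rfl
      right_inv := fun _ => rfl }

end AbelianDefect

end CL.Blk
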