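/-
Blocks with normal defect group whose height zero characters have the same degree.
-/
import Cfsg.Agent.Blk.EqDeg
import Cfsg.Agent.Blk.NormDef
import Cfsg.Agent.Blk.RkQuot
import Cfsg.Agent.Grp.Coprime2
import Cfsg.Agent.Grp.Frattini

set_option autoImplicit false
set_option linter.unusedSectionVars false

namespace CL.Blk.Pair

open MonoidAlgebra Cfsg CL.Char CL.Grp CL.Blk.Rk Subgroup

section Alg

variable {k : Type*} [Field k] {G : Type*} [Group G] [Finite G] {p : ℕ} [Fact p.Prime] [CharP k p]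
  {D : Subgroup G} {b e : k[G]}

omit [Finite G] in
theorem mem_normalizer_of_normal' (K : Subgroup G) [K.Normal] (x : G) :
    x ∈ normalizer (K : Set G) := normalizer_eq_top K ▸ mem_top x

omit [Finite G] in
theorem cjs_of_normal (K : Subgroup G) [K.Normal] (x : G) : cjs x K = K :=
  cjs_eq_self_iff.2 (mem_normalizer_of_normal' K x)

theorem quotAlg_cj (N : Subgroup G) [N.Normal] (x : G) (a : k[G]) :
    quotAlg k N (cj x a) = cj (x : G ⧸ N) (quotAlg k N a) := by
  induction a using MonoidAlgebra.induction_linear with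
  | zero => simp
  | add a b ha hb => rw [map_add, map_add, ha, hb, map_add, map_add]
  | single g r => rw [cj_single, quotAlg_single, quotAlg_single, cj_single]; rfl

theorem SuppIn.quotAlg {N : Subgroup G} [N.Normal] {K : Subgroup (G ⧸ N)} {a : k[G]}
    (h : SuppIn (K.comap (QuotientGroup.mk' N)) a) : SuppIn K (quotAlg k N a) := fun q hq => by
  by_contra h0
  obtain ⟨g, rfl, hg⟩ := exists_coeff_ne_zero_of_quotAlg h0
  exact hq (h.mem hg)

theorem IsMax.isNil_of_normal [IsAlgClosed k] [D.Normal] (h : IsMax p ⊤ ⊤ b D e)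
    (hT : PExt p (centralizer (D : Set G)) (nst ⊤ D e)) : IsNil p ⊤ ⊤ b := by
  rw [h.isNil_iff]
  intro Q f hle x hx
  have he : IsBlk (centralizer (D : Set G)) (centralizer (D : Set G)) e := cen_top D ▸ h.pair.blk
  have hn : ∀ K : Subgroup G, K ≤ normalizer (centralizer (D : Set G) : Set G) := fun K =>
    le_normalizer_of_normal
  have ho := he.sum_orb (centralizer_le hle.le) (hn (centralizer (Q : Set G)))
  have h1 := hle.cj_of_mem (x := x) (le_normalizer_top' _ (mem_top x))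
  rw [cjs_eq_self_iff.2 hx.1.2, mem_stab.1 hx.2, cjs_of_normal] at h1
  have h2 := hle.br_mul_iff (suppIn_top _) (cen_top Q ▸ ho.fix) ho.supp.fixedBy ho.idem
  have h3 := h1.br_mul_iff (suppIn_top _) (cen_top Q ▸ ho.fix) ho.supp.fixedBy ho.idem
  rw [← h2, br_eq_self ho.supp,
    sum_mul_of_isBlk le_rfl _ (he.orb (hn _)) (self_mem_orb _ _)] at h3
  have h4 : IsBlk (centralizer (D : Set G)) (centralizer (D : Set G)) (Pair.cj x e) :=
    he.orb (hn ⊤) _ (mem_orb.2 ⟨x, mem_top x, rfl⟩)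
  obtain ⟨c, hc, h5⟩ : ∃ c ∈ centralizer (Q : Set G), Pair.cj c e = Pair.cj x e := by
    rw [← mem_orb]
    by_contra h5
    exact h4.ne_zero ((h3.2 rfl).symm.trans
      (sum_mul_of_isBlk_not_mem le_rfl _ (he.orb (hn _)) h4 h5))
  have h6 : PExt p (centralizer (Q : Set G)) (nst ⊤ D e ⊓ normalizer (Q : Set G)) :=
    fun y hy => (hT y hy.1).imp fun _ hy => centralizer_le hle.le hy
  refine h6.sup (inf_le_right.trans (normalizer_le_normalizer_centralizer Q)) x ?_
  rw [← mul_inv_cancel_left c x]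
  have h7 : c⁻¹ * x ∈ normalizer (Q : Set G) :=
    mul_mem (inv_mem (centralizer_le_normalizer _ hc)) hx.1.2
  have h8 : c⁻¹ * x ∈ stab e := by rw [mem_stab, cj_mul, ← h5, cj_inv_cj]
  exact mul_mem (mem_sup_right hc) (mem_sup_left ⟨⟨⟨trivial, mem_normalizer_of_normal' _ _⟩, h8⟩, h7⟩)

omit [CharP k p] in
theorem mem_centralizer_of_mk_commutator [D.Normal] (hD : IsPGroup p D) {g : G}
    (hg : ¬ p ∣ orderOf g) (h : (g : G ⧸ ⁅D, D⁆) ∈
      centralizer (D.map (QuotientGroup.mk' ⁅D, D⁆) : Set (G ⧸ ⁅D, D⁆))) :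
    g ∈ centralizer (D : Set G) := by
  obtain ⟨n, hn⟩ := IsPGroup.iff_card.1 (hD.to_subgroup (frattini D))
  refine le_centralizer_of_commutator_le_frattini (A := zpowers g) le_normalizer_of_normal ?_ ?_
    (mem_zpowers g)
  · rw [hn, Nat.card_zpowers]
    exact ((Nat.Prime.coprime_iff_not_dvd Fact.out).2 hg).symm.pow_right _
  · refine le_trans ?_ ((map_subtype_commutator D).ge.trans
      (map_mono (commutator_le_frattini_of_isNilpotent hD.isNilpotent)))
    rw [← QuotientGroup.ker_mk' ⁅D, D⁆, ← Subgroup.map_eq_bot_iff, map_commutator,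
      commutator_eq_bot_iff_le_centralizer, le_centralizer_iff, MonoidHom.map_zpowers, zpowers_le]
    exact h

end Alg

variable {G : Type*} [Group G] [Finite G] {M : Ideal AlgInt} {p : ℕ} [Fact p.Prime]
  {B : Set (IrrCharacter G)} {D : Subgroup G} {e : (resField M)[G]}

theorem exists_lift_of_isBlk (hM : IsPModular p M) {N C : Subgroup G} [N.Normal]
    (hN : IsPGroup p N) (hCN : C ≤ centralizer (N : Set G)) {K : Subgroup (G ⧸ N)}
    (hC : ∀ g : G, ¬ p ∣ orderOf g → (g : G ⧸ N) ∈ K → g ∈ C) {f : (resField M)[G ⧸ N]}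
    (hf : IsBlk K K f) :
    ∃ c ∈ fixAlg (resField M) C (K.comap (QuotientGroup.mk' N)), quotAlg _ N c = f := by
  classical
  have := Fintype.ofFinite N
  refine ⟨ofFun fun g => if p ∣ orderOf g then 0 else f.coeff g, ⟨fun g hg => ?_,
    fixedBy_iff.2 fun x hx g => ?_⟩, alg_ext fun q => ?_⟩
  · rw [coeff_ofFun]
    split_ifs with h
    · rfl
    · exact hf.supp _ fun h1 => hg (hC g h h1)
  · rw [coeff_ofFun, coeff_ofFun, orderOf_conj', QuotientGroup.mk_mul, QuotientGroup.mk_mul,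
      QuotientGroup.mk_inv, hf.fix.coeff_conj (x := (x : G ⧸ N)) hx]
  · by_cases h0 : f.coeff q = 0
    · obtain ⟨g, rfl⟩ := QuotientGroup.mk_surjective q
      rw [coeff_quotAlg_mk, h0]
      exact Finset.sum_eq_zero fun u _ => by simp [h0]
    obtain ⟨g, rfl, hg⟩ := exists_not_dvd_orderOf_mk_eq hM.1 (hf.not_dvd_orderOf hM h0)
    rw [coeff_quotAlg_mk, Finset.sum_eq_single 1 (fun u _ hu => ?_) (by simp)]
    · simp [hg]
    · rw [coeff_ofFun, if_pos]
      by_contra h1
      have := eq_of_mk_eq_of_pRegular hM.1 hN h1 hg (hCN (hC g hg (hf.supp.mem h0))) (by simp)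
      exact hu (by simpa using this)

theorem IsMax.pExt_of_isNilpotentBlock_quot [D.Normal] (h : IsMax p ⊤ ⊤ (eBlk M B) D e)
    (hM : IsPModular p M) (hB : IsPBlock M B) {b : Set (IrrCharacter (G ⧸ ⁅D, D⁆))}
    (hsub : b ⊆ inflIrr ⁅D, D⁆ ⁻¹' B) (hb : IsNilpotentBlock p M b)
    (hD : IsDefectGroup p M b (D.map (QuotientGroup.mk' ⁅D, D⁆))) :
    PExt p (centralizer (D : Set G)) (nst ⊤ D e) := by
  have := charP_resField hM
  set N := ⁅D, D⁆ with hN
  set D' := D.map (QuotientGroup.mk' N) with hD'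
  have : D'.Normal := Normal.map inferInstance _ (QuotientGroup.mk'_surjective N)
  have hab : D' ≤ centralizer (D' : Set (G ⧸ N)) := by
    rw [← commutator_eq_bot_iff_le_centralizer, ← map_commutator, Subgroup.map_eq_bot_iff,
      QuotientGroup.ker_mk']
  have hC := fun g => mem_centralizer_of_mk_commutator (g := g) h.pgroup
  have he : IsBlk (centralizer (D : Set G)) (centralizer (D : Set G)) e := cen_top D ▸ h.pair.blk
  have hn : ∀ K : Subgroup G, K ≤ normalizer (centralizer (D : Set G) : Set G) := fun K =>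
    le_normalizer_of_normal
  obtain ⟨f, hf, h0⟩ : ∃ f, IsMax p ⊤ ⊤ (eBlk M b) D' f ∧ f * quotAlg _ N e ≠ 0 := by
    obtain ⟨f, hf⟩ := exists_isMax_of_isDefectGroup hM hb.1 hD
    have h1 := hf.br_mul
    rw [hf.blk.br_eq_of_normal hf.pgroup le_top le_normalizer_of_normal,
      center_mul_comm (eBlk_mem_center b)] at h1
    have h2 : f * quotAlg _ N (eBlk M B) = f := by
      have hO := blockIdem_mem_OG hM hB
      rw [← h1, mul_assoc, quotAlg_eBlk hO, eBlk_mul_eBlk (blockIdem_mem_OG hM hb.1)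
        (blockIdem_preimage_inflIrr_mem_OG hO), Set.inter_eq_left.2 hsub]
    have h3 := h.br_mul
    rw [h.blk.br_eq_of_normal h.pgroup le_top le_normalizer_of_normal] at h3
    have h8 := h.blk.of_normal h.pgroup le_top le_normalizer_of_normal
    rw [cen_top] at h8
    rw [h8.eq_sum_orb he le_top (hn ⊤) h3, map_sum, Finset.mul_sum] at h2
    obtain ⟨_, h4, h5⟩ := Finset.exists_ne_zero_of_sum_ne_zero (h2.trans_ne hf.pair.blk.ne_zero)
    obtain ⟨x, -, rfl⟩ := mem_orb.1 h4
    have h6 := hf.cj_of_mem (x := (x : G ⧸ N)⁻¹) trivial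
    rw [cjs_of_normal] at h6
    refine ⟨_, h6, fun h7 => h5 ?_⟩
    rw [quotAlg_cj, ← cj_cj_inv (x : G ⧸ N) f, ← map_mul, h7, map_zero]
  have hf' : IsBlk (centralizer (D' : Set (G ⧸ N))) (centralizer (D' : Set (G ⧸ N))) f :=
    cen_top D' ▸ hf.pair.blk
  have hCK : centralizer (D : Set G) ≤
      (centralizer (D' : Set (G ⧸ N))).comap (QuotientGroup.mk' N) := by
    rintro g hg _ ⟨x, hx, rfl⟩
    rw [← map_mul, hg x hx, map_mul]
  have ho := he.sum_orb hCK (hn _)
  set o := ∑ f ∈ orb ((centralizer (D' : Set (G ⧸ N))).comap (QuotientGroup.mk' N)) e, f with ho'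
  have h1 : f * quotAlg _ N o ≠ 0 := fun h1 => h0 (by
    rw [← sum_mul_of_isBlk le_rfl _ (he.orb (hn _)) (self_mem_orb _ e), map_mul, ← mul_assoc, h1,
      zero_mul])
  obtain ⟨c, hc, hcf⟩ := exists_lift_of_isBlk hM (h.pgroup.to_le (commutator_le_left D D))
    (centralizer_le (commutator_le_left D D)) hC hf'
  have h2 : f * quotAlg _ N o = quotAlg _ N o := by
    rcases ho.nilpotent_or_unit hCK hc with ⟨n, h2⟩ | ⟨w, hw, h2⟩
    · have h3 := congrArg (quotAlg _ N) h2
      rw [map_mul, map_pow, hcf, IsIdempotentElem.pow_succ_eq n hf'.idem, map_zero] at h3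
      exact absurd h3 h1
    · have h3 := congrArg (quotAlg _ N) h2
      rw [map_mul, map_mul, hcf] at h3
      rw [← h3, ← mul_assoc, ← mul_assoc, ← (hw.1.mono hCK).quotAlg.mul_comm hf'.fix,
        mul_assoc _ f f, hf'.idem]
  rw [pExt_iff_forall_pRegular]
  refine fun g hg hg' => hC g hg' ?_
  refine (hf.isNil_iff_of_abelian hab).1 ((isNilpotentBlock_iff_top hM).1 hb).2
    ⟨⟨trivial, mem_normalizer_of_normal' _ _⟩, ?_⟩
  have h3 : Pair.cj g o = o := by
    have h3 := ho.cj g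
    have h4 : ((centralizer (D' : Set (G ⧸ N))).comap (QuotientGroup.mk' N)).Normal := inferInstance
    rw [cjs_of_normal, cjs_of_normal] at h3
    refine h3.eq_sum_orb he hCK (hn _) ?_
    conv_lhs => rw [← mem_stab.1 hg.2, ← map_mul,
      sum_mul_of_isBlk le_rfl _ (he.orb (hn _)) (self_mem_orb _ e), mem_stab.1 hg.2]
  have h4 := hf'.cj (g : G ⧸ N)
  rw [cjs_of_normal] at h4
  refine (hf'.eq_of_mul_ne_zero le_rfl h4 fun h5 => h1 ?_).symm
  rw [← h3, quotAlg_cj, ← h2, map_mul, ← mul_assoc, h5, zero_mul]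

open scoped IsMulCommutative in
theorem isNilpotentBlock_of_normal_of_degree_eq (hM : IsPModular p M) (hB : IsPBlock M B)
    [D.Normal] (hD : IsDefectGroup p M B D) {d : ℕ}
    (hd : ∀ χ ∈ B, blockHeight p B (χ : G → ℂ) = 0 → charDegree (χ : G → ℂ) = d) :
    IsNilpotentBlock p M B := by
  have := charP_resField hM
  obtain ⟨e, h⟩ := exists_isMax_of_isDefectGroup hM hB hD
  obtain ⟨b, hb, hsub, hD'⟩ := exists_dominated_isDefectGroup hM
    (h.pgroup.to_le (commutator_le_left D D)) hB hD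
  refine (isNilpotentBlock_iff_top hM).2 ⟨hB, h.isNil_of_normal
    (h.pExt_of_isNilpotentBlock_quot hM hB hsub ?_ hD')⟩
  set D' := D.map (QuotientGroup.mk' ⁅D, D⁆)
  have : D'.Normal := Normal.map inferInstance _ (QuotientGroup.mk'_surjective _)
  have hab : D' ≤ centralizer (D' : Set (G ⧸ ⁅D, D⁆)) := by
    rw [← commutator_eq_bot_iff_le_centralizer, ← map_commutator, Subgroup.map_eq_bot_iff,
      QuotientGroup.ker_mk']
  have : IsMulCommutative D' := ⟨⟨fun x y => Subtype.ext (hab y.2 x x.2)⟩⟩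
  obtain ⟨f, hf⟩ := exists_isMax_of_isDefectGroup hM hb hD'
  refine (exists_abMax hM hb hf).isNilpotentBlock_of_degree_eq (d := d) fun χ hχ => ?_
  rw [← charDegree_inflIrr]
  refine hd _ (hsub hχ) ?_
  have h1 := factorization_charDegree_add_blockDefect (p := p) hχ
  have h2 := factorization_charDegree_add_blockDefect (p := p) (B := B) (χ := inflIrr _ χ) (hsub hχ)
  have h3 : D'.index = D.index := index_map_eq _ (QuotientGroup.mk'_surjective _)
    ((QuotientGroup.ker_mk' _).le.trans (commutator_le_left D D))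
  rw [(comm_iff_height_zero_of_normal hM hb hD').1 (fun x hx y hy => hab hy x hx) χ hχ,
    factorization_card_eq_add p D', factorization_card_defectGroup hM hb hD', h3] at h1
  rw [factorization_card_eq_add p D, factorization_card_defectGroup hM hB hD,
    charDegree_inflIrr] at h2
  omega

theorem exists_degree_eq_of_isNilpotentBlock (hM : IsPModular p M) (hn : IsNilpotentBlock p M B)
    (hD : IsDefectGroup p M B D) :
    ∃ d, ∀ χ ∈ B, blockHeight p B (χ : G → ℂ) = 0 → charDegree (χ : G → ℂ) = d := by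
  obtain ⟨χ, hχ, h0⟩ := exists_height_zero (p := p) (tr_nonempty hM hn.1)
  obtain ⟨Φ, hΦ⟩ := exists_equiv_of_isNilpotentBlock hM hn hD hχ h0
  refine ⟨charDegree (χ : G → ℂ), fun ψ hψ h1 => ?_⟩
  obtain ⟨θ, h2⟩ := Φ.surjective ⟨ψ, hψ⟩
  obtain ⟨h3, h4⟩ := hΦ θ
  rw [h2] at h3 h4
  rw [h4, charDegree_eq_of_eq (n := 1) ((irr_one_eq_one_of_isPGroup
    (tr_isPGroup_of_isDefectGroup hD) (h3.symm.trans h1)).trans Nat.cast_one.symm), one_mul]

end CL.Blk.Pair
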