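/-
Jordan's original counting argument ("fans") for finite linear groups: the group-theoretic part (helper22).
-/
import Cfsg.Agent.Even.Amb
import Cfsg.Agent.Grp.SylowIn
import Cfsg.Agent.Grp.Cores

set_option autoImplicit false

open Subgroup CL.Even CL.Grp Finset
open scoped Pointwise Nat

namespace CL.Blk.Jor

/-- Landau's argument. -/
theorem landau (k : ℕ) : ∀ D : ℕ, 0 < D → ∃ B : ℕ, ∀ (s : Multiset ℕ) (g : ℕ), 0 < g → s.card ≤ k →
    (∀ a ∈ s, 2 ≤ a ∧ a ∣ g) → (g : ℤ) ∣ D * (s.sum - 1) → g ≤ B := by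
  have h0 : ∀ D g : ℕ, 0 < D → (g : ℤ) ∣ D * ((0 : Multiset ℕ).sum - 1) → g ≤ D := fun D g hD h =>
    Nat.le_of_dvd hD (by simpa [Int.natCast_dvd_natCast] using h)
  induction k with
  | zero =>
    refine fun D hD => ⟨D, fun s g _ hs _ h => h0 D g hD ?_⟩
    rwa [Multiset.card_eq_zero.1 (Nat.le_zero.1 hs)] at h
  | succ k ih =>
    intro D hD
    obtain ⟨B, hB⟩ := ih (D * (D * (k + 1))!) (Nat.mul_pos hD (Nat.factorial_pos _))
    refine ⟨max D B, fun s g hg hs ha h => ?_⟩
    by_cases h1 : s = 0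
    · exact (h0 D g hD (h1 ▸ h)).trans (le_max_left _ _)
    obtain ⟨a, has, hmax⟩ := s.exists_max_image id h1
    obtain ⟨t, rfl⟩ := Multiset.exists_cons_of_mem has
    obtain ⟨h2, c, rfl⟩ := ha a has
    have h3 := (Multiset.sum_le_card_nsmul _ a hmax).trans (Nat.mul_le_mul_right a hs)
    rw [Multiset.sum_cons] at h h3
    have h4 := Int.le_of_dvd (mul_pos (by exact_mod_cast hD) (by omega)) h
    have h5 : c ≤ D * (k + 1) := by
      refine Nat.le_of_mul_le_mul_left (c := a) ?_ (by omega)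
      have h6 : a * c ≤ D * (a + t.sum) := by
        zify at h4 ⊢
        nlinarith
      calc a * c ≤ D * ((k + 1) * a) := h6.trans (Nat.mul_le_mul_left D h3)
        _ = a * (D * (k + 1)) := by ring
    obtain ⟨e, he⟩ := Nat.dvd_factorial (Nat.pos_of_mul_pos_left hg) h5
    refine (hB t _ hg (by simpa using hs) (fun b hb => ha b (Multiset.mem_cons_of_mem hb)) ?_).trans (le_max_right _ _)
    rw [he]
    have h7 : ((D * (c * e) : ℕ) : ℤ) * (t.sum - 1) =
        (c * e) * (D * ((a + t.sum : ℕ) - 1)) - (a * c : ℕ) * (D * e) := by push_cast; ring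
    rw [h7]
    exact dvd_sub (h.mul_left _) (dvd_mul_right _ _)

section Count

variable {G X : Type*} [Group G] [MulAction G X] [Fintype X]

open Classical in
theorem sum_orbits (w : X → ℕ) (hw : ∀ (g : G) x, w (g • x) = w x) :
    ∑ x, w x = ∑ ω : MulAction.orbitRel.Quotient G X, (MulAction.stabilizer G ω.out).index * w ω.out := by
  rw [← Finset.sum_fiberwise univ fun x => (Quotient.mk _ x : MulAction.orbitRel.Quotient G X)]
  refine Finset.sum_congr rfl fun ω _ => ?_
  have h : ∀ x, (Quotient.mk _ x : MulAction.orbitRel.Quotient G X) = ω ↔ x ∈ MulAction.orbit G ω.out := fun x => by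
    rw [← MulAction.orbitRel_apply, ← Quotient.eq, Quotient.out_eq]
  rw [Finset.sum_congr rfl (g := fun _ => w ω.out) fun x hx => by
    obtain ⟨g, rfl⟩ := (h x).1 (mem_filter.1 hx).2
    exact hw g _, sum_const, smul_eq_mul, MulAction.index_stabilizer, ← Set.ncard_coe_finset]
  congr 2
  ext x
  simp [h]

theorem card_dvd_sum (w : X → ℕ) (hw : ∀ (g : G) x, w (g • x) = w x) (D : ℕ)
    (h : ∀ x, Nat.card (MulAction.stabilizer G x) ∣ D * w x) : Nat.card G ∣ D * ∑ x, w x := by
  classical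
  rw [sum_orbits w hw, mul_sum]
  refine dvd_sum fun ω _ => ?_
  rw [← (MulAction.stabilizer G ω.out).index_mul_card, mul_left_comm]
  exact mul_dvd_mul_left _ (h _)

end Count

variable {G : Type*} [Group G]

theorem card_dvd_of_mul_mem [Finite G] (H : Subgroup G) (S : Finset G) (h : ∀ b ∈ H, ∀ g ∈ S, b * g ∈ S) :
    Nat.card H ∣ #S := by
  classical
  have := Fintype.ofFinite G
  have h1 := card_dvd_sum (G := H) (fun g : G => if g ∈ S then 1 else 0) (fun b g => if_congr ⟨fun hg => by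
    simpa [Subgroup.smul_def] using h _ (inv_mem b.2) _ hg, h _ b.2 g⟩ rfl rfl) 1 fun g => by
      rw [(MulAction.stabilizer H g).eq_bot_iff_forall.2 fun b hb => by simpa [Subgroup.smul_def] using hb, card_bot]
      exact one_dvd _
  simpa using h1

theorem relIndex_le_of_fiber {X : Type*} [Finite X] {K H : Subgroup G} (f : H → X)
    (h : ∀ a b, f a = f b → (a⁻¹ * b : G) ∈ K) : K.relIndex H ≤ Nat.card X :=
  Nat.card_le_card_of_injective (fun q : H ⧸ K.subgroupOf H => f q.out) fun q r e => by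
    rw [← q.out_eq, ← r.out_eq]
    exact QuotientGroup.eq.2 (h _ _ e)

theorem relIndex_le_pow [Finite G] {p m : ℕ} [Fact p.Prime] (hm : ¬ p ^ (m + 1) ∣ Nat.card G) {A C : Subgroup G}
    (hn : C ≤ 𝒩(A)) (h : ∀ x ∈ C, ∃ k : ℕ, x ^ p ^ k ∈ A) : A.relIndex C ≤ p ^ m := by
  have : (A.subgroupOf C).Normal := ⟨fun a ha c => conj_mem (H := A) (hn c.2) ha⟩
  have h1 : IsPGroup p (C ⧸ A.subgroupOf C) := fun q => by
    obtain ⟨x, rfl⟩ := QuotientGroup.mk_surjective q
    obtain ⟨k, hk⟩ := h x x.2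
    exact ⟨k, by rw [← QuotientGroup.mk_pow, QuotientGroup.eq_one_iff]; exact hk⟩
  obtain ⟨j, hj⟩ := IsPGroup.iff_card.1 h1
  rw [relIndex, index, hj]
  refine Nat.pow_le_pow_right (Fact.out : p.Prime).pos (not_lt.1 fun hlt => hm ?_)
  exact (pow_dvd_pow p hlt).trans (hj ▸ (card_quotient_dvd_card _).trans (card_subgroup_dvd_card C))

/-- A fan: an abelian `p'`-subgroup with the same centralizer as its subgroups of index `< M`. -/
def Fan (p M : ℕ) (F : Subgroup G) : Prop :=
  F ≤ 𝒞(F) ∧ (Nat.card F).Coprime p ∧ ∀ E ≤ F, E.relIndex F < M → 𝒞(E) ≤ 𝒞(F)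

/-- The join of the fans in `H`. -/
def fanOf (p M : ℕ) (H : Subgroup G) : Subgroup G := sSup {F | Fan p M F ∧ F ≤ H}

/-- `H` has an abelian subgroup of index `< M`. -/
def Good (M : ℕ) (H : Subgroup G) : Prop := ∃ A ≤ H, A ≤ 𝒞(A) ∧ A.relIndex H < M

variable {p M : ℕ}

theorem fanOf_le (H : Subgroup G) : fanOf p M H ≤ H := sSup_le fun _ h => h.2

theorem Fan.le_fanOf {F H : Subgroup G} (h : Fan p M F) (hle : F ≤ H) : F ≤ fanOf p M H := le_sSup ⟨h, hle⟩

theorem Fan.cj {F : Subgroup G} (h : Fan p M F) (g : G) : Fan p M (cj g F) := by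
  refine ⟨by rw [← cj_cent]; exact cj_mono g h.1, by rw [card_cj]; exact h.2.1, fun E hE hi => ?_⟩
  rw [← cj_cj_inv g E, ← cj_cent g, ← cj_cent g]
  refine cj_mono g (h.2.2 _ (le_cj_iff.1 hE) ?_)
  rwa [← relIndex_conj_smul g, conj_smul_eq_map, conj_smul_eq_map, cj_cj_inv]

theorem cj_fanOf (g : G) (H : Subgroup G) : cj g (fanOf p M H) = fanOf p M (cj g H) := by
  have h : ∀ (g : G) (H : Subgroup G), cj g (fanOf p M H) ≤ fanOf p M (cj g H) := fun g H =>
    cj_le_iff.2 (sSup_le fun F hF => cj_le_iff.1 ((hF.1.cj g).le_fanOf (cj_mono g hF.2)))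
  refine le_antisymm (h g H) (le_cj_iff.2 ((h _ _).trans (by rw [cj_inv_cj])))

variable [Finite G]

theorem Fan.cent_le {F A H : Subgroup G} (h : Fan p M F) (hF : F ≤ H) (hA : A.relIndex H < M) :
    𝒞(A) ≤ 𝒞(F) := (cent_mono inf_le_left).trans <| h.2.2 (A ⊓ F) inf_le_right <| by
  rw [inf_relIndex_right]
  exact (relIndex_le_of_le_right hF index_ne_zero_of_finite).trans_lt hA

theorem Fan.sup {A B : Subgroup G} (hA : Fan p M A) (hB : Fan p M B) (h : A ≤ 𝒞(B)) : Fan p M (A ⊔ B) := by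
  refine ⟨by rw [cent_sup]; exact sup_le (le_inf hA.1 h) (le_inf (le_centralizer_iff.1 h) hB.1), ?_, fun E _ hi => ?_⟩
  · exact (Nat.Coprime.mul_left hA.2.1 hB.2.1).coprime_dvd_left
      ⟨_, (card_sup_mul_card_inf (h.trans (cent_le_norm B))).symm⟩
  · rw [cent_sup]
    exact le_inf (hA.cent_le le_sup_left hi) (hB.cent_le le_sup_right hi)

theorem Good.mono {H K : Subgroup G} (h : Good M H) (hK : K ≤ H) : Good M K := by
  obtain ⟨A, -, h1, h2⟩ := h
  refine ⟨A ⊓ K, inf_le_right, inf_le_left.trans (h1.trans (cent_mono inf_le_left)), ?_⟩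
  rw [inf_relIndex_right]
  exact (relIndex_le_of_le_right hK index_ne_zero_of_finite).trans_lt h2

theorem Good.fan {H : Subgroup G} (h : Good M H) : Fan p M (fanOf p M H) := by
  obtain ⟨A, -, h1, h2⟩ := h
  obtain ⟨F, hF⟩ := (Set.toFinite {F | Fan p M F ∧ F ≤ H}).exists_maximal
    ⟨⊥, ⟨bot_le, by simp, fun E hE _ => by rw [le_bot_iff.1 hE]⟩, bot_le⟩
  rw [show fanOf p M H = F from le_antisymm (sSup_le fun E hE => le_sup_left.trans (hF.2 ⟨hE.1.sup hF.1.1
    ((le_centralizer_iff.1 (h1.trans (hE.1.cent_le hE.2 h2))).trans (hF.1.1.cent_le hF.1.2 h2)),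
    sup_le hE.2 hF.1.2⟩ le_sup_right)) (le_sSup hF.1)]
  exact hF.1.1

omit [Finite G] in
theorem exists_fan (hM : 0 < M) (d : Subgroup G → ℕ) (L : ℕ) (hL : ∀ A, d A ≤ L)
    (hd : ∀ E A, E ≤ A → ¬ 𝒞(E) ≤ 𝒞(A) → d A < d E) (t : ℕ) : ∀ A : Subgroup G, A ≤ 𝒞(A) →
      (Nat.card A).Coprime p → L ≤ d A + t → ∃ F ≤ A, Fan p M F ∧ F.relIndex A ≤ M ^ t := by
  induction t with
  | zero =>
    refine fun A h1 h2 h3 => ⟨A, le_rfl, ⟨h1, h2, fun E hE _ => by_contra fun h => ?_⟩, by simp⟩
    have := hd E A hE h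
    have := hL E
    omega
  | succ t ih =>
    intro A h1 h2 h3
    by_cases h : ∀ E ≤ A, E.relIndex A < M → 𝒞(E) ≤ 𝒞(A)
    · exact ⟨A, le_rfl, ⟨h1, h2, h⟩, by rw [relIndex_self]; exact Nat.one_le_pow _ _ hM⟩
    push Not at h
    obtain ⟨E, hE, h4, h5⟩ := h
    have := hd E A hE h5
    obtain ⟨F, hF, h6, h7⟩ := ih E (hE.trans (h1.trans (cent_mono hE))) (h2.coprime_dvd_left (card_dvd_of_le hE))
      (by omega)
    refine ⟨F, hF.trans hE, h6, ?_⟩
    rw [← relIndex_mul_relIndex F E A hF hE, pow_succ]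
    exact Nat.mul_le_mul h7 h4.le

omit [Finite G] in
theorem cj_cent_single (h g : G) : cj h (centralizer {g}) = centralizer {h * g * h⁻¹} := by
  ext x
  rw [mem_cj, mem_centralizer_singleton_iff, mem_centralizer_singleton_iff]
  constructor <;> intro e
  · calc x * (h * g * h⁻¹) = h * (h⁻¹ * x * h * g) * h⁻¹ := by group
      _ = _ := by rw [e]; group
  · calc h⁻¹ * x * h * g = h⁻¹ * (x * (h * g * h⁻¹)) * h := by group
      _ = _ := by rw [e]; group

omit [Finite G] in
theorem card_eq_relIndex {A B C : Subgroup G} (h1 : A ≤ B) (h2 : B ≤ C) :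
    Nat.card C = A.relIndex B * B.relIndex C * Nat.card A := by
  rw [relIndex_mul_relIndex A B C h1 h2, mul_comm, card_mul_relIndex (h1.trans h2)]

omit [Finite G] in
theorem fan_center (hZ : (Nat.card (center G)).Coprime p) : Fan p M (center G) :=
  ⟨center_le_centralizer _, hZ, fun _ _ _ x _ _ hy => (mem_center_iff.1 hy x).symm⟩

/-- The hypotheses of Jordan's argument. -/
structure Hyp (G : Type*) [Group G] (p M K R : ℕ) : Prop where
  center : (Nat.card (center G)).Coprime p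
  good : ∀ g ∉ Subgroup.center G, Good M (centralizer ({g} : Set G))
  fan : ∀ H : Subgroup G, Good M H → (fanOf p M H).relIndex H ≤ K
  norm : ∀ F : Subgroup G, Fan p M F → 𝒞(F).relIndex 𝒩(F) ≤ R
  coset : ∀ g : G, (centralizer {g}).relIndex
    ((centralizer {(g : G ⧸ Subgroup.center G)}).comap (QuotientGroup.mk' _)) ≤ R

/-- The maximal non-central fans. -/
def MaxFan (p M : ℕ) (F : Subgroup G) : Prop := Fan p M F ∧ ¬ F ≤ center G ∧ fanOf p M 𝒞(F) = F

omit [Finite G] in
theorem cj_center (g : G) : cj g (center G) = center G := cj_eq (le_normalizer_of_normal (mem_top g))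

omit [Finite G] in
theorem MaxFan.cj {F : Subgroup G} (h : MaxFan p M F) (g : G) : MaxFan p M (cj g F) :=
  ⟨h.1.cj g, fun e => h.2.1 (cj_le_cj.1 (e.trans (cj_center g).ge)), by rw [← cj_cent, ← cj_fanOf, h.2.2]⟩

open Classical in
/-- The non-central elements whose centralizer has maximal fan `F`. -/
noncomputable def cell [Fintype G] (p M : ℕ) (F : Subgroup G) : Finset G :=
  {g | g ∉ center G ∧ fanOf p M (centralizer {g}) = F}

omit [Finite G] in
theorem mem_cell [Fintype G] {F : Subgroup G} {g : G} :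
    g ∈ cell p M F ↔ g ∉ center G ∧ fanOf p M (centralizer {g}) = F := by simp [cell]

omit [Finite G] in
theorem conj_mem_cell [Fintype G] {F : Subgroup G} {g : G} (hg : g ∈ cell p M F) (h : G) :
    h * g * h⁻¹ ∈ cell p M (cj h F) := by
  rw [mem_cell] at hg ⊢
  refine ⟨fun e => hg.1 ?_, by rw [← cj_cent_single, ← cj_fanOf, hg.2]⟩
  simpa [mul_assoc] using (normal_of_characteristic (center G)).conj_mem _ e h⁻¹

omit [Finite G] in
theorem card_cell_cj [Fintype G] (F : Subgroup G) (h : G) : #(cell p M (cj h F)) = #(cell p M F) :=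
  (card_nbij' (fun g => h * g * h⁻¹) (fun g => h⁻¹ * g * h⁻¹⁻¹) (fun _ hg => conj_mem_cell hg h)
    (fun g hg => by simpa only [cj_inv_cj, mem_coe] using conj_mem_cell hg h⁻¹) (fun g _ => by group) fun g _ => by group).symm

omit [Finite G] in
theorem le_cent_single {F : Subgroup G} {g : G} : F ≤ centralizer {g} ↔ g ∈ 𝒞(F) :=
  ⟨fun h _ hx => mem_centralizer_singleton_iff.1 (h hx), fun h _ hx => mem_centralizer_singleton_iff.2 (h _ hx)⟩

variable {K R : ℕ}

theorem Hyp.good_cent (H : Hyp G p M K R) {F : Subgroup G} (hF : ¬ F ≤ Subgroup.center G) : Good M 𝒞(F) := by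
  obtain ⟨f, hf, h⟩ := SetLike.not_le_iff_exists.1 hF
  exact (H.good f h).mono (centralizer_le (Set.singleton_subset_iff.2 hf))

theorem Hyp.le_bar (H : Hyp G p M K R) {F : Subgroup G} (hF : Fan p M F) {g : G} (hg : g ∉ Subgroup.center G)
    (h : g ∈ 𝒞(F)) : F ≤ fanOf p M (centralizer {g}) ∧ fanOf p M (centralizer {g}) ≤ fanOf p M 𝒞(F) :=
  have h1 := hF.le_fanOf (le_cent_single.2 h)
  ⟨h1, (H.good g hg).fan.le_fanOf ((H.good g hg).fan.1.trans (cent_mono h1))⟩

theorem Hyp.card_max [Fintype G] (H : Hyp G p M K R) {F : Subgroup G} (hF : MaxFan p M F) :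
    #(cell p M F) + Nat.card (Subgroup.center G) = Nat.card 𝒞(F) := by
  classical
  rw [Nat.card_eq_fintype_card, Nat.card_eq_fintype_card, Fintype.card_subtype, Fintype.card_subtype,
    ← card_union_of_disjoint (disjoint_left.2 fun g hg h => (mem_cell.1 hg).1 (mem_filter.1 h).2)]
  congr 1
  ext g
  simp only [mem_union, mem_cell, mem_filter, mem_univ, true_and]
  refine ⟨?_, fun h => ?_⟩
  · rintro (h | h)
    · exact le_cent_single.1 (h.2 ▸ fanOf_le _)
    · exact center_le_centralizer _ h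
  · by_cases hg : g ∈ Subgroup.center G
    · exact Or.inr hg
    · exact Or.inl ⟨hg, le_antisymm ((H.le_bar hF.1 hg h).2.trans hF.2.2.le) (H.le_bar hF.1 hg h).1⟩

theorem Hyp.bar_dvd [Fintype G] (H : Hyp G p M K R) {F : Subgroup G} (hF : Fan p M F) (h1 : ¬ F ≤ Subgroup.center G)
    (h2 : ¬ MaxFan p M F) : Nat.card (fanOf p M 𝒞(F)) ∣ #(cell p M F) := by
  have hB : Fan p M (fanOf p M 𝒞(F)) := (H.good_cent h1).fan
  have key : ∀ b ∈ fanOf p M 𝒞(F), ∀ g ∈ 𝒞(F), g ∉ Subgroup.center G → b * g ∉ Subgroup.center G →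
      fanOf p M (centralizer {g}) ≤ fanOf p M (centralizer {b * g}) := fun b hb g hg h3 _ =>
    (H.good g h3).fan.le_fanOf (le_cent_single.2 (mul_mem (cent_mono (H.le_bar hF h3 hg).2 (hB.1 hb))
      (le_cent_single.1 (fanOf_le _))))
  refine card_dvd_of_mul_mem _ _ fun b hb g hg => ?_
  obtain ⟨h3, h4⟩ := mem_cell.1 hg
  have h5 : g ∈ 𝒞(F) := le_cent_single.1 (h4 ▸ fanOf_le _)
  have h6 : b * g ∉ Subgroup.center G := fun e => by
    have h7 : g ∈ fanOf p M 𝒞(F) := (mul_mem_cancel_left hb).1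
      ((fan_center H.center).le_fanOf (center_le_centralizer _) e)
    exact h2 ⟨hF, h1, le_antisymm (h4 ▸ hB.le_fanOf (le_cent_single.2 (hB.1 h7))) (hF.le_fanOf hF.1)⟩
  refine mem_cell.2 ⟨h6, le_antisymm ?_ (h4 ▸ key b hb g h5 h3 h6)⟩
  have := key b⁻¹ (inv_mem hb) (b * g) (mul_mem (fanOf_le _ hb) h5) h6 (by rwa [inv_mul_cancel_left])
  rwa [inv_mul_cancel_left, h4] at this

theorem Hyp.card_dvd_center [Fintype G] (H : Hyp G p M K R) :
    Nat.card G ∣ (K * R)! * #(cell p M (Subgroup.center G)) := by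
  classical
  have := Fintype.ofFinite (G ⧸ Subgroup.center G)
  let _ : MulAction G (G ⧸ Subgroup.center G) :=
    MulAction.compHom _ (MulAut.conj.comp (QuotientGroup.mk' (Subgroup.center G)))
  have hs : ∀ (h : G) (x : G ⧸ Subgroup.center G), h • x = h * x * (h : G ⧸ Subgroup.center G)⁻¹ := fun _ _ => rfl
  rw [card_eq_sum_card_fiberwise (f := fun g : G => (g : G ⧸ Subgroup.center G)) (t := univ) fun _ _ => mem_univ _]
  refine card_dvd_sum (G := G) _ (fun h x => ?_) _ fun x => ?_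
  · refine (card_nbij' (fun g => h * g * h⁻¹) (fun g => h⁻¹ * g * h⁻¹⁻¹) (fun g hg => ?_) (fun g hg => ?_)
      (fun g _ => by group) fun g _ => by group).symm
    · simp only [coe_filter, Set.mem_ofPred_eq] at hg ⊢
      exact ⟨by simpa only [cj_center] using conj_mem_cell hg.1 h, by simp [hs, hg.2]⟩
    · simp only [coe_filter, Set.mem_ofPred_eq] at hg ⊢
      exact ⟨by simpa only [cj_center] using conj_mem_cell hg.1 h⁻¹, by simp [hs, hg.2, mul_assoc]⟩
  rcases eq_empty_or_nonempty ((cell p M (Subgroup.center G)).filter fun g : G => (g : G ⧸ Subgroup.center G) = x)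
    with e | ⟨g, hg⟩
  · simp [e]
  obtain ⟨h1, rfl⟩ := mem_filter.1 hg
  obtain ⟨h2, h3⟩ := mem_cell.1 h1
  have h4 : MulAction.stabilizer G (g : G ⧸ Subgroup.center G) =
      (centralizer {(g : G ⧸ Subgroup.center G)}).comap (QuotientGroup.mk' _) := by
    ext h
    rw [MulAction.mem_stabilizer_iff, hs, mem_comap, mem_centralizer_singleton_iff, mul_inv_eq_iff_eq_mul]
    rfl
  rw [h4, card_eq_relIndex (center_le_centralizer {g}) fun h hh => by
    rw [mem_comap, mem_centralizer_singleton_iff, QuotientGroup.mk'_apply, ← QuotientGroup.mk_mul,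
      mem_centralizer_singleton_iff.1 hh, QuotientGroup.mk_mul]]
  refine mul_dvd_mul (Nat.dvd_factorial (Nat.mul_pos (Nat.pos_of_ne_zero index_ne_zero_of_finite)
    (Nat.pos_of_ne_zero index_ne_zero_of_finite)) (Nat.mul_le_mul (h3 ▸ H.fan _ (H.good g h2)) (H.coset g))) ?_
  refine card_dvd_of_mul_mem _ _ fun z hz y hy => ?_
  obtain ⟨h5, h6⟩ := mem_filter.1 hy
  refine mem_filter.2 ⟨mem_cell.2 ⟨fun e => (mem_cell.1 h5).1 ((mul_mem_cancel_left hz).1 e), ?_⟩, ?_⟩
  · rw [← (mem_cell.1 h5).2]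
    congr 1
    ext a
    simp only [mem_centralizer_singleton_iff]
    rw [← mul_assoc, mem_center_iff.1 hz a, mul_assoc, mul_assoc, mul_left_cancel_iff]
  · rw [QuotientGroup.mk_mul, (QuotientGroup.eq_one_iff z).2 hz, one_mul, h6]

open Classical in
theorem Hyp.card_norm_dvd [Fintype G] (H : Hyp G p M K R) (F : Subgroup G) : Nat.card 𝒩(F) ∣
    (K * R)! * (#(cell p M F) + if MaxFan p M F then Nat.card (Subgroup.center G) else 0) := by
  have key : Fan p M F → ¬ F ≤ Subgroup.center G → ∀ n, Nat.card (fanOf p M 𝒞(F)) ∣ n →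
      Nat.card 𝒩(F) ∣ (K * R)! * n := fun h1 h2 n hn => by
    rw [card_eq_relIndex (fanOf_le (p := p) (M := M) 𝒞(F)) (cent_le_norm F)]
    exact mul_dvd_mul (Nat.dvd_factorial (Nat.mul_pos (Nat.pos_of_ne_zero index_ne_zero_of_finite)
      (Nat.pos_of_ne_zero index_ne_zero_of_finite)) (Nat.mul_le_mul (H.fan _ (H.good_cent h2)) (H.norm F h1))) hn
  split_ifs with h
  · exact key h.1 h.2.1 _ (H.card_max h ▸ card_dvd_of_le (fanOf_le _))
  rcases eq_empty_or_nonempty (cell p M F) with e | ⟨g, hg⟩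
  · simp [e]
  obtain ⟨h1, h2⟩ := mem_cell.1 hg
  have hF : Fan p M F := h2 ▸ (H.good g h1).fan
  by_cases h3 : F ≤ Subgroup.center G
  · obtain rfl : F = Subgroup.center G :=
      le_antisymm h3 (h2 ▸ (fan_center H.center).le_fanOf (center_le_centralizer _))
    exact (card_subgroup_dvd_card _).trans H.card_dvd_center
  · exact key hF h3 _ (H.bar_dvd hF h3 h)

universe u

theorem jordan_abs (p M K R : ℕ) : ∃ B : ℕ, ∀ (G : Type u) [Group G] [Finite G], Hyp G p M K R →
    ∃ A : Subgroup G, A.Normal ∧ A ≤ 𝒞(A) ∧ A.index ≤ B := by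
  classical
  obtain ⟨B, hB⟩ := landau (2 * R) _ (Nat.factorial_pos (K * R))
  refine ⟨max B (K * R), fun G _ _ H => ?_⟩
  have := Fintype.ofFinite G
  have := Fintype.ofFinite (Subgroup G)
  let _ : MulAction G (Subgroup G) := MulAction.compHom _ (MulAut.conj : G →* MulAut G)
  have hs : ∀ (h : G) (F : Subgroup G), h • F = cj h F := fun h F => conj_smul_eq_map h F
  have hst : ∀ F : Subgroup G, MulAction.stabilizer G F = 𝒩(F) := fun F => by
    ext h
    rw [MulAction.mem_stabilizer_iff, hs, cj_eq_iff_mem]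
  have hmax : ∀ (h : G) (F : Subgroup G), MaxFan p M (h • F) ↔ MaxFan p M F := fun h F =>
    ⟨fun e => by simpa only [hs, cj_inv_cj] using e.cj h⁻¹, fun e => e.cj h⟩
  by_cases hn : ∃ F : Subgroup G, MaxFan p M F ∧ 𝒩(F) = ⊤
  · obtain ⟨F, hF, h⟩ := hn
    refine ⟨F, normalizer_eq_top_iff.1 h, hF.1.1, le_trans ?_ (le_max_right _ _)⟩
    rw [← relIndex_mul_index hF.1.1, ← relIndex_top_right 𝒞(F), ← h]
    exact Nat.mul_le_mul (by simpa only [hF.2.2] using H.fan _ (H.good_cent hF.2.1)) (H.norm F hF.1)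
  refine ⟨center G, inferInstance, center_le_centralizer _, le_trans ?_ (le_max_left _ _)⟩
  let I : Finset (MulAction.orbitRel.Quotient G (Subgroup G)) := {ω | MaxFan p M ω.out}
  have h0 : ∑ F : Subgroup G, #(cell p M F) + Nat.card (center G) = Nat.card G := by
    rw [Nat.card_eq_fintype_card, Nat.card_eq_fintype_card, Fintype.card_subtype, ← card_univ,
      ← card_filter_add_card_filter_not (s := univ) fun g => g ∈ center G, add_comm,
      card_eq_sum_card_fiberwise (s := {g | g ∉ center G}) (f := fun g => fanOf p M (centralizer {g})) (t := univ)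
        fun _ _ => mem_univ _]
    congr 1
    refine sum_congr rfl fun F _ => congrArg _ ?_
    ext g
    simp [mem_cell]
  refine hB (I.val.map fun ω => 𝒩(ω.out).index) _ (Nat.pos_of_ne_zero index_ne_zero_of_finite) ?_ (fun a ha => ?_) ?_
  · rw [Multiset.card_map, card_val]
    refine Nat.le_of_mul_le_mul_right (c := Nat.card G) ?_ Nat.card_pos
    have h1 := sum_orbits (G := G) (fun F : Subgroup G => #(cell p M F)) fun h F => card_cell_cj F h
    calc #I * Nat.card G = ∑ ω ∈ I, 𝒩(ω.out).index * Nat.card 𝒩(ω.out) := by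
          simp only [index_mul_card, sum_const, smul_eq_mul]
      _ ≤ ∑ ω ∈ I, 2 * R * (𝒩(ω.out).index * #(cell p M ω.out)) := sum_le_sum fun ω hω => by
        have h2 : MaxFan p M ω.out := (mem_filter.1 hω).2
        have h3 := H.card_max h2
        obtain ⟨c, hc⟩ := card_dvd_of_le (center_le_centralizer (ω.out : Set G))
        have h4 : c ≠ 1 := fun e => h2.2.1 (h2.1.1.trans (eq_of_le_of_card_ge (center_le_centralizer _)
          (by rw [hc, e, mul_one])).ge)
        have h5 : c ≠ 0 := fun e => Nat.card_pos.ne' (by rw [hc, e, mul_zero])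
        have h6 : Nat.card 𝒞(ω.out) ≤ 2 * #(cell p M ω.out) := by
          have := Nat.mul_le_mul_left (Nat.card (center G)) (show 2 ≤ c by omega)
          omega
        rw [mul_left_comm, ← card_mul_relIndex (cent_le_norm ω.out), mul_right_comm]
        exact Nat.mul_le_mul_left _ (Nat.mul_le_mul h6 (H.norm _ h2.1))
      _ ≤ 2 * R * Nat.card G := by
        rw [← mul_sum]
        refine Nat.mul_le_mul_left _ ((sum_le_sum_of_subset (subset_univ I)).trans ?_)
        simp only [← hst, ← h1]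
        omega
  · obtain ⟨ω, hω, rfl⟩ := Multiset.mem_map.1 ha
    have h1 : 𝒩(ω.out).index ≠ 1 := fun e => hn ⟨_, (mem_filter.1 hω).2, index_eq_one.1 e⟩
    have h2 : 𝒩(ω.out).index ≠ 0 := index_ne_zero_of_finite
    exact ⟨by omega, index_dvd_of_le ((center_le_centralizer _).trans (cent_le_norm _))⟩
  · have h1 := card_dvd_sum (G := G) _ (fun h F => by rw [hs, card_cell_cj, ← hs, hmax]) _ fun F =>
      (hst F).symm ▸ H.card_norm_dvd F
    have h2 := sum_orbits (G := G) (fun F : Subgroup G => if MaxFan p M F then Nat.card (center G) else 0)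
      fun h F => by rw [hmax]
    have h3 : ∑ ω : MulAction.orbitRel.Quotient G (Subgroup G), (MulAction.stabilizer G ω.out).index *
        (if MaxFan p M ω.out then Nat.card (center G) else 0) =
        (I.val.map fun ω => 𝒩(ω.out).index).sum * Nat.card (center G) := by
      rw [← Finset.sum_eq_multiset_sum, sum_mul, sum_filter]
      exact sum_congr rfl fun ω _ => by rw [hst]; split_ifs <;> simp
    rw [sum_add_distrib, h2, h3] at h1
    rw [← (center G).index_mul_card] at h0 h1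
    generalize (I.val.map fun ω => 𝒩(ω.out).index).sum = s at h1 ⊢
    obtain ⟨c, hc⟩ := h1
    refine ⟨c - (K * R)!, mul_right_cancel₀ (b := (Nat.card (center G) : ℤ)) (by exact_mod_cast Nat.card_pos.ne') ?_⟩
    zify at h0 hc
    linear_combination hc - ((K * R)! : ℤ) * h0

end CL.Blk.Jor
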