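/-
Signed irreducible characters and generalized characters of norm three and four.
-/
import Cfsg.Agent.Blk.KleinBlk

set_option autoImplicit false
set_option linter.unusedSectionVars false

namespace CL.Blk.MCB

open Cfsg CL.Char CL.Blk.Rk Function
open scoped ComplexConjugate

variable {G : Type*} [Group G] [Fintype G] {s t a a' b x x' α β : G → ℂ}
  {χ χ' ψ : IrrCharacter G} {F : Fin 4 → IrrCharacter G} {f : Fin 4 → G → ℂ} {k k' : Fin 4}
  {σ σ' : Bool}

/-- `s = ± χ`. -/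
def Sg (s : G → ℂ) (χ : IrrCharacter G) : Prop := s = χ ∨ s = -χ

theorem sg_self (χ : IrrCharacter G) : Sg χ χ := Or.inl rfl

theorem Sg.neg (h : Sg s χ) : Sg (-s) χ := by
  rcases h with rfl | rfl
  exacts [Or.inr rfl, Or.inl (neg_neg _)]

theorem sg_smul {ε : ℂ} (hε : ε = 1 ∨ ε = -1) (χ : IrrCharacter G) : Sg (ε • (χ : G → ℂ)) χ := by
  rcases hε with rfl | rfl
  exacts [Or.inl (one_smul _ _), Or.inr (neg_one_smul _ _)]

theorem Sg.gen (h : Sg s χ) : IsGeneralizedCharacter G s := by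
  rcases h with rfl | rfl
  exacts [χ.2.isGeneralizedCharacter, χ.2.isGeneralizedCharacter.neg]

theorem Sg.cls (h : Sg s χ) : IsClassFunction G s := h.gen.isClassFunction

theorem Sg.eq_or (h : Sg s χ) (h' : Sg t χ) : t = s ∨ t = -s := by
  rcases h with rfl | rfl <;> rcases h' with rfl | rfl <;> simp

theorem Sg.one_ne (h : Sg s χ) : s 1 ≠ 0 := by
  rcases h with rfl | rfl
  exacts [schurAvg_irr_one_ne_zero χ.2, neg_ne_zero.2 (schurAvg_irr_one_ne_zero χ.2)]

theorem Sg.inner_self (h : Sg s χ) : classInner s s = 1 := by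
  rcases h with rfl | rfl <;> simp [classInner_neg_left, classInner_neg_right, classInner_irr]

theorem Sg.inner_of_ne (h : Sg s χ) (h' : Sg t ψ) (hne : χ ≠ ψ) : classInner s t = 0 := by
  rcases h with rfl | rfl <;> rcases h' with rfl | rfl <;>
    simp [classInner_neg_left, classInner_neg_right, classInner_irr, hne]

theorem Sg.inner_eq_zero (h : Sg s χ) : classInner α s = 0 ↔ classInner α χ = 0 := by
  rcases h with rfl | rfl <;> simp [classInner_neg_right]

theorem Sg.map_eq_zero (h : Sg s χ) {L : (G → ℂ) →ₗ[ℂ] G → ℂ} : L s = 0 ↔ L χ = 0 := by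
  rcases h with rfl | rfl <;> simp

theorem Sg.inner_mul (h : Sg s χ) (α β : G → ℂ) :
    classInner α s * conj (classInner β s) = classInner α χ * conj (classInner β χ) := by
  rcases h with rfl | rfl <;> simp [classInner_neg_right]

theorem Sg.inner_map (h : Sg s χ) (L : (G → ℂ) →ₗ[ℂ] G → ℂ) :
    classInner (L s) s = classInner (L χ) χ := by
  rcases h with rfl | rfl <;> simp [classInner_neg_left, classInner_neg_right]

theorem Sg.inner_smul (h : Sg s χ) (α : G → ℂ) :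
    classInner α s • s = classInner α χ • (χ : G → ℂ) := by
  rcases h with rfl | rfl <;> simp [classInner_neg_right]

theorem Sg.apply_mul (h : Sg s χ) (u v : G) : s u * s v = (χ : G → ℂ) u * (χ : G → ℂ) v := by
  rcases h with rfl | rfl <;> simp

theorem Sg.blockPart (h : Sg s χ) {B : Set (IrrCharacter G)} (hχ : χ ∈ B) : blockPart B s = s := by
  rcases h with rfl | rfl
  · exact blockPart_irr_of_mem hχ
  · rw [← neg_one_smul ℂ, blockPart_smul, blockPart_irr_of_mem hχ]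

theorem exists_sg (h : IsGeneralizedCharacter G s) (h1 : classInner s s = 1) : ∃ χ, Sg s χ := by
  rcases h.irr_or_neg_irr h1 with h2 | h2
  exacts [⟨⟨_, h2⟩, Or.inl rfl⟩, ⟨⟨_, h2⟩, Or.inr (neg_neg _).symm⟩]

/-- `b` is a sum of four signed irreducible characters. -/
structure Quad (b : G → ℂ) (F : Fin 4 → IrrCharacter G) (f : Fin 4 → G → ℂ) : Prop where
  sg : ∀ i, Sg (f i) (F i)
  inj : Injective F
  sum : ∑ i, f i = b

theorem exists_quad (hb : IsGeneralizedCharacter G b) (h4 : classInner b b = 4) (h1 : b 1 = 0) :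
    ∃ F f, Quad b F f := by
  classical
  obtain ⟨m, hm, hsum⟩ := hb.exists_eq_sum_int
  have h2 : ∑ χ, m χ ^ 2 = 4 := by
    rw [classInner_self_eq_sum_sq hb.isClassFunction m hm] at h4; exact_mod_cast h4
  obtain ⟨ψ, hψ⟩ : ∃ ψ, ¬ 2 ∣ m ψ := by
    by_contra! h3
    choose m' hm' using h3
    obtain ⟨ψ, h4, h5⟩ := exists_of_sum_sq_eq_one m' (by
      simp only [hm', mul_pow, ← Finset.mul_sum] at h2; omega)
    rw [hsum, Finset.sum_apply, Finset.sum_eq_single ψ (fun χ _ h => by simp [hm', h5 χ h])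
      (by simp)] at h1
    rcases h4 with h4 | h4 <;> simp [hm', h4, schurAvg_irr_one_ne_zero ψ.2] at h1
  let S := Finset.univ.filter fun χ => m χ ≠ 0
  have hS : ∀ {A : Type} [AddCommMonoid A] (g : IrrCharacter G → A), (∀ χ, m χ = 0 → g χ = 0) →
      ∑ χ ∈ S, g χ = ∑ χ, g χ := fun g hg =>
    Finset.sum_filter_of_ne fun χ _ h h' => h (hg χ h')
  obtain ⟨h3, h5⟩ := Pair.eq_four_of_sum_sq S m (fun χ h => (Finset.mem_filter.1 h).2)
    (by rw [hS _ fun χ h => by simp [h], h2]) (j := ψ)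
    (Finset.mem_filter.2 ⟨Finset.mem_univ _, fun h => hψ (h ▸ dvd_zero 2)⟩) hψ
  let e := (S.equivFinOfCardEq h3).symm
  refine ⟨fun i => e i, fun i => (m (e i) : ℂ) • ((e i : IrrCharacter G) : G → ℂ),
    fun i => sg_smul (by rcases h5 _ (e i).2 with h | h <;> simp [h]) _,
    Subtype.val_injective.comp e.injective, ?_⟩
  funext g
  rw [hsum, Finset.sum_apply, Finset.sum_apply, ← hS _ fun χ h => by simp [h],
    ← Finset.sum_coe_sort S, ← e.sum_comp]

/-- The sum of two members of a quadruple. -/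
def pr {A : Type*} [AddCommGroup A] (f : Fin 4 → A) (k : Fin 4) : Bool → A
  | true => f 0 + f k
  | false => ∑ i, f i - (f 0 + f k)

theorem map_pr {A A' : Type*} [AddCommGroup A] [AddCommGroup A'] (L : A →+ A') (f : Fin 4 → A)
    (k : Fin 4) (σ : Bool) : L (pr f k σ) = pr (fun i => L (f i)) k σ := by
  cases σ <;> simp [pr]

theorem pr_apply (f : Fin 4 → G → ℂ) (k : Fin 4) (σ : Bool) (g : G) :
    pr f k σ g = pr (fun i => f i g) k σ := by
  cases σ <;> simp [pr]

theorem exists_perm_pr (hk : k ≠ 0) (σ : Bool) :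
    ∃ π : Equiv.Perm (Fin 4), ∀ f : Fin 4 → G → ℂ, pr f k σ = f (π 0) + f (π 1) := by
  have h1 : ∀ p q : Fin 4, p ≠ q → (∀ f : Fin 4 → G → ℂ, pr f k σ = f p + f q) →
      ∃ π : Equiv.Perm (Fin 4), ∀ f : Fin 4 → G → ℂ, pr f k σ = f (π 0) + f (π 1) := by
    intro p q hpq h
    obtain ⟨π, hπ⟩ := Equiv.Perm.exists_extending_pair (f := ![(0 : Fin 4), 1]) (g := ![p, q])
      (by decide) (by intro i j; fin_cases i <;> fin_cases j <;> simp [hpq, hpq.symm])
    exact ⟨π, fun f => by rw [h, show π 0 = p from hπ 0, show π 1 = q from hπ 1]⟩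
  cases σ
  · fin_cases k
    · exact absurd rfl hk
    · exact h1 2 3 (by decide) fun f => by simp [pr, Fin.sum_univ_four]; abel
    · exact h1 1 3 (by decide) fun f => by simp [pr, Fin.sum_univ_four]; abel
    · exact h1 1 2 (by decide) fun f => by simp [pr, Fin.sum_univ_four]; abel
  · exact h1 0 k hk.symm fun f => rfl

/-- `a` is the sum of two members of the quadruple and one further signed character. -/
structure Trip (F : Fin 4 → IrrCharacter G) (f : Fin 4 → G → ℂ) (a x : G → ℂ)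
    (χ : IrrCharacter G) (k : Fin 4) (σ : Bool) : Prop where
  sg : Sg x χ
  notMem : χ ∉ Set.range F
  ne : k ≠ 0
  eq : a = x + pr f k σ

namespace Quad

variable (h : Quad b F f)
include h

theorem comp (π : Equiv.Perm (Fin 4)) : Quad b (F ∘ π) (f ∘ π) :=
  ⟨fun _ => h.sg _, h.inj.comp π.injective, (Equiv.sum_comp π f).trans h.sum⟩

theorem inner (i j : Fin 4) : classInner (f i) (f j) = if i = j then 1 else 0 := by
  split_ifs with hij
  exacts [hij ▸ (h.sg i).inner_self, (h.sg i).inner_of_ne (h.sg j) (h.inj.ne hij)]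

theorem gen : IsGeneralizedCharacter G b :=
  h.sum ▸ isGeneralizedCharacter_sum _ _ fun i _ => (h.sg i).gen

theorem inner_left (i : Fin 4) : classInner b (f i) = 1 := by
  simp [← h.sum, classInner_sum_left, h.inner]

theorem inner_of_notMem (hx : Sg x χ) (hχ : χ ∉ Set.range F) (i : Fin 4) :
    classInner x (f i) = 0 := hx.inner_of_ne (h.sg i) fun h1 => hχ ⟨i, h1.symm⟩

theorem inner_of_notMem' (hx : Sg x χ) (hχ : χ ∉ Set.range F) (i : Fin 4) :
    classInner (f i) x = 0 := (h.sg i).inner_of_ne hx fun h1 => hχ ⟨i, h1⟩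

theorem inner_ne_zero_iff : classInner b χ ≠ 0 ↔ χ ∈ Set.range F := by
  refine ⟨fun h1 => by_contra fun h2 => h1 ?_, ?_⟩
  · simp [← h.sum, classInner_sum_left, h.inner_of_notMem' (sg_self χ) h2]
  · rintro ⟨i, rfl⟩
    rw [Ne, ← (h.sg i).inner_eq_zero, h.inner_left]; exact one_ne_zero

theorem gen_pr (k : Fin 4) (σ : Bool) : IsGeneralizedCharacter G (pr f k σ) := by
  cases σ
  exacts [(h.sum ▸ h.gen).sub ((h.sg 0).gen.add (h.sg k).gen), (h.sg 0).gen.add (h.sg k).gen]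

theorem inner_pr_of_notMem (hx : Sg x χ) (hχ : χ ∉ Set.range F) (k : Fin 4) (σ : Bool) :
    classInner x (pr f k σ) = 0 := by
  cases σ <;> simp [pr, classInner_add_right, classInner_sub_right, classInner_sum_right,
    h.inner_of_notMem hx hχ]

theorem inner_pr (hk : k ≠ 0) (hk' : k' ≠ 0) (σ σ' : Bool) : classInner (pr f k σ) (pr f k' σ') =
    if k = k' then (if σ = σ' then 2 else 0) else 1 := by
  cases σ <;> cases σ' <;> by_cases h1 : k = k' <;>
    simp [pr, classInner_add_right, classInner_sub_right, classInner_sum_right, h1,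
      classInner_add_left, classInner_sub_left, classInner_sum_left, h.inner, hk, hk',
      hk'.symm, Finset.sum_add_distrib] <;> norm_num

theorem exists_trip (ha : IsGeneralizedCharacter G a) (h3 : classInner a a = 3)
    (h2 : classInner a b = 2) : ∃ x χ k σ, Trip F f a x χ k σ := by
  choose m hm using fun i => ha.exists_int_classInner (h.sg i).gen
  have hm' : ∀ i, classInner (f i) a = m i := fun i => by rw [(h.sg i).gen.classInner_comm ha, hm]
  have h4 : m 0 + m 1 + m 2 + m 3 = 2 := by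
    rw [← h.sum, classInner_sum_right, Fin.sum_univ_four] at h2
    simp only [hm] at h2; exact_mod_cast h2
  obtain ⟨x, hx⟩ : ∃ x, x = a - ∑ i, (m i : ℂ) • f i := ⟨_, rfl⟩
  have h5 : ∀ i, classInner x (f i) = 0 := fun i => by
    simp [hx, classInner_sub_left, classInner_sum_left, classInner_smul_left, h.inner, hm]
  have h6 : classInner x x = ((3 - (m 0 ^ 2 + m 1 ^ 2 + m 2 ^ 2 + m 3 ^ 2) : ℤ) : ℂ) := by
    nth_rw 2 [hx]
    simp only [classInner_sub_right, classInner_sum_right, classInner_smul_right, h5, mul_zero,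
      Finset.sum_const_zero, sub_zero]
    simp only [hx, classInner_sub_left, classInner_sum_left, classInner_smul_left, hm', h3]
    rw [Fin.sum_univ_four]; push_cast; ring
  have h7 := classInner_self_re_nonneg x
  rw [h6, Complex.intCast_re, Int.cast_nonneg_iff] at h7
  have h8 : ∀ i, m i = 0 ∨ m i = 1 := by
    have h9 : ∀ n : ℤ, 0 ≤ n ^ 2 - n ∧ (n ^ 2 - n ≤ 1 → n = 0 ∨ n = 1) := fun n =>
      ⟨by nlinarith [sq_nonneg (2 * n - 1), Int.emod_two_eq_zero_or_one n, mul_self_nonneg n,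
        show 0 ≤ n * (n - 1) by rcases le_or_gt n 0 with h | h <;> nlinarith], fun h => by
        by_contra! h'
        rcases lt_or_gt_of_ne h'.1 with h1 | h1
        · nlinarith
        · have : 2 ≤ n := by omega
          nlinarith⟩
    have := (h9 (m 0)).1; have := (h9 (m 1)).1; have := (h9 (m 2)).1; have := (h9 (m 3)).1
    intro i
    fin_cases i <;> exact (h9 _).2 (by simp only [Fin.reduceFinMk, Fin.zero_eta]; linarith)
  have h9 : classInner x x = 1 := by
    rw [h6]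
    rcases h8 0 with h0 | h0 <;> rcases h8 1 with h1 | h1 <;> rcases h8 2 with h2 | h2 <;>
      rcases h8 3 with h3 | h3 <;> simp only [h0, h1, h2, h3] at h4 ⊢ <;>
      first | omega | norm_num
  obtain ⟨χ, hχ⟩ := exists_sg (hx ▸ ha.sub (isGeneralizedCharacter_sum _ _ fun i _ =>
    (h.sg i).gen.intCast_smul _)) h9
  have hχF : χ ∉ Set.range F := by
    rintro ⟨i, rfl⟩
    have := h5 i
    rcases (h.sg i).eq_or hχ with rfl | rfl <;> simp [classInner_neg_left, h.inner] at this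
  have h10 : ∀ k σ, k ≠ 0 → ∑ i, (m i : ℂ) • f i = pr f k σ → ∃ x χ k σ, Trip F f a x χ k σ :=
    fun k σ hk h' => ⟨x, χ, k, σ, hχ, hχF, hk, by rw [← h', hx, sub_add_cancel]⟩
  rcases h8 0 with h0 | h0 <;> rcases h8 1 with h1 | h1 <;> rcases h8 2 with h2 | h2 <;>
    rcases h8 3 with h3 | h3 <;> simp only [h0, h1, h2, h3] at h4 <;> norm_num at h4
  · exact h10 1 false (by decide) (by simp [pr, Fin.sum_univ_four, *]; abel)
  · exact h10 2 false (by decide) (by simp [pr, Fin.sum_univ_four, *]; abel)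
  · exact h10 3 false (by decide) (by simp [pr, Fin.sum_univ_four, *]; abel)
  · exact h10 3 true (by decide) (by simp [pr, Fin.sum_univ_four, *])
  · exact h10 2 true (by decide) (by simp [pr, Fin.sum_univ_four, *])
  · exact h10 1 true (by decide) (by simp [pr, Fin.sum_univ_four, *])

theorem inner_trip (t : Trip F f a x χ k σ) (t' : Trip F f a' x' χ' k' σ') : classInner a a' =
    classInner x x' + if k = k' then (if σ = σ' then 2 else 0) else 1 := by
  rw [t.eq, t'.eq, classInner_add_left, classInner_add_right, classInner_add_right,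
    h.inner_pr t.ne t'.ne, h.inner_pr_of_notMem t.sg t.notMem,
    (h.gen_pr k σ).classInner_comm t'.sg.gen, h.inner_pr_of_notMem t'.sg t'.notMem]
  ring

theorem trip_two (t : Trip F f a x χ k σ) (t' : Trip F f a' x' χ' k' σ')
    (h2 : classInner a a' = 2) : (χ ≠ χ' ∧ k = k' ∧ σ = σ') ∨ (χ = χ' ∧ x = x' ∧ k ≠ k') := by
  rw [h.inner_trip t t'] at h2
  by_cases h1 : χ = χ'
  · subst h1
    rcases t.sg.eq_or t'.sg with rfl | rfl <;>
      simp only [classInner_neg_right, t.sg.inner_self] at h2 <;> split_ifs at h2 with h3 h4 <;>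
      norm_num at h2
    exact Or.inr ⟨rfl, rfl, h3⟩
  · rw [t.sg.inner_of_ne t'.sg h1] at h2
    split_ifs at h2 with h3 h4 <;> norm_num at h2
    exact Or.inl ⟨h1, h3, h4⟩

theorem trip_one (t : Trip F f a x χ k σ) (t' : Trip F f a' x' χ' k' σ') (hb : b 1 = 0)
    (ha : a 1 = 0) (ha' : a' 1 = 0) (h2 : classInner a a' = 1) : χ ≠ χ' ∧ k ≠ k' := by
  rw [h.inner_trip t t'] at h2
  by_cases h1 : χ = χ'
  · subst h1
    rw [t.eq] at ha
    rw [t'.eq] at ha'
    rw [← h.sum] at hb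
    exfalso
    refine t.sg.one_ne ?_
    rcases t.sg.eq_or t'.sg with rfl | rfl <;>
      simp only [classInner_neg_right, t.sg.inner_self] at h2 <;> split_ifs at h2 with h3 h4 <;>
      norm_num at h2 <;> subst h3
    · cases σ <;> cases σ' <;> simp only [pr, Pi.add_apply, Pi.sub_apply] at ha ha' <;>
        first | exact absurd rfl h4 | linear_combination (ha + ha' - hb) / 2
    · subst h4
      simp only [Pi.add_apply, Pi.neg_apply] at ha ha'
      linear_combination (ha - ha') / 2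
  · rw [t.sg.inner_of_ne t'.sg h1] at h2
    split_ifs at h2 with h3 h4 <;> norm_num at h2
    exact ⟨h1, h3⟩

theorem embed {J K : Type*} [DecidableEq K] {R : Finset J} {κ : J → K} {a x : J → G → ℂ}
    {χ : J → IrrCharacter G} {k : J → Fin 4} {σ : J → Bool}
    (t : ∀ j ∈ R, Trip F f (a j) (x j) (χ j) (k j) (σ j)) (hb : b 1 = 0) (ha : ∀ j ∈ R, a j 1 = 0)
    (hg : ∀ i ∈ R, ∀ j ∈ R, i ≠ j → classInner (a i) (a j) = if κ i = κ j then 2 else 1)
    (hc : ∀ i ∈ R, (R.filter (κ · = κ i)).card ≠ 2) : Set.InjOn χ R ∨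
      (R.card = 3 ∧ (∀ i ∈ R, ∀ j ∈ R, κ i = κ j ∧ χ i = χ j ∧ x i = x j) ∧
        ∀ l ≠ 0, ∃ j ∈ R, k j = l) := by
  classical
  refine or_iff_not_imp_left.2 fun h1 => ?_
  obtain ⟨i, hi, j, hj, h2, hij⟩ : ∃ i ∈ R, ∃ j ∈ R, χ i = χ j ∧ i ≠ j := by
    simpa [Set.InjOn] using h1
  have h3 : ∀ i ∈ R, ∀ j ∈ R, i ≠ j → κ i ≠ κ j → χ i ≠ χ j ∧ k i ≠ k j := fun i hi j hj h3 h4 =>
    h.trip_one (t i hi) (t j hj) hb (ha i hi) (ha j hj) (by rw [hg i hi j hj h3, if_neg h4])
  have h4 : ∀ i ∈ R, ∀ j ∈ R, i ≠ j → κ i = κ j → _ := fun i hi j hj h3 h4 =>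
    h.trip_two (t i hi) (t j hj) (by rw [hg i hi j hj h3, if_pos h4])
  have h5 : κ i = κ j := by_contra fun h5 => (h3 i hi j hj hij h5).1 h2
  have h6 : k i ≠ k j := ((h4 i hi j hj hij h5).resolve_left fun h => h.1 h2).2.2
  have h7 : ∀ l ∈ R, κ l = κ i → χ l = χ i := fun l hl h7 => by
    by_contra h8
    have h9 := (h4 l hl i hi (fun h => h8 (h ▸ rfl)) h7).resolve_right fun h => h8 h.1
    have h10 := (h4 l hl j hj (fun h => h8 (h ▸ h2.symm)) (h7.trans h5)).resolve_right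
      fun h => h8 (h.1.trans h2.symm)
    exact h6 (h9.2.1.symm.trans h10.2.1)
  have h8 : ∀ l ∈ R, ∀ l' ∈ R, κ l = κ i → κ l' = κ i → l ≠ l' → x l = x l' ∧ k l ≠ k l' :=
    fun l hl l' hl' h8 h9 h10 => ((h4 l hl l' hl' h10 (h8.trans h9.symm)).resolve_left fun h =>
      h.1 ((h7 l hl h8).trans (h7 l' hl' h9).symm)).2
  have h9 : Set.InjOn k (R.filter (κ · = κ i)) := fun l hl l' hl' h9 => by
    rw [Finset.mem_coe, Finset.mem_filter] at hl hl'
    exact by_contra fun h10 => (h8 l hl.1 l' hl'.1 hl.2 hl'.2 h10).2 h9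
  have h10 : (R.filter (κ · = κ i)).image k ⊆ Finset.univ.erase 0 := fun l hl => by
    obtain ⟨l, hl', rfl⟩ := Finset.mem_image.1 hl
    simpa using (t l (Finset.mem_filter.1 hl').1).ne
  have h11 := Finset.card_image_of_injOn h9
  have h12 : 1 < (R.filter (κ · = κ i)).card := Finset.one_lt_card.2
    ⟨i, by simp [hi], j, by simp [hj, h5], hij⟩
  have h13 : (Finset.univ.erase (0 : Fin 4)).card = 3 := rfl
  have h14 := Finset.card_le_card h10
  have h15 := hc i hi
  have h16 := Finset.eq_of_subset_of_card_le h10 (by omega)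
  have h17 : ∀ l ≠ 0, ∃ j ∈ R, κ j = κ i ∧ k j = l := fun l hl => by
    have : l ∈ (R.filter (κ · = κ i)).image k := by simp [h16, hl]
    simpa [and_assoc] using this
  have h18 : ∀ l ∈ R, κ l = κ i := fun l hl => by_contra fun h18 => by
    obtain ⟨l', hl', h19, h20⟩ := h17 _ (t l hl).ne
    exact (h3 l hl l' hl' (fun h => h18 (h ▸ h19)) (h19 ▸ h18)).2 h20.symm
  refine ⟨by rw [← Finset.filter_true_of_mem h18]; omega, fun l hl l' hl' =>
    ⟨(h18 l hl).trans (h18 l' hl').symm, (h7 l hl (h18 l hl)).trans (h7 l' hl' (h18 l' hl')).symm,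
      ?_⟩, fun l hl => (h17 l hl).imp fun _ h => ⟨h.1, h.2.2⟩⟩
  by_cases h19 : l = l'
  exacts [h19 ▸ rfl, (h8 l hl l' hl' (h18 l hl) (h18 l' hl') h19).1]

end Quad

theorem exc_core {D0 D1 D2 D3 y0 y1 y2 y3 D y ε : ℂ} (hε : ε = 1 ∨ ε = -1) (hD : D ≠ 0)
    (h1 : D0 + D1 + D2 + D3 = 0) (h2 : y0 + y1 + y2 + y3 = 0) (e1 : D + ε * (D0 + D1) = 0)
    (e2 : D + ε * (D0 + D2) = 0) (e3 : D + ε * (D0 + D3) = 0)
    (ho : D * y + (D0 * y0 + D1 * y1 + D2 * y2 + D3 * y3) = 0) (k2 : y1 ^ 2 / D1 = y2 ^ 2 / D2)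
    (k3 : y1 ^ 2 / D1 = y3 ^ 2 / D3)
    (hc : y + ε * (y0 + y1) = 0 ∨ y + ε * (y0 + y2) = 0 ∨ y + ε * (y0 + y3) = 0) :
    y + ε * (y0 + y1) = 0 ∧ y + ε * (y0 + y2) = 0 ∧ y + ε * (y0 + y3) = 0 := by
  have hε2 : ε * ε = 1 := by rcases hε with rfl | rfl <;> norm_num
  have d1 : D1 = ε * D / 2 := by
    linear_combination (3 * ε * e1 - ε * e2 - ε * e3) / 2 + h1 / 2 -
      (3 * (D0 + D1) - (D0 + D2) - (D0 + D3)) / 2 * hε2 - ε * e1
      + (D0 + D1) * hε2
  have d2 : D2 = D1 := by linear_combination ε * e2 - ε * e1 - (D2 - D1) * hε2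
  have d3 : D3 = D1 := by linear_combination ε * e3 - ε * e1 - (D3 - D1) * hε2
  have d4 : D1 ≠ 0 := fun h => hD (by linear_combination -2 * ε * d1 + 2 * ε * h - D * hε2)
  rw [d2, div_left_inj' d4] at k2
  rw [d3, div_left_inj' d4] at k3
  have h3 : y = 2 * ε * y0 := by
    refine mul_left_cancel₀ hD ?_
    have d0 : D0 = -3 * D1 := by linear_combination h1 - d2 - d3
    rw [d0, d2, d3, d1] at ho
    linear_combination ho - ε * D / 2 * h2
  have h4 : ∀ u v w : ℂ, y0 + u + v + w = 0 → u ^ 2 = v ^ 2 → u ^ 2 = w ^ 2 →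
      y + ε * (y0 + u) = 0 → u = 0 ∧ v = 0 ∧ w = 0 := fun u v w h5 h6 h7 h8 => by
    have h9 : u = -3 * y0 := by linear_combination ε * h8 - ε * h3 - (3 * y0 + u) * hε2
    have h10 : u = 0 := by
      rcases sq_eq_sq_iff_eq_or_eq_neg.1 h6 with h | h <;>
        rcases sq_eq_sq_iff_eq_or_eq_neg.1 h7 with h' | h'
      · linear_combination (3 * h5 + 3 * h + 3 * h' - h9) / 8
      · linear_combination (3 * h5 + 3 * h - 3 * h' - h9) / 2
      · linear_combination (3 * h5 - 3 * h + 3 * h' - h9) / 2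
      · linear_combination -(3 * h5 - 3 * h - 3 * h' - h9) / 4
    rw [h10] at h6 h7
    exact ⟨h10, by simpa using h6.symm, by simpa using h7.symm⟩
  obtain ⟨rfl, rfl, rfl⟩ : y1 = 0 ∧ y2 = 0 ∧ y3 = 0 := by
    rcases hc with hc | hc | hc
    · exact h4 _ _ _ h2 k2 k3 hc
    · obtain ⟨a, b, c⟩ := h4 y2 y1 y3 (by linear_combination h2) k2.symm (k2.symm.trans k3) hc
      exact ⟨b, a, c⟩
    · obtain ⟨a, b, c⟩ := h4 y3 y1 y2 (by linear_combination h2) k3.symm (k3.symm.trans k2) hc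
      exact ⟨b, c, a⟩
  have h5 : y0 = 0 := by linear_combination h2
  simp [h3, h5]

theorem exc_alg {D y : Fin 4 → ℂ} {DX yX : ℂ} {σ : Fin 4 → Bool} (hD : DX ≠ 0)
    (h1 : ∑ i, D i = 0) (h2 : ∑ i, y i = 0) (e : ∀ l ≠ 0, DX + pr D l (σ l) = 0)
    (ho : DX * yX + ∑ i, D i * y i = 0)
    (hκ : ∀ l ≠ 0, pr (fun i => y i ^ 2 / D i) 1 (σ 1) = pr (fun i => y i ^ 2 / D i) l (σ l))
    (hc : ∃ l ≠ 0, yX + pr y l (σ l) = 0) : ∀ l ≠ 0, yX + pr y l (σ l) = 0 := by
  have key : ∀ (p q r s : Fin 4) (ε : ℂ), (ε = 1 ∨ ε = -1) → (∀ φ : Fin 4 → ℂ,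
      ∑ i, φ i = φ p + φ q + φ r + φ s ∧
      pr φ 1 (σ 1) = ε * (φ p + φ q) + (1 - ε) / 2 * ∑ i, φ i ∧
      pr φ 2 (σ 2) = ε * (φ p + φ r) + (1 - ε) / 2 * ∑ i, φ i ∧
      pr φ 3 (σ 3) = ε * (φ p + φ s) + (1 - ε) / 2 * ∑ i, φ i) →
      ∀ l ≠ 0, yX + pr y l (σ l) = 0 := fun p q r s ε hε H => by
    have hε' : ε ≠ 0 := by rcases hε with rfl | rfl <;> norm_num
    have e1 := e 1 (by decide); have e2 := e 2 (by decide); have e3 := e 3 (by decide)
    have k2 := hκ 2 (by decide); have k3 := hκ 3 (by decide)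
    obtain ⟨a0, a1, a2, a3⟩ := H D
    obtain ⟨b0, b1, b2, b3⟩ := H y
    obtain ⟨-, c1, c2, c3⟩ := H fun i => y i ^ 2 / D i
    rw [h1, mul_zero, add_zero] at a1 a2 a3
    rw [h2, mul_zero, add_zero] at b1 b2 b3
    rw [c1, c2, add_left_inj, mul_right_inj' hε', add_right_inj] at k2
    rw [c1, c3, add_left_inj, mul_right_inj' hε', add_right_inj] at k3
    obtain ⟨d1, d2, d3⟩ := exc_core hε hD (a0 ▸ h1) (b0 ▸ h2) (a1 ▸ e1) (a2 ▸ e2) (a3 ▸ e3)
      ((H fun i => D i * y i).1 ▸ ho) k2 k3 (by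
        obtain ⟨l, hl, h⟩ := hc
        fin_cases l
        exacts [absurd rfl hl, Or.inl (b1 ▸ h), Or.inr (Or.inl (b2 ▸ h)), Or.inr (Or.inr (b3 ▸ h))])
    intro l hl
    fin_cases l
    exacts [absurd rfl hl, b1 ▸ d1, b2 ▸ d2, b3 ▸ d3]
  cases s1 : σ 1 <;> cases s2 : σ 2 <;> cases s3 : σ 3 <;> rw [s1, s2, s3] at key
  all_goals first
    | refine key 0 1 2 3 1 (by simp) fun φ => ⟨?_, ?_, ?_, ?_⟩ <;>
        simp only [pr, Fin.sum_univ_four] <;> ring1
    | refine key 0 1 2 3 (-1) (by simp) fun φ => ⟨?_, ?_, ?_, ?_⟩ <;>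
        simp only [pr, Fin.sum_univ_four] <;> ring1
    | refine key 1 0 3 2 1 (by simp) fun φ => ⟨?_, ?_, ?_, ?_⟩ <;>
        simp only [pr, Fin.sum_univ_four] <;> ring1
    | refine key 1 0 3 2 (-1) (by simp) fun φ => ⟨?_, ?_, ?_, ?_⟩ <;>
        simp only [pr, Fin.sum_univ_four] <;> ring1
    | refine key 2 3 0 1 1 (by simp) fun φ => ⟨?_, ?_, ?_, ?_⟩ <;>
        simp only [pr, Fin.sum_univ_four] <;> ring1
    | refine key 2 3 0 1 (-1) (by simp) fun φ => ⟨?_, ?_, ?_, ?_⟩ <;>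
        simp only [pr, Fin.sum_univ_four] <;> ring1
    | refine key 3 2 1 0 1 (by simp) fun φ => ⟨?_, ?_, ?_, ?_⟩ <;>
        simp only [pr, Fin.sum_univ_four] <;> ring1
    | refine key 3 2 1 0 (-1) (by simp) fun φ => ⟨?_, ?_, ?_, ?_⟩ <;>
        simp only [pr, Fin.sum_univ_four] <;> ring1

end CL.Blk.MCB
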