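/-
Fourier analysis on the cyclic maximal subgroup of a 2-group of maximal class.
-/
import Cfsg.Agent.Inv.MaxClass2
import Cfsg.Agent.Blk.AbelChar
import Mathlib.Analysis.SpecialFunctions.Complex.CircleAddChar

set_option autoImplicit false
set_option linter.unusedSectionVars false

namespace CL.Blk.MCB

open Cfsg CL.Char CL.Inv Subgroup
open scoped ComplexConjugate

section Fourier

variable {n : ℕ} {m i j k : ZMod (2 ^ n)} {f g : ZMod (2 ^ n) → ℂ}

/-- The standard additive character. -/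
noncomputable abbrev psi (i : ZMod (2 ^ n)) : ℂ := ZMod.stdAddChar i

theorem psi_add (i j : ZMod (2 ^ n)) : psi (i + j) = psi i * psi j := AddChar.map_add_eq_mul _ _ _

theorem psi_zero : psi (0 : ZMod (2 ^ n)) = 1 := AddChar.map_zero_eq_one _

theorem conj_psi (i : ZMod (2 ^ n)) : conj (psi i) = psi (-i) := by
  rw [psi, psi, ZMod.stdAddChar_apply, ZMod.stdAddChar_apply, AddChar.map_neg_eq_inv,
    Circle.coe_inv_eq_conj]

theorem psi_eq_one_iff : psi i = 1 ↔ i = 0 := by
  rw [← psi_zero (n := n)]; exact ZMod.injective_stdAddChar.eq_iff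

theorem psi_pow (i : ZMod (2 ^ n)) : psi i ^ 2 ^ n = 1 := by
  rw [psi, ← AddChar.map_nsmul_eq_pow, nsmul_eq_mul, ZMod.natCast_self, zero_mul,
    AddChar.map_zero_eq_one]

theorem psi_half (hn : 2 ≤ n) : psi (2 * zq n) = -1 := by
  have h1 : psi (2 * zq n) * psi (2 * zq n) = 1 := by
    rw [← psi_add, psi_eq_one_iff]; linear_combination four_mul_zq hn
  exact (mul_self_eq_one_iff.1 h1).resolve_left (mt psi_eq_one_iff.1 (two_mul_zq_ne_zero hn))

theorem sum_psi (j : ZMod (2 ^ n)) : ∑ i, psi (j * i) = if j = 0 then (2 : ℂ) ^ n else 0 := by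
  simp only [mul_comm j]
  rw [AddChar.sum_mulShift j (ZMod.isPrimitive_stdAddChar _), ZMod.card]
  split_ifs <;> simp

theorem sum_mul_psi_eq_zero (c : ZMod (2 ^ n) → ℂ) (hc : ∀ j, c (j + 2) = c j) (hi : 2 * i ≠ 0) :
    ∑ j, c j * psi (j * i) = 0 := by
  have h1 : ∑ j, c j * psi (j * i) = psi (2 * i) * ∑ j, c j * psi (j * i) := by
    rw [Finset.mul_sum, ← Equiv.sum_comp (Equiv.addRight (2 : ZMod (2 ^ n)))]
    exact Finset.sum_congr rfl fun j _ => by
      rw [Equiv.coe_addRight, hc, add_mul, psi_add]; ring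
  by_contra h2
  exact hi (psi_eq_one_iff.1 ((mul_eq_right₀ h2).1 h1.symm))

theorem sum_comp_mul (hm : m * m = 1) (F : ZMod (2 ^ n) → ℂ) : ∑ i, F (m * i) = ∑ i, F i :=
  Fintype.sum_bijective (m * ·) (Function.Involutive.bijective fun i => by
    simp only [← mul_assoc, hm, one_mul]) _ _ fun _ => rfl

/-- The inner product of the extensions by zero to the group of order `2 ^ (n + 1)`. -/
noncomputable def zIn (f g : ZMod (2 ^ n) → ℂ) : ℂ := (2 * 2 ^ n)⁻¹ * ∑ i, f i * conj (g i)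

theorem zIn_sub_left (f g h : ZMod (2 ^ n) → ℂ) : zIn (f - g) h = zIn f h - zIn g h := by
  simp only [zIn, Pi.sub_apply, sub_mul, Finset.sum_sub_distrib, mul_sub]

theorem zIn_sub_right (f g h : ZMod (2 ^ n) → ℂ) : zIn f (g - h) = zIn f g - zIn f h := by
  simp only [zIn, Pi.sub_apply, map_sub, Finset.sum_sub_distrib, mul_sub]

/-- The induced character `λ_j + λ_j^y`. -/
noncomputable def lam (m j : ZMod (2 ^ n)) : ZMod (2 ^ n) → ℂ :=
  fun i => psi (j * i) + psi (j * (m * i))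

theorem lam_mul (hm : m * m = 1) (j i : ZMod (2 ^ n)) : lam m j (m * i) = lam m j i := by
  simp only [lam, ← mul_assoc m, hm, one_mul, add_comm]

theorem lam_mul' (hm : m * m = 1) (j : ZMod (2 ^ n)) : lam m (m * j) = lam m j := by
  funext i
  rw [lam, lam, add_comm, show m * j * (m * i) = j * i by linear_combination j * i * hm,
    show m * j * i = j * (m * i) by ring]

theorem zIn_lam_right (hm : m * m = 1) (hf : ∀ i, f (m * i) = f i) (j : ZMod (2 ^ n)) :
    zIn f (lam m j) = (2 ^ n)⁻¹ * ∑ i, f i * conj (psi (j * i)) := by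
  have h1 : ∑ i, f i * conj (psi (j * (m * i))) = ∑ i, f i * conj (psi (j * i)) := by
    rw [← sum_comp_mul hm fun i => f i * conj (psi (j * i))]
    simp only [hf]
  simp only [zIn, lam, map_add, mul_add, Finset.sum_add_distrib, h1]
  field_simp
  ring

theorem zIn_lam_lam (hm : m * m = 1) (j k : ZMod (2 ^ n)) :
    zIn (lam m j) (lam m k) = (if j = k then 1 else 0) + if j = m * k then 1 else 0 := by
  rw [zIn_lam_right hm (lam_mul hm j)]
  have h1 : ∀ i, lam m j i * conj (psi (k * i)) = psi ((j - k) * i) + psi ((m * j - k) * i) :=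
    fun i => by
      rw [lam, conj_psi, add_mul, ← psi_add, ← psi_add]; congr 2 <;> ring
  have h2 : m * j - k = 0 ↔ j = m * k :=
    ⟨fun h => by linear_combination m * h - j * hm, fun h => by linear_combination m * h + k * hm⟩
  simp only [h1, Finset.sum_add_distrib, sum_psi, sub_eq_zero (a := j), h2]
  split_ifs <;> field_simp <;> ring

theorem inversion (hm : m * m = 1) (hf : ∀ i, f (m * i) = f i) (i : ZMod (2 ^ n)) :
    f i = ∑ j, zIn f (lam m j) * psi (j * i) := by
  have h1 : ∀ j, zIn f (lam m j) * psi (j * i) = (2 ^ n)⁻¹ * ∑ k, f k * psi ((i - k) * j) :=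
    fun j => by
      rw [zIn_lam_right hm hf, mul_assoc, Finset.sum_mul]
      congr 1
      exact Finset.sum_congr rfl fun k _ => by
        rw [conj_psi, mul_assoc, ← psi_add]; congr 2; ring
  simp only [h1]
  rw [← Finset.mul_sum, Finset.sum_comm]
  simp only [← Finset.mul_sum, sum_psi, sub_eq_zero, mul_ite, mul_zero, Finset.sum_ite_eq,
    Finset.mem_univ, if_true]
  field_simp

/-- Symmetric functions vanishing on the centre. -/
structure Adm (m : ZMod (2 ^ n)) (f : ZMod (2 ^ n) → ℂ) : Prop where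
  symm : ∀ i, f (m * i) = f i
  zero : f 0 = 0
  half : f (2 * zq n) = 0

theorem Adm.sub (hf : Adm m f) (hg : Adm m g) : Adm m (f - g) :=
  ⟨fun i => by simp [hf.symm, hg.symm], by simp [hf.zero, hg.zero], by simp [hf.half, hg.half]⟩

/-- `j` is even. -/
def Ev (j : ZMod (2 ^ n)) : Prop := j * (2 * zq n) = 0

instance : DecidablePred (Ev (n := n)) := fun _ => inferInstanceAs (Decidable (_ = _))

theorem mul_half_of_not_ev (hn : 2 ≤ n) (h : ¬ Ev j) : j * (2 * zq n) = 2 * zq n := by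
  rw [Ev, mul_comm] at h
  rw [mul_comm]
  exact (zm_half_mul hn j).resolve_left h

theorem ev_two_mul (hn : 2 ≤ n) (r : ZMod (2 ^ n)) : Ev (2 * r) := by
  unfold Ev; linear_combination r * four_mul_zq hn

theorem not_ev_one (hn : 2 ≤ n) : ¬ Ev (1 : ZMod (2 ^ n)) := by
  rw [Ev, one_mul]; exact two_mul_zq_ne_zero hn

theorem ev_add_two (hn : 2 ≤ n) : Ev (j + 2) ↔ Ev j := by
  unfold Ev
  rw [show (j + 2) * (2 * zq n) = j * (2 * zq n) by linear_combination four_mul_zq hn]

theorem ev_add_one (hn : 2 ≤ n) : Ev (j + 1) ↔ ¬ Ev j := by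
  refine ⟨fun h1 h2 => two_mul_zq_ne_zero hn ?_, fun h => ?_⟩
  · unfold Ev at h1 h2; linear_combination h1 - h2
  · unfold Ev; linear_combination mul_half_of_not_ev hn h + four_mul_zq hn

theorem ev_iff (hn : 2 ≤ n) : Ev j ↔ ∃ r, j = 2 * r := by
  refine ⟨fun h => ?_, fun ⟨r, h⟩ => h ▸ ev_two_mul hn r⟩
  obtain ⟨r, rfl | rfl⟩ := zm_even_or_odd j
  · exact ⟨r, rfl⟩
  · exact absurd (ev_two_mul hn r) ((ev_add_one hn).1 h)

theorem ev_mul_iff (hm : m * (2 * zq n) = 2 * zq n) : Ev (m * j) ↔ Ev j := by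
  unfold Ev
  rw [mul_comm m, mul_assoc, hm]

theorem card_ev (hn : 2 ≤ n) : (Finset.univ.filter (Ev (n := n))).card = 2 ^ (n - 1) ∧
    (Finset.univ.filter fun j : ZMod (2 ^ n) => ¬ Ev j).card = 2 ^ (n - 1) := by
  have h1 : (Finset.univ.filter fun j : ZMod (2 ^ n) => ¬ Ev j).card =
      (Finset.univ.filter (Ev (n := n))).card :=
    Finset.card_bij (fun j _ => j + 1) (fun j hj => by simpa [ev_add_one hn] using hj)
      (fun _ _ _ _ h => add_right_cancel h) fun j hj => ⟨j - 1, by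
        rw [Finset.mem_filter, ← ev_add_one hn]; simpa using hj, by simp⟩
  have h2 := Finset.card_filter_add_card_filter_not (s := Finset.univ) (Ev (n := n))
  rw [Finset.card_univ, ZMod.card, h1] at h2
  have h3 : 2 ^ n = 2 * 2 ^ (n - 1) := by rw [← pow_succ']; congr 1; omega
  omega

/-- `λ_j^P - λ_{j₀}^P` where `j₀ ∈ {0, 1}` has the parity of `j`. -/
noncomputable def th (m j : ZMod (2 ^ n)) : ZMod (2 ^ n) → ℂ :=
  lam m j - lam m (if Ev j then 0 else 1)

theorem th_of_ev (h : Ev j) : th m j = lam m j - lam m 0 := by rw [th, if_pos h]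

theorem th_of_not_ev (h : ¬ Ev j) : th m j = lam m j - lam m 1 := by rw [th, if_neg h]

theorem th_zero : th m 0 = 0 := by rw [th_of_ev (zero_mul _), sub_self]

theorem th_one (hn : 2 ≤ n) : th m 1 = 0 := by rw [th_of_not_ev (not_ev_one hn), sub_self]

theorem th_mul (hm : m * m = 1) (hm' : m * (2 * zq n) = 2 * zq n) (j : ZMod (2 ^ n)) :
    th m (m * j) = th m j := by
  rw [th, th, lam_mul' hm, if_congr (ev_mul_iff hm') rfl rfl]

theorem lam_add_half (hm' : m * (2 * zq n) = 2 * zq n) (j i : ZMod (2 ^ n)) :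
    lam m j (2 * zq n + i) = psi (j * (2 * zq n)) * lam m j i := by
  rw [lam, lam, mul_add m, hm', mul_add, mul_add, psi_add, psi_add, mul_add]

theorem psi_mul_half (hn : 2 ≤ n) (j : ZMod (2 ^ n)) :
    psi (j * (2 * zq n)) = if Ev j then 1 else -1 := by
  split_ifs with h
  · rw [h, psi_zero]
  · rw [mul_half_of_not_ev hn h, psi_half hn]

theorem th_add_half (hn : 2 ≤ n) (hm' : m * (2 * zq n) = 2 * zq n) (j i : ZMod (2 ^ n)) :
    th m j (2 * zq n + i) = (if Ev j then 1 else -1) * th m j i := by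
  rw [th, Pi.sub_apply, Pi.sub_apply, lam_add_half hm', lam_add_half hm', psi_mul_half hn,
    psi_mul_half hn]
  by_cases h : Ev j
  · simp only [if_pos h, if_pos (show Ev (0 : ZMod (2 ^ n)) from zero_mul _), one_mul]
  · simp only [if_neg h, if_neg (not_ev_one hn), mul_sub]

theorem adm_th (hn : 2 ≤ n) (hm : m * m = 1) (hm' : m * (2 * zq n) = 2 * zq n)
    (j : ZMod (2 ^ n)) : Adm m (th m j) := by
  have h0 : th m j 0 = 0 := by simp [th, lam]
  refine ⟨fun i => by simp only [th, Pi.sub_apply, lam_mul hm], h0, ?_⟩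
  rw [← add_zero (2 * zq n), th_add_half hn hm', h0, mul_zero]

theorem Adm.apply_eq_sum (hf : Adm m f) (hn : 2 ≤ n) (hm : m * m = 1) (hi : 2 * i ≠ 0) :
    f i = ∑ j, zIn f (th m j) * psi (j * i) := by
  simp only [th, zIn_sub_right, sub_mul, Finset.sum_sub_distrib]
  rw [← inversion hm hf.symm, sum_mul_psi_eq_zero _ (fun j => by
    rw [if_congr (ev_add_two hn) rfl rfl]) hi, sub_zero]

theorem Adm.eq_zero (hf : Adm m f) (hn : 2 ≤ n) (hm : m * m = 1)
    (h : ∀ j, zIn f (th m j) = 0) : f = 0 := by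
  funext i
  by_cases hi : 2 * i = 0
  · rcases zm_two_mul_eq_zero hn hi with rfl | rfl
    exacts [hf.zero, hf.half]
  · simp [hf.apply_eq_sum hn hm hi, h]

/-- A transversal for a fixed point free involution. -/
theorem exists_transversal {ι : Type*} [DecidableEq ι] (s : Finset ι) (σ : ι → ι)
    (h1 : ∀ j ∈ s, σ j ∈ s) (h2 : ∀ j, σ (σ j) = j) (h3 : ∀ j ∈ s, σ j ≠ j) :
    ∃ R ⊆ s, (∀ j ∈ s, j ∈ R ∨ σ j ∈ R) ∧ (∀ j ∈ R, σ j ∉ R) ∧ 2 * R.card = s.card := by
  obtain ⟨v, hv⟩ : ∃ v : ι → ℕ, Set.InjOn v s := ⟨fun j => s.toList.idxOf j, fun a ha b _ h =>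
    (List.idxOf_inj (Finset.mem_toList.2 ha)).1 h⟩
  refine ⟨s.filter fun j => v j < v (σ j), Finset.filter_subset _ _, fun j hj => ?_,
    fun j hj hj' => ?_, ?_⟩
  · have := mt (hv (h1 j hj) hj) (h3 j hj)
    simp only [Finset.mem_filter, hj, h1 j hj, h2, true_and]
    omega
  · simp only [Finset.mem_filter, h2] at hj hj'
    omega
  · rw [← Finset.card_filter_add_card_filter_not (s := s) fun j => v j < v (σ j), two_mul]
    congr 1
    refine Finset.card_bij (fun j _ => σ j) (fun j hj => ?_)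
      (fun a _ b _ h => by rw [← h2 a, h, h2]) fun j hj => ⟨σ j, ?_, h2 j⟩
    · simp only [Finset.mem_filter, h2] at hj ⊢
      exact ⟨h1 j hj.1, by omega⟩
    · simp only [Finset.mem_filter, h2] at hj ⊢
      have := mt (hv (h1 j hj.1) hj.1) (h3 j hj.1)
      exact ⟨h1 j hj.1, by omega⟩

end Fourier

variable {G : Type*} [Group G] {P : Subgroup G} {n : ℕ} {e d : ZMod (2 ^ n)} (D : MC P n e d)
  {f g : ZMod (2 ^ n) → ℂ}

include D in
theorem m_mul_m : (e - 1) * (e - 1) = 1 := by linear_combination D.e_e - D.two_e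

include D in
theorem m_mul_half : (e - 1) * (2 * zq n) = 2 * zq n := by linear_combination 2 * D.e_q - D.h4

include D in
theorem m_mul_eq_iff {j : ZMod (2 ^ n)} : (e - 1) * j = j ↔ j = 0 ∨ j = 2 * zq n := by
  refine ⟨fun h => D.a_comm_b (i := 0) ?_, ?_⟩
  · rw [D.a_mul_b, D.b_mul_a]; congr 1; linear_combination -h
  · rintro (rfl | rfl)
    exacts [mul_zero _, m_mul_half D]

/-- `a i` as an element of `P`. -/
def aP (i : ZMod (2 ^ n)) : P := ⟨D.a i, D.a_mem i⟩

/-- `b i` as an element of `P`. -/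
def bP (i : ZMod (2 ^ n)) : P := ⟨D.b i, D.b_mem i⟩

theorem exists_aP_or_bP (g : P) : ∃ i, g = aP D i ∨ g = bP D i :=
  let ⟨i, h⟩ := (D.mem g).1 g.2; ⟨i, h.imp Subtype.ext Subtype.ext⟩

theorem sum_P [Fintype P] {A : Type*} [AddCommMonoid A] (F : P → A) :
    ∑ g, F g = ∑ i, F (aP D i) + ∑ i, F (bP D i) := by
  rw [← Fintype.sum_bijective (Sum.elim (aP D) (bP D)) ⟨?_, fun g => ?_⟩ _ F fun _ => rfl,
    Fintype.sum_sum_type]
  · rfl
  · rintro (i | i) (j | j) h
    · rw [D.a_inj i j (congrArg Subtype.val h)]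
    · exact absurd (congrArg Subtype.val h) (D.a_ne_b i j)
    · exact absurd (congrArg Subtype.val h) (D.b_ne_a i j)
    · rw [D.b_eq_iff.1 (congrArg Subtype.val h)]
  · obtain ⟨i, rfl | rfl⟩ := exists_aP_or_bP D g
    exacts [⟨Sum.inl i, rfl⟩, ⟨Sum.inr i, rfl⟩]

/-- Extension by zero of a function on the cyclic subgroup. -/
noncomputable def ext : (ZMod (2 ^ n) → ℂ) →ₗ[ℂ] P → ℂ where
  toFun f := Function.extend (aP D) f 0
  map_add' f g := by
    rw [← Function.extend_add, add_zero]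
  map_smul' c f := by
    rw [RingHom.id_apply, ← Function.extend_smul, smul_zero]

theorem aP_injective : Function.Injective (aP D) := fun i j h => D.a_inj i j (congrArg Subtype.val h)

theorem ext_a (f : ZMod (2 ^ n) → ℂ) (i : ZMod (2 ^ n)) : ext D f (aP D i) = f i :=
  (aP_injective D).extend_apply _ _ _

theorem ext_b (f : ZMod (2 ^ n) → ℂ) (i : ZMod (2 ^ n)) : ext D f (bP D i) = 0 :=
  Function.extend_apply' _ _ _ fun ⟨j, h⟩ => D.a_ne_b j i (congrArg Subtype.val h)

theorem isClassFunction_ext (hf : ∀ i, f ((e - 1) * i) = f i) : IsClassFunction P (ext D f) := by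
  intro g h
  obtain ⟨i, rfl | rfl⟩ := exists_aP_or_bP D g <;> obtain ⟨j, rfl | rfl⟩ := exists_aP_or_bP D h
  · rw [show aP D j * aP D i * (aP D j)⁻¹ = aP D i from Subtype.ext (D.conj_a_a i j)]
  · rw [show bP D j * aP D i * (bP D j)⁻¹ = aP D _ from Subtype.ext (D.conj_b_a i j), ext_a,
      ext_a, hf]
  · rw [show aP D j * bP D i * (aP D j)⁻¹ = bP D _ from Subtype.ext (D.conj_a_b i j), ext_b, ext_b]
  · rw [show bP D j * bP D i * (bP D j)⁻¹ = bP D _ from Subtype.ext (D.conj_b_b i j), ext_b, ext_b]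

theorem symm_of_isClassFunction {θ : P → ℂ} (hθ : IsClassFunction P θ) (i : ZMod (2 ^ n)) :
    θ (aP D ((e - 1) * i)) = θ (aP D i) := by
  rw [← hθ (aP D i) (bP D 0)]
  exact congrArg θ (Subtype.ext (D.conj_b_a i 0).symm)

theorem ext_comp {θ : P → ℂ} (hθ : ∀ i, θ (bP D i) = 0) : ext D (fun i => θ (aP D i)) = θ := by
  funext g
  obtain ⟨i, rfl | rfl⟩ := exists_aP_or_bP D g
  · rw [ext_a]
  · rw [ext_b, hθ]

theorem classInner_ext_left [Fintype P] (f : ZMod (2 ^ n) → ℂ) (θ : P → ℂ) :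
    classInner (ext D f) θ = zIn f fun i => θ (aP D i) := by
  rw [classInner_def, sum_P D, D.card_eq, zIn]
  simp only [ext_a, ext_b, zero_mul, Finset.sum_const_zero, add_zero]
  push_cast
  rw [pow_succ']

theorem classInner_ext [Fintype P] (f g : ZMod (2 ^ n) → ℂ) :
    classInner (ext D f) (ext D g) = zIn f g := by
  simp only [classInner_ext_left, ext_a]

/-- The cyclic subgroup as a homomorphism. -/
def aHom : Multiplicative (ZMod (2 ^ n)) →* P where
  toFun i := aP D i.toAdd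
  map_one' := Subtype.ext D.a_zero
  map_mul' _ _ := Subtype.ext (D.a_mul_a _ _).symm

theorem isGeneralizedCharacter_lam (j : ZMod (2 ^ n)) :
    IsGeneralizedCharacter P (ext D (lam (e - 1) j)) := by
  have := D.finite
  have := Fintype.ofFinite P
  refine isGeneralizedCharacter_iff.2 ⟨isClassFunction_ext D (lam_mul (m_mul_m D) j), fun χ hχ => ?_⟩
  obtain ⟨k, hk⟩ := (hχ.isCharacter.comp (aHom D)).isGeneralizedCharacter.exists_int_classInner
    (isGenChar_lin (ZMod.stdAddChar.mulShift j).toMonoidHom.toHomUnits)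
  refine ⟨k, ?_⟩
  rw [← map_intCast (starRingEnd ℂ) k, ← hk, classInner_ext_left,
    ← Complex.conj_conj (zIn _ _)]
  congr 1
  have h1 : conj (zIn (lam (e - 1) j) fun i => χ (aP D i)) =
      zIn (fun i => χ (aP D i)) (lam (e - 1) j) := by
    simp only [zIn, map_mul, map_sum, map_inv₀, map_pow, map_ofNat, Complex.conj_conj, mul_comm]
  rw [h1, zIn_lam_right (m_mul_m D) (symm_of_isClassFunction D hχ.isClassFunction), classInner_def]
  simp only [Nat.card_eq_fintype_card, Fintype.card_multiplicative, ZMod.card]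
  push_cast
  congr 1
  exact Fintype.sum_equiv Multiplicative.ofAdd _ _ fun i => rfl

theorem isGeneralizedCharacter_th (j : ZMod (2 ^ n)) :
    IsGeneralizedCharacter P (ext D (th (e - 1) j)) := by
  rw [th, map_sub]
  exact (isGeneralizedCharacter_lam D _).sub (isGeneralizedCharacter_lam D _)

theorem ext_mul_half (f : ZMod (2 ^ n) → ℂ) (g : P) :
    ext D f (aP D (2 * zq n) * g) = ext D (fun i => f (2 * zq n + i)) g := by
  obtain ⟨i, rfl | rfl⟩ := exists_aP_or_bP D g
  · rw [show aP D _ * aP D i = aP D _ from Subtype.ext (D.a_mul_a _ i), ext_a, ext_a]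
  · rw [show aP D _ * bP D i = bP D _ from Subtype.ext (D.a_mul_b _ i), ext_b, ext_b]

end CL.Blk.MCB
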