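/-
Transfer of the projections `prj` to a subgroup controlling the fusion of a subset of the defect
group: induction is an isometry on the class functions supported on these subsections.
-/
import Cfsg.Agent.Blk.Prj
import Cfsg.Agent.Char.InductionChar

set_option autoImplicit false
set_option linter.unusedSectionVars false
set_option linter.style.haveILetI false

namespace CL.Blk.Pair

open MonoidAlgebra Cfsg CL.Char CL.Grp CL.Blk.Rk Subgroup
open scoped ComplexConjugate

/-- Every element conjugating an element of `S` into `S` lies in `T`. -/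
def Ctrl {G : Type*} [Group G] (T : Subgroup G) (S : Set G) : Prop :=
  ∀ s ∈ S, ∀ x : G, x * s * x⁻¹ ∈ S → x ∈ T

theorem Ctrl.mono {G : Type*} [Group G] {T : Subgroup G} {S S' : Set G} (h : Ctrl T S)
    (hS : S' ⊆ S) : Ctrl T S' := fun s hs x hx => h s (hS hs) x (hS hx)

theorem Ctrl.centralizer_le {G : Type*} [Group G] {T : Subgroup G} {S : Set G} (h : Ctrl T S)
    {s : G} (hs : s ∈ S) : centralizer ({s} : Set G) ≤ T := fun x hx =>
  h s hs x (by rwa [mem_centralizer_singleton_iff.1 hx, mul_inv_cancel_right])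

theorem Ctrl.mem {G : Type*} [Group G] {T : Subgroup G} {S : Set G} (h : Ctrl T S)
    {s : G} (hs : s ∈ S) : s ∈ T := h s hs s (by simpa using hs)

section Incl

variable {k : Type*} [Field k] {G : Type*} [Group G] [Fintype G] {p : ℕ} {T : Subgroup G}

theorem NLe.map_incl {N Q R : Subgroup T} {f g : k[T]} (h : NLe p N Q f R g) :
    NLe p (N.map T.subtype) (Q.map T.subtype) (incl T f) (R.map T.subtype) (incl T g) where
  left := isPair_map_incl.2 h.left
  right := isPair_map_incl.2 h.right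
  le := map_mono h.le
  norm := by rintro _ ⟨x, hx, rfl⟩; exact mem_normalizer_map.2 (h.norm hx)
  fix := fixedBy_map_incl.2 h.fix
  br_mul := by rw [br_map_incl, ← map_mul, h.br_mul]

theorem PLe.map_incl {N Q R : Subgroup T} {f g : k[T]} (h : PLe p N Q f R g) :
    PLe p (N.map T.subtype) (Q.map T.subtype) (incl T f) (R.map T.subtype) (incl T g) :=
  h.head_induction (motive := fun Q f => PLe p (N.map T.subtype) (Q.map T.subtype) (incl T f)
    (R.map T.subtype) (incl T g)) (PLe.refl ..) fun _ _ _ _ h1 _ h2 => h1.map_incl.ple.trans h2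

theorem cen_eq_of_le {Q U : Subgroup G} (hQ : centralizer (Q : Set G) ≤ T) (hU : Q ≤ U) :
    cen T U = cen ⊤ U := by
  rw [cen_top]
  exact inf_eq_right.2 ((centralizer_le (SetLike.coe_subset_coe.2 hU)).trans hQ)

theorem PLe.map_incl_top {Q R : Subgroup T} {f g : k[T]} (h : PLe p ⊤ Q f R g)
    (hQ : centralizer ((Q.map T.subtype : Subgroup G) : Set G) ≤ T) :
    PLe p ⊤ (Q.map T.subtype) (incl T f) (R.map T.subtype) (incl T g) := by
  have := h.map_incl
  rw [map_top_subtype] at this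
  exact this.of_cen_eq fun U hU => cen_eq_of_le hQ hU

theorem incl_mem_blks {s : T} (hs : centralizer ({(s : G)} : Set G) ≤ T) {f : k[T]} :
    incl T f ∈ blks k (s : G) ↔ f ∈ blks k s := by
  rw [mem_blks, mem_blks, ← isBlk_map_incl, map_cen, map_top_subtype, MonoidHom.map_zpowers,
    cen_eq_of_le (T := T) (by rwa [centralizer_zpowers_eq]) le_rfl, coe_subtype]

theorem sum_blks_incl {s : T} (hs : centralizer ({(s : G)} : Set G) ≤ T) {A : Type*}
    [AddCommMonoid A] (F : k[G] → A) :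
    ∑ f ∈ blks k (s : G), F f = ∑ f ∈ blks k s, F (incl T f) := by
  refine (Finset.sum_bij (fun f _ => incl T f) (fun f hf => (incl_mem_blks hs).2 hf)
    (fun _ _ _ _ h => incl_injective T h) (fun f hf => ?_) fun _ _ => rfl).symm
  have h1 : incl T (trunc T f) = f := ((mem_blks.1 hf).supp.mono
    (inf_le_right.trans (by rwa [centralizer_zpowers_eq]))).incl_trunc
  exact ⟨trunc T f, (incl_mem_blks hs).1 (h1.symm ▸ hf), h1⟩

variable [Fact p.Prime] [CharP k p] {P : Subgroup G} {b e : k[G]}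

theorem IsMax.exists_sub (h : IsMax p ⊤ ⊤ b P e) (hPT : P ≤ T)
    (hC : centralizer (P : Set G) ≤ T) :
    ∃ c e' : k[T], IsMax p ⊤ ⊤ c (P.subgroupOf T) e' ∧ incl T e' = e := by
  have := Fintype.ofFinite T
  have h1 : incl T (trunc T e) = e := (h.pair.suppC.mono hC).incl_trunc
  have he : IsPair p ⊤ (P.subgroupOf T) (trunc T e) := by
    rw [← isPair_map_incl, map_top_subtype, map_subgroupOf_subtype hPT, h1]
    exact ⟨h.pgroup, cen_eq_of_le hC le_rfl ▸ h.pair.blk⟩
  obtain ⟨c, hc⟩ := Pair.exists_ple he (le_normalizer_top _) bot_le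
  have h2 := (hc.left he).blk
  rw [cen_top, coe_bot, show centralizer ({1} : Set T) = ⊤ from by
    rw [eq_top_iff]; intro g _; simp [mem_centralizer_singleton_iff]] at h2
  have h3 : br (P.subgroupOf T) c * trunc T e = trunc T e :=
    (h2.br_mul_iff le_rfl hc le_top).2 (by rw [br_bot, h2.idem])
  refine ⟨c, _, ⟨h2, le_rfl, top_le_normalizer_top, ?_, he, h3⟩, h1⟩
  refine (isDef_iff_maximal h2 le_rfl top_le_normalizer_top he le_top h3).2 fun R g _ hR => ?_
  have h4 := hR.map_incl_top (by rwa [map_subgroupOf_subtype hPT])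
  rw [map_subgroupOf_subtype hPT, h1] at h4
  rw [← h.eq_of_ple h4 le_top]
  exact (comap_map_eq_self_of_injective T.subtype_injective R).symm

variable {e' : k[T]}

theorem below_incl (he : IsPair p ⊤ P (incl T e')) (he' : IsPair p ⊤ (P.subgroupOf T) e')
    (hPT : P ≤ T) {v : T} (hv : (v : G) ∈ P) (hC : centralizer ({(v : G)} : Set G) ≤ T) :
    below p P (incl T e') v = incl T (below p (P.subgroupOf T) e' v) := by
  have := Fintype.ofFinite T
  have h1 := (ple_below he' (v := v) hv).map_incl_top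
    (by rwa [MonoidHom.map_zpowers, centralizer_zpowers_eq])
  rw [MonoidHom.map_zpowers, map_subgroupOf_subtype hPT] at h1
  exact below_eq he h1

theorem coe_mem_fcls (he : IsPair p ⊤ P (incl T e')) (he' : IsPair p ⊤ (P.subgroupOf T) e')
    (hPT : P ≤ T) {u w : T} {f : k[T]} (hC : centralizer ({(w : G)} : Set G) ≤ T)
    (hw : w ∈ fcls p (P.subgroupOf T) e' u f) : (w : G) ∈ fcls p P (incl T e') u (incl T f) := by
  have := Fintype.ofFinite T
  obtain ⟨x, h1, h2⟩ := exists_of_mem_fcls he' hw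
  have hwP : (w : G) ∈ P := mem_subgroupOf.1 (fcls_subset hw)
  refine ⟨x, congrArg Subtype.val h1, ?_⟩
  rw [cj_incl, h2, ← below_incl he he' hPT hwP hC]
  exact ple_below he hwP

theorem Ctrl.mem_fcls_iff {S : Set G} (hS : Ctrl T S) (he : IsPair p ⊤ P (incl T e'))
    (he' : IsPair p ⊤ (P.subgroupOf T) e') (hPT : P ≤ T) {u w : T} {f : k[T]} (hu : (u : G) ∈ S)
    (hw : (w : G) ∈ S) :
    (w : G) ∈ fcls p P (incl T e') u (incl T f) ↔ w ∈ fcls p (P.subgroupOf T) e' u f := by
  have := Fintype.ofFinite T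
  refine ⟨fun h => ?_, coe_mem_fcls he he' hPT (hS.centralizer_le hw)⟩
  obtain ⟨x, h1, h2⟩ := exists_of_mem_fcls he h
  have hwP : (w : G) ∈ P := fcls_subset h
  lift x to T using hS u hu x (h1 ▸ hw)
  rw [below_incl he he' hPT hwP (hS.centralizer_le hw), cj_incl_eq_iff] at h2
  exact ⟨x, Subtype.ext h1, h2 ▸ ple_below he' hwP⟩

theorem Ctrl.fus_iff {S : Set G} (hS : Ctrl T S) (he : IsPair p ⊤ P (incl T e'))
    (he' : IsPair p ⊤ (P.subgroupOf T) e') (hPT : P ≤ T) {u w : T} (huP : (u : G) ∈ P)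
    (hu : (u : G) ∈ S) (hw : (w : G) ∈ S) :
    Fus p P (incl T e') u w ↔ Fus p (P.subgroupOf T) e' u w := by
  unfold Fus
  rw [below_incl he he' hPT huP (hS.centralizer_le hu), hS.mem_fcls_iff he he' hPT hu hw]

end Incl

variable {G : Type*} [Group G] [Fintype G] {M : Ideal AlgInt} {p : ℕ} [hp : Fact p.Prime]
  {P T : Subgroup G} [Fintype T] {e : (resField M)[G]} {B : Set (IrrCharacter G)}
  {c : Set (IrrCharacter T)} {e' : (resField M)[T]} {α β : G → ℂ} {θ η : T → ℂ} {S A : Set G}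

theorem coe_ppart (g : T) : ((ppart p g : T) : G) = ppart p (g : G) :=
  (ppart_eq hp.out (isPPart_coe (isPPart_ppart hp.out g))).symm

theorem tr_incl (hM : IsPModular p M) (hα : IsClassFunction G α) {f : (resField M)[T]} {g : T}
    (hf : f * f = f) (hg : cj g f = f) :
    tr M α (g : G) (incl T f) = tr M (fun t : T => α t) g f := by
  obtain ⟨a, haO, ha, hfix, rfl⟩ := exists_idem_lift hf (fixedBy_zpowers.2 hg)
  have h1 := fixedBy_zpowers.1 hfix
  rw [← redG_incl, tr_redG hM hα (by rw [← map_mul, ha]) (incl_mem_coeffSubring T haO)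
    (cj_incl_eq_iff.2 h1), tr_redG hM (hα.restrict T) ha haO h1, ← incl_single, ← map_mul,
    evalFun_incl]

theorem Ctrl.indFun_apply (hS : Ctrl T S) (hθ : IsClassFunction T θ)
    (h0 : ∀ t : T, (∀ s ∈ ((↑) ⁻¹' S : Set T), ¬ IsConj (ppart p t) s) → θ t = 0) {g : T}
    (hg : ppart p (g : G) ∈ S) : indFun T θ g = θ g := by
  classical
  have h1 : ∀ x : G, extendByZero T θ (x * g * x⁻¹) = if x ∈ T then θ g else 0 := by
    intro x
    split_ifs with hx
    · rw [extendByZero_conj hθ hx, extendByZero_coe]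
    · by_cases h2 : x * g * x⁻¹ ∈ T
      · rw [extendByZero_of_mem _ h2]
        refine h0 _ fun s hs h3 => hx ?_
        obtain ⟨t, ht⟩ := isConj_iff.1 h3
        have h4 := congrArg Subtype.val ht
        simp only [coe_mul, coe_ppart, coe_inv, ppart_conj hp.out] at h4
        have h5 := hS _ hg (t * x) (by rw [Set.mem_preimage, ← h4] at hs; convert hs using 1; group)
        simpa using T.mul_mem (T.inv_mem t.2) h5
      · exact extendByZero_of_not_mem _ h2
  rw [indFun_apply']
  simp only [h1]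
  rw [← Finset.sum_filter, Finset.sum_const, nsmul_eq_mul, ← Fintype.card_subtype,
    ← Nat.card_eq_fintype_card, inv_mul_cancel_left₀ (natCard_subgroup_ne_zero T)]

theorem indFun_eq_zero_of_ppart
    (h0 : ∀ t : T, (∀ s ∈ ((↑) ⁻¹' S : Set T), ¬ IsConj (ppart p t) s) → θ t = 0) {g : G}
    (hg : ∀ s ∈ S, ¬ IsConj (ppart p g) s) : indFun T θ g = 0 := by
  refine indFun_eq_zero_of_conj θ fun x hx => h0 _ fun s hs h1 => hg s hs ?_
  have h2 := T.subtype.map_isConj h1
  rw [coe_subtype, coe_ppart] at h2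
  refine IsConj.trans (isConj_iff.2 ⟨x⁻¹, ?_⟩) h2
  rw [← ppart_conj hp.out, inv_inv]

theorem ext_of_ppart (hS : Ctrl T S) (hα : IsClassFunction G α) (hβ : IsClassFunction G β)
    (h0 : ∀ g, (∀ s ∈ S, ¬ IsConj (ppart p g) s) → α g = β g)
    (h1 : ∀ g : T, ppart p (g : G) ∈ S → α g = β g) : α = β := by
  funext g
  by_cases hg : ∀ s ∈ S, ¬ IsConj (ppart p g) s
  · exact h0 g hg
  · push Not at hg
    obtain ⟨s, hs, hc⟩ := hg
    obtain ⟨x, hx⟩ := isConj_iff.1 hc
    rw [← ppart_conj hp.out] at hx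
    have h2 : x * g * x⁻¹ ∈ T := hS.centralizer_le hs (mem_centralizer_singleton_iff.2
      (hx ▸ (isPPart_commute hp.out (isPPart_ppart hp.out _) (Commute.refl _)).symm.eq))
    rw [← hα g x, ← hβ g x]
    exact h1 ⟨_, h2⟩ (hx ▸ hs)

/-- `(P, e)` comes from a maximal pair of the block `c` of `T`. -/
structure SubMax (p : ℕ) (M : Ideal AlgInt) {G : Type*} [Group G] [Finite G] (P : Subgroup G)
    (e : (resField M)[G]) (T : Subgroup G) (c : Set (IrrCharacter T)) (e' : (resField M)[T]) :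
    Prop where
  le : P ≤ T
  blk : IsPBlock M c
  isMax : IsMax p ⊤ ⊤ (eBlk M c) (P.subgroupOf T) e'
  incl_eq : incl T e' = e

theorem IsMax.exists_subMax (h : IsMax p ⊤ ⊤ (eBlk M B) P e) (hM : IsPModular p M) (hPT : P ≤ T)
    (hC : centralizer (P : Set G) ≤ T) : ∃ c e', SubMax p M P e T c e' := by
  have := charP_resField hM
  obtain ⟨c, e', h1, h2⟩ := h.exists_sub hPT hC
  obtain ⟨c, hc, rfl⟩ := exists_eBlk_eq hM h1.blk
  exact ⟨c, e', hPT, hc, h1, h2⟩

namespace SubMax

variable (h' : SubMax p M P e T c e') (h : IsMax p ⊤ ⊤ (eBlk M B) P e) (hM : IsPModular p M)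
  (hS : Ctrl T S)
include h' h hM hS

theorem fus_iff {u w : T} (huP : (u : G) ∈ P) (hu : (u : G) ∈ S) (hw : (w : G) ∈ S) :
    Fus p P e u w ↔ Fus p (P.subgroupOf T) e' u w := by
  have := charP_resField hM
  obtain rfl := h'.incl_eq
  exact hS.fus_iff h.pair h'.isMax.pair h'.le huP hu hw

theorem prj_res (hα : IsClassFunction G α) {g : T} (hg : ppart p (g : G) ∈ S) :
    prj p M P e S α g = prj p M (P.subgroupOf T) e' ((↑) ⁻¹' S) (fun t : T => α t) g := by
  classical
  have := charP_resField hM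
  obtain rfl := h'.incl_eq
  simp only [prj, bstar_def, star, phi, br_one, one_mul]
  rw [← coe_ppart] at hg ⊢
  rw [sum_blks_incl (hS.centralizer_le hg)]
  refine Finset.sum_congr rfl fun f hf => ?_
  rw [tr_incl hM hα (mem_blks.1 hf).idem (cj_eq_of_mem_blks (isPPart_ppart hp.out g) hf),
    upFn_sInd h.pair, upFn_sInd h'.isMax.pair]
  congr 1
  refine if_congr ⟨fun ⟨w, h1, h2⟩ => ?_, fun ⟨w, h1, h2⟩ =>
    ⟨w, (hS.mem_fcls_iff h.pair h'.isMax.pair h'.le hg h2).2 h1, h2⟩⟩ rfl rfl
  lift w to T using hS.mem h2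
  exact ⟨w, (hS.mem_fcls_iff h.pair h'.isMax.pair h'.le hg h2).1 h1, h2⟩

theorem prj_eq_indFun (hα : IsClassFunction G α) : prj p M P e S α =
    indFun T (prj p M (P.subgroupOf T) e' ((↑) ⁻¹' S) fun t : T => α t) := by
  refine ext_of_ppart (p := p) hS (isClassFunction_prj hM hα S) (indFun_isClassFunction _)
    (fun g hg => ?_) fun g hg => ?_
  · rw [prj_apply_eq_zero hg, indFun_eq_zero_of_ppart (fun t ht => prj_apply_eq_zero ht) hg]
  · rw [hS.indFun_apply (isClassFunction_prj hM (hα.restrict T) _)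
      (fun t ht => prj_apply_eq_zero ht) hg, h'.prj_res h hM hS hα hg]

omit h in
theorem classInner_res_indFun (hθ : IsClassFunction T θ) (η : T → ℂ)
    (hθS : prj p M (P.subgroupOf T) e' ((↑) ⁻¹' S) θ = θ) (hA : A ⊆ S) :
    classInner (prj p M (P.subgroupOf T) e' ((↑) ⁻¹' A) η) (fun t : T => indFun T θ t) =
      classInner (prj p M (P.subgroupOf T) e' ((↑) ⁻¹' A) η) θ := by
  rw [classInner_def, classInner_def]
  congr 1
  refine Finset.sum_congr rfl fun t _ => ?_
  by_cases ht : ∀ s ∈ ((↑) ⁻¹' A : Set T), ¬ IsConj (ppart p t) s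
  · rw [prj_apply_eq_zero ht, zero_mul, zero_mul]
  · push Not at ht
    obtain ⟨s, hs, hc⟩ := ht
    obtain ⟨x, hx⟩ := isConj_iff.1 hc
    rw [← ppart_conj hp.out] at hx
    rw [← hθ t x, ← hS.indFun_apply (p := p) hθ (fun t ht => hθS ▸ prj_apply_eq_zero ht)
      (g := x * t * x⁻¹) (by rw [← coe_ppart, hx]; exact hA hs), coe_mul, coe_mul, coe_inv,
      indFun_conj]

omit h in
theorem prj_res_indFun (hθ : IsClassFunction T θ)
    (hθS : prj p M (P.subgroupOf T) e' ((↑) ⁻¹' S) θ = θ) (hA : A ⊆ S) :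
    prj p M (P.subgroupOf T) e' ((↑) ⁻¹' A) (fun t : T => indFun T θ t) =
      prj p M (P.subgroupOf T) e' ((↑) ⁻¹' A) θ := by
  have h1 := (indFun_isClassFunction θ).restrict T
  refine (isClassFunction_prj hM h1 _).ext_classInner (isClassFunction_prj hM hθ _) fun ξ hξ => ?_
  rw [h'.isMax.classInner_prj_left hM h1 hξ.isClassFunction,
    h'.isMax.classInner_prj_left hM hθ hξ.isClassFunction, ← conj_classInner,
    h'.classInner_res_indFun hM hS hθ ξ hθS hA, conj_classInner]

theorem prj_indFun (hθ : IsClassFunction T θ)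
    (hθS : prj p M (P.subgroupOf T) e' ((↑) ⁻¹' S) θ = θ) (hA : A ⊆ S) :
    prj p M P e A (indFun T θ) = indFun T (prj p M (P.subgroupOf T) e' ((↑) ⁻¹' A) θ) := by
  rw [h'.prj_eq_indFun h hM (hS.mono hA) (indFun_isClassFunction θ),
    h'.prj_res_indFun hM hS hθ hθS hA]

theorem prj_indFun_self (hθ : IsClassFunction T θ)
    (hθS : prj p M (P.subgroupOf T) e' ((↑) ⁻¹' S) θ = θ) :
    prj p M P e S (indFun T θ) = indFun T θ := by
  rw [h'.prj_indFun h hM hS hθ hθS subset_rfl, hθS]

omit h in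
theorem classInner_indFun (hθ : IsClassFunction T θ)
    (hθS : prj p M (P.subgroupOf T) e' ((↑) ⁻¹' S) θ = θ)
    (hηS : prj p M (P.subgroupOf T) e' ((↑) ⁻¹' S) η = η) :
    classInner (indFun T η) (indFun T θ) = classInner η θ := by
  rw [frobenius_reciprocity _ (indFun_isClassFunction θ), ← hηS,
    h'.classInner_res_indFun hM hS hθ η hθS subset_rfl]

omit h' h in
theorem indFun_apply (hθ : IsClassFunction T θ)
    (hθS : prj p M (P.subgroupOf T) e' ((↑) ⁻¹' S) θ = θ) {g : T} (hg : ppart p (g : G) ∈ S) :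
    indFun T θ g = θ g :=
  hS.indFun_apply (p := p) hθ (fun _ ht => hθS ▸ prj_apply_eq_zero ht) hg

theorem classInner_prj (hα : IsClassFunction G α) (hβ : IsClassFunction G β) :
    classInner (prj p M P e S α) β = classInner
      (prj p M (P.subgroupOf T) e' ((↑) ⁻¹' S) fun t : T => α t) fun t : T => β t := by
  rw [h'.prj_eq_indFun h hM hS hα, frobenius_reciprocity _ hβ]

theorem prjTr_eq : prjTr p M P e S = prjTr p M (P.subgroupOf T) e' ((↑) ⁻¹' S) := by
  have h1 : ∀ ξ : IrrCharacter T, IsClassFunction T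
      (prj p M (P.subgroupOf T) e' ((↑) ⁻¹' S) ξ) := fun ξ =>
    isClassFunction_prj hM ξ.2.isClassFunction _
  have h2 : ∀ χ : IrrCharacter G, classInner (prj p M P e S χ) χ = ∑ ξ : IrrCharacter T,
      classInner (indFun T (prj p M (P.subgroupOf T) e' ((↑) ⁻¹' S) ξ)) χ *
        conj (classInner (indFun T (prj p M (P.subgroupOf T) e' ((↑) ⁻¹' S) ξ)) χ) := by
    intro χ
    have h3 := χ.2.isClassFunction.restrict T
    rw [h'.classInner_prj h hM hS χ.2.isClassFunction χ.2.isClassFunction,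
      ← h'.isMax.classInner_prj_prj hM h3 h3, (isClassFunction_prj hM h3 _).classInner_eq_sum]
    refine Finset.sum_congr rfl fun ξ _ => ?_
    rw [h'.isMax.classInner_prj_left hM h3 ξ.2.isClassFunction,
      frobenius_reciprocity _ χ.2.isClassFunction, mul_comm, conj_classInner, conj_classInner]
  unfold prjTr
  simp only [h2]
  rw [Finset.sum_comm]
  refine Finset.sum_congr rfl fun ξ _ => ?_
  rw [← (indFun_isClassFunction _).classInner_eq_sum, h'.classInner_indFun hM hS (h1 ξ)
    (prj_prj hM ξ.2.isClassFunction) (prj_prj hM ξ.2.isClassFunction),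
    h'.isMax.classInner_prj_prj hM ξ.2.isClassFunction ξ.2.isClassFunction]

end SubMax

omit hp [Fintype T] in
theorem indFun_mul_central {z : T} (hzc : ∀ g : G, g * z = z * g) (θ : T → ℂ) (g : G) :
    indFun T θ (z * g) = indFun T (fun t => θ (z * t)) g := by
  rw [indFun_apply', indFun_apply']
  congr 1
  refine Finset.sum_congr rfl fun x _ => ?_
  rw [← mul_assoc x, hzc, mul_assoc (z : G), mul_assoc (z : G)]
  by_cases hx : x * g * x⁻¹ ∈ T
  · rw [extendByZero_of_mem _ hx, extendByZero_of_mem _ (T.mul_mem z.2 hx)]; rfl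
  · rw [extendByZero_of_not_mem _ hx, extendByZero_of_not_mem _ (mt (T.mul_mem_cancel_left z.2).1 hx)]

end CL.Blk.Pair
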