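/-
Valuations of the contributions of fully centralized subsections; a nilpotency criterion for
2-blocks.
-/
import Cfsg.Agent.Blk.Prj
import Cfsg.Agent.Blk.CMajor
import Cfsg.Agent.Inv.AutTwo

set_option autoImplicit false
set_option linter.unusedSectionVars false
set_option linter.style.haveILetI false

namespace CL.Blk.Pair

open MonoidAlgebra Cfsg CL.Char CL.Grp CL.Blk.Rk Subgroup
open scoped ComplexConjugate

section Nil

theorem mem_centralizer_of_isCyclic {G : Type*} [Group G] {Y : Subgroup G} [IsCyclic Y]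
    (hY : IsPGroup 2 Y) {g : G} (hg : g ∈ normalizer (Y : Set G)) (ho : ¬ 2 ∣ orderOf g) :
    g ∈ centralizer (Y : Set G) := by
  obtain ⟨α, h1, -, h3⟩ := CL.Inv.exists_odd_aut_of_mem_normalizer hg
    ((Nat.prime_two.coprime_iff_not_dvd.2 ho).symm)
  obtain ⟨a, ha⟩ := IsCyclic.exists_generator (α := Y)
  have h4 := CL.Inv.aut_fix_of_mem_zpowers hY h1 (ha (α a))
  refine h3 (MulEquiv.ext fun x => ?_)
  obtain ⟨k, rfl⟩ := ha x
  simp only [map_zpow, h4, MulAut.one_apply]

variable {k : Type*} [Field k] {G : Type*} [Group G] [Finite G] [CharP k 2]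
  {N H P X : Subgroup G} {b e : k[G]}

theorem IsMax.isNil_of_index_two (h : IsMax 2 N H b P e)
    (hX : ∀ u ∈ P, ∀ v ∈ P, u ∉ X → v ∉ X → u * v⁻¹ ∈ X)
    (hc : ∀ g ∈ H, ¬ 2 ∣ orderOf g → ∀ Q ≤ P, g ∈ normalizer (Q : Set G) →
      g ∈ centralizer ((Q ⊓ X : Subgroup G) : Set G)) : IsNil 2 N H b := by
  rw [h.isNil_iff]
  intro Q f hle
  rw [pExt_iff_forall_pRegular]
  intro g hg ho
  have h1 := hc g hg.1.1 ho Q hle.le hg.1.2
  refine mem_centralizer_of_coprime (h.pgroup.to_le hle.le) inf_le_left ho h1 fun q hq => ?_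
  have h2 : g * q * g⁻¹ ∈ Q := (mem_normalizer_iff.1 hg.1.2 q).1 hq
  refine ⟨Q.mul_mem h2 (Q.inv_mem hq), ?_⟩
  by_cases h3 : q ∈ X
  · rw [← h1 q ⟨hq, h3⟩]; simp
  · refine hX _ (hle.le h2) _ (hle.le hq) (fun h4 => h3 ?_) h3
    have h5 := h1 _ ⟨h2, h4⟩
    rwa [show q = g * q * g⁻¹ from by
      calc q = g⁻¹ * (g * q * g⁻¹ * g) := by group
        _ = _ := by rw [h5]; group]

end Nil

variable {G : Type*} [Group G] [Fintype G] {M : Ideal AlgInt} {p : ℕ} [hp : Fact p.Prime]
  {P H : Subgroup G} {e : (resField M)[G]} {B : Set (IrrCharacter G)} {v w : G}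
  {b : Set (IrrCharacter H)} {α β : G → ℂ}

/-- `v` is fully centralized. -/
def FC (p : ℕ) {k : Type*} [Field k] {G : Type*} [Group G] [Finite G] (P : Subgroup G)
    (e : k[G]) (v : G) : Prop := v ∈ P ∧ ∀ w, Fus p P e v w →
  Nat.card (P ⊓ centralizer ({w} : Set G) : Subgroup G) ≤
    Nat.card (P ⊓ centralizer ({v} : Set G) : Subgroup G)

theorem fc_of_central (hv : v ∈ P) (hc : P ≤ centralizer ({v} : Set G)) : FC p P e v :=
  ⟨hv, fun _ _ => by rw [inf_eq_left.2 hc]; exact card_le_of_le inf_le_left⟩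

/-- The contribution matrix of `v`. -/
noncomputable def cm (p : ℕ) (M : Ideal AlgInt) {G : Type*} [Group G] [Fintype G] (P : Subgroup G)
    (e : (resField M)[G]) (v : G) (α β : G → ℂ) : ℂ :=
  Nat.card (P ⊓ centralizer ({v} : Set G) : Subgroup G) * classInner (prj p M P e {v} α) β

theorem cm_of_central (hc : P ≤ centralizer ({v} : Set G)) :
    cm p M P e v α β = Nat.card P * classInner (prj p M P e {v} α) β := by
  rw [cm, inf_eq_left.2 hc]

theorem cm_add_left (α α' β : G → ℂ) :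
    cm p M P e v (α + α') β = cm p M P e v α β + cm p M P e v α' β := by
  simp only [cm, map_add, classInner_add_left, mul_add]

theorem cm_smul_left (c : ℂ) (α β : G → ℂ) : cm p M P e v (c • α) β = c * cm p M P e v α β := by
  simp only [cm, map_smul, classInner_smul_left, mul_left_comm]

theorem cm_sum_left {ι : Type*} (s : Finset ι) (α : ι → G → ℂ) (β : G → ℂ) :
    cm p M P e v (∑ i ∈ s, α i) β = ∑ i ∈ s, cm p M P e v (α i) β := by
  simp only [cm, map_sum, classInner_sum_left, Finset.mul_sum]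

theorem cm_add_right (α β β' : G → ℂ) :
    cm p M P e v α (β + β') = cm p M P e v α β + cm p M P e v α β' := by
  simp only [cm, classInner_add_right, mul_add]

theorem cm_smul_right (c : ℂ) (α β : G → ℂ) :
    cm p M P e v α (c • β) = conj c * cm p M P e v α β := by
  simp only [cm, classInner_smul_right, mul_left_comm]

theorem cm_sum_right {ι : Type*} (s : Finset ι) (α : G → ℂ) (β : ι → G → ℂ) :
    cm p M P e v α (∑ i ∈ s, β i) = ∑ i ∈ s, cm p M P e v α (β i) := by
  simp only [cm, classInner_sum_right, Finset.mul_sum]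

namespace IsMax

variable (h : IsMax p ⊤ ⊤ (eBlk M B) P e) (hM : IsPModular p M)
include h hM

theorem conj_cm (hα : IsClassFunction G α) (hβ : IsClassFunction G β) :
    conj (cm p M P e v α β) = cm p M P e v β α := by
  rw [cm, cm, map_mul, conj_classInner, h.classInner_prj_left hM hβ hα, Complex.conj_natCast]

theorem isDef_of_fc (hv : FC p P e v) : IsDef p (centralizer ({v} : Set G)) (below p P e v)
    (P ⊓ centralizer ({v} : Set G)) := by
  have := charP_resField hM
  have h1 := ple_below h.pair hv.1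
  have h2 : cst ⊤ (zpowers v) (below p P e v) = centralizer {v} := by
    rw [(h1.left h.pair).cst_top, centralizer_zpowers_eq]
  refine (h.isDef_inf_iff h1 (by rw [cen_top, centralizer_zpowers_eq])
    (h2 ▸ cst_le_nst _ _ _)).2 fun x _ hx => ?_
  rw [← centralizer_zpowers_eq v, cjs_centralizer, cjs_zpowers, centralizer_zpowers_eq,
    centralizer_zpowers_eq]
  exact hv.2 _ ⟨x, rfl, cjs_zpowers x v ▸ hx⟩

theorem pow_blockDefect_of_fc (hv : FC p P e v) (hH : IsCent H v) (hb : IsPBlock M b)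
    (hbv : hat M H b = below p P e v) :
    p ^ blockDefect p b = Nat.card (P ⊓ centralizer ({v} : Set G) : Subgroup G) := by
  obtain rfl := hH.eq
  rw [← card_defectGroup hM hb ((isDefectGroup_subgroupOf_iff_isDef hM hb inf_le_right).2
    (hbv ▸ h.isDef_of_fc hM hv)), Nat.card_congr (subgroupOfEquivOfLe inf_le_right).toEquiv]

theorem cMat_eq_cm [Fintype H] (hv : FC p P e v) (hH : IsCent H v) (hb : IsPBlock M b)
    (hbv : hat M H b = below p P e v) (hα : IsClassFunction G α) (hβ : IsClassFunction G β) :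
    cMat p H v b α β = cm p M P e v α β := by
  rw [cMat_eq_contrib, cm, h.classInner_prj_singleton hM hα hβ hv.1, ← hbv,
    ctr_hat hM hα hH (h.pElt hM hv.1) hb, ← h.pow_blockDefect_of_fc hM hv hH hb hbv, Nat.cast_pow]

theorem cm_mem_valRing (hv : FC p P e v) (hα : IsGeneralizedCharacter G α)
    (hβ : IsGeneralizedCharacter G β) : cm p M P e v α β ∈ valRing M := by
  have := Fintype.ofFinite (centralizer ({v} : Set G))
  obtain ⟨b, hb, hbv⟩ := h.exists_hat_below hM hv.1 (isCent_centralizer v)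
  rw [← h.cMat_eq_cm hM hv (isCent_centralizer v) hb hbv hα.isClassFunction hβ.isClassFunction]
  exact cMat_mem_valRing hM hb (isCent_centralizer v) hα hβ

theorem exists_int_cm (hv : FC p P e v) (hr : ∀ t, ¬ p ∣ t → Fus p P e v (v ^ t))
    (hα : IsGeneralizedCharacter G α) (hβ : IsGeneralizedCharacter G β) :
    ∃ m : ℤ, cm p M P e v α β = m := by
  have := charP_resField hM
  have := Fintype.ofFinite (centralizer ({v} : Set G))
  have hH := isCent_centralizer v
  obtain ⟨b, hb, hbv⟩ := h.exists_hat_below hM hv.1 hH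
  obtain ⟨k, hk⟩ := exists_pow_succ_eq_one (h.pElt hM hv.1)
  have hN : p ^ (k + 1) ≠ 0 := pow_ne_zero _ hp.out.ne_zero
  have h1 := cMat_pow_mem_cyc hM hb hH hN hk hα hβ
  have h2 : ∀ t, ¬ p ∣ t → cMat p _ (v ^ t) b α β = cm p M P e v α β := by
    intro t ht
    have h3 : zpowers (v ^ t) = zpowers v := by
      obtain ⟨j, hj⟩ := h.pElt hM hv.1
      refine eq_of_le_of_card_ge (zpowers_le.2 (pow_mem (mem_zpowers v) t)) ?_
      rw [Nat.card_zpowers, Nat.card_zpowers,
        Nat.Coprime.orderOf_pow (hj ▸ (coprime_of_not_dvd hp.out ht j).symm)]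
    rw [← h.cMat_eq_cm hM hv hH hb hbv hα.isClassFunction hβ.isClassFunction, cMat_eq_contrib,
      cMat_eq_contrib, ← ctr_hat hM hα.isClassFunction hH (h.pElt hM hv.1) hb,
      ← ctr_hat hM hα.isClassFunction (hH.of_zpowers_eq h3) (h.pElt hM (pow_mem hv.1 t)) hb, hbv,
      ← h.ctr_eq_of_mem_fcls hM hα.isClassFunction hβ.isClassFunction hv.1 (hr t ht),
      below_congr h3]
  obtain ⟨m, hm⟩ := exists_int_sum_cyc hp.out h1
  rw [Finset.sum_congr rfl fun t ht => h2 t (not_dvd_of_mem_tSet ht), Finset.sum_const,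
    nsmul_eq_mul] at hm
  have h4 : ((tSet p k).card : ℂ) ≠ 0 := Nat.cast_ne_zero.2 (card_tSet_pos hp.out).ne'
  have h5 : cm p M P e v α β = ((m / (tSet p k).card : ℚ) : ℂ) := by
    push_cast
    rw [eq_div_iff h4, mul_comm, hm]
  have h6 := isIntegral_cyc hN h1 1
  rw [h2 1 hp.out.not_dvd_one, h5] at h6
  rw [h5]
  exact exists_int_of_isIntegral_ratCast h6

variable (hB : IsPBlock M B)
include hB

theorem val_cm_eq_one_iff (hv : FC p P e v) (χ ψ : IrrCharacter G) :
    val M (cm p M P e v χ ψ) = 1 ↔ (χ ∈ B ∧ blockHeight p B (χ : G → ℂ) = 0) ∧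
      (ψ ∈ B ∧ blockHeight p B (ψ : G → ℂ) = 0) := by
  have := Fintype.ofFinite (centralizer ({v} : Set G))
  have hH := isCent_centralizer v
  obtain ⟨b, hb, hbv⟩ := h.exists_hat_below hM hv.1 hH
  rw [← h.cMat_eq_cm hM hv hH hb hbv χ.2.isClassFunction ψ.2.isClassFunction]
  exact val_cMat_eq_one_iff hM hH (h.pElt hM hv.1) (h.isInducedBlock_below hM hB hv.1 hH hb hbv) χ ψ

open Classical in
theorem sum_cm_self (hv : v ∈ P) : ∑ χ : IrrCharacter G with χ ∈ B, cm p M P e v χ χ =
    Nat.card (P ⊓ centralizer ({v} : Set G) : Subgroup G) * lOf p M v (below p P e v) := by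
  simp only [cm]
  rw [← Finset.mul_sum, ← h.prjTr_eq hM hB, h.prjTr_singleton hM hB hv]

variable (hv : v ∈ P) (hc : P ≤ centralizer ({v} : Set G)) {χ ψ : IrrCharacter G}
include hv hc

theorem val_cm_eq_iff_of_major (hχ : χ ∈ B) (hψ : ψ ∈ B) :
    val M (cm p M P e v χ ψ) = val M (p : ℂ) ^ blockHeight p B (ψ : G → ℂ) ↔
      blockHeight p B (χ : G → ℂ) = 0 := by
  have := Fintype.ofFinite (centralizer ({v} : Set G))
  have hH := isCent_centralizer v
  obtain ⟨b, hb, hbv⟩ := h.exists_hat_below hM hv hH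
  rw [← h.cMat_eq_cm hM (fc_of_central hv hc) hH hb hbv χ.2.isClassFunction ψ.2.isClassFunction]
  exact val_cMat_eq_iff_of_major hM hH (h.pElt hM hv) (h.isInducedBlock_below hM hB hv hH hb hbv)
    (h.blockDefect_below hM hB hv (fun g hg => mem_centralizer_singleton_iff.1 (hc hg)) hH hb hbv)
    hχ hψ

theorem val_cm_lt_of_major (hχ : χ ∈ B) (hψ : ψ ∈ B) (h0 : blockHeight p B (χ : G → ℂ) ≠ 0) :
    val M (cm p M P e v χ ψ) < val M (p : ℂ) ^ blockHeight p B (ψ : G → ℂ) := by
  have := Fintype.ofFinite (centralizer ({v} : Set G))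
  have hH := isCent_centralizer v
  obtain ⟨b, hb, hbv⟩ := h.exists_hat_below hM hv hH
  rw [← h.cMat_eq_cm hM (fc_of_central hv hc) hH hb hbv χ.2.isClassFunction ψ.2.isClassFunction]
  exact val_cMat_lt_of_major hM hH (h.pElt hM hv) (h.isInducedBlock_below hM hB hv hH hb hbv)
    (h.blockDefect_below hM hB hv (fun g hg => mem_centralizer_singleton_iff.1 (hc hg)) hH hb hbv)
    hχ hψ h0

theorem prj_ne_zero_of_major (hψ : ψ ∈ B) : prj p M P e {v} ψ ≠ 0 := by
  obtain ⟨χ, hχ, h0⟩ := exists_height_zero (p := p) ⟨ψ, hψ⟩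
  have h1 := (h.val_cm_eq_iff_of_major hM hB hv hc hχ hψ).2 h0
  intro h2
  rw [cm, h.classInner_prj_left hM χ.2.isClassFunction ψ.2.isClassFunction, h2,
    classInner_zero_right, mul_zero, map_zero] at h1
  exact (pow_pos (val_prime_pos hM) _).ne h1

end IsMax

theorem IsMax.lOf_eq_one_of_index_two {e : (resField M)[G]}
    (h : IsMax 2 ⊤ ⊤ (eBlk M B) P e) (hM : IsPModular 2 M) (hv : FC 2 P e v)
    (hX : ∀ u ∈ P ⊓ centralizer ({v} : Set G), ∀ w ∈ P ⊓ centralizer ({v} : Set G),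
      u ∉ zpowers v → w ∉ zpowers v → u * w⁻¹ ∈ zpowers v) : lOf 2 M v (below 2 P e v) = 1 := by
  have := charP_resField hM
  have hH := isCent_centralizer v
  obtain ⟨b, hb, hbv⟩ := h.exists_hat_below hM hv.1 hH
  obtain ⟨e', h1⟩ := (h.isDef_of_fc hM hv).exists_isMax (hbv ▸ isBlk_hat hM hb) le_rfl le_normalizer
  have h2 := h1.isNil_of_index_two hX fun g hg _ Q _ _ =>
    centralizer_le (SetLike.coe_subset_coe.2 inf_le_right) (centralizer_zpowers_eq v ▸ hg)
  rw [← hbv, lOf_hat hM hH hb,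
    blockRank_eq_one_of_isNilpotentBlock hM ((isNilpotentBlock_iff hM).2 ⟨hb, hbv ▸ h2⟩)]

end CL.Blk.Pair
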