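/-
2-blocks with defect groups of maximal class: the subsections of the non-central elements.
-/
import Cfsg.Agent.Blk.MCFour
import Cfsg.Agent.Blk.PrjTI
import Cfsg.Agent.Blk.PrjVal

set_option autoImplicit false
set_option linter.unusedSectionVars false
set_option linter.style.haveILetI false

namespace CL.Blk.MCB

open MonoidAlgebra Cfsg CL.Char CL.Grp CL.Blk.Rk CL.Blk.Pair CL.Inv Subgroup
open scoped ComplexConjugate

section Grp

variable {G : Type*} [Group G] {P : Subgroup G} {n : ℕ} {r d : ZMod (2 ^ n)} (D : MC P n r d)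

theorem isConj_aP {i : ZMod (2 ^ n)} {w : P} :
    IsConj (aP D i) w ↔ w = aP D i ∨ w = aP D ((r - 1) * i) := by
  rw [isConj_iff]
  refine ⟨fun ⟨x, hx⟩ => ?_, ?_⟩
  · obtain ⟨j, rfl | rfl⟩ := exists_aP_or_bP D x
    · exact Or.inl (hx ▸ Subtype.ext (D.conj_a_a i j))
    · exact Or.inr (hx ▸ Subtype.ext (D.conj_b_a i j))
  · rintro (rfl | rfl)
    · exact ⟨1, by simp⟩
    · exact ⟨bP D 0, Subtype.ext (D.conj_b_a i 0)⟩

theorem preimage_a_image {T : Subgroup G} (hPT : P ≤ T) (I : Set (ZMod (2 ^ n))) :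
    ((↑) ⁻¹' (D.a '' I) : Set T) = (D.subgroupOf hPT).a '' I :=
  Set.ext fun _ => exists_congr fun _ => and_congr_right fun _ =>
    ⟨fun h => Subtype.ext h, fun h => congrArg Subtype.val h⟩

theorem mul_inv_mem_cyc {u v : G} (hu : u ∈ P) (hv : v ∈ P) (hu' : u ∉ zpowers (D.a 1))
    (hv' : v ∉ zpowers (D.a 1)) : u * v⁻¹ ∈ zpowers (D.a 1) := by
  obtain ⟨i, rfl | rfl⟩ := (D.mem u).1 hu
  · exact absurd (D.mem_cyc.2 ⟨i, rfl⟩) hu'
  obtain ⟨j, rfl | rfl⟩ := (D.mem v).1 hv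
  · exact absurd (D.mem_cyc.2 ⟨j, rfl⟩) hv'
  exact D.mem_cyc.2 ⟨_, D.b_mul_b_inv i j⟩

theorem inf_centralizer_b (i : ZMod (2 ^ n)) :
    P ⊓ centralizer ({D.b i} : Set G) = D.sub (2 * zq n) i := by
  refine le_antisymm (fun g hg => D.mem_sub_of_comm_b hg.1 (mem_centralizer_singleton_iff.1 hg.2))
    (D.sub_le_iff.2 ⟨⟨D.a_mem _, mem_centralizer_singleton_iff.2 ?_⟩, D.b_mem _,
      mem_centralizer_singleton_iff.2 rfl⟩)
  exact (D.z_mul_comm (D.b_mem i)).symm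

theorem card_inf_centralizer_b (i : ZMod (2 ^ n)) :
    Nat.card (P ⊓ centralizer ({D.b i} : Set G) : Subgroup G) = 4 := by
  rw [inf_centralizer_b, D.card_sub_z]

theorem inf_centralizer_a {i : ZMod (2 ^ n)} (hi : 2 * i ≠ 0) :
    P ⊓ centralizer ({D.a i} : Set G) = zpowers (D.a 1) := by
  ext g
  rw [mem_inf, mem_centralizer_singleton_iff, D.mem_cyc]
  refine ⟨fun ⟨h1, h2⟩ => ?_, ?_⟩
  · obtain ⟨j, rfl | rfl⟩ := (D.mem g).1 h1
    · exact ⟨j, rfl⟩
    · rcases D.a_comm_b h2.symm with rfl | rfl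
      · exact absurd (mul_zero _) hi
      · exact absurd (by linear_combination D.h4) hi
  · rintro ⟨j, rfl⟩
    exact ⟨D.a_mem j, by rw [D.a_mul_a, D.a_mul_a, add_comm]⟩

theorem card_inf_centralizer_a {i : ZMod (2 ^ n)} (hi : 2 * i ≠ 0) :
    Nat.card (P ⊓ centralizer ({D.a i} : Set G) : Subgroup G) = 2 ^ n := by
  rw [inf_centralizer_a D hi, Nat.card_zpowers, D.orderOf_a_one]

include D in
theorem two_mul_q_ne : 2 * zq n ≠ 0 := D.h2

include D in
theorem two_mul_one_ne : 2 * (1 : ZMod (2 ^ n)) ≠ 0 := by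
  rw [mul_one]; exact zm_two_ne_zero D.two_le

theorem le_centralizer_z : P ≤ centralizer ({D.a (2 * zq n)} : Set G) := fun _ hg =>
  mem_centralizer_singleton_iff.2 (D.z_mul_comm hg)

theorem ctrl_q : Ctrl (normalizer (zpowers (D.a (zq n)) : Set G)) (D.a '' {i | 2 * i ≠ 0}) := by
  have := D.finite
  rintro _ ⟨i, hi, rfl⟩ x ⟨j, -, hj⟩
  obtain ⟨k, hk⟩ : ∃ k : ℕ, k * i = zq n := by
    obtain ⟨t, ht, s, rfl⟩ := zm_eq_pow_mul_odd i
    obtain ⟨u, hu⟩ := zm_odd_unit s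
    have h1 : t ≤ n - 2 := by
      by_contra h1
      refine hi ?_
      rw [← mul_assoc, ← pow_succ', (zm_pow_eq_zero_iff _).2 (by omega), zero_mul]
    obtain ⟨k, hk⟩ := zm_natCast_surj (2 ^ (n - 2 - t) * u : ZMod (2 ^ n))
    refine ⟨k, ?_⟩
    rw [← hk, zq_def, show n - 2 = n - 2 - t + t by omega, pow_add, add_tsub_cancel_right]
    linear_combination 2 ^ (n - 2 - t) * 2 ^ t * hu
  have h1 : x * D.a (zq n) * x⁻¹ = D.a (k * j) := by
    rw [← hk, ← D.a_pow, ← D.a_pow, hj, conj_pow]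
  have h2 : orderOf (D.a (k * j)) = 4 := by
    rw [← h1, ← D.orderOf_a_q]; exact (MulAut.conj x).orderOf_eq _
  have h3 : Finite (zpowers (D.a (zq n))) :=
    Nat.finite_of_card_ne_zero (by rw [Nat.card_zpowers, D.orderOf_a_q]; norm_num)
  refine mem_normalizer_fintype ?_
  rintro _ ⟨l, rfl⟩
  simp only [← conj_zpow, h1]
  refine zpow_mem ?_ l
  rcases D.a_order_four h2 with h4 | h4 <;> rw [h4]
  · exact mem_zpowers _
  · exact D.a_inv _ ▸ inv_mem (mem_zpowers _)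

theorem le_normalizer_q : P ≤ normalizer (zpowers (D.a (zq n)) : Set G) := fun g hg => by
  refine ctrl_q D _ ⟨zq n, D.h2, rfl⟩ g ?_
  obtain ⟨j, rfl | rfl⟩ := (D.mem g).1 hg
  · exact ⟨_, D.h2, (D.conj_a_a _ j).symm⟩
  · exact ⟨_, fun h => D.h2 (by linear_combination 2 * D.e_q - h), (D.conj_b_a _ j).symm⟩

theorem ctrl_z {S : Set G} (hS : ∀ s ∈ S, D.a (2 * zq n) ∈ zpowers s)
    (hS' : ∀ s ∈ S, ∀ t ∈ zpowers s, orderOf t = 2 → t = D.a (2 * zq n)) :
    Ctrl (centralizer ({D.a (2 * zq n)} : Set G)) S := fun s hs x hx => by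
  obtain ⟨k, hk⟩ := hS s hs
  have h1 := hS' _ hx (x * D.a (2 * zq n) * x⁻¹) ⟨k, by simp only [conj_zpow, ← hk]⟩
    (((MulAut.conj x).orderOf_eq _).trans D.orderOf_z)
  rw [mem_centralizer_singleton_iff, ← mul_inv_eq_iff_eq_mul, h1]

theorem z_mem_zpowers_a {i : ZMod (2 ^ n)} (hi : i ≠ 0) : D.a (2 * zq n) ∈ zpowers (D.a i) := by
  obtain ⟨t, ht, s, rfl⟩ := zm_eq_pow_mul_odd i
  obtain ⟨u, hu⟩ := zm_odd_unit s
  have h1 : t ≤ n - 1 := by
    by_contra h1
    exact hi (by rw [(zm_pow_eq_zero_iff _).2 (by omega), zero_mul])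
  refine D.a_mem_zpowers_a.2 ⟨2 ^ (n - 1 - t) * u, ?_⟩
  rw [two_mul_zq D.two_le, show n - 1 = n - 1 - t + t by omega, pow_add, add_tsub_cancel_right]
  linear_combination -2 ^ (n - 1 - t) * 2 ^ t * hu

theorem eq_z_of_mem_zpowers_a {i : ZMod (2 ^ n)} {t : G} (ht : t ∈ zpowers (D.a i))
    (h2 : orderOf t = 2) : t = D.a (2 * zq n) := by
  obtain ⟨s, rfl⟩ := D.mem_zpowers_a.1 ht
  rw [D.a_involution h2]

theorem ctrl_cyc : Ctrl (centralizer ({D.a (2 * zq n)} : Set G)) (D.a '' {i | i ≠ 0}) :=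
  ctrl_z D (by rintro _ ⟨i, hi, rfl⟩; exact z_mem_zpowers_a D hi)
    (by rintro _ ⟨i, -, rfl⟩ t; exact eq_z_of_mem_zpowers_a D)

theorem b_pow_odd (i : ZMod (2 ^ n)) {t : ℕ} (ht : ¬ 2 ∣ t) :
    ∃ j, D.a j * D.b i * (D.a j)⁻¹ = D.b i ^ t := by
  obtain ⟨s, rfl⟩ : ∃ s, t = 2 * s + 1 := ⟨t / 2, by omega⟩
  obtain ⟨u, hu⟩ : ∃ u, r * i + d = 2 * u := by
    rcases D.sq_cases i with h | h
    exacts [⟨0, by rw [h, mul_zero]⟩, ⟨_, h⟩]
  obtain ⟨j, hj⟩ := D.exists_conj_b i (s * u)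
  refine ⟨j, ?_⟩
  rw [hj, pow_succ, pow_mul, sq, D.b_mul_self, D.a_pow, D.a_mul_b, hu]
  congr 1; ring

end Grp

variable {G : Type*} [Group G] [Fintype G] {M : Ideal AlgInt} {P : Subgroup G} {n : ℕ}
  {r d : ZMod (2 ^ n)} (D : MC P n r d) {e : (resField M)[G]} {B : Set (IrrCharacter G)}

section Sub

variable (h : IsMax 2 ⊤ ⊤ (eBlk M B) P e) (hM : IsPModular 2 M)
include h hM

omit h in
theorem fc_b {i : ZMod (2 ^ n)} (hi : ¬ Meets 2 P e (Set.range D.a) (D.b i)) :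
    FC 2 P e (D.b i) := by
  have := charP_resField hM
  refine ⟨D.b_mem i, fun w hw => ?_⟩
  obtain ⟨j, rfl | rfl⟩ := (D.mem w).1 hw.mem
  · exact absurd ⟨_, ⟨j, rfl⟩, hw⟩ hi
  · rw [card_inf_centralizer_b, card_inf_centralizer_b]

theorem lOf_b {i : ZMod (2 ^ n)} (hi : ¬ Meets 2 P e (Set.range D.a) (D.b i)) :
    lOf 2 M (D.b i) (below 2 P e (D.b i)) = 1 := by
  refine h.lOf_eq_one_of_index_two hM (fc_b D hM hi) fun u hu w hw hu' hw' => ?_
  rw [inf_centralizer_b, D.mem_sub ⟨1, (mul_one _).symm⟩] at hu hw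
  have h1 : ∀ s : ZMod (2 ^ n), 2 * zq n * s = 0 ∨ 2 * zq n * s = 2 * zq n := zm_half_mul D.two_le
  rcases D.sq_cases i with h2 | h2
  · have h3 : ∀ u, (∃ s, u = D.a (2 * zq n * s) ∨ u = D.b (i + 2 * zq n * s)) →
        u ∉ zpowers (D.b i) → u = D.a (2 * zq n) ∨ u = D.a (2 * zq n) * D.b i := by
      rintro u ⟨s, rfl | rfl⟩ hu <;> rcases h1 s with h4 | h4 <;> rw [h4] at hu ⊢
      · exact absurd (D.a_zero ▸ one_mem _) hu
      · exact Or.inl rfl
      · exact absurd (by rw [add_zero]; exact mem_zpowers _) hu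
      · exact Or.inr (by rw [D.a_mul_b, add_comm])
    have h4 := D.z_mul_comm (D.b_mem i)
    rcases h3 u hu hu' with rfl | rfl <;> rcases h3 w hw hw' with rfl | rfl
    · simp
    · rw [← h4]; simp
    · rw [← h4]; simp
    · simp
  · refine absurd ?_ hu'
    have h3 : D.a (2 * zq n) ∈ zpowers (D.b i) := by
      rw [← h2, ← D.b_mul_self]; exact mul_mem (mem_zpowers _) (mem_zpowers _)
    obtain ⟨s, rfl | rfl⟩ := hu <;> rcases h1 s with h4 | h4 <;> rw [h4]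
    · exact D.a_zero ▸ one_mem _
    · exact h3
    · rw [add_zero]; exact mem_zpowers _
    · rw [add_comm, ← D.a_mul_b]; exact mul_mem h3 (mem_zpowers _)

theorem fus_b_pow (i : ZMod (2 ^ n)) {t : ℕ} (ht : ¬ 2 ∣ t) : Fus 2 P e (D.b i) (D.b i ^ t) := by
  have := charP_resField hM
  obtain ⟨j, hj⟩ := b_pow_odd D i ht
  exact hj ▸ fus_conj h.pair (D.b_mem i) (D.a_mem j)

theorem fus_b_add (i s : ZMod (2 ^ n)) : Fus 2 P e (D.b i) (D.b (i + 2 * s)) := by
  have := charP_resField hM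
  obtain ⟨j, hj⟩ := D.exists_conj_b i s
  exact hj ▸ fus_conj h.pair (D.b_mem i) (D.a_mem j)

omit h in
theorem fc_a_one : FC 2 P e (D.a 1) := by
  have := charP_resField hM
  refine ⟨D.a_mem 1, fun w hw => ?_⟩
  rw [card_inf_centralizer_a D (two_mul_one_ne D)]
  have h4 : 4 ≤ 2 ^ n := Nat.pow_le_pow_right (n := 2) (i := 2) two_pos D.two_le
  obtain ⟨j, rfl | rfl⟩ := (D.mem w).1 hw.mem
  · refine (card_inf_centralizer_a D fun h1 => ?_).le
    obtain ⟨x, hx⟩ := isConj_iff.1 hw.isConj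
    have h2 : orderOf (D.a j) = 2 ^ n :=
      hx ▸ ((MulAut.conj x).orderOf_eq _).trans D.orderOf_a_one
    have h3 : orderOf (D.a j) ∣ 2 := orderOf_dvd_of_pow_eq_one (by
      rw [D.a_pow, D.a_eq_one_iff]; exact_mod_cast h1)
    have := Nat.le_of_dvd two_pos h3
    omega
  · rwa [card_inf_centralizer_b]

variable (hn : IsNil 2 ⊤ ⊤ (eBlk M B))
include hn

theorem meets_a_of_isNil {I : Set (ZMod (2 ^ n))} {i : ZMod (2 ^ n)} :
    Meets 2 P e (D.a '' I) (D.a i) ↔ i ∈ I ∨ (r - 1) * i ∈ I := by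
  have := charP_resField hM
  refine ⟨?_, ?_⟩
  · rintro ⟨_, ⟨j, hj, rfl⟩, h1⟩
    rcases (isConj_aP D).1 ((h.mem_fcls_iff_of_isNil hM hn (v := aP D i) (w := aP D j)).1 h1)
      with h2 | h2 <;> rw [aP_injective D h2] at hj
    exacts [Or.inl hj, Or.inr hj]
  · rintro (h1 | h1)
    · exact meets_of_mem h.pair (D.a_mem i) ⟨i, h1, rfl⟩
    · exact ⟨_, ⟨_, h1, rfl⟩, D.conj_b_a i 0 ▸ fus_conj h.pair (D.a_mem i) (D.b_mem 0)⟩

theorem not_meets_b_of_isNil {I : Set (ZMod (2 ^ n))} {i : ZMod (2 ^ n)} :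
    ¬ Meets 2 P e (D.a '' I) (D.b i) := by
  rintro ⟨_, ⟨j, -, rfl⟩, h1⟩
  rcases (isConj_aP D).1 ((h.mem_fcls_iff_of_isNil hM hn (v := bP D i) (w := aP D j)).1 h1).symm
    with h2 | h2 <;> exact D.b_ne_a _ _ (congrArg Subtype.val h2)

theorem sInd_mul_of_isNil {I : Set (ZMod (2 ^ n))} (hI : ∀ i, (r - 1) * i ∈ I → i ∈ I)
    (θ : P → ℂ) : sInd 2 P e (D.a '' I) * θ = ext D (I.indicator fun i => θ (aP D i)) := by
  funext g
  obtain ⟨i, rfl | rfl⟩ := exists_aP_or_bP D g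
  · rw [ext_a, Pi.mul_apply]
    by_cases hi : i ∈ I
    · rw [Set.indicator_of_mem hi, sInd_of_meets ((meets_a_of_isNil D h hM hn).2 (Or.inl hi)),
        one_mul]
    · rw [Set.indicator_of_notMem hi, sInd_of_not_meets fun h1 =>
        hi (((meets_a_of_isNil D h hM hn).1 h1).elim id (hI i)), zero_mul]
  · rw [ext_b, Pi.mul_apply, sInd_of_not_meets (not_meets_b_of_isNil D h hM hn), zero_mul]

theorem exists_bstar_eq (hB : IsPBlock M B) {χ : IrrCharacter G} (hχ : χ ∈ B)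
    (h0 : blockHeight 2 B (χ : G → ℂ) = 0) (β : G → ℂ) :
    ∃ θ, IsClassFunction P θ ∧ bstar 2 M P e θ χ = blockPart B β := by
  classical
  obtain ⟨Φ, hΦ⟩ := h.exists_equiv_of_isNil hM hB hn hχ h0
  refine ⟨_, isClassFunction_sum_smul_irr fun θ => classInner β (Φ θ : IrrCharacter G), ?_⟩
  rw [LinearMap.map_sum₂, Rk.blockPart_eq_sum, Finset.sum_subtype _ (p := (· ∈ B)) (by simp),
    ← Φ.sum_comp]
  exact Finset.sum_congr rfl fun θ _ => by rw [LinearMap.map_smul₂, hΦ]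

end Sub

theorem adm_indicator {f : ZMod (2 ^ n) → ℂ} (hf : ∀ i, f ((r - 1) * i) = f i)
    {I : Set (ZMod (2 ^ n))} (hI : ∀ i, (r - 1) * i ∈ I ↔ i ∈ I) (h0 : 0 ∉ I)
    (h1 : 2 * zq n ∉ I) : Adm (r - 1) (I.indicator f) := by
  refine ⟨fun i => ?_, Set.indicator_of_notMem h0 _, Set.indicator_of_notMem h1 _⟩
  by_cases hi : i ∈ I
  · rw [Set.indicator_of_mem hi, Set.indicator_of_mem ((hI i).2 hi), hf]
  · rw [Set.indicator_of_notMem hi, Set.indicator_of_notMem (mt (hI i).1 hi)]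

include D in
theorem two_mul_m_mul {i : ZMod (2 ^ n)} : 2 * ((r - 1) * i) ≠ 0 ↔ 2 * i ≠ 0 := by
  rw [show 2 * ((r - 1) * i) = -(2 * i) by linear_combination i * D.two_e, neg_ne_zero]

include D in
theorem Adm.indicator_eq {f : ZMod (2 ^ n) → ℂ} (hf : Adm (r - 1) f) :
    {i | 2 * i ≠ 0}.indicator f = f := by
  refine Set.indicator_eq_self.2 fun i hi h1 => hi ?_
  rcases zm_two_mul_eq_zero D.two_le h1 with rfl | rfl
  exacts [hf.zero, hf.half]

/-- The isometry onto the class functions supported on the subsections of `X \ Z(P)`. -/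
structure XData (M : Ideal AlgInt) (D : MC P n r d) (e : (resField M)[G])
    (τ : (ZMod (2 ^ n) → ℂ) →ₗ[ℂ] G → ℂ) : Prop where
  cls : ∀ f, IsClassFunction G (τ f)
  prj_eq : ∀ f, Adm (r - 1) f → prj 2 M P e (D.a '' {i | 2 * i ≠ 0}) (τ f) = τ f
  inner : ∀ f g, Adm (r - 1) f → Adm (r - 1) g → classInner (τ f) (τ g) = zIn f g
  gen : ∀ j, IsGeneralizedCharacter G (τ (th (r - 1) j))
  surj : ∀ α, IsClassFunction G α →
    ∃ f, Adm (r - 1) f ∧ τ f = prj 2 M P e (D.a '' {i | 2 * i ≠ 0}) α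
  one : ∀ f g, Adm (r - 1) f → Adm (r - 1) g →
    classInner (prj 2 M P e {D.a 1} (τ f)) (τ g) = (2 ^ n)⁻¹ * (f 1 * conj (g 1))
  par : (∀ g, g * D.a (2 * zq n) = D.a (2 * zq n) * g) → ∃ ω : ℂ, ∀ f, Adm (r - 1) f →
    ∀ g, τ f (D.a (2 * zq n) * g) = ω * τ (fun i => f (2 * zq n + i)) g

theorem exists_xData (h : IsMax 2 ⊤ ⊤ (eBlk M B) P e) (hM : IsPModular 2 M) :
    ∃ τ, XData M D e τ := by
  classical
  have := charP_resField hM
  obtain ⟨T, hT⟩ : ∃ T, T = normalizer (zpowers (D.a (zq n)) : Set G) := ⟨_, rfl⟩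
  have := Fintype.ofFinite T
  have := Fintype.ofFinite (P.subgroupOf T)
  have hS : Ctrl T (D.a '' {i | 2 * i ≠ 0}) := hT ▸ ctrl_q D
  have hPT : P ≤ T := hT ▸ le_normalizer_q D
  obtain ⟨c, e', h'⟩ := h.exists_subMax hM hPT ((centralizer_le (Set.singleton_subset_iff.2
    (D.a_mem _))).trans (hS.centralizer_le ⟨zq n, D.h2, rfl⟩))
  let D' := D.subgroupOf hPT
  have hn : IsNil 2 ⊤ ⊤ (eBlk M c) := by
    refine h'.isMax.isNil_of_index_two (X := zpowers (D'.a 1))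
      (fun u hu v hv => mul_inv_mem_cyc D' hu hv) fun g _ ho Q hQ hg => ?_
    have h1 : (g : G) ∈ centralizer (zpowers (D.a (zq n)) : Set G) :=
      mem_centralizer_of_isCyclic (D.isPGroup.to_le (zpowers_le.2 (D.a_mem _))) (hT ▸ g.2)
        (by rwa [orderOf_coe])
    have h2 : g ∈ centralizer ({D'.a (zq n)} : Set T) :=
      mem_centralizer_singleton_iff.2 (Subtype.ext (h1 _ (mem_zpowers _)).symm)
    have h3 : IsCyclic (Q ⊓ zpowers (D'.a 1) : Subgroup T) := isCyclic_of_le inf_le_right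
    refine mem_centralizer_of_isCyclic (D'.isPGroup.to_le (inf_le_left.trans hQ)) ?_ ho
    refine mem_normalizer_fintype fun q hq => ?_
    have h4 := (mem_normalizer_iff.1 hg q).1 hq.1
    rw [← inf_centralizer_a D' D.h2] at hq ⊢
    exact ⟨h4, hQ h4, Subgroup.mul_mem _ (Subgroup.mul_mem _ h2 hq.2.2) (Subgroup.inv_mem _ h2)⟩
  obtain ⟨ξ, hξ, h0⟩ := exists_height_zero (p := 2) (tr_nonempty hM h'.blk)
  have hcl : ∀ θ, IsClassFunction T (bstar 2 M (P.subgroupOf T) e' θ ξ) :=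
    isClassFunction_bstar hM ξ.2.isClassFunction
  have hI : ∀ i, (r - 1) * i ∈ {i | 2 * i ≠ 0} ↔ i ∈ {i | 2 * i ≠ 0} := fun i => two_mul_m_mul D
  have hprj : ∀ f, Adm (r - 1) f → prj 2 M (P.subgroupOf T) e' ((↑) ⁻¹' (D.a '' {i | 2 * i ≠ 0}))
      (bstar 2 M (P.subgroupOf T) e' (ext D' f) ξ) = bstar 2 M (P.subgroupOf T) e' (ext D' f) ξ := by
    intro f hf
    rw [prj_bstar hM ξ.2.isClassFunction, preimage_a_image D hPT,
      sInd_mul_of_isNil D' h'.isMax hM hn fun i => (hI i).1]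
    simp only [ext_a, hf.indicator_eq D]
  have hin : ∀ f g, Adm (r - 1) f → Adm (r - 1) g →
      classInner (indFun T (bstar 2 M (P.subgroupOf T) e' (ext D' f) ξ))
        (indFun T (bstar 2 M (P.subgroupOf T) e' (ext D' g) ξ)) = zIn f g := fun f g hf hg => by
    rw [h'.classInner_indFun hM hS (hcl _) (hprj g hg) (hprj f hf),
      h'.isMax.classInner_bstar_of_isNil hM h'.blk hn hξ h0 (isClassFunction_ext D' hf.symm)
        (isClassFunction_ext D' hg.symm), classInner_ext]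
  refine ⟨indLin T ∘ₗ (bstar 2 M (P.subgroupOf T) e').flip ξ ∘ₗ ext D',
    fun f => indFun_isClassFunction _, fun f hf => h'.prj_indFun_self h hM hS (hcl _) (hprj f hf),
    hin, fun j => isGeneralizedCharacter_indFun ?_, fun α hα => ?_, fun f g hf hg => ?_,
    fun hz => ?_⟩
  · have h1 := isGeneralizedCharacter_th D' j
    exact h'.isMax.isGeneralizedCharacter_bstar hM
      (h'.isMax.stable_of_isNil hM hn h1.isClassFunction) h1 ξ.2.isGeneralizedCharacter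
  · obtain ⟨θ, hθ, h1⟩ := exists_bstar_eq h'.isMax hM hn h'.blk hξ h0 fun t : T => α t
    refine ⟨_, adm_indicator (f := fun i => θ (aP D' i)) (symm_of_isClassFunction D' hθ) hI (by simp)
      (fun h2 => h2 (by linear_combination D.h4)), ?_⟩
    rw [h'.prj_eq_indFun h hM hS hα, ← h'.isMax.prj_blockPart hM h'.blk (hα.restrict T), ← h1,
      prj_bstar hM ξ.2.isClassFunction, preimage_a_image D hPT,
      sInd_mul_of_isNil D' h'.isMax hM hn fun i => (hI i).1]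
    rfl
  · have hm : r - 1 ≠ 1 := fun h1 => by
      rcases (m_mul_eq_iff D (j := 1)).1 (by rw [mul_one, h1]) with h2 | h2
      · exact two_mul_one_ne D (by rw [h2, mul_zero])
      · exact two_mul_one_ne D (by rw [h2]; linear_combination D.h4)
    have hJ : ∀ i, (r - 1) * i ∈ ({1, r - 1} : Set (ZMod (2 ^ n))) ↔ i ∈ ({1, r - 1} : Set _) := by
      intro i
      simp only [Set.mem_insert_iff, Set.mem_singleton_iff]
      refine ⟨fun h1 => ?_, fun h1 => ?_⟩ <;> rcases h1 with h1 | h1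
      · exact Or.inr (by linear_combination (r - 1) * h1 - i * m_mul_m D)
      · exact Or.inl (by linear_combination (r - 1) * h1 + (1 - i) * m_mul_m D)
      · exact Or.inr (by rw [h1, mul_one])
      · exact Or.inl (by rw [h1, m_mul_m D])
    have hsub : ({1, r - 1} : Set (ZMod (2 ^ n))) ⊆ {i | 2 * i ≠ 0} := by
      rintro i (rfl | rfl)
      · exact two_mul_one_ne D
      · simpa using (two_mul_m_mul D).2 (two_mul_one_ne D)
    have h1 : prj 2 M P e {D.a 1} = prj 2 M P e (D.a '' {1, r - 1}) := by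
      refine prj_congr fun v hv => ⟨fun h2 => h2.mono (by simp), ?_⟩
      rintro ⟨_, ⟨i, rfl | rfl, rfl⟩, h2⟩
      · exact meets_singleton.2 h2
      · refine meets_singleton.2 (h2.trans h.pair ?_)
        have h3 := fus_conj h.pair (D.a_mem (r - 1)) (D.b_mem 0)
        rwa [D.conj_b_a, m_mul_m D] at h3
    have h2 := adm_indicator hf.symm hJ (fun h2 => hsub h2 (mul_zero _))
      (fun h2 => hsub h2 (by linear_combination D.h4))
    change classInner (prj 2 M P e {D.a 1} (indFun T (bstar 2 M (P.subgroupOf T) e' (ext D' f) ξ)))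
      (indFun T (bstar 2 M (P.subgroupOf T) e' (ext D' g) ξ)) = _
    rw [h1, h'.prj_indFun h hM hS (hcl _) (hprj f hf) (Set.image_mono hsub),
      prj_bstar hM ξ.2.isClassFunction, preimage_a_image D hPT,
      sInd_mul_of_isNil D' h'.isMax hM hn fun i => (hJ i).1]
    simp only [ext_a]
    rw [hin _ g h2 hg, zIn, ← Finset.sum_subset (Finset.subset_univ {1, r - 1}) fun i _ hi => by
      rw [Set.indicator_of_notMem (by simpa using hi), zero_mul], Finset.sum_pair hm.symm,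
      Set.indicator_of_mem (by simp), Set.indicator_of_mem (by simp), ← mul_one (r - 1), hf.symm,
      hg.symm]
    field_simp
    ring
  · have hz' : ∀ t : T, t * D'.a (2 * zq n) = D'.a (2 * zq n) * t :=
      fun t => Subtype.ext (hz t)
    refine ⟨(ξ : T → ℂ) (D'.a (2 * zq n)) / (ξ : T → ℂ) 1, fun f hf g => ?_⟩
    refine (indFun_mul_central (z := D'.a (2 * zq n)) hz _ g).trans ?_
    refine Eq.trans ?_ (indFun_const_mul _ _ g)
    congr 1
    funext t
    refine (bstar_mul_central hM h'.isMax.pair (h'.isMax.stable_of_isNil hM hn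
      (isClassFunction_ext D' hf.symm)) ξ.2.isClassFunction (aP D' (2 * zq n)) hz' t).trans ?_
    rw [show (fun v => ext D' f (aP D' (2 * zq n) * v)) = _ from funext (ext_mul_half D' f),
      show (fun g => (ξ : T → ℂ) (((aP D' (2 * zq n) : P.subgroupOf T) : T) * g)) =
        ((ξ : T → ℂ) (D'.a (2 * zq n)) / (ξ : T → ℂ) 1) • (ξ : T → ℂ) from
        funext (irr_apply_central_mul ξ.2 hz'), map_smul]
    rfl

end CL.Blk.MCB
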