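/-
2-blocks with defect groups of maximal class: characters of height zero.
-/
import Cfsg.Agent.Blk.MCX
import Cfsg.Agent.Blk.MCSgn

set_option autoImplicit false
set_option linter.unusedSectionVars false
set_option linter.style.haveILetI false

namespace CL.Blk.MCB

open MonoidAlgebra Cfsg CL.Char CL.Grp CL.Blk.Rk CL.Blk.Pair CL.Inv Subgroup
open scoped ComplexConjugate

variable {G : Type*} [Group G] [Fintype G] {M : Ideal AlgInt} {P : Subgroup G} {n : ℕ}
  {r d i j k : ZMod (2 ^ n)} (D : MC P n r d) {e : (resField M)[G]} {B : Set (IrrCharacter G)}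
  {τ : (ZMod (2 ^ n) → ℂ) →ₗ[ℂ] G → ℂ} {α β b : G → ℂ} {χ ψ : IrrCharacter G}
  {F : Fin 4 → IrrCharacter G} {f : Fin 4 → G → ℂ} {S Y : Set G} {η : ℕ}

theorem prj_apply_of_pow {p : ℕ} [hp : Fact p.Prime] {g : G} (hg : ∃ k : ℕ, orderOf g = p ^ k)
    (h : ∀ s ∈ S, ¬ IsConj g s) : prj p M P e S α g = 0 :=
  prj_apply_eq_zero (by rwa [ppart_eq hp.out (isPPart_self hp.out hg)])

theorem prj_apply_one {p : ℕ} [Fact p.Prime] (h : 1 ∉ S) : prj p M P e S α 1 = 0 :=
  prj_apply_of_pow ⟨0, by simp⟩ fun s hs h1 => h (isConj_one_right.1 h1 ▸ hs)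

/-- The non-central elements of the cyclic subgroup. -/
abbrev xs : Set G := D.a '' {i | 2 * i ≠ 0}

/-- The non-trivial elements of the cyclic subgroup. -/
abbrev xc : Set G := D.a '' {i | i ≠ 0}

theorem one_notMem_xc : 1 ∉ xc D := fun ⟨_, hi, h⟩ => hi (D.a_eq_one_iff.1 h)

theorem xs_subset_xc : xs D ⊆ xc D := Set.image_mono fun _ hi h => hi (by rw [h, mul_zero])

include D in
theorem adm_th' (j : ZMod (2 ^ n)) : Adm (r - 1) (th (r - 1) j) :=
  adm_th D.two_le (m_mul_m D) (m_mul_half D) j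

include D in
theorem zIn_th_ev (hj : Ev j) (hk : Ev k) (hj0 : j ≠ 0) (hk0 : k ≠ 0) :
    zIn (th (r - 1) j) (th (r - 1) k) =
      (if j = k then 1 else 0) + (if j = (r - 1) * k then 1 else 0) + 2 := by
  have h1 : 0 ≠ (r - 1) * k := fun h => hk0 (by linear_combination -(r - 1) * h - k * m_mul_m D)
  simp only [th_of_ev hj, th_of_ev hk, zIn_sub_left, zIn_sub_right, zIn_lam_lam (m_mul_m D),
    mul_zero, if_neg hj0, if_neg hk0.symm, if_neg h1, if_true]
  ring

include D in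
theorem m_ne_one : r - 1 ≠ 1 := fun h1 => by
  rcases (m_mul_eq_iff D (j := 1)).1 (by rw [mul_one, h1]) with h2 | h2
  · exact two_mul_one_ne D (by rw [h2, mul_zero])
  · exact two_mul_one_ne D (by rw [h2]; linear_combination D.h4)

include D in
theorem zIn_th_odd (hj : ¬ Ev j) (hk : ¬ Ev k) (hj1 : j ≠ 1) (hjm : j ≠ r - 1) (hk1 : k ≠ 1)
    (hkm : k ≠ r - 1) : zIn (th (r - 1) j) (th (r - 1) k) =
      (if j = k then 1 else 0) + (if j = (r - 1) * k then 1 else 0) + 1 := by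
  have h1 : 1 ≠ (r - 1) * k := fun h => hkm (by linear_combination -(r - 1) * h - k * m_mul_m D)
  simp only [th_of_not_ev hj, th_of_not_ev hk, zIn_sub_left, zIn_sub_right,
    zIn_lam_lam (m_mul_m D), mul_one, if_neg hj1, if_neg hjm, if_neg hk1.symm, if_neg h1, if_true,
    if_neg (m_ne_one D).symm]
  ring

theorem val_sum_psi (hM : IsPModular 2 M) (m : ZMod (2 ^ n) → ℤ) (u : ZMod (2 ^ n) → _) :
    val M (∑ j, (m j : ℂ) * psi (n := n) (u j)) = 1 ↔ ¬ 2 ∣ ∑ j, m j := by
  have := charP_resField hM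
  have h1 : ∀ j, psi (u j) ∈ valRing M := fun j =>
    mem_valRing_of_pow_eq_one (pow_ne_zero _ two_ne_zero) (psi_pow _)
  rw [← red_ne_zero_iff_val_eq_one, red_sum _ _ fun j _ => mul_mem (intCast_mem _ _) (h1 j)]
  simp only [red_mul (intCast_mem _ _) (h1 _), red_eq_one_of_pow_prime_pow_eq_one hM (psi_pow _),
    mul_one, red_intCast]
  rw [← Int.cast_sum, Ne, intCast_resField_eq_zero_iff hM, Nat.cast_ofNat]

theorem mul_eq_one_iff_of_le_one' {Γ : Type*} [LinearOrderedCommGroupWithZero Γ] {a b : Γ}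
    (ha : a ≤ 1) (hb : b ≤ 1) : a * b = 1 ↔ a = 1 ∧ b = 1 :=
  ⟨fun h => ⟨ha.antisymm (h ▸ mul_le_of_le_one_right' hb),
    hb.antisymm (h ▸ mul_le_of_le_one_left' ha)⟩, fun h => by rw [h.1, h.2, mul_one]⟩

include D in
theorem two_dvd_sum_iff (m : ZMod (2 ^ n) → ℤ) (h0 : m 0 = 0) (hm : ∀ j, m ((r - 1) * j) = m j) :
    2 ∣ ∑ j, m j ↔ 2 ∣ m (2 * zq n) := by
  have h1 : ∑ j ∈ (Finset.univ.erase (2 * zq n)).erase 0, (m j : ZMod 2) = 0 := by
    refine Finset.sum_involution (fun j _ => (r - 1) * j) (fun j _ => ?_) (fun j hj _ h => ?_)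
      (fun j hj => ?_) fun j _ => ?_
    · rw [hm, CharTwo.add_self_eq_zero]
    · simp only [Finset.mem_erase] at hj
      exact ((m_mul_eq_iff D).1 h).elim hj.1 hj.2.1
    · simp only [Finset.mem_erase, Finset.mem_univ, and_true] at hj ⊢
      exact ⟨fun h => hj.1 (by linear_combination (r - 1) * h - j * m_mul_m D), fun h => hj.2
        (by linear_combination (r - 1) * h - j * m_mul_m D + m_mul_half D)⟩
    · rw [← mul_assoc, m_mul_m D, one_mul]
  rw [Finset.sum_erase _ (by rw [h0, Int.cast_zero])] at h1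
  have h2 := (ZMod.intCast_zmod_eq_zero_iff_dvd (∑ j, m j) 2)
  have h3 := (ZMod.intCast_zmod_eq_zero_iff_dvd (m (2 * zq n)) 2)
  rw [Int.cast_sum, ← Finset.add_sum_erase _ _ (Finset.mem_univ (2 * zq n)), h1, add_zero] at h2
  exact h2.symm.trans h3

namespace XData

variable {D} (X : XData M D e τ) (h : IsMax 2 ⊤ ⊤ (eBlk M B) P e) (hM : IsPModular 2 M)
include X

theorem apply_one (j : ZMod (2 ^ n)) : τ (th (r - 1) j) 1 = 0 := by
  rw [← X.prj_eq _ (adm_th' D j)]
  exact prj_apply_one fun h => one_notMem_xc D (xs_subset_xc D h)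

theorem inner_th (j k : ZMod (2 ^ n)) : classInner (τ (th (r - 1) j)) (τ (th (r - 1) k)) =
    zIn (th (r - 1) j) (th (r - 1) k) := X.inner _ _ (adm_th' D j) (adm_th' D k)

theorem norm_half : classInner (τ (th (r - 1) (2 * zq n))) (τ (th (r - 1) (2 * zq n))) = 4 := by
  rw [X.inner_th, zIn_th_ev D (ev_two_mul D.two_le _) (ev_two_mul D.two_le _) D.h2 D.h2,
    m_mul_half D]
  norm_num

include h hM

theorem inner_prj (hα : IsClassFunction G α) (j : ZMod (2 ^ n)) :
    classInner (prj 2 M P e (xs D) α) (τ (th (r - 1) j)) = classInner α (τ (th (r - 1) j)) := by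
  rw [h.classInner_prj_left hM hα (X.cls _), X.prj_eq _ (adm_th' D j)]

theorem prj_eq_zero (hα : IsClassFunction G α) (h0 : ∀ j, classInner α (τ (th (r - 1) j)) = 0) :
    prj 2 M P e (xs D) α = 0 := by
  obtain ⟨g, hg, h1⟩ := X.surj α hα
  rw [← h1, hg.eq_zero D.two_le (m_mul_m D) fun j => by
    rw [← X.inner _ _ hg (adm_th' D j), h1, X.inner_prj h hM hα, h0], map_zero]

variable (hB : IsPBlock M B)
include hB

theorem mem_of_inner (h1 : classInner (τ (th (r - 1) j)) χ ≠ 0) : χ ∈ B := by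
  by_contra h2
  rw [← X.prj_eq _ (adm_th' D j)] at h1
  exact h1 (h.classInner_prj_of_notMem hM hB (X.cls _) h2)

theorem height_zero_iff (hχ : χ ∈ B) {m : ℤ}
    (hm : classInner (χ : G → ℂ) (τ (th (r - 1) (2 * zq n))) = m) :
    blockHeight 2 B (χ : G → ℂ) = 0 ↔ ¬ 2 ∣ m := by
  have hc := χ.2.isClassFunction
  obtain ⟨g, hg, h1⟩ := X.surj χ hc
  choose c hc' using fun j => χ.2.isGeneralizedCharacter.exists_int_classInner (X.gen j)
  have h2 : g 1 = ∑ j, (c j : ℂ) * psi j := by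
    rw [hg.apply_eq_sum D.two_le (m_mul_m D) (two_mul_one_ne D)]
    refine Finset.sum_congr rfl fun j _ => ?_
    rw [← X.inner _ _ hg (adm_th' D j), h1, X.inner_prj h hM hc, hc', mul_one]
  have h3 : conj (g 1) = ∑ j, (c j : ℂ) * psi (-j) := by
    simp only [h2, map_sum, map_mul, conj_psi, map_intCast]
  have hs : ∀ v ∈ P, Meets 2 P e {D.a 1} v → Meets 2 P e (xs D) v := fun v _ hv =>
    hv.mono (Set.singleton_subset_iff.2 ⟨1, two_mul_one_ne D, rfl⟩)
  have h4 : cm 2 M P e (D.a 1) χ χ = g 1 * conj (g 1) := by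
    have h5 := X.one g g hg hg
    rw [h1, prj_prj_of_imp hM hc hs, ← h.classInner_prj_left hM (isClassFunction_prj hM hc _) hc,
      prj_prj_of_imp' hM hc hs] at h5
    rw [cm, h5, card_inf_centralizer_a D (two_mul_one_ne D)]
    push_cast; field_simp
  have h5 := h.val_cm_eq_one_iff hM hB (fc_a_one D hM) χ χ
  have h6 := two_dvd_sum_iff D c (by
      have := hc' 0
      rw [th_zero, map_zero, classInner_zero_right] at this
      exact_mod_cast this.symm) fun j => by
    have := hc' ((r - 1) * j)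
    rw [th_mul (m_mul_m D) (m_mul_half D), hc'] at this
    exact_mod_cast this.symm
  obtain rfl : c (2 * zq n) = m := by exact_mod_cast (hc' _).symm.trans hm
  have h7 := val_sum_psi hM c fun j => j
  have h8 := val_sum_psi hM c fun j => -j
  have hle : ∀ u : ZMod (2 ^ n) → ZMod (2 ^ n), val M (∑ j, (c j : ℂ) * psi (u j)) ≤ 1 := fun u =>
    val_le_one_iff.2 (sum_mem fun j _ => mul_mem (intCast_mem _ _)
      (mem_valRing_of_pow_eq_one (pow_ne_zero _ two_ne_zero) (psi_pow _)))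
  rw [h4, map_mul, h3, h2, mul_eq_one_iff_of_le_one' (hle fun j => j) (hle fun j => -j), h7, h8,
    h6] at h5
  simpa [hχ] using h5.symm

theorem exists_quad : ∃ F f, Quad (τ (th (r - 1) (2 * zq n))) F f ∧
    ∀ χ, χ ∈ Set.range F ↔ χ ∈ B ∧ blockHeight 2 B (χ : G → ℂ) = 0 := by
  obtain ⟨F, f, hq⟩ := MCB.exists_quad (X.gen _) X.norm_half (X.apply_one _)
  refine ⟨F, f, hq, fun χ => ⟨?_, fun ⟨h1, h2⟩ => ?_⟩⟩
  · rintro ⟨i, rfl⟩
    have h1 := X.mem_of_inner h hM hB (hq.inner_ne_zero_iff.2 ⟨i, rfl⟩)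
    have h2 := hq.inner_left i
    rw [(X.gen _).classInner_comm (hq.sg i).gen] at h2
    rcases hq.sg i with h3 | h3 <;> rw [h3] at h2
    · exact ⟨h1, (X.height_zero_iff h hM hB h1 (m := 1) (by simpa using h2)).2 (by norm_num)⟩
    · rw [classInner_neg_left, neg_eq_iff_eq_neg] at h2
      exact ⟨h1, (X.height_zero_iff h hM hB h1 (m := -1) (by simpa using h2)).2 (by norm_num)⟩
  · refine hq.inner_ne_zero_iff.1 fun h3 => ?_
    rw [(X.gen _).classInner_comm χ.2.isGeneralizedCharacter] at h3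
    exact (X.height_zero_iff h hM hB h1 (m := 0) (by simpa using h3)).1 h2 (dvd_zero 2)

end XData

theorem Quad.expand (hq : Quad b F f) (hα : IsClassFunction G α)
    (h0 : ∀ χ ∉ Set.range F, classInner α (χ : G → ℂ) = 0) :
    α = ∑ j, classInner α (f j) • f j := by
  classical
  refine hα.eq_sum_irr.trans ?_
  rw [← Finset.sum_subset (Finset.subset_univ (Finset.univ.image F)) fun χ _ h => by
    rw [h0 χ (by simpa using h), zero_smul], Finset.sum_image hq.inj.injOn]
  exact Finset.sum_congr rfl fun i _ => ((hq.sg i).inner_smul α).symm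

open Classical in
theorem sum_split {A : Type*} [AddCommMonoid A] (hF : Function.Injective F) (hB : ∀ i, F i ∈ B)
    (φ : IrrCharacter G → A) : ∑ χ with χ ∈ B, φ χ =
      ∑ i, φ (F i) + ∑ χ with χ ∈ B ∧ χ ∉ Set.range F, φ χ := by
  rw [← Finset.sum_filter_add_sum_filter_not _ (· ∈ Set.range F), Finset.filter_filter,
    Finset.filter_filter, ← Finset.sum_image hF.injOn]
  congr 2
  ext χ
  simp only [Finset.mem_filter, Finset.mem_univ, true_and, Finset.mem_image, Set.mem_range]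
  exact ⟨fun h => h.2, fun ⟨i, h⟩ => ⟨h ▸ hB i, i, h⟩⟩

theorem Sg.val_cm {p : ℕ} {s t : G → ℂ} (hs : Sg s χ) (ht : Sg t ψ) (v : G) :
    val M (cm p M P e v s t) = val M (cm p M P e v χ ψ) := by
  rcases hs with rfl | rfl <;> rcases ht with rfl | rfl <;>
    simp [cm, classInner_neg_left, classInner_neg_right]

/-- The projection to the subsections in `Y` has rank `η ≤ 1` and lives on the quadruple. -/
structure YGood (M : Ideal AlgInt) (P : Subgroup G) (e : (resField M)[G])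
    (F : Fin 4 → IrrCharacter G) (f : Fin 4 → G → ℂ) (Y : Set G) (η : ℕ) : Prop where
  le : η ≤ 1
  tr : prjTr 2 M P e Y = η
  pos : ∀ χ ∉ Set.range F, prj 2 M P e Y (χ : G → ℂ) = 0
  ent : ∀ i j, ∃ m : ℤ, 4 * classInner (prj 2 M P e Y (f i)) (f j) = m ∧ m ^ 2 = η ∧
    (i = j → m = η)

theorem prj_empty {p : ℕ} [Fact p.Prime] : prj p M P e ∅ α = 0 :=
  funext fun _ => prj_apply_eq_zero (by simp)

theorem yGood_empty : YGood M P e F f ∅ 0 :=
  ⟨zero_le_one, by simp [prjTr_empty], fun _ _ => prj_empty, fun _ _ =>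
    ⟨0, by simp [prj_empty, classInner_zero_left]⟩⟩

/-- The non-fused classes outside the cyclic subgroup. -/
def y0 (e : (resField M)[G]) : Set G := {v | v = D.b 0 ∧ ¬ Meets 2 P e (Set.range D.a) (D.b 0)}

/-- The non-fused classes outside the cyclic subgroup. -/
def y1 (e : (resField M)[G]) : Set G :=
  {v | v = D.b 1 ∧ ¬ Meets 2 P e (Set.range D.a ∪ {D.b 0}) (D.b 1)}

open Classical in
/-- The number of elements of `y0`. -/
noncomputable def et0 (e : (resField M)[G]) : ℕ :=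
  if Meets 2 P e (Set.range D.a) (D.b 0) then 0 else 1

open Classical in
/-- The number of elements of `y1`. -/
noncomputable def et1 (e : (resField M)[G]) : ℕ :=
  if Meets 2 P e (Set.range D.a ∪ {D.b 0}) (D.b 1) then 0 else 1

theorem range_a_eq : Set.range D.a = {1} ∪ xc D := by
  ext v
  refine ⟨?_, ?_⟩
  · rintro ⟨i, rfl⟩
    by_cases hi : i = 0
    exacts [Or.inl (D.a_eq_one_iff.2 hi), Or.inr ⟨i, hi, rfl⟩]
  · rintro (rfl | ⟨i, -, rfl⟩)
    exacts [⟨0, D.a_zero⟩, ⟨i, rfl⟩]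

theorem xc_eq : xc D = {D.a (2 * zq n)} ∪ xs D := by
  ext v
  refine ⟨?_, ?_⟩
  · rintro ⟨i, hi, rfl⟩
    by_cases h : 2 * i = 0
    exacts [Or.inl (congrArg _ ((zm_two_mul_eq_zero D.two_le h).resolve_left hi)), Or.inr ⟨i, h, rfl⟩]
  · rintro (rfl | h)
    exacts [⟨_, D.h2, rfl⟩, xs_subset_xc D h]

section Y

variable (h : IsMax 2 ⊤ ⊤ (eBlk M B) P e) (hM : IsPModular 2 M)
include h hM

theorem disj_y0 : ∀ v ∈ P, Meets 2 P e (Set.range D.a) v → ¬ Meets 2 P e (y0 D e) v := by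
  have := charP_resField hM
  rintro v hv h1 ⟨_, ⟨rfl, h2⟩, h3⟩
  exact h2 ((h3.meets_iff h.pair hv).2 h1)

theorem disj_y1 :
    ∀ v ∈ P, Meets 2 P e (Set.range D.a ∪ y0 D e) v → ¬ Meets 2 P e (y1 D e) v := by
  have := charP_resField hM
  rintro v hv h1 ⟨_, ⟨rfl, h2⟩, h3⟩
  exact h2 (((h3.meets_iff h.pair hv).2 h1).mono (Set.union_subset_union_right _ fun _ h => h.1))

theorem disj_one : ∀ v ∈ P, Meets 2 P e {1} v → ¬ Meets 2 P e (xc D) v := by
  have := charP_resField hM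
  rintro v - h1 ⟨w, hw, h2⟩
  rw [meets_one h.pair] at h1
  exact one_notMem_xc D (isConj_one_right.1 (h1 ▸ h2.isConj) ▸ hw)

theorem meets_all : ∀ v ∈ P, Meets 2 P e (Set.range D.a ∪ y0 D e ∪ y1 D e) v := by
  have := charP_resField hM
  have h0 : Meets 2 P e (Set.range D.a ∪ y0 D e) (D.b 0) := meets_union.2
    (or_iff_not_imp_left.2 fun h1 => meets_of_mem h.pair (D.b_mem 0) ⟨rfl, h1⟩)
  intro v hv
  obtain ⟨i, rfl | rfl⟩ := (D.mem v).1 hv
  · exact meets_of_mem h.pair hv (Or.inl (Or.inl ⟨i, rfl⟩))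
  obtain ⟨s, rfl | rfl⟩ := zm_even_or_odd i
  · rw [← zero_add (2 * s), (fus_b_add D h hM 0 s).meets_iff h.pair (D.b_mem 0)]
    exact h0.mono Set.subset_union_left
  · rw [add_comm (2 * s), (fus_b_add D h hM 1 s).meets_iff h.pair (D.b_mem 1)]
    refine meets_union.2 (or_iff_not_imp_left.2 fun h1 => meets_of_mem h.pair (D.b_mem 1)
      ⟨rfl, fun h2 => h1 ?_⟩)
    rcases meets_union.1 h2 with h2 | h2
    · exact h2.mono Set.subset_union_left
    · exact ((meets_singleton.1 h2).meets_iff h.pair (D.b_mem 1)).1 h0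

variable (hB : IsPBlock M B)
include hB

theorem blockPart_eq (hα : IsClassFunction G α) : blockPart B α = prj 2 M P e {1} α +
    prj 2 M P e (xc D) α + prj 2 M P e (y0 D e) α + prj 2 M P e (y1 D e) α := by
  rw [← h.prj_of_forall_meets hM hB (meets_all D h hM) hα, prj_union (disj_y1 D h hM),
    prj_union (disj_y0 D h hM), range_a_eq, prj_union (disj_one D h hM)]

variable (hq : Quad b F f) (hF : ∀ χ, χ ∈ Set.range F ↔ χ ∈ B ∧ blockHeight 2 B (χ : G → ℂ) = 0)
include hq hF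

theorem yGood_b (hi : ¬ Meets 2 P e (Set.range D.a) (D.b i)) : YGood M P e F f {D.b i} 1 := by
  classical
  have hint := fun α β => h.exists_int_cm hM (α := α) (β := β) (fc_b D hM hi)
    fun t ht => fus_b_pow D h hM i ht
  have hcm : ∀ α β, cm 2 M P e (D.b i) α β = 4 * classInner (prj 2 M P e {D.b i} α) β :=
    fun α β => by rw [cm, card_inf_centralizer_b]; norm_num
  choose m hm using fun χ : IrrCharacter G =>
    hint χ χ χ.2.isGeneralizedCharacter χ.2.isGeneralizedCharacter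
  have h0 : ∀ χ, 0 ≤ m χ := fun χ => by
    have h1 := classInner_self_re_nonneg (prj 2 M P e {D.b i} χ)
    rw [h.classInner_prj_prj hM χ.2.isClassFunction χ.2.isClassFunction] at h1
    have h2 := congrArg Complex.re (hm χ)
    simp only [hcm, Complex.intCast_re, Complex.mul_re, Complex.re_ofNat, Complex.im_ofNat] at h2
    have : (0 : ℝ) ≤ m χ := by linarith
    exact_mod_cast this
  have hodd : ∀ j k (c : ℤ), cm 2 M P e (D.b i) (f j) (f k) = c → ¬ 2 ∣ c := fun j k c hc => by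
    have h1 := (h.val_cm_eq_one_iff hM hB (fc_b D hM hi) (F j) (F k)).2
      ⟨(hF _).1 ⟨j, rfl⟩, (hF _).1 ⟨k, rfl⟩⟩
    rw [← (hq.sg j).val_cm (hq.sg k), hc] at h1
    exact (val_intCast_eq_one_iff hM c).1 h1
  have hd : ∀ j, cm 2 M P e (D.b i) (f j) (f j) = m (F j) := fun j => by
    rw [← hm, hcm, hcm, (hq.sg j).inner_map]
  have h1 := h.sum_cm_self hM hB (D.b_mem i)
  rw [lOf_b D h hM hi, card_inf_centralizer_b, sum_split hq.inj fun j => ((hF _).1 ⟨j, rfl⟩).1] at h1
  simp only [hm, Fin.sum_univ_four] at h1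
  have h2 : m (F 0) + m (F 1) + m (F 2) + m (F 3) + ∑ χ with χ ∈ B ∧ χ ∉ Set.range F, m χ = 4 := by
    exact_mod_cast h1
  have h3 : ∀ j, 1 ≤ m (F j) := fun j => by have := hodd j j _ (hd j); have := h0 (F j); omega
  have h4 := Finset.sum_nonneg (s := Finset.univ.filter fun χ => χ ∈ B ∧ χ ∉ Set.range F)
    fun χ _ => h0 χ
  have h5 : ∀ j, m (F j) = 1 := fun j => by
    have := h3 0; have := h3 1; have := h3 2; have := h3 3
    fin_cases j <;> simp only [Fin.reduceFinMk, Fin.zero_eta] <;> omega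
  have hpos : ∀ χ ∉ Set.range F, prj 2 M P e {D.b i} (χ : G → ℂ) = 0 := fun χ hχ => by
    by_cases h6 : χ ∈ B
    · have h7 := (Finset.sum_eq_zero_iff_of_nonneg fun χ _ => h0 χ).1
        (show ∑ χ with χ ∈ B ∧ χ ∉ Set.range F, m χ = 0 by simp only [h5] at h2; omega) χ
        (by simp only [Finset.mem_filter]; exact ⟨Finset.mem_univ _, h6, hχ⟩)
      have h8 := hm χ
      rw [h7, hcm] at h8
      exact (h.prj_eq_zero_iff hM χ.2.isClassFunction).2 (by simpa using h8)
    · exact h.prj_irr_of_notMem hM hB h6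
  refine ⟨le_rfl, by rw [h.prjTr_singleton hM hB (D.b_mem i), lOf_b D h hM hi], hpos, fun j => ?_⟩
  choose c hc using fun k => hint (f j) (f k) (hq.sg j).gen (hq.sg k).gen
  have h6 : c j = 1 := by rw [← h5 j]; exact_mod_cast (hc j).symm.trans (hd j)
  have h7 : ∀ k, classInner (prj 2 M P e {D.b i} (f j)) (f k) = c k / 4 := fun k => by
    rw [← hc, hcm]; ring
  have h8 := h.classInner_prj_prj hM (S := {D.b i}) (hq.sg j).cls (hq.sg j).cls
  rw [h7, h6] at h8
  nth_rw 2 [hq.expand (isClassFunction_prj hM (hq.sg j).cls _) fun χ hχ => by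
    rw [h.classInner_prj_left hM (hq.sg j).cls χ.2.isClassFunction, hpos χ hχ,
      classInner_zero_right]] at h8
  simp only [classInner_sum_right, classInner_smul_right, h7, map_div₀, map_intCast,
    map_ofNat] at h8
  rw [Fin.sum_univ_four] at h8
  have h9 : c 0 ^ 2 + c 1 ^ 2 + c 2 ^ 2 + c 3 ^ 2 = 4 := by
    have : ((c 0 ^ 2 + c 1 ^ 2 + c 2 ^ 2 + c 3 ^ 2 : ℤ) : ℂ) = 4 := by
      push_cast at h8 ⊢; linear_combination 16 * h8
    exact_mod_cast this
  have h10 : ∀ k, 1 ≤ c k ^ 2 := fun k => by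
    have := hodd j k _ (hc k)
    exact sq_pos_of_ne_zero (show c k ≠ 0 by omega)
  refine fun k => ⟨c k, by rw [← hc, hcm], ?_, fun h => h ▸ h6⟩
  have := h10 0; have := h10 1; have := h10 2; have := h10 3
  fin_cases k <;> simp only [Fin.reduceFinMk, Fin.zero_eta, Nat.cast_one] <;> omega

theorem yGood0 : YGood M P e F f (y0 D e) (et0 D e) := by
  unfold y0 et0
  split_ifs with h1
  · simpa [h1] using yGood_empty
  · simpa [h1] using yGood_b D h hM hB hq hF h1

theorem yGood1 : YGood M P e F f (y1 D e) (et1 D e) := by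
  unfold y1 et1
  split_ifs with h1
  · simpa only [h1, not_true, and_false, Set.ofPred_false] using yGood_empty
  · simpa only [h1, not_false_iff, and_true, Set.ofPred_eq_eq_singleton] using
      yGood_b D h hM hB hq hF fun h2 => h1 (h2.mono Set.subset_union_left)

end Y

theorem card_eq_prjTr (h : IsMax 2 ⊤ ⊤ (eBlk M B) P e) (hM : IsPModular 2 M) (hB : IsPBlock M B) :
    (Nat.card B : ℂ) = blockRank 2 B + prjTr 2 M P e (xc D) + et0 D e + et1 D e := by
  obtain ⟨τ, X⟩ := exists_xData D h hM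
  obtain ⟨F, f, hq, hF⟩ := X.exists_quad h hM hB
  rw [← h.prjTr_of_forall_meets hM hB (meets_all D h hM), prjTr_union (disj_y1 D h hM),
    prjTr_union (disj_y0 D h hM), range_a_eq, prjTr_union (disj_one D h hM), h.prjTr_one hM hB,
    (yGood0 D h hM hB hq hF).tr, (yGood1 D h hM hB hq hF).tr]

end CL.Blk.MCB
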