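/-
2-blocks with defect groups of maximal class whose central involution is central in the group:
even and odd characters.
-/
import Cfsg.Agent.Blk.MCHt
import Cfsg.Agent.Blk.RkQuot2
import Cfsg.Agent.Char.Exceptional

set_option autoImplicit false
set_option linter.unusedSectionVars false
set_option linter.style.haveILetI false

namespace CL.Blk.MCB

open MonoidAlgebra Cfsg CL.Char CL.Grp CL.Blk.Rk CL.Blk.Pair CL.Inv Subgroup
open scoped ComplexConjugate

variable {G : Type*} [Group G] [Fintype G] {M : Ideal AlgInt} {P : Subgroup G} {n : ℕ}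
  {r d i j k : ZMod (2 ^ n)} {D : MC P n r d} {e : (resField M)[G]} {B : Set (IrrCharacter G)}
  {τ : (ZMod (2 ^ n) → ℂ) →ₗ[ℂ] G → ℂ} {α β b s : G → ℂ} {χ ψ : IrrCharacter G}
  {F : Fin 4 → IrrCharacter G} {f : Fin 4 → G → ℂ} {S Y : Set G} {η : ℕ} {z : G} {ω ω' : ℂ}

/-- `α` has parity `ω` with respect to `z`. -/
def Par (z : G) (ω : ℂ) (α : G → ℂ) : Prop := ∀ g, α (z * g) = ω * α g

theorem Par.add (h : Par z ω α) (h' : Par z ω β) : Par z ω (α + β) := fun g => by
  simp only [Pi.add_apply, h g, h' g, mul_add]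

theorem Par.smul (h : Par z ω α) (c : ℂ) : Par z ω (c • α) := fun g => by
  simp only [Pi.smul_apply, smul_eq_mul, h g, mul_left_comm]

theorem Par.sub (h : Par z ω α) (h' : Par z ω β) : Par z ω (α - β) := fun g => by
  simp only [Pi.sub_apply, h g, h' g, mul_sub]

theorem par_sum {ι : Type*} (t : Finset ι) {φ : ι → G → ℂ} (h : ∀ i ∈ t, Par z ω (φ i)) :
    Par z ω (∑ i ∈ t, φ i) := fun g => by
  simp only [Finset.sum_apply, Finset.mul_sum]
  exact Finset.sum_congr rfl fun i hi => h i hi g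

theorem Sg.par (h : Sg s χ) : Par z ω s ↔ Par z ω χ := by
  rcases h with rfl | rfl <;> simp [Par]

theorem inner_shift (z : G) (α β : G → ℂ) :
    classInner α β = classInner (fun g => α (z * g)) fun g => β (z * g) :=
  (classInner_comp_equiv (Equiv.mulLeft z) α β).symm

theorem Par.eq (h : Par z ω α) : (fun g => α (z * g)) = ω • α := funext h

theorem Par.inner (h : Par z ω α) (h' : Par z ω' β) :
    classInner α β = ω * conj ω' * classInner α β := by
  nth_rw 1 [inner_shift z, h.eq, h'.eq]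
  rw [classInner_smul_left, classInner_smul_right, mul_assoc]

theorem Par.inner_eq_zero (h : Par z 1 α) (h' : Par z (-1) β) : classInner α β = 0 := by
  have := h.inner h'
  simp only [map_neg, map_one] at this
  linear_combination this / 2

theorem Par.inner_eq_zero' (h : Par z (-1) α) (h' : Par z 1 β) : classInner α β = 0 := by
  rw [← conj_classInner, h'.inner_eq_zero h, map_zero]

theorem irr_par (hz : ∀ g, g * z = z * g) (h2 : orderOf z = 2) (χ : IrrCharacter G) :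
    Par z 1 χ ∨ Par z (-1) χ := by
  have h1 := irr_central_pow_orderOf χ.2 hz
  rw [h2, sq] at h1
  rcases mul_self_eq_one_iff.1 h1 with h1 | h1
  exacts [Or.inl fun g => h1 ▸ irr_apply_central_mul χ.2 hz g,
    Or.inr fun g => h1 ▸ irr_apply_central_mul χ.2 hz g]

theorem Par.of_inner (h : Par z ω α) (hz : ∀ g, g * z = z * g) (h2 : orderOf z = 2)
    (h1 : classInner α χ ≠ 0) : Par z ω χ ∧ (ω = 1 ∨ ω = -1) := by
  rcases irr_par hz h2 χ with h3 | h3 <;> have h4 := (mul_eq_right₀ h1).1 (h.inner h3).symm <;>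
    simp only [map_neg, map_one, mul_one, mul_neg, neg_eq_iff_eq_neg] at h4 <;> simp [h4, h3]

theorem Par.not_odd (h : Par z 1 (χ : G → ℂ)) : ¬ Par z (-1) (χ : G → ℂ) := fun h' => by
  simpa [classInner_irr] using h.inner_eq_zero h'

/-- The form given by the regular elements. -/
noncomputable abbrev rg (M : Ideal AlgInt) (P : Subgroup G) (e : (resField M)[G]) (α β : G → ℂ) :
    ℂ := classInner (prj 2 M P e {1} α) β

section

variable (h : IsMax 2 ⊤ ⊤ (eBlk M B) P e) (hM : IsPModular 2 M)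
  (hz : ∀ g, g * D.a (2 * zq n) = D.a (2 * zq n) * g)
include h hM hz

theorem inner_prj_z (hα : IsClassFunction G α) (h1 : Par (D.a (2 * zq n)) ω α)
    (h2 : Par (D.a (2 * zq n)) ω' β) :
    classInner (prj 2 M P e {D.a (2 * zq n)} α) β = ω * conj ω' * rg M P e α β := by
  have h3 := funext (h.prj_mul_central hM (S := {1}) hα (D.a_mem _) hz)
  rw [Set.image_singleton, mul_one, h1.eq, map_smul] at h3
  rw [inner_shift (D.a (2 * zq n)), h3, h2.eq, classInner_smul_left, classInner_smul_right,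
    mul_assoc]

omit h hM in
theorem eq_z_of_isConj {v : G} (hv : IsConj v (D.a (2 * zq n))) : v = D.a (2 * zq n) := by
  obtain ⟨x, hx⟩ := isConj_iff.1 hv.symm
  rw [← hx, hz, mul_inv_cancel_right]

omit h hM in
theorem disj_z : ∀ v ∈ P, Meets 2 P e {D.a (2 * zq n)} v → ¬ Meets 2 P e (xs D) v := by
  rintro v - h1 ⟨_, ⟨i, hi, rfl⟩, h2⟩
  have h3 := eq_z_of_isConj hz (h2.isConj.symm.trans (meets_singleton.1 h1).isConj)
  exact hi (by rw [D.a_eq_iff.1 h3]; linear_combination D.h4)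

variable (hB : IsPBlock M B)
include hB

theorem inner_split (hα : IsClassFunction G α) (hb : blockPart B α = α) (hω : ω = 1 ∨ ω = -1)
    (h1 : Par (D.a (2 * zq n)) ω α) (h2 : Par (D.a (2 * zq n)) ω β) :
    classInner α β = 2 * rg M P e α β + classInner (prj 2 M P e (xs D) α) β +
      classInner (prj 2 M P e (y0 D e) α) β + classInner (prj 2 M P e (y1 D e) α) β := by
  nth_rw 1 [← hb, blockPart_eq D h hM hB hα, xc_eq, prj_union (disj_z hz)]
  simp only [classInner_add_left, inner_prj_z h hM hz hα h1 h2]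
  rcases hω with rfl | rfl <;> simp only [map_neg, map_one] <;> ring

theorem exists_even (χ : IrrCharacter G) : ∃ β, IsGeneralizedCharacter G β ∧
    Par (D.a (2 * zq n)) 1 β ∧ prj 2 M P e {1} β = prj 2 M P e {1} χ := by
  have : (zpowers (D.a (2 * zq n))).Normal := ⟨fun g ⟨k, hk⟩ x => ⟨k, by
    simp only [← hk, ← conj_zpow, hz, mul_inv_cancel_right]⟩⟩
  obtain ⟨β, h1, h2⟩ := exists_genChar_eq_on_pRegular (N := zpowers (D.a (2 * zq n))) Nat.prime_two
    (D.isPGroup.to_le (zpowers_le.2 (D.a_mem _))) (fun g _ => by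
      rw [centralizer_zpowers_eq]; exact mem_centralizer_singleton_iff.2 (hz g))
    χ.2.isGeneralizedCharacter
  have h3 : IsGeneralizedCharacter G fun g : G => β g := h1.comp (QuotientGroup.mk' _)
  refine ⟨_, h3, fun g => ?_, ?_⟩
  · simp only [QuotientGroup.mk_mul, (QuotientGroup.eq_one_iff _).2 (mem_zpowers _), one_mul]
  · rw [h.prj_one hM hB h3.isClassFunction, h.prj_one hM hB χ.2.isClassFunction,
      ← (regClosed_of_isPBlock hM hB).regProj_pReg χ.2.isClassFunction, h2,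
      (regClosed_of_isPBlock hM hB).regProj_pReg h3.isClassFunction]

omit hz hB h hM in
theorem fc_one : FC 2 P e 1 :=
  fc_of_central (one_mem _) fun _ _ => mem_centralizer_singleton_iff.2 (by simp)

theorem not_forall_odd : ¬ ∀ ψ ∈ B, blockHeight 2 B (ψ : G → ℂ) = 0 →
    Par (D.a (2 * zq n)) (-1) ψ := fun hω => by
  obtain ⟨χ, hχ, h0⟩ := exists_height_zero (p := 2) (tr_nonempty hM hB)
  obtain ⟨β, hβ, h2, h3⟩ := exists_even h hM hz hB χ
  have h4 := (h.val_cm_eq_one_iff hM hB fc_one χ χ).2 ⟨⟨hχ, h0⟩, hχ, h0⟩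
  obtain ⟨m, hm, h5⟩ := hβ.exists_eq_sum_int
  rw [cm, ← h3, ← cm, h5, cm_sum_left] at h4
  refine (val_sum_lt_one _ _ fun ψ _ => ?_).ne h4
  rw [cm_smul_left]
  by_cases h6 : ψ ∈ B ∧ blockHeight 2 B (ψ : G → ℂ) = 0
  · rw [← hm, h2.inner_eq_zero (hω ψ h6.1 h6.2)]; simp
  · refine val_mul_lt_one_right (intCast_mem _ _) (not_not.1 fun h7 => h6 ?_)
    exact ((h.val_cm_eq_one_iff hM hB fc_one ψ χ).1 ((val_eq_one_iff_not_lt (h.cm_mem_valRing hM
      fc_one ψ.2.isGeneralizedCharacter χ.2.isGeneralizedCharacter)).2 h7)).1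

theorem XData.par_th (X : XData M D e τ) (j : ZMod (2 ^ n)) :
    Par (D.a (2 * zq n)) (if Ev j then 1 else -1) (τ (th (r - 1) j)) := by
  obtain ⟨ω, hω⟩ := X.par hz
  have h1 : ∀ j, Par (D.a (2 * zq n)) (ω * if Ev j then 1 else -1) (τ (th (r - 1) j)) :=
    fun j g => by
      rw [hω _ (adm_th' D j), show (fun i => th (r - 1) j (2 * zq n + i)) =
        (if Ev j then 1 else -1 : ℂ) • th (r - 1) j from
        funext (th_add_half D.two_le (m_mul_half D) j), map_smul, mul_assoc]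
      rfl
  obtain ⟨F, f, hq, hF⟩ := X.exists_quad h hM hB
  have h2 := h1 (2 * zq n)
  rw [if_pos (ev_two_mul D.two_le _), mul_one] at h2
  have h3 := fun χ (hχ : χ ∈ Set.range F) =>
    h2.of_inner hz D.orderOf_z (hq.inner_ne_zero_iff.2 hχ)
  rcases (h3 _ ⟨0, rfl⟩).2 with rfl | rfl
  · simpa using h1 j
  · exact absurd (fun ψ h4 h5 => (h3 ψ ((hF ψ).2 ⟨h4, h5⟩)).1) (not_forall_odd h hM hz hB)

omit hz in
theorem rg_ne_zero (hχ : χ ∈ B) (h0 : blockHeight 2 B (χ : G → ℂ) = 0) (hψ : ψ ∈ B) :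
    rg M P e ψ χ ≠ 0 := fun h1 => by
  have h2 := (h.val_cm_eq_iff_of_major hM hB (one_mem P)
    (fun _ _ => mem_centralizer_singleton_iff.2 (by simp)) hχ hψ).2 h0
  rw [← h.conj_cm hM ψ.2.isClassFunction χ.2.isClassFunction, cm] at h2
  simp only [h1, mul_zero, map_zero] at h2
  exact (pow_pos (val_prime_pos hM) _).ne h2

end

theorem YGood.exists_row (hY : YGood M P e F f Y η) (h : IsMax 2 ⊤ ⊤ (eBlk M B) P e)
    (hM : IsPModular 2 M) (hq : Quad b F f) (hb : prj 2 M P e Y b = 0) :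
    ∃ j : Fin 4, ∀ k ≠ 0, k ≠ j → prj 2 M P e Y (f 0 + f k) = 0 := by
  choose m hm using hY.ent
  have h1 : ∀ k, m 0 k = -η → prj 2 M P e Y (f 0 + f k) = 0 := fun k hk => by
    refine (h.prj_eq_zero_iff hM ((hq.sg 0).cls.add (hq.sg k).cls)).2 ?_
    have h2 : m k 0 = m 0 k := by
      have h3 := congrArg conj (hm 0 k).1
      rw [map_mul, conj_classInner, ← h.classInner_prj_left hM (hq.sg k).cls (hq.sg 0).cls,
        map_ofNat, (hm k 0).1, map_intCast] at h3
      exact_mod_cast h3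
    have h3 := (hm 0 0).1; have h4 := (hm 0 k).1; have h5 := (hm k 0).1; have h6 := (hm k k).1
    rw [(hm 0 0).2.2 rfl] at h3
    rw [(hm k k).2.2 rfl] at h6
    rw [h2, hk] at h5
    rw [hk] at h4
    simp only [map_add, classInner_add_left, classInner_add_right]
    push_cast at *
    linear_combination (h3 + h4 + h5 + h6) / 4
  have h2 : m 0 0 + m 0 1 + m 0 2 + m 0 3 = 0 := by
    have h3 := h.classInner_prj_left hM (S := Y) (hq.sg 0).cls hq.gen.isClassFunction
    rw [hb, classInner_zero_right, ← hq.sum, classInner_sum_right, Fin.sum_univ_four] at h3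
    have : ((m 0 0 + m 0 1 + m 0 2 + m 0 3 : ℤ) : ℂ) = 0 := by
      push_cast
      linear_combination 4 * h3 - (hm 0 0).1 - (hm 0 1).1 - (hm 0 2).1 - (hm 0 3).1
    exact_mod_cast this
  have h3 : ∀ k, m 0 k = η ∨ m 0 k = -η := fun k => by
    refine sq_eq_sq_iff_eq_or_eq_neg.1 ((hm 0 k).2.1.trans ?_)
    rcases Nat.le_one_iff_eq_zero_or_eq_one.1 hY.le with rfl | rfl <;> simp
  rw [(hm 0 0).2.2 rfl] at h2
  have h4 : ∀ j : Fin 4, (∀ k ≠ 0, k ≠ j → m 0 k = -η) →
      ∃ j : Fin 4, ∀ k ≠ 0, k ≠ j → prj 2 M P e Y (f 0 + f k) = 0 := fun j hj =>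
    ⟨j, fun k h5 h6 => h1 k (hj k h5 h6)⟩
  rcases h3 1 with a1 | a1 <;> rcases h3 2 with a2 | a2 <;> rcases h3 3 with a3 | a3 <;>
    first
    | (refine h4 1 fun k _ _ => ?_; fin_cases k <;> simp_all <;> omega)
    | (refine h4 2 fun k _ _ => ?_; fin_cases k <;> simp_all <;> omega)
    | (refine h4 3 fun k _ _ => ?_; fin_cases k <;> simp_all)

/-- The even characters of the block. -/
structure EvData (M : Ideal AlgInt) (D : MC P n r d) (e : (resField M)[G])
    (B : Set (IrrCharacter G)) (b : G → ℂ) (F : Fin 4 → IrrCharacter G) (f : Fin 4 → G → ℂ)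
    (R : Finset (ZMod (2 ^ n))) (x : ZMod (2 ^ n) → G → ℂ)
    (χ : ZMod (2 ^ n) → IrrCharacter G) : Prop where
  quad : Quad b F f
  ht : ∀ χ, χ ∈ Set.range F ↔ χ ∈ B ∧ blockHeight 2 B (χ : G → ℂ) = 0
  card : R.card + 1 = 2 ^ (n - 2)
  sg : ∀ j ∈ R, Sg (x j) (χ j)
  mem : ∀ j ∈ R, χ j ∈ B
  notMem : ∀ j ∈ R, χ j ∉ Set.range F
  inj : Set.InjOn χ R
  par_f : ∀ i, Par (D.a (2 * zq n)) 1 (f i)
  par_x : ∀ j ∈ R, Par (D.a (2 * zq n)) 1 (x j)
  all : ∀ ψ ∈ B, Par (D.a (2 * zq n)) 1 ψ → ψ ∈ Set.range F ∨ ∃ j ∈ R, χ j = ψ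
  prj_b : prj 2 M P e (xs D) b = b
  prj_a : ∀ j ∈ R, prj 2 M P e (xs D) (x j + (f 0 + f 1)) = x j + (f 0 + f 1)
  test : ∀ α, IsClassFunction G α → Par (D.a (2 * zq n)) 1 α → classInner α b = 0 →
    (∀ j ∈ R, classInner α (x j + (f 0 + f 1)) = 0) → prj 2 M P e (xs D) α = 0
  y0 : prj 2 M P e (y0 D e) (f 0 + f 1) = 0
  y1 : prj 2 M P e (y1 D e) (f 0 + f 1) = 0

section

variable (h : IsMax 2 ⊤ ⊤ (eBlk M B) P e) (hM : IsPModular 2 M)
include h hM

theorem prj_y0_of_xc (hα : IsClassFunction G α) (hS : S ⊆ Set.range D.a)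
    (h1 : prj 2 M P e S α = α) : prj 2 M P e (y0 D e) α = 0 := by
  rw [← h1]
  exact prj_prj_of_disj hM hα fun v hv h2 h3 => disj_y0 D h hM v hv (h3.mono hS) h2

theorem prj_y1_of_xc (hα : IsClassFunction G α) (hS : S ⊆ Set.range D.a)
    (h1 : prj 2 M P e S α = α) : prj 2 M P e (y1 D e) α = 0 := by
  rw [← h1]
  exact prj_prj_of_disj hM hα fun v hv h2 h3 =>
    disj_y1 D h hM v hv (h3.mono (hS.trans Set.subset_union_left)) h2

theorem prj_one_of_xc (hα : IsClassFunction G α) (hS : S ⊆ xc D)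
    (h1 : prj 2 M P e S α = α) : prj 2 M P e {1} α = 0 := by
  rw [← h1]
  exact prj_prj_of_disj hM hα fun v hv h2 h3 => disj_one D h hM v hv h2 (h3.mono hS)

theorem exists_evData (hz : ∀ g, g * D.a (2 * zq n) = D.a (2 * zq n) * g) (hB : IsPBlock M B)
    (h5 : n = 4 → 5 < {χ ∈ B | Par (D.a (2 * zq n)) 1 (χ : G → ℂ)}.ncard) :
    ∃ b F f R x χ, EvData M D e B b F f R x χ := by
  classical
  obtain ⟨τ, X⟩ := exists_xData D h hM
  obtain ⟨F, f, hq, hF⟩ := X.exists_quad h hM hB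
  have hm := m_mul_m D
  have hm' := m_mul_half D
  have hev := ev_two_mul D.two_le (zq n)
  obtain ⟨R, hR, hcov, hdis, hcard⟩ := exists_transversal
    (((Finset.univ.filter Ev).erase (2 * zq n)).erase 0) (fun j => (r - 1) * j) (fun j hj => by
      simp only [Finset.mem_erase, Finset.mem_filter, Finset.mem_univ, true_and] at hj ⊢
      exact ⟨fun h => hj.1 (by linear_combination (r - 1) * h - j * hm), fun h => hj.2.1
        (by linear_combination (r - 1) * h - j * hm + hm'), (ev_mul_iff hm').2 hj.2.2⟩)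
    (fun j => by simp only [← mul_assoc, hm, one_mul]) fun j hj h => by
      simp only [Finset.mem_erase] at hj
      exact ((m_mul_eq_iff D).1 h).elim hj.1 hj.2.1
  have hR' : ∀ j ∈ R, j ≠ 0 ∧ j ≠ 2 * zq n ∧ Ev j := fun j hj => by simpa using hR hj
  have hcard' : R.card + 1 = 2 ^ (n - 2) := by
    rw [Finset.card_erase_of_mem (by simpa [Ev] using D.h2.symm),
      Finset.card_erase_of_mem (by simpa using hev), (card_ev D.two_le).1] at hcard
    have h1 : 2 ^ (n - 1) = 2 * 2 ^ (n - 2) := by rw [← pow_succ']; congr 1; have := D.two_le; omega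
    have : 0 < 2 ^ (n - 2) := by positivity
    omega
  have hg : ∀ i ∈ R, ∀ j ∈ R, classInner (τ (th (r - 1) i)) (τ (th (r - 1) j)) =
      (if i = j then 1 else 0) + 2 := fun i hi j hj => by
    rw [X.inner_th, zIn_th_ev D (hR' i hi).2.2 (hR' j hj).2.2 (hR' i hi).1 (hR' j hj).1,
      if_neg (c := i = (r - 1) * j) fun h => hdis j hj (h ▸ hi), add_zero]
  have ht : ∀ j, ∃ x χ k σ, j ∈ R → Trip F f (τ (th (r - 1) j)) x χ k σ := fun j => by
    by_cases hj : j ∈ R
    · obtain ⟨x, χ, k, σ, t⟩ := hq.exists_trip (X.gen j) (by rw [hg j hj j hj]; norm_num) (by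
        rw [X.inner_th, zIn_th_ev D (hR' j hj).2.2 hev (hR' j hj).1 D.h2, hm', if_neg (hR' j hj).2.1]
        norm_num)
      exact ⟨x, χ, k, σ, fun _ => t⟩
    · exact ⟨0, F 0, 0, true, fun h => absurd h hj⟩
  choose x χ k σ t using ht
  have hx : ∀ j ∈ R, classInner (τ (th (r - 1) j)) (χ j) ≠ 0 := fun j hj => by
    rw [Ne, ← (t j hj).sg.inner_eq_zero, (t j hj).eq, classInner_add_left, (t j hj).sg.inner_self,
      (hq.gen_pr _ _).classInner_comm (t j hj).sg.gen,
      hq.inner_pr_of_notMem (t j hj).sg (t j hj).notMem]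
    norm_num
  have hpar : ∀ j, Ev j → Par (D.a (2 * zq n)) 1 (τ (th (r - 1) j)) := fun j hj => by
    simpa [hj] using X.par_th h hM hz hB j
  have hpf : ∀ i, Par (D.a (2 * zq n)) 1 (f i) := fun i => (hq.sg i).par.2
    ((hpar _ hev).of_inner hz D.orderOf_z (hq.inner_ne_zero_iff.2 ⟨i, rfl⟩)).1
  have htest : ∀ α, IsClassFunction G α → Par (D.a (2 * zq n)) 1 α →
      classInner α (τ (th (r - 1) (2 * zq n))) = 0 →
      (∀ j ∈ R, classInner α (τ (th (r - 1) j)) = 0) → prj 2 M P e (xs D) α = 0 :=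
    fun α hα h1 h2 h3 => X.prj_eq_zero h hM hα fun j => by
      by_cases hj : Ev j
      · by_cases h4 : j = 0
        · rw [h4, th_zero, map_zero, classInner_zero_right]
        by_cases h6 : j = 2 * zq n
        · rwa [h6]
        rcases hcov j (by simp [h4, h6, hj]) with h7 | h7
        · exact h3 j h7
        · rw [← th_mul hm hm']; exact h3 _ h7
      · exact h1.inner_eq_zero (by simpa [hj] using X.par_th h hM hz hB j)
  have g0 := yGood0 D h hM hB hq hF
  have g1 := yGood1 D h hM hB hq hF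
  have hall : ∀ ψ ∈ B, Par (D.a (2 * zq n)) 1 ψ → ψ ∈ Set.range F ∨ ∃ j ∈ R, χ j = ψ := by
    intro ψ hψ h1
    by_contra! h2
    have hc := ψ.2.isClassFunction
    have h3 := inner_split h hM hz hB hc (blockPart_irr_of_mem hψ) (Or.inl rfl) h1
      ((hq.sg 0).par.1 (hpf 0))
    rw [g0.pos ψ h2.1, g1.pos ψ h2.1, htest ψ hc h1 (by
      rw [ψ.2.isGeneralizedCharacter.classInner_comm (X.gen _)]
      exact not_not.1 (mt hq.inner_ne_zero_iff.1 h2.1)) fun j hj => by
      rw [(t j hj).eq, classInner_add_right, hq.inner_pr_of_notMem (sg_self ψ) h2.1,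
        (sg_self ψ).inner_of_ne (t j hj).sg (h2.2 j hj).symm, add_zero],
      (sg_self ψ).inner_of_ne (sg_self _) fun h => h2.1 ⟨0, h.symm⟩] at h3
    exact rg_ne_zero h hM hB ((hF _).1 ⟨0, rfl⟩).1 ((hF _).1 ⟨0, rfl⟩).2 hψ
      (by simpa [classInner_zero_left] using h3.symm)
  have hinj : Set.InjOn χ R := by
    refine (hq.embed (κ := fun _ => ()) t (X.apply_one _) (fun j _ => X.apply_one j)
      (fun i hi j hj h1 => by rw [hg i hi j hj, if_neg h1]; simp) fun i _ h1 => ?_).resolve_right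
      fun ⟨h1, h2, _⟩ => ?_
    · rw [Finset.filter_true_of_mem (by simp)] at h1
      have : 2 ^ (n - 2) = 3 := by omega
      rcases hn : n - 2 with _ | k <;> rw [hn] at this <;> omega
    · have h3 : n = 4 := by
        have h4 : 2 ^ (n - 2) = 2 ^ 2 := by omega
        have := Nat.pow_right_injective le_rfl h4
        omega
      obtain ⟨j, hj⟩ := Finset.card_pos.1 (show 0 < R.card by omega)
      refine (h5 h3).not_ge ((Set.ncard_le_ncard (t := insert (χ j) (Set.range F))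
        fun ψ hψ => ?_).trans ((Set.ncard_insert_le _ _).trans ?_))
      · rcases hall ψ hψ.1 hψ.2 with h4 | ⟨i, hi, rfl⟩
        exacts [Or.inr h4, Or.inl (h2 i hi j hj).2.1]
      · rw [Set.ncard_range_of_injective hq.inj]; simp
  have hsub : xs D ⊆ Set.range D.a := Set.image_subset_range _ _
  have hb := X.prj_eq _ (adm_th' D (2 * zq n))
  obtain ⟨k₀, σ₀, hk₀, h1, h2, h3⟩ : ∃ k₀ σ₀, k₀ ≠ 0 ∧ (∀ j ∈ R, k j = k₀ ∧ σ j = σ₀) ∧
      prj 2 M P e (y0 D e) (pr f k₀ σ₀) = 0 ∧ prj 2 M P e (y1 D e) (pr f k₀ σ₀) = 0 := by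
    rcases R.eq_empty_or_nonempty with rfl | ⟨j, hj⟩
    · obtain ⟨j0, h0⟩ := g0.exists_row h hM hq (prj_y0_of_xc h hM (X.cls _) hsub hb)
      obtain ⟨j1, h1⟩ := g1.exists_row h hM hq (prj_y1_of_xc h hM (X.cls _) hsub hb)
      obtain ⟨k, h2, h3, h4⟩ := (by decide : ∀ j0 j1 : Fin 4, ∃ k ≠ 0, k ≠ j0 ∧ k ≠ j1) j0 j1
      exact ⟨k, true, h2, by simp, h0 k h2 h3, h1 k h2 h4⟩
    · have h1 := X.prj_eq _ (adm_th' D j)
      have h2 := prj_y0_of_xc h hM (X.cls _) hsub h1
      have h3 := prj_y1_of_xc h hM (X.cls _) hsub h1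
      rw [(t j hj).eq, map_add, (t j hj).sg.map_eq_zero.2 (g0.pos _ (t j hj).notMem), zero_add] at h2
      rw [(t j hj).eq, map_add, (t j hj).sg.map_eq_zero.2 (g1.pos _ (t j hj).notMem), zero_add] at h3
      refine ⟨k j, σ j, (t j hj).ne, fun i hi => ?_, h2, h3⟩
      by_cases h4 : i = j
      · simp [h4]
      · exact ((hq.trip_two (t i hi) (t j hj) (by rw [hg i hi j hj, if_neg h4]; simp)).resolve_right
          fun h => h4 (hinj hi hj h.1)).2
  obtain ⟨π, hπ⟩ := exists_perm_pr (G := G) hk₀ σ₀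
  have heq : ∀ j ∈ R, x j + (f (π 0) + f (π 1)) = τ (th (r - 1) j) := fun j hj => by
    rw [(t j hj).eq, (h1 j hj).1, (h1 j hj).2, hπ]
  have hr : Set.range (F ∘ π) = Set.range F := π.surjective.range_comp F
  refine ⟨_, F ∘ π, f ∘ π, R, x, χ, hq.comp π, hr ▸ hF, hcard', fun j hj => (t j hj).sg,
    fun j hj => X.mem_of_inner h hM hB (hx j hj), fun j hj => hr ▸ (t j hj).notMem, hinj,
    fun i => hpf _, fun j hj => (t j hj).sg.par.2
      ((hpar j (hR' j hj).2.2).of_inner hz D.orderOf_z (hx j hj)).1, hr ▸ hall, hb,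
    fun j hj => ?_, fun α hα h4 h5 h6 => htest α hα h4 h5 fun j hj => heq j hj ▸ h6 j hj,
    hπ f ▸ h2, hπ f ▸ h3⟩
  exact (heq j hj).symm ▸ X.prj_eq _ (adm_th' D j)

theorem EvData.exists_odd {R : Finset (ZMod (2 ^ n))} {x : ZMod (2 ^ n) → G → ℂ}
    {χ : ZMod (2 ^ n) → IrrCharacter G} (E : EvData M D e B b F f R x χ)
    (hz : ∀ g, g * D.a (2 * zq n) = D.a (2 * zq n) * g) (hB : IsPBlock M B) :
    ∃ O : Set (IrrCharacter G), (∀ σ ∈ O, σ ∈ B ∧ Par (D.a (2 * zq n)) (-1) σ ∧ 3 ≤ n ∧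
      2 * 2 ^ (n - 2) * rg M P e σ σ = 1) ∧ (3 ≤ n → O.Nonempty) ∧
      ∀ ρ ∈ B, Par (D.a (2 * zq n)) (-1) ρ → ρ ∉ O →
        2 * rg M P e ρ ρ = 1 ∧ ∀ σ ∈ O, rg M P e ρ σ = 0 := by
  classical
  obtain ⟨τ, X⟩ := exists_xData D h hM
  have hm := m_mul_m D
  have hm' := m_mul_half D
  obtain ⟨T, hT, hcov, hdis, hcard⟩ := exists_transversal
    (Finset.univ.filter fun j => ¬ Ev j) (fun j => (r - 1) * j)
    (fun j hj => by simpa [ev_mul_iff hm'] using hj)
    (fun j => by simp only [← mul_assoc, hm, one_mul]) fun j hj h => by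
      rcases (m_mul_eq_iff D).1 h with rfl | rfl
      · exact (Finset.mem_filter.1 hj).2 (zero_mul _)
      · simp [ev_two_mul D.two_le] at hj
  have hT' : ∀ j ∈ T, ¬ Ev j := fun j hj => by simpa using hT hj
  have hcard' : T.card = 2 ^ (n - 2) := by
    rw [(card_ev D.two_le).2] at hcard
    have h1 : 2 ^ (n - 1) = 2 * 2 ^ (n - 2) := by rw [← pow_succ']; congr 1; have := D.two_le; omega
    omega
  obtain ⟨i₀, hi₀, h0, h0'⟩ : ∃ i₀ ∈ T, th (r - 1) i₀ = 0 ∧
      ∀ j ∈ T, j ≠ i₀ → j ≠ 1 ∧ j ≠ r - 1 := by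
    rcases hcov 1 (by simpa using not_ev_one D.two_le) with h1 | h1
    · exact ⟨1, h1, th_one D.two_le, fun j hj h2 => ⟨h2, fun h3 => hdis 1 h1 (by simpa [h3] using hj)⟩⟩
    · exact ⟨_, h1, by rw [th_mul hm hm', th_one D.two_le], fun j hj h2 =>
        ⟨fun h3 => hdis j hj (h3 ▸ h1), by simpa using h2⟩⟩
  obtain ⟨ε, hε, μ, hμ, hτ⟩ := exc_isometry (I := T) ⟨i₀, hi₀⟩ (fun j => τ (th (r - 1) j))
    (by simp [h0]) (fun j => X.gen j) (fun j => X.apply_one j) fun i j hi hj => by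
      obtain ⟨a1, a2⟩ := h0' i i.2 fun h => hi (Subtype.ext h)
      obtain ⟨a3, a4⟩ := h0' j j.2 fun h => hj (Subtype.ext h)
      rw [X.inner_th, zIn_th_odd D (hT' i i.2) (hT' j j.2) a1 a2 a3 a4,
        if_neg (c := i.1 = (r - 1) * j) fun h => hdis j j.2 (h ▸ i.2)]
      by_cases h : i = j <;> simp [h, Subtype.ext_iff.symm]
      norm_num
  have hε' : ε ≠ 0 := by rcases hε with rfl | rfl <;> simp
  have hpar : ∀ j ∈ T, Par (D.a (2 * zq n)) (-1) (τ (th (r - 1) j)) := fun j hj => by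
    simpa [hT' j hj] using X.par_th h hM hz hB j
  have htest : ∀ α, IsClassFunction G α → Par (D.a (2 * zq n)) (-1) α →
      (∀ j ∈ T, classInner α (τ (th (r - 1) j)) = 0) → prj 2 M P e (xs D) α = 0 :=
    fun α hα h1 h3 => X.prj_eq_zero h hM hα fun j => by
      by_cases hj : Ev j
      · exact h1.inner_eq_zero' (by simpa [hj] using X.par_th h hM hz hB j)
      · rcases hcov j (by simp [hj]) with h7 | h7
        · exact h3 j h7
        · rw [← th_mul hm hm']; exact h3 _ h7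
  have g0 := yGood0 D h hM hB E.quad E.ht
  have g1 := yGood1 D h hM hB E.quad E.ht
  have hF : ∀ ρ : IrrCharacter G, Par (D.a (2 * zq n)) (-1) ρ → ρ ∉ Set.range F := by
    rintro _ h1 ⟨i, rfl⟩
    exact ((E.quad.sg i).par.1 (E.par_f i)).not_odd h1
  let O : Set (IrrCharacter G) := {σ | ∃ j ∈ T, classInner (τ (th (r - 1) j)) σ ≠ 0}
  have hO : ∀ σ ∈ O, σ ∈ B ∧ Par (D.a (2 * zq n)) (-1) σ := fun σ ⟨j, hj, h1⟩ =>
    ⟨X.mem_of_inner h hM hB h1, ((hpar j hj).of_inner hz D.orderOf_z h1).1⟩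
  have hO1 : ∀ j : T, j ≠ ⟨i₀, hi₀⟩ → μ j ∈ O ∧ μ ⟨i₀, hi₀⟩ ∈ O := fun j hj =>
    ⟨⟨j, j.2, by simp [hτ j, classInner_smul_left, classInner_sub_left, classInner_irr, hε',
      hμ.eq_iff, hj.symm]⟩, j, j.2, by
      simp [hτ j, classInner_smul_left, classInner_sub_left, classInner_irr, hε', hμ.eq_iff, hj]⟩
  refine ⟨O, fun σ hσ => ⟨(hO σ hσ).1, (hO σ hσ).2, ?_⟩, fun hn => ?_, fun ρ hρ h1 h2 => ?_⟩
  · obtain ⟨j, hj, h1⟩ := hσ
    have h2 : (⟨j, hj⟩ : T) ≠ ⟨i₀, hi₀⟩ := fun h2 => h1 (by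
      rw [show j = i₀ from congrArg Subtype.val h2, h0, map_zero, classInner_zero_left])
    have h3 : ∀ i, μ i ∈ O := fun i => by
      by_cases h3 : i = ⟨i₀, hi₀⟩
      exacts [h3 ▸ (hO1 _ h2).2, (hO1 i h3).1]
    obtain ⟨i, rfl⟩ : ∃ i, μ i = σ := by
      by_contra! h4
      simp [hτ ⟨j, hj⟩, classInner_smul_left, classInner_sub_left, classInner_irr, h4] at h1
    have h4 : 1 < T.card := Finset.one_lt_card.2 ⟨j, hj, i₀, hi₀, fun h => h2 (Subtype.ext h)⟩
    refine ⟨by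
      by_contra h5
      rw [hcard', show n - 2 = 0 by omega] at h4
      omega, ?_⟩
    have hc : IsClassFunction G (∑ k, (μ k : G → ℂ)) :=
      isClassFunction_sum _ _ fun k _ => (μ k).2.isClassFunction
    have hp := par_sum Finset.univ fun k _ => (hO _ (h3 k)).2
    have h5 := inner_split h hM hz hB hc (by
      rw [blockPart_sum]; exact Finset.sum_congr rfl fun k _ => blockPart_irr_of_mem (hO _ (h3 k)).1)
      (Or.inr rfl) hp (hO _ (h3 i)).2
    have h6 : ∀ k, prj 2 M P e {1} (μ k) = prj 2 M P e {1} (μ ⟨i₀, hi₀⟩) := fun k => by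
      have h6 := prj_one_of_xc h hM (X.cls _) (xs_subset_xc D) (X.prj_eq _ (adm_th' D k))
      rwa [hτ k, map_smul, smul_eq_zero_iff_right hε', map_sub, sub_eq_zero] at h6
    rw [htest _ hc hp fun k hk => by
      simp [hτ ⟨k, hk⟩, classInner_smul_right, classInner_sub_right, classInner_sum_left,
        classInner_irr, hμ.eq_iff]] at h5
    have h7 : prj 2 M P e {1} (∑ k, (μ k : G → ℂ)) =
        (2 ^ (n - 2) : ℂ) • prj 2 M P e {1} (μ i) := by
      rw [map_sum, Finset.sum_congr rfl fun k _ => (h6 k).trans (h6 i).symm, Finset.sum_const,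
        Finset.card_univ, Fintype.card_coe, hcard', ← Nat.cast_smul_eq_nsmul ℂ]
      norm_num
    rw [rg, h7, classInner_smul_left] at h5
    simp only [map_sum, g0.pos _ (hF _ (hO _ (h3 _)).2), g1.pos _ (hF _ (hO _ (h3 _)).2),
      classInner_sum_left, classInner_irr, hμ.eq_iff, classInner_zero_left, Finset.sum_ite_eq',
      Finset.mem_univ, if_true, Finset.sum_const_zero] at h5
    linear_combination -h5
  · obtain ⟨j, hj, h1⟩ := Finset.exists_mem_ne (s := T) (by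
      rw [hcard']; exact Nat.one_lt_two_pow (by omega)) i₀
    exact ⟨_, (hO1 ⟨j, hj⟩ fun h => h1 (congrArg Subtype.val h)).1⟩
  · have hc := ρ.2.isClassFunction
    have h3 := fun β => inner_split h hM hz hB (β := β) hc (blockPart_irr_of_mem hρ) (Or.inr rfl) h1
    simp only [g0.pos _ (hF _ h1), g1.pos _ (hF _ h1), htest _ hc h1 fun j hj => by
      rw [ρ.2.isGeneralizedCharacter.classInner_comm (X.gen _)]
      exact not_not.1 fun h => h2 ⟨j, hj, h⟩, classInner_zero_left, add_zero] at h3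
    refine ⟨by rw [← h3 _ h1, classInner_irr, if_pos rfl], fun σ hσ => ?_⟩
    have h4 := h3 _ (hO σ hσ).2
    rw [classInner_irr, if_neg (by rintro rfl; exact h2 hσ)] at h4
    simpa using h4.symm

end

end CL.Blk.MCB
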