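/-
2-blocks with defect groups of maximal class whose central involution is central in the group:
restrictions to the regular elements.
-/
import Cfsg.Agent.Blk.MCEv

set_option autoImplicit false
set_option linter.unusedSectionVars false
set_option linter.style.haveILetI false

namespace CL.Blk.MCB

open MonoidAlgebra Cfsg CL.Char CL.Grp CL.Blk.Rk CL.Blk.Pair CL.Inv Subgroup
open scoped ComplexConjugate

variable {G : Type*} [Group G] [Fintype G] {M : Ideal AlgInt} {P : Subgroup G} {n : ℕ}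
  {r d : ZMod (2 ^ n)} {D : MC P n r d} {e : (resField M)[G]} {B : Set (IrrCharacter G)}
  {α β b s : G → ℂ} {ψ ρ : IrrCharacter G} {F : Fin 4 → IrrCharacter G} {f : Fin 4 → G → ℂ}
  {Y : Set G} {η : ℕ} {R : Finset (ZMod (2 ^ n))} {x : ZMod (2 ^ n) → G → ℂ}
  {χ : ZMod (2 ^ n) → IrrCharacter G} {k k' : Fin 4}

/-- The weights. -/
noncomputable def wt (n : ℕ) (k : Fin 4) : ℂ := if k = 1 then 2 ^ (n - 2) else 1

theorem wt_ne_zero (n : ℕ) (k : Fin 4) : wt n k ≠ 0 := by unfold wt; split_ifs <;> simp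

theorem conj_wt (n : ℕ) (k : Fin 4) : conj (wt n k) = wt n k := by
  unfold wt; split_ifs <;> simp [map_ofNat]

/-- The signs. -/
def sn (k i : Fin 4) : ℤ := if i = 0 ∨ i = k then 1 else -1

/-- The orthogonal basis of the complement of the image of the isometry. -/
noncomputable def uu (b : G → ℂ) (f : Fin 4 → G → ℂ) (R : Finset (ZMod (2 ^ n)))
    (x : ZMod (2 ^ n) → G → ℂ) (k : Fin 4) : G → ℂ :=
  f 0 + f k - (1 / 2 : ℂ) • b - if k = 1 then ∑ j ∈ R, x j else 0

theorem exists_of_sum_sq_four (t : Fin 4 → ℤ) (c : Fin 4 → ℕ) (hc : ∀ k, c k ≤ 1)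
    (h2 : 2 ∣ t 1 - t 2) (h3 : 2 ∣ t 1 - t 3)
    (h : (1 - c 1) * t 1 ^ 2 + (1 - c 2) * t 2 ^ 2 + (1 - c 3) * t 3 ^ 2 = 4) :
    ∃ k ≠ 0, c k = 0 ∧ (t k = 2 ∨ t k = -2) ∧ ∀ l ≠ 0, l ≠ k → c l = 1 ∨ t l = 0 := by
  have h1 : ∀ k, (c k = 1 ∧ (1 - c k) * t k ^ 2 = 0) ∨ (c k = 0 ∧ ((t k = 0 ∧
      (1 - c k) * t k ^ 2 = 0) ∨ (¬ 2 ∣ t k ∧ (1 - c k) * t k ^ 2 = 1) ∨ ((t k = 2 ∨ t k = -2) ∧
      (1 - c k) * t k ^ 2 = 4) ∨ 4 < (1 - c k) * t k ^ 2)) := fun k => by
    rcases Nat.le_one_iff_eq_zero_or_eq_one.1 (hc k) with h | h <;> simp only [h]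
    · rcases le_or_gt (t k) (-3) with h | h
      · simp; right; right; right; nlinarith
      rcases le_or_gt 3 (t k) with h' | h'
      · simp; right; right; right; nlinarith
      interval_cases t k <;> simp
    · simp
  have h0 : ∀ k, 0 ≤ (1 - c k : ℤ) * t k ^ 2 := fun k =>
    mul_nonneg (by have := hc k; omega) (sq_nonneg _)
  have := h0 1; have := h0 2; have := h0 3
  have h4 : ∀ k ≠ 0, (c k = 0 ∧ (t k = 2 ∨ t k = -2)) → (∀ l ≠ 0, l ≠ k → c l = 1 ∨ t l = 0) →
      ∃ k ≠ 0, c k = 0 ∧ (t k = 2 ∨ t k = -2) ∧ ∀ l ≠ 0, l ≠ k → c l = 1 ∨ t l = 0 :=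
    fun k a b c => ⟨k, a, b.1, b.2, c⟩
  have a1 := h1 1; have a2 := h1 2; have a3 := h1 3
  generalize (1 - c 1 : ℤ) * t 1 ^ 2 = q1 at *
  generalize (1 - c 2 : ℤ) * t 2 ^ 2 = q2 at *
  generalize (1 - c 3 : ℤ) * t 3 ^ 2 = q3 at *
  by_cases b1 : q1 = 4
  · exact h4 1 (by decide) (by omega) fun l _ _ => by fin_cases l <;> simp_all <;> omega
  by_cases b2 : q2 = 4
  · exact h4 2 (by decide) (by omega) fun l _ _ => by fin_cases l <;> simp_all <;> omega
  · exact h4 3 (by decide) (by omega) fun l _ _ => by fin_cases l <;> simp_all <;> omega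

namespace EvData

variable (E : EvData M D e B b F f R x χ)
include E

theorem cls_g (k : Fin 4) : IsClassFunction G (f 0 + f k) := (E.quad.sg 0).cls.add (E.quad.sg k).cls

theorem cls_u (k : Fin 4) : IsClassFunction G (uu b f R x k) := by
  refine ((E.cls_g k).sub (E.quad.gen.isClassFunction.smul _)).sub ?_
  split_ifs
  exacts [isClassFunction_sum _ _ fun j hj => (E.sg j hj).cls, isClassFunction_zero]

theorem par_g (k : Fin 4) : Par (D.a (2 * zq n)) 1 (f 0 + f k) := (E.par_f 0).add (E.par_f k)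

theorem par_u (k : Fin 4) : Par (D.a (2 * zq n)) 1 (uu b f R x k) := by
  refine ((E.par_g k).sub ((E.quad.sum ▸ par_sum _ fun i _ => E.par_f i).smul _)).sub ?_
  split_ifs
  exacts [par_sum _ E.par_x, fun _ => by simp]

theorem memF (i : Fin 4) : F i ∈ B := ((E.ht _).1 ⟨i, rfl⟩).1

theorem blockPart_u (k : Fin 4) : blockPart B (uu b f R x k) = uu b f R x k := by
  have h1 := fun i => (E.quad.sg i).blockPart (E.memF i)
  unfold uu
  rw [blockPart_sub, blockPart_sub, blockPart_add, blockPart_smul, ← E.quad.sum, blockPart_sum]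
  simp only [h1]
  split_ifs
  · rw [blockPart_sum, Finset.sum_congr rfl fun j hj => (E.sg j hj).blockPart (E.mem j hj)]
  · rw [blockPart_zero]

theorem inner_u_f (hk : k ≠ 0) (i : Fin 4) : classInner (uu b f R x k) (f i) = sn k i / 2 := by
  have h1 : classInner (if k = 1 then ∑ j ∈ R, x j else 0) (f i) = 0 := by
    split_ifs
    · rw [classInner_sum_left]
      exact Finset.sum_eq_zero fun j hj => E.quad.inner_of_notMem (E.sg j hj) (E.notMem j hj) i
    · exact classInner_zero_left _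
  simp only [uu, classInner_sub_left, classInner_add_left, classInner_smul_left, h1, E.quad.inner,
    E.quad.inner_left, sn]
  fin_cases k <;> fin_cases i <;> simp at hk ⊢ <;> norm_num

theorem inner_u_x {j : ZMod (2 ^ n)} (hj : j ∈ R) (k : Fin 4) :
    classInner (uu b f R x k) (x j) = if k = 1 then -1 else 0 := by
  have h1 := E.quad.inner_of_notMem' (E.sg j hj) (E.notMem j hj)
  simp only [uu, classInner_sub_left, classInner_add_left, classInner_smul_left, ← E.quad.sum,
    classInner_sum_left, h1]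
  split_ifs
  · rw [classInner_sum_left, Finset.sum_eq_single_of_mem j hj fun i hi h =>
      (E.sg i hi).inner_of_ne (E.sg j hj) fun h' => h (E.inj hi hj h'), (E.sg j hj).inner_self]
    simp
  · simp [classInner_zero_left]

theorem inner_u_g (hk : k ≠ 0) (hk' : k' ≠ 0) :
    classInner (uu b f R x k) (f 0 + f k') = if k = k' then 1 else 0 := by
  rw [classInner_add_right, E.inner_u_f hk, E.inner_u_f hk]
  by_cases h : k = k' <;> simp [sn, h, hk', eq_comm (a := k')] <;> norm_num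

theorem inner_u_b (hk : k ≠ 0) : classInner (uu b f R x k) b = 0 := by
  conv_lhs => rhs; rw [← E.quad.sum]
  simp only [classInner_sum_right, E.inner_u_f hk, sn]
  fin_cases k <;> simp [Fin.sum_univ_four] at hk ⊢ <;> norm_num

theorem prj_xs_u (hk : k ≠ 0) : prj 2 M P e (xs D) (uu b f R x k) = 0 :=
  E.test _ (E.cls_u k) (E.par_u k) (E.inner_u_b hk) fun j hj => by
    rw [classInner_add_right, E.inner_u_x hj, E.inner_u_g hk (by decide)]
    split_ifs <;> simp

variable (h : IsMax 2 ⊤ ⊤ (eBlk M B) P e) (hM : IsPModular 2 M)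
include h hM

theorem prj_one_b : prj 2 M P e {1} b = 0 :=
  prj_one_of_xc h hM E.quad.gen.isClassFunction (xs_subset_xc D) E.prj_b

theorem prj_one_a {j : ZMod (2 ^ n)} (hj : j ∈ R) : prj 2 M P e {1} (x j + (f 0 + f 1)) = 0 :=
  prj_one_of_xc h hM ((E.sg j hj).cls.add (E.cls_g 1)) (xs_subset_xc D) (E.prj_a j hj)

theorem prj_one_u (k : Fin 4) :
    prj 2 M P e {1} (uu b f R x k) = wt n k • prj 2 M P e {1} (f 0 + f k) := by
  rw [uu, map_sub, map_sub, map_smul, E.prj_one_b h hM, smul_zero, sub_zero, wt]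
  split_ifs with h1
  · rw [map_sum, Finset.sum_congr rfl fun j hj => eq_neg_of_add_eq_zero_left
      ((map_add _ _ _).symm.trans (E.prj_one_a h hM hj)), Finset.sum_const, h1,
      ← Nat.cast_smul_eq_nsmul ℂ, show (2 : ℂ) ^ (n - 2) = R.card + 1 by exact_mod_cast E.card.symm]
    module
  · simp

theorem prj_one_f (i : Fin 4) : (2 : ℂ) • prj 2 M P e {1} (f i) =
    (sn 1 i : ℂ) • prj 2 M P e {1} (f 0 + f 1) + (sn 2 i : ℂ) • prj 2 M P e {1} (f 0 + f 2) +
      (sn 3 i : ℂ) • prj 2 M P e {1} (f 0 + f 3) := by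
  have h1 := E.prj_one_b h hM
  simp only [← E.quad.sum, Fin.sum_univ_four, map_add] at h1 ⊢
  fin_cases i <;> simp [sn]
  exacts [by linear_combination (norm := module) -h1, by linear_combination (norm := module) h1,
    by linear_combination (norm := module) h1, by linear_combination (norm := module) h1]

theorem exists_coef (hY : YGood M P e F f Y η) (hb : prj 2 M P e Y b = 0)
    (h1 : prj 2 M P e Y (f 0 + f 1) = 0) : ∃ c : Fin 4 → ℕ, c 1 = 0 ∧ c 2 + c 3 = η ∧ ∀ k ≠ 0,
      prj 2 M P e Y (f 0 + f k) = (c k : ℂ) • uu b f R x k ∧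
      prj 2 M P e Y (uu b f R x k) = (c k : ℂ) • uu b f R x k := by
  choose m hm using hY.ent
  have hc := fun i => (E.quad.sg i).cls
  have hm' : ∀ i j, classInner (prj 2 M P e Y (f i)) (f j) = m i j / 4 := fun i j => by
    rw [← (hm i j).1]; ring
  have hs : ∀ i j, m j i = m i j := fun i j => by
    have h3 := congrArg conj (hm i j).1
    rw [map_mul, conj_classInner, ← h.classInner_prj_left hM (hc j) (hc i), map_ofNat, (hm j i).1,
      map_intCast] at h3
    exact_mod_cast h3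
  have h2 : ∀ i, m i 0 + m i 1 = 0 ∧ m i 0 + m i 1 + m i 2 + m i 3 = 0 := fun i => by
    have h2 := h.classInner_prj_left hM (S := Y) (hc i) (E.cls_g 1)
    have h3 := h.classInner_prj_left hM (S := Y) (hc i) E.quad.gen.isClassFunction
    rw [hb, ← E.quad.sum, classInner_sum_right, Fin.sum_univ_four] at h3
    rw [h1, classInner_add_right] at h2
    simp only [hm', classInner_zero_right, ← add_div, div_eq_zero_iff, OfNat.ofNat_ne_zero,
      or_false] at h2 h3
    exact ⟨by exact_mod_cast h2, by exact_mod_cast h3⟩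
  have h3 : ∀ k, prj 2 M P e Y (f 0 + f k) = ∑ j, (((m 0 j + m k j : ℤ) : ℂ) / 4) • f j := fun k => by
    rw [E.quad.expand (isClassFunction_prj hM (E.cls_g k) Y) fun χ hχ => by
      rw [h.classInner_prj_left hM (E.cls_g k) χ.2.isClassFunction, hY.pos χ hχ,
        classInner_zero_right]]
    simp only [map_add, classInner_add_left, hm', Int.cast_add, add_div]
  have h4 : ∀ k, prj 2 M P e Y (uu b f R x k) = prj 2 M P e Y (f 0 + f k) := fun k => by
    rw [uu, map_sub, map_sub, map_smul, hb, smul_zero, sub_zero, sub_eq_self]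
    split_ifs
    · rw [map_sum]
      exact Finset.sum_eq_zero fun j hj => (E.sg j hj).map_eq_zero.2 (hY.pos _ (E.notMem j hj))
    · exact map_zero _
  have d0 := (hm 0 0).2.2 rfl; have d2 := (hm 2 2).2.2 rfl; have d3 := (hm 3 3).2.2 rfl
  have a0 := h2 0; have a2 := h2 2; have a3 := h2 3
  have s2 := hs 0 2; have s3 := hs 0 3
  have h5 : m 0 2 = η ∨ m 0 2 = -η := by
    refine sq_eq_sq_iff_eq_or_eq_neg.1 ((hm 0 2).2.1.trans ?_)
    rcases Nat.le_one_iff_eq_zero_or_eq_one.1 hY.le with rfl | rfl <;> simp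
  have h6 : ∀ (k : Fin 4) (c : ℕ), k ≠ 1 → (∀ j, m 0 j + m k j = 2 * c * sn k j) → k ≠ 0 →
      prj 2 M P e Y (f 0 + f k) = (c : ℂ) • uu b f R x k := fun k c h6 h7 h8 => by
    simp only [h3, h7, uu, if_neg h6, ← E.quad.sum, Fin.sum_univ_four]
    fin_cases k <;> simp [sn] at h6 h8 ⊢ <;> module
  simp only [h4, and_self]
  rcases h5 with h5 | h5
  · refine ⟨![0, 0, η, 0], rfl, rfl, fun k hk => ?_⟩
    fin_cases k
    · exact absurd rfl hk
    · simpa using h1
    · exact h6 2 η (by decide) (fun j => by fin_cases j <;> simp [sn] <;> omega) hk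
    · exact h6 3 0 (by decide) (fun j => by fin_cases j <;> simp [sn] <;> omega) hk
  · refine ⟨![0, 0, 0, η], rfl, zero_add _, fun k hk => ?_⟩
    fin_cases k
    · exact absurd rfl hk
    · simpa using h1
    · exact h6 2 0 (by decide) (fun j => by fin_cases j <;> simp [sn] <;> omega) hk
    · exact h6 3 η (by decide) (fun j => by fin_cases j <;> simp [sn] <;> omega) hk

end EvData

/-- The form on the regular elements. -/
structure KeyData (M : Ideal AlgInt) (D : MC P n r d) (e : (resField M)[G]) (b : G → ℂ)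
    (f : Fin 4 → G → ℂ) (R : Finset (ZMod (2 ^ n))) (x : ZMod (2 ^ n) → G → ℂ)
    (c : Fin 4 → ℕ) : Prop where
  one : c 1 = 0
  le : ∀ k, c k ≤ 1
  sum : c 2 + c 3 = et0 D e + et1 D e
  prj_y : ∀ k ≠ 0, prj 2 M P e (y0 D e ∪ y1 D e) (f 0 + f k) = (c k : ℂ) • uu b f R x k
  rg : ∀ k ≠ 0, ∀ β, Par (D.a (2 * zq n)) 1 β →
    2 * wt n k * rg M P e (f 0 + f k) β = (1 - c k) * classInner (uu b f R x k) β

theorem EvData.exists_key (E : EvData M D e B b F f R x χ) (h : IsMax 2 ⊤ ⊤ (eBlk M B) P e)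
    (hM : IsPModular 2 M) (hz : ∀ g, g * D.a (2 * zq n) = D.a (2 * zq n) * g) (hB : IsPBlock M B) :
    ∃ c, KeyData M D e b f R x c := by
  have hsub : xs D ⊆ Set.range D.a := Set.image_subset_range _ _
  have hb := E.quad.gen.isClassFunction
  obtain ⟨c, c1, c2, c3⟩ := E.exists_coef h hM (yGood0 D h hM hB E.quad E.ht)
    (prj_y0_of_xc h hM hb hsub E.prj_b) E.y0
  obtain ⟨c', c1', c2', c3'⟩ := E.exists_coef h hM (yGood1 D h hM hB E.quad E.ht)
    (prj_y1_of_xc h hM hb hsub E.prj_b) E.y1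
  have hd : ∀ v ∈ P, Meets 2 P e (MCB.y0 D e) v → ¬ Meets 2 P e (MCB.y1 D e) v := fun v hv h1 =>
    disj_y1 D h hM v hv (h1.mono Set.subset_union_right)
  have h1 : ∀ k ≠ 0, c k + c' k ≤ 1 := fun k hk => by
    have h1 := prj_prj_of_disj hM (E.cls_u k) hd
    have h2 := congrArg (classInner · (f 0 + f k)) h1
    simp only [(c3' k hk).2, map_smul, (c3 k hk).2, classInner_smul_left, E.inner_u_g hk hk,
      classInner_zero_left, if_true, mul_one, mul_eq_zero, Nat.cast_eq_zero] at h2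
    have := (yGood0 D h hM hB E.quad E.ht).le
    have := (yGood1 D h hM hB E.quad E.ht).le
    fin_cases k <;> simp only [Fin.reduceFinMk, Fin.zero_eta, ne_eq, not_true] at hk h2 ⊢ <;> omega
  refine ⟨fun k => if k = 0 then 0 else c k + c' k, by simp [c1, c1'], fun k => ?_, by simp; omega,
    fun k hk => ?_, fun k hk β hβ => ?_⟩
  · split_ifs with hk
    exacts [zero_le_one, h1 k hk]
  · rw [prj_union hd, (c3 k hk).1, (c3' k hk).1, if_neg hk, Nat.cast_add, add_smul]
  · have h2 := inner_split h hM hz hB (E.cls_u k) (E.blockPart_u k) (Or.inl rfl) (E.par_u k) hβ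
    rw [E.prj_xs_u hk, (c3 k hk).2, (c3' k hk).2, MCB.rg, E.prj_one_u h hM] at h2
    simp only [classInner_smul_left, classInner_zero_left] at h2
    rw [if_neg hk, Nat.cast_add]
    linear_combination -h2

end CL.Blk.MCB
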