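/-
2-blocks with defect groups of maximal class whose central involution is central in the group:
the shape of the block.
-/
import Cfsg.Agent.Blk.MCKey

set_option autoImplicit false
set_option linter.unusedSectionVars false
set_option linter.style.haveILetI false

namespace CL.Blk.MCB

open MonoidAlgebra Cfsg CL.Char CL.Grp CL.Blk.Rk CL.Blk.Pair CL.Inv Subgroup
open scoped ComplexConjugate

variable {G : Type*} [Group G] [Fintype G] {M : Ideal AlgInt} {P : Subgroup G} {n : ℕ}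
  {r d : ZMod (2 ^ n)} {D : MC P n r d} {e : (resField M)[G]} {B : Set (IrrCharacter G)}
  {α β b : G → ℂ} {ψ ρ : IrrCharacter G} {F : Fin 4 → IrrCharacter G} {f : Fin 4 → G → ℂ}
  {R : Finset (ZMod (2 ^ n))} {x : ZMod (2 ^ n) → G → ℂ} {χ : ZMod (2 ^ n) → IrrCharacter G}
  {k k' : Fin 4} {c : Fin 4 → ℕ} {J : Finset (IrrCharacter G)} {s : IrrCharacter G → G → ℂ}
  {κ : IrrCharacter G → Fin 4}

theorem sum_block {A : Type*} [AddCommMonoid A] (hF : Function.Injective F) (hB : ∀ i, F i ∈ B)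
    (hJ : ∀ ψ, ψ ∈ J ↔ ψ ∈ B ∧ ψ ∉ Set.range F) [DecidablePred (· ∈ B)]
    (φ : IrrCharacter G → A) : ∑ χ with χ ∈ B, φ χ = ∑ i, φ (F i) + ∑ χ ∈ J, φ χ := by
  classical
  convert sum_split hF hB φ
  ext; simp [hJ]

theorem Quad.parseval (hq : Quad b F f) (hB : ∀ i, F i ∈ B)
    (hJ : ∀ ψ, ψ ∈ J ↔ ψ ∈ B ∧ ψ ∉ Set.range F) (hs : ∀ ψ ∈ J, Sg (s ψ) ψ)
    (hα : blockPart B α = α) (β : G → ℂ) : classInner α β =
      ∑ i, classInner α (f i) * conj (classInner β (f i)) +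
        ∑ ψ ∈ J, classInner α (s ψ) * conj (classInner β (s ψ)) := by
  classical
  nth_rw 1 [← hα]
  rw [classInner_blockPart_eq_sum, sum_block hq.inj hB hJ]
  simp only [(hq.sg _).inner_mul]
  rw [Finset.sum_congr rfl fun ψ hψ => (hs ψ hψ).inner_mul α β]

/-- The shape of a block whose defect group has maximal class and central involution `z`
central in the group. -/
structure Shape (M : Ideal AlgInt) (D : MC P n r d) (e : (resField M)[G])
    (B : Set (IrrCharacter G)) (b : G → ℂ) (F : Fin 4 → IrrCharacter G) (f : Fin 4 → G → ℂ)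
    (J : Finset (IrrCharacter G)) (s : IrrCharacter G → G → ℂ) (κ : IrrCharacter G → Fin 4) :
    Prop where
  quad : Quad b F f
  ht : ∀ χ, χ ∈ Set.range F ↔ χ ∈ B ∧ blockHeight 2 B (χ : G → ℂ) = 0
  memJ : ∀ ψ, ψ ∈ J ↔ ψ ∈ B ∧ ψ ∉ Set.range F
  sg : ∀ ψ ∈ J, Sg (s ψ) ψ
  ne : ∀ ψ ∈ J, κ ψ ≠ 0
  prj_b : prj 2 M P e (xc D) b = b
  prj_a : ∀ ψ ∈ J, prj 2 M P e (xc D) (s ψ + (f 0 + f (κ ψ))) = s ψ + (f 0 + f (κ ψ))
  complete : ∀ α, IsClassFunction G α → prj 2 M P e (xc D) α = α → classInner α b = 0 →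
    (∀ ψ ∈ J, classInner α (s ψ + (f 0 + f (κ ψ))) = 0) → α = 0
  htJ : ∀ ψ ∈ J, blockHeight 2 B (ψ : G → ℂ) = if κ ψ = 1 then 1 else n - 1
  card1 : (J.filter (κ · = 1)).card + 1 = 2 ^ (n - 1)
  card2 : ∀ k ≠ 1, (J.filter (κ · = k)).card ≤ 1
  card : J.card + et0 D e + et1 D e = 2 ^ (n - 1) + 1
  rank : blockRank 2 B + et0 D e + et1 D e = 3
  b_z : b (D.a (2 * zq n)) = 0
  ev : 3 ≤ n → ∃ ψ ∈ J, (s ψ + (f 0 + f (κ ψ))) (D.a (2 * zq n)) = 0
  od : 3 ≤ n → ∃ ψ ∈ J, (s ψ + (f 0 + f (κ ψ))) (D.a (2 * zq n)) ≠ 0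
  invol : ∀ ψ ∈ J, ∀ u, orderOf u = 2 → u ≠ D.a (2 * zq n) → s ψ u = 0

namespace EvData

variable (E : EvData M D e B b F f R x χ) (K : KeyData M D e b f R x c)
include E K

theorem rg_g_g (hk : k ≠ 0) (hk' : k' ≠ 0) : rg M P e (f 0 + f k) (f 0 + f k') =
    if k = k' then (1 - c k) / (2 * wt n k) else 0 := by
  have h1 := K.rg k hk _ (E.par_g k')
  have := wt_ne_zero n k
  rw [E.inner_u_g hk hk'] at h1
  split_ifs at h1 ⊢
  · field_simp; linear_combination h1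
  · simpa [this] using h1

theorem rg_g_f (hk : k ≠ 0) (i : Fin 4) :
    rg M P e (f 0 + f k) (f i) = (1 - c k) * sn k i / (4 * wt n k) := by
  have h1 := K.rg k hk _ (E.par_f i)
  have := wt_ne_zero n k
  rw [E.inner_u_f hk] at h1
  field_simp; linear_combination 2 * h1

variable (h : IsMax 2 ⊤ ⊤ (eBlk M B) P e) (hM : IsPModular 2 M)
include h hM

theorem prj_one_g (hk : k ≠ 0) (h1 : c k = 1) : prj 2 M P e {1} (f 0 + f k) = 0 :=
  (h.prj_eq_zero_iff hM (E.cls_g k)).2 ((E.rg_g_g K hk hk).trans (by simp [h1]))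

variable (hz : ∀ g, g * D.a (2 * zq n) = D.a (2 * zq n) * g) (hB : IsPBlock M B)
include hz hB

omit K in
theorem exists_coords (ρ : IrrCharacter G) : ∃ t : Fin 4 → ℤ, 2 ∣ t 1 - t 2 ∧ 2 ∣ t 1 - t 3 ∧
    (2 : ℂ) • prj 2 M P e {1} ρ = (t 1 : ℂ) • prj 2 M P e {1} (f 0 + f 1) +
      (t 2 : ℂ) • prj 2 M P e {1} (f 0 + f 2) + (t 3 : ℂ) • prj 2 M P e {1} (f 0 + f 3) := by
  obtain ⟨β, hβ, h1, h2⟩ := exists_even h hM hz hB ρ
  obtain ⟨m, hm, h3⟩ := hβ.exists_eq_sum_int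
  let L := Submodule.span ℤ (Set.range fun i => prj 2 M P e {1} (f i))
  have hf : ∀ i, prj 2 M P e {1} (f i) ∈ L := fun i => Submodule.subset_span ⟨i, rfl⟩
  have hs : ∀ {t ψ}, Sg t ψ → prj 2 M P e {1} t ∈ L → prj 2 M P e {1} ψ ∈ L := by
    rintro _ ψ (rfl | rfl) h
    exacts [h, by simpa using h]
  obtain ⟨a, ha⟩ : ∃ a : Fin 4 → ℤ, ∑ i, a i • prj 2 M P e {1} (f i) = prj 2 M P e {1} ρ := by
    rw [← Submodule.mem_span_range_iff_exists_fun, ← h2, h3, map_sum]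
    refine Submodule.sum_mem _ fun ψ _ => ?_
    rw [map_smul, Int.cast_smul_eq_zsmul]
    by_cases h4 : m ψ = 0
    · simp [h4]
    refine Submodule.smul_mem _ _ ?_
    by_cases h5 : ψ ∈ B
    · rcases E.all ψ h5 (h1.of_inner hz D.orderOf_z (by rw [hm]; exact_mod_cast h4)).1 with
        ⟨i, rfl⟩ | ⟨j, hj, rfl⟩
      · exact hs (E.quad.sg i) (hf i)
      · refine hs (E.sg j hj) ?_
        rw [eq_neg_of_add_eq_zero_left ((map_add _ _ _).symm.trans (E.prj_one_a h hM hj)), map_add]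
        exact neg_mem (add_mem (hf 0) (hf 1))
    · rw [h.prj_irr_of_notMem hM hB h5]; exact zero_mem _
  refine ⟨fun k => ∑ i, a i * sn k i, by simp [Fin.sum_univ_four, sn]; omega,
    by simp [Fin.sum_univ_four, sn]; omega, ?_⟩
  simp only [← ha, Finset.smul_sum, smul_comm (2 : ℂ), E.prj_one_f h hM]
  simp only [Fin.sum_univ_four]
  push_cast
  module

theorem exists_kappa (hρ : ρ ∈ B) (h1 : Par (D.a (2 * zq n)) (-1) ρ) : ∃ k ≠ 0, c k = 0 ∧
    ∃ t, Sg t ρ ∧ prj 2 M P e {1} (t + (f 0 + f k)) = 0 := by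
  obtain ⟨O, hO, hne, hO'⟩ := E.exists_odd h hM hz hB
  have hg : ∀ k ≠ 0, ∀ k' ≠ 0, classInner (prj 2 M P e {1} (f 0 + f k))
      (prj 2 M P e {1} (f 0 + f k')) = if k = k' then (1 - c k) / (2 * wt n k) else 0 :=
    fun k hk k' hk' => by
      rw [h.classInner_prj_prj hM (E.cls_g k) (E.cls_g k'), ← E.rg_g_g K hk hk']
  have hK : (2 : ℂ) ^ (n - 2) ≠ 0 := by simp
  have H : ∀ ρ : IrrCharacter G, ∃ t : Fin 4 → ℤ, 2 ∣ t 1 - t 2 ∧ 2 ∣ t 1 - t 3 ∧
      8 * 2 ^ (n - 2) * rg M P e ρ ρ =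
        (t 1 ^ 2 + 2 ^ (n - 2) * ((1 - c 2) * t 2 ^ 2 + (1 - c 3) * t 3 ^ 2) : ℤ) ∧
      4 * 2 ^ (n - 2) * rg M P e ρ (f 0 + f 1) = t 1 ∧
      ∀ k ≠ 0, (t k = 2 ∨ t k = -2) → (∀ l ≠ 0, l ≠ k → c l = 1 ∨ t l = 0) →
        ∃ t, Sg t ρ ∧ prj 2 M P e {1} (t + (f 0 + f k)) = 0 := fun ρ => by
    obtain ⟨t, h2, h3, h4⟩ := E.exists_coords h hM hz hB ρ
    have hc := ρ.2.isClassFunction
    refine ⟨t, h2, h3, ?_, ?_, fun k hk h5 h6 => ?_⟩
    · have h5 := congrArg₂ classInner h4 h4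
      simp only [classInner_add_left, classInner_add_right, classInner_smul_left,
        classInner_smul_right, h.classInner_prj_prj hM hc hc, map_intCast, map_ofNat] at h5
      simp (disch := decide) only [hg, wt, K.one, if_true, if_false, Fin.reduceEq] at h5
      push_cast at h5 ⊢
      field_simp at h5
      linear_combination h5
    · have h5 := congrArg (classInner · (prj 2 M P e {1} (f 0 + f 1))) h4
      simp only [classInner_add_left, classInner_smul_left,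
        h.classInner_prj_prj hM hc (E.cls_g 1)] at h5
      simp (disch := decide) only [hg, wt, K.one, if_true, if_false, Fin.reduceEq] at h5
      push_cast at h5 ⊢
      field_simp at h5
      linear_combination h5
    · have h7 : ∀ l ≠ 0, l ≠ k → (t l : ℂ) • prj 2 M P e {1} (f 0 + f l) = 0 := fun l h7 h8 => by
        rcases h6 l h7 h8 with h9 | h9
        · rw [E.prj_one_g K h hM h7 h9, smul_zero]
        · simp [h9]
      have h8 : (2 : ℂ) • prj 2 M P e {1} ρ = (t k : ℂ) • prj 2 M P e {1} (f 0 + f k) := by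
        rw [h4]
        fin_cases k
        · exact absurd rfl hk
        all_goals simp (disch := decide) only [h7, add_zero, zero_add, Fin.reduceFinMk]
      rcases h5 with h5 | h5 <;> rw [h5] at h8 <;> push_cast at h8
      · exact ⟨_, (sg_self ρ).neg, by
          rw [map_add, map_neg]; linear_combination (norm := module) (-1 / 2 : ℂ) • h8⟩
      · exact ⟨_, sg_self ρ, by rw [map_add]; linear_combination (norm := module) (1 / 2 : ℂ) • h8⟩
  have h0 : ∀ k (t : ℤ), 0 ≤ (1 - c k : ℤ) * t ^ 2 := fun k t =>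
    mul_nonneg (by have := K.le k; omega) (sq_nonneg _)
  have HO : ∀ σ ∈ O, ∃ t, Sg t σ ∧ prj 2 M P e {1} (t + (f 0 + f 1)) = 0 := fun σ hσ => by
    obtain ⟨t, h2, h3, h4, -, h5⟩ := H σ
    obtain ⟨-, -, hn, h6⟩ := hO σ hσ
    have h7 : t 1 ^ 2 + 2 ^ (n - 2) * ((1 - c 2) * t 2 ^ 2 + (1 - c 3) * t 3 ^ 2) = 4 := by
      exact_mod_cast h4.symm.trans (show _ = ((4 : ℤ) : ℂ) by push_cast; linear_combination 4 * h6)
    have h8 : (1 - c 2 : ℤ) * t 2 ^ 2 + (1 - c 3) * t 3 ^ 2 = 0 := by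
      obtain ⟨k, hk⟩ : ∃ k : ℤ, 2 ^ (n - 2) = 2 * k ∧ 0 < k :=
        ⟨2 ^ (n - 3), by rw [← pow_succ']; congr 1; omega, by positivity⟩
      rw [hk.1] at h7
      obtain ⟨u1, h1⟩ : 2 ∣ t 1 := Int.prime_two.dvd_of_dvd_pow (n := 2) ⟨2 - k * ((1 - c 2) *
        t 2 ^ 2 + (1 - c 3) * t 3 ^ 2), by linear_combination h7⟩
      obtain ⟨u2, h2⟩ : 2 ∣ t 2 := by omega
      obtain ⟨u3, h3⟩ : 2 ∣ t 3 := by omega
      rw [h1, h2, h3] at h7
      rw [h2, h3]
      have := h0 2 u2; have := h0 3 u3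
      have h9 : (1 - c 2 : ℤ) * u2 ^ 2 + (1 - c 3) * u3 ^ 2 = 0 := by
        by_contra h9
        nlinarith [sq_nonneg u1, show 1 ≤ (1 - c 2 : ℤ) * u2 ^ 2 + (1 - c 3) * u3 ^ 2 by omega]
      linear_combination 4 * h9
    obtain ⟨k, hk, a1, a2, a3⟩ := exists_of_sum_sq_four t c K.le h2 h3 (by
      rw [K.one]; push_cast; linear_combination h7 - (2 ^ (n - 2) - 1) * h8)
    have := h0 2 (t 2); have := h0 3 (t 3)
    obtain rfl : k = 1 := by
      fin_cases k <;> simp only [Fin.reduceFinMk, Fin.zero_eta] at hk a1 a2 ⊢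
      · exact absurd rfl hk
      all_goals rcases a2 with a2 | a2 <;> simp [a1, a2] at * <;> omega
    exact h5 1 hk a2 a3
  by_cases h2 : ρ ∈ O
  · exact ⟨1, by decide, K.one, HO ρ h2⟩
  obtain ⟨t, h3, h4, h5, h6, h7⟩ := H ρ
  obtain ⟨h8, h9⟩ := hO' ρ hρ h1 h2
  have h10 : t 1 ^ 2 + 2 ^ (n - 2) * ((1 - c 2) * t 2 ^ 2 + (1 - c 3) * t 3 ^ 2) =
      4 * 2 ^ (n - 2) := by
    exact_mod_cast h5.symm.trans (show _ = ((4 * 2 ^ (n - 2) : ℤ) : ℂ) by
      push_cast; linear_combination 4 * 2 ^ (n - 2) * h8)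
  obtain ⟨k, hk, a1, a2, a3⟩ := exists_of_sum_sq_four t c K.le h3 h4 (by
    rw [K.one]
    by_cases hn : 3 ≤ n
    · obtain ⟨σ, hσ⟩ := hne hn
      obtain ⟨u, hu, h11⟩ := HO σ hσ
      have hc := ρ.2.isClassFunction
      have h12 := h.classInner_prj_left hM (S := {1}) hc (hu.cls.add (E.cls_g 1))
      rw [h11, classInner_zero_right, classInner_add_right, hu.inner_eq_zero.2 (h9 σ hσ),
        zero_add] at h12
      have h13 : t 1 = 0 := by exact_mod_cast h6.symm.trans (show _ = 0 by rw [rg, h12, mul_zero])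
      rw [h13] at h10 ⊢
      exact mul_left_cancel₀ (a := 2 ^ (n - 2)) (by simp) (by linear_combination h10)
    · rw [show n - 2 = 0 by omega] at h10
      push_cast; linear_combination h10)
  exact ⟨k, hk, a1, h7 k hk a2 a3⟩

theorem exists_shape : ∃ J s κ, Shape M D e B b F f J s κ := by
  classical
  obtain ⟨J, hJ⟩ : ∃ J : Finset (IrrCharacter G), ∀ ψ, ψ ∈ J ↔ ψ ∈ B ∧ ψ ∉ Set.range F :=
    ⟨Finset.univ.filter fun ψ => ψ ∈ B ∧ ψ ∉ Set.range F, by simp⟩
  have H : ∀ ψ, ∃ k t, ψ ∈ J → k ≠ 0 ∧ c k = 0 ∧ Sg t ψ ∧ prj 2 M P e {1} (t + (f 0 + f k)) = 0 :=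
    fun ψ => by
      by_cases h1 : ψ ∈ J
      · rcases irr_par hz D.orderOf_z ψ with h2 | h2
        · obtain ⟨j, hj, rfl⟩ := (E.all ψ ((hJ ψ).1 h1).1 h2).resolve_left ((hJ ψ).1 h1).2
          exact ⟨1, x j, fun _ => ⟨by decide, K.one, E.sg j hj, E.prj_one_a h hM hj⟩⟩
        · obtain ⟨k, a1, a2, t, a3, a4⟩ := E.exists_kappa K h hM hz hB ((hJ ψ).1 h1).1 h2
          exact ⟨k, t, fun _ => ⟨a1, a2, a3, a4⟩⟩
      · exact ⟨0, 0, fun h => absurd h h1⟩
  choose κ s H using H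
  have hne := fun ψ hψ => (H ψ hψ).1
  have hsg := fun ψ hψ => (H ψ hψ).2.2.1
  have hπ : ∀ ψ ∈ J, prj 2 M P e {1} (s ψ) = -prj 2 M P e {1} (f 0 + f (κ ψ)) := fun ψ hψ =>
    eq_neg_of_add_eq_zero_left ((map_add _ _ _).symm.trans (H ψ hψ).2.2.2)
  have hcf := fun i => (E.quad.sg i).cls
  have g0 := yGood0 D h hM hB E.quad E.ht
  have g1 := yGood1 D h hM hB E.quad E.ht
  have hd : ∀ v ∈ P, Meets 2 P e (MCB.y0 D e) v → ¬ Meets 2 P e (MCB.y1 D e) v := fun v hv h1 =>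
    disj_y1 D h hM v hv (h1.mono Set.subset_union_right)
  have hpar := fun α => E.quad.parseval (α := α) E.memF hJ hsg
  have hgs : ∀ k ≠ 0, ∀ ψ ∈ J, rg M P e (f 0 + f k) (s ψ) =
      if κ ψ = k then -(1 / (2 * wt n k)) else 0 := fun k hk ψ hψ => by
    rw [rg, h.classInner_prj_left hM (E.cls_g k) (hsg ψ hψ).cls, hπ ψ hψ, classInner_neg_right,
      ← h.classInner_prj_left hM (E.cls_g k) (E.cls_g _), ← rg, E.rg_g_g K hk (hne ψ hψ)]
    by_cases h1 : κ ψ = k
    · simp [h1, h1 ▸ (H ψ hψ).2.1]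
    · simp [h1, Ne.symm h1]
  have hsn : ∀ k i, (sn k i : ℂ) * sn k i = 1 := fun k i => by unfold sn; split_ifs <;> simp
  have hP : ∀ k ≠ 0, c k = 0 → ∀ β, 4 * wt n k * rg M P e (f 0 + f k) β =
      ∑ i, sn k i * conj (classInner β (f i)) -
        2 * ∑ ψ ∈ J with κ ψ = k, conj (classInner β (s ψ)) := fun k hk h1 β => by
    have := wt_ne_zero n k
    rw [rg, hpar _ (h.blockPart_prj hM hB (S := {1}) (E.cls_g k)), mul_add, Finset.sum_filter,
      Finset.mul_sum, Finset.mul_sum, Finset.mul_sum, sub_eq_add_neg, ← Finset.sum_neg_distrib]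
    congr 1
    · refine Finset.sum_congr rfl fun i _ => ?_
      rw [← rg, E.rg_g_f K hk, h1]; field_simp; simp
    · refine Finset.sum_congr rfl fun ψ hψ => ?_
      rw [← rg, hgs k hk ψ hψ]
      split_ifs
      · field_simp; norm_num
      · simp
  have hN : ∀ k ≠ 0, ((J.filter (κ · = k)).card : ℂ) = (1 - c k) * (2 * wt n k - 1) := by
    intro k hk
    rcases Nat.le_one_iff_eq_zero_or_eq_one.1 (K.le k) with h1 | h1
    · have h2 := hP k hk h1 (prj 2 M P e {1} (f 0 + f k))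
      have := wt_ne_zero n k
      rw [rg, h.classInner_prj_prj hM (E.cls_g k) (E.cls_g k), Finset.sum_congr (s₁ := J.filter _)
        rfl fun ψ hψ => by rw [← rg, hgs k hk ψ (Finset.mem_filter.1 hψ).1,
          if_pos (Finset.mem_filter.1 hψ).2]] at h2
      simp only [E.rg_g_g K hk hk, E.rg_g_f K hk, h1, if_true, map_div₀, map_mul, map_neg, map_one,
        map_intCast, map_ofNat, conj_wt, Nat.cast_zero, sub_zero, one_mul, mul_div_assoc', hsn,
        Finset.sum_const, Finset.card_univ, Fintype.card_fin, nsmul_eq_mul] at h2 ⊢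
      field_simp at h2
      push_cast at h2
      linear_combination -h2 / 8
    · rw [Finset.filter_eq_empty_iff.2 fun ψ hψ h2 => by have := (H ψ hψ).2.1; simp_all]
      simp [h1]
  have hy : ∀ α, IsClassFunction G α → blockPart B α = α → prj 2 M P e {1} α = 0 →
      prj 2 M P e (MCB.y0 D e ∪ MCB.y1 D e) α = 0 → prj 2 M P e (xc D) α = α := by
    intro α hα h1 h2 h3
    rw [blockPart_eq D h hM hB hα, add_assoc, ← prj_union hd, h2, h3, zero_add, add_zero] at h1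
    exact h1
  have hcl : ∀ ψ ∈ J, IsClassFunction G (s ψ + (f 0 + f (κ ψ))) := fun ψ hψ =>
    (hsg ψ hψ).cls.add (E.cls_g _)
  have hpa : ∀ ψ ∈ J, prj 2 M P e (xc D) (s ψ + (f 0 + f (κ ψ))) = s ψ + (f 0 + f (κ ψ)) :=
    fun ψ hψ => hy _ (hcl ψ hψ) (by
      rw [blockPart_add, blockPart_add, (hsg ψ hψ).blockPart ((hJ ψ).1 hψ).1,
        (E.quad.sg _).blockPart (E.memF _), (E.quad.sg _).blockPart (E.memF _)]) (H ψ hψ).2.2.2 (by
      rw [map_add, K.prj_y _ (hne ψ hψ), (H ψ hψ).2.1, prj_union hd,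
        (hsg ψ hψ).map_eq_zero.2 (g0.pos _ ((hJ ψ).1 hψ).2),
        (hsg ψ hψ).map_eq_zero.2 (g1.pos _ ((hJ ψ).1 hψ).2)]
      simp)
  have hpb : prj 2 M P e (xc D) b = b := by
    rw [← E.prj_b, prj_prj_of_imp' hM E.quad.gen.isClassFunction fun v _ hv =>
      hv.mono (xs_subset_xc D)]
  have hcard : (J.card : ℂ) = ∑ k, ((J.filter (κ · = k)).card : ℂ) := by
    exact_mod_cast Finset.card_eq_sum_card_fiberwise fun ψ _ => Finset.mem_univ (κ ψ)
  have hN0 : J.filter (κ · = 0) = ∅ := Finset.filter_eq_empty_iff.2 hne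
  have h2n : (2 : ℂ) ^ (n - 1) = 2 * 2 ^ (n - 2) := by
    rw [← pow_succ']; congr 1; have := D.two_le; omega
  have hsum : (c 2 : ℂ) + c 3 = et0 D e + et1 D e := by exact_mod_cast K.sum
  have hz1 : ∀ α, Par (D.a (2 * zq n)) 1 α → α (D.a (2 * zq n)) = α 1 := fun α hα => by
    simpa using hα 1
  have ha1 : ∀ ψ ∈ J, (s ψ + (f 0 + f (κ ψ))) 1 = 0 := fun ψ hψ => by
    rw [← hpa ψ hψ]; exact prj_apply_one (one_notMem_xc D)
  refine ⟨J, s, κ, E.quad, E.ht, hJ, hsg, hne, hpb, hpa, fun α hα h1 h2 h3 => ?_, fun ψ hψ => ?_,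
    ?_, fun k hk => ?_, ?_, ?_, ?_, fun hn => ?_, fun hn => ?_, fun ψ hψ u hu hu' => ?_⟩
  · have h4 : ∀ ψ ∈ J, classInner α (s ψ) = -classInner α (f 0 + f (κ ψ)) := fun ψ hψ =>
      eq_neg_of_add_eq_zero_left ((classInner_add_right _ _ _).symm.trans (h3 ψ hψ))
    have h5 : classInner α (f 0) + classInner α (f 1) + classInner α (f 2) +
        classInner α (f 3) = 0 := by
      rwa [← E.quad.sum, classInner_sum_right, Fin.sum_univ_four] at h2
    have h6 : ∀ k ≠ 0, classInner α (f 0 + f k) = 0 := fun k hk => by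
      rcases Nat.le_one_iff_eq_zero_or_eq_one.1 (K.le k) with h6 | h6
      · have h7 := hP k hk h6 α
        rw [rg, h.classInner_prj_left hM (E.cls_g k) hα, prj_one_of_xc h hM hα le_rfl h1,
          classInner_zero_right, Finset.sum_congr (s₁ := J.filter _) rfl fun ψ hψ => by
            rw [h4 ψ (Finset.mem_filter.1 hψ).1, (Finset.mem_filter.1 hψ).2], Finset.sum_const,
          nsmul_eq_mul, hN k hk, h6] at h7
        have h8 : ∑ i, (sn k i : ℂ) * conj (classInner α (f i)) =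
            2 * conj (classInner α (f 0 + f k)) := by
          have h9 := congrArg conj h5
          simp only [map_add, map_zero, classInner_add_right, Fin.sum_univ_four] at h9 ⊢
          fin_cases k <;> simp [sn] at hk ⊢ <;> linear_combination -h9
        simp only [Nat.cast_zero, h8, map_neg] at h7
        rw [← map_eq_zero (starRingEnd ℂ)]
        exact mul_left_cancel₀ (wt_ne_zero n k) (by linear_combination -h7 / 4)
      · have h7 := h.classInner_prj_left hM (S := MCB.y0 D e ∪ MCB.y1 D e) hα (E.cls_g k)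
        have hsub : xc D ⊆ Set.range D.a := Set.image_subset_range _ _
        rw [K.prj_y k hk, prj_union hd, prj_y0_of_xc h hM hα hsub h1, prj_y1_of_xc h hM hα hsub h1,
          h6, uu, if_neg (by rintro rfl; simp [K.one] at h6)] at h7
        simpa [classInner_zero_left, classInner_sub_right, classInner_smul_right, h2] using h7.symm
    have h7 := h6 1 (by decide); have h8 := h6 2 (by decide); have h9 := h6 3 (by decide)
    rw [classInner_add_right] at h7 h8 h9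
    have h10 : ∀ i, classInner α (f i) = 0 := fun i => by
      fin_cases i <;> simp only [Fin.reduceFinMk, Fin.zero_eta]
      exacts [by linear_combination (h7 + h8 + h9 - h5) / 2,
        by linear_combination (h7 - h8 - h9 + h5) / 2, by linear_combination (h8 - h7 - h9 + h5) / 2,
        by linear_combination (h9 - h7 - h8 + h5) / 2]
    rw [← classInner_self_eq_zero, hpar α (h1 ▸ h.blockPart_prj hM hB hα),
      Finset.sum_congr (s₁ := J) rfl fun ψ hψ => by rw [h4 ψ hψ, h6 _ (hne ψ hψ)]]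
    simp [h10]
  · have h1 := (h.val_cm_eq_iff_of_major hM hB (one_mem P) (fun _ _ =>
      mem_centralizer_singleton_iff.2 (by simp)) (E.memF 0) ((hJ ψ).1 hψ).1).2
      ((E.ht _).1 ⟨0, rfl⟩).2
    have h2 : cm 2 M P e 1 (f 0) (s ψ) = -((2 : ℕ) : ℂ) ^ (if κ ψ = 1 then 1 else n - 1) := by
      rw [← h.conj_cm hM (hsg ψ hψ).cls (hcf 0), cm_of_central (fun _ _ =>
        mem_centralizer_singleton_iff.2 (by simp)), hπ ψ hψ, classInner_neg_left, ← rg,
        E.rg_g_f K (hne ψ hψ), (H ψ hψ).2.1, D.card_eq, wt,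
        show n + 1 = n - 2 + 3 by have := D.two_le; omega]
      split_ifs <;> simp [sn, map_ofNat, h2n, pow_succ] <;> field_simp <;> norm_num
    rw [← (E.quad.sg 0).val_cm (hsg ψ hψ), h2, Valuation.map_neg, map_pow] at h1
    exact le_antisymm ((val_prime_pow_le_iff hM).1 h1.le) ((val_prime_pow_le_iff hM).1 h1.ge)
  · have h1 := hN 1 (by decide)
    rw [K.one, wt, if_pos rfl] at h1
    exact_mod_cast (show ((J.filter (κ · = 1)).card + 1 : ℂ) = 2 ^ (n - 1) by
      rw [h1, h2n]; simp)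
  · by_cases h1 : k = 0
    · simp [h1, hN0]
    have h2 := hN k h1
    rw [wt, if_neg hk] at h2
    have h3 : ((J.filter (κ · = k)).card + c k : ℂ) = 1 := by linear_combination h2
    norm_cast at h3
    omega
  · rw [Fin.sum_univ_four, hN0, hN 1 (by decide), hN 2 (by decide), hN 3 (by decide), K.one]
      at hcard
    simp only [wt, if_true, Fin.reduceEq, if_false] at hcard
    exact_mod_cast (show (J.card + et0 D e + et1 D e : ℂ) = 2 ^ (n - 1) + 1 by
      rw [hcard, h2n]; simp; linear_combination -hsum)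
  · have h1 := (h.prjTr_one hM hB).symm.trans (h.prjTr_eq hM hB)
    rw [sum_block E.quad.inj E.memF hJ, Finset.sum_congr rfl fun i _ =>
      ((E.quad.sg i).inner_map _).symm, Finset.sum_congr (g := fun ψ => 1 / (2 * wt n (κ ψ))) rfl
      fun ψ hψ => by
        rw [← (hsg ψ hψ).inner_map, hπ ψ hψ, classInner_neg_left, ← rg, hgs _ (hne ψ hψ) ψ hψ]
        simp, ← Finset.sum_fiberwise' J κ fun k => 1 / (2 * wt n k)] at h1
    have h2 : ∀ i, 2 * classInner (prj 2 M P e {1} (f i)) (f i) =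
        (1 - c 1) / (4 * wt n 1) + (1 - c 2) / (4 * wt n 2) + (1 - c 3) / (4 * wt n 3) := fun i => by
      rw [← classInner_smul_left, E.prj_one_f h hM]
      simp (disch := decide) only [classInner_add_left, classInner_smul_left, E.rg_g_f K,
        mul_div_assoc', mul_left_comm (sn _ i : ℂ), hsn, mul_one]
    simp only [Finset.sum_const, nsmul_eq_mul, Fin.sum_univ_four, hN0, hN 1 (by decide),
      hN 2 (by decide), hN 3 (by decide)] at h1
    have := wt_ne_zero n 1; have := wt_ne_zero n 2; have := wt_ne_zero n 3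
    have h3 : (blockRank 2 B : ℂ) = 3 - c 1 - c 2 - c 3 := by
      rw [h1, eq_div_of_mul_eq two_ne_zero ((mul_comm _ _).trans (h2 0)),
        eq_div_of_mul_eq two_ne_zero ((mul_comm _ _).trans (h2 1)),
        eq_div_of_mul_eq two_ne_zero ((mul_comm _ _).trans (h2 2)),
        eq_div_of_mul_eq two_ne_zero ((mul_comm _ _).trans (h2 3))]
      field_simp; simp; ring
    exact_mod_cast (show (blockRank 2 B + et0 D e + et1 D e : ℂ) = 3 by
      rw [h3, K.one]; simp; linear_combination -hsum)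
  · rw [hz1 b (E.quad.sum ▸ par_sum _ fun i _ => E.par_f i), ← hpb]
    exact prj_apply_one (one_notMem_xc D)
  · obtain ⟨j, hj⟩ := Finset.card_pos.1 (show 0 < R.card by
      have := E.card; have := Nat.one_lt_two_pow (n := n - 2) (by omega); omega)
    have h1 := (hJ _).2 ⟨E.mem j hj, E.notMem j hj⟩
    exact ⟨_, h1, (hz1 _ (((hsg _ h1).par.2 ((E.sg j hj).par.1 (E.par_x j hj))).add
      (E.par_g _))).trans (ha1 _ h1)⟩
  · obtain ⟨O, hO, hne, -⟩ := E.exists_odd h hM hz hB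
    obtain ⟨σ, hσ⟩ := hne hn
    have h1 := (hJ _).2 ⟨(hO σ hσ).1, fun ⟨i, hi⟩ =>
      (hi ▸ (E.quad.sg i).par.1 (E.par_f i)).not_odd (hO σ hσ).2.1⟩
    refine ⟨σ, h1, fun h2 => (hsg σ h1).one_ne ?_⟩
    have h3 := ha1 σ h1
    have h4 := (hsg σ h1).par.2 (hO σ hσ).2.1 1
    rw [Pi.add_apply, hz1 _ (E.par_g _)] at h2
    rw [Pi.add_apply] at h3
    rw [mul_one] at h4
    linear_combination (h3 - h2 + h4) / 2
  · have hu2 : ∃ k : ℕ, orderOf u = 2 ^ k := ⟨1, hu⟩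
    rw [← (hsg ψ hψ).blockPart ((hJ ψ).1 hψ).1, blockPart_eq D h hM hB (hsg ψ hψ).cls,
      (hsg ψ hψ).map_eq_zero.2 (g0.pos _ ((hJ ψ).1 hψ).2),
      (hsg ψ hψ).map_eq_zero.2 (g1.pos _ ((hJ ψ).1 hψ).2), add_zero, add_zero, Pi.add_apply,
      prj_apply_of_pow hu2, prj_apply_of_pow hu2, add_zero]
    · rintro _ ⟨i, -, rfl⟩ h1
      obtain ⟨y, hy⟩ := isConj_iff.1 h1
      rw [D.a_involution (i := i) (hy ▸ ((MulAut.conj y).orderOf_eq _).trans hu)] at h1
      exact hu' (eq_z_of_isConj hz h1)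
    · rintro _ rfl h1
      simp [isConj_one_left.1 h1] at hu

end EvData

theorem exists_shape (h : IsMax 2 ⊤ ⊤ (eBlk M B) P e) (hM : IsPModular 2 M)
    (hz : ∀ g, g * D.a (2 * zq n) = D.a (2 * zq n) * g) (hB : IsPBlock M B)
    (h5 : n = 4 → 5 < {χ ∈ B | Par (D.a (2 * zq n)) 1 (χ : G → ℂ)}.ncard) :
    ∃ b F f J s κ, Shape M D e B b F f J s κ := by
  obtain ⟨b, F, f, R, x, χ, E⟩ := exists_evData h hM hz hB h5
  obtain ⟨c, K⟩ := E.exists_key h hM hz hB
  exact ⟨b, F, f, E.exists_shape K h hM hz hB⟩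

end CL.Blk.MCB
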