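/-
2-blocks with defect groups of maximal class: transfer from the centralizer of the central
involution.
-/
import Cfsg.Agent.Blk.MCShape
import Cfsg.Agent.Blk.Column

set_option autoImplicit false
set_option linter.unusedSectionVars false
set_option linter.style.haveILetI false

namespace CL.Blk.MCB

open MonoidAlgebra Cfsg CL.Char CL.Grp CL.Blk.Rk CL.Blk.Pair CL.Inv Subgroup
open scoped ComplexConjugate

section Kap

variable {G : Type*} [Group G] [Fintype G] {U : Finset G} {s : G → ℂ} {χ : IrrCharacter G}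

/-- The sum of the values on all products of two elements of `U`. -/
noncomputable def kap (U : Finset G) : (G → ℂ) →+ ℂ where
  toFun θ := ∑ u ∈ U, ∑ v ∈ U, θ (u * v)
  map_zero' := by simp
  map_add' _ _ := by simp [Finset.sum_add_distrib]

theorem kap_apply (θ : G → ℂ) : kap U θ = ∑ u ∈ U, ∑ v ∈ U, θ (u * v) := rfl

theorem sum_conj_inv (hU : ∀ g u, g * u * g⁻¹ ∈ U ↔ u ∈ U) (g : G) (φ : G → ℂ) :
    ∑ u ∈ U, φ (g * u * g⁻¹) = ∑ u ∈ U, φ u :=
  Finset.sum_equiv (MulAut.conj g).toEquiv (fun u => (hU g u).symm) fun _ _ => rfl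

theorem Sg.kap (h : Sg s χ) (hU : ∀ g u, g * u * g⁻¹ ∈ U ↔ u ∈ U) :
    kap U s = (∑ u ∈ U, s u) ^ 2 / s 1 := by
  have h1 : MCB.kap U χ = (∑ u ∈ U, (χ : G → ℂ) u) ^ 2 / (χ : G → ℂ) 1 := by
    refine mul_left_cancel₀ (natCard_ne_zero (G := G)) ?_
    have h2 : ∑ g : G, ∑ u ∈ U, ∑ v ∈ U, (χ : G → ℂ) (g * u * g⁻¹ * v) =
        Nat.card G * MCB.kap U χ := by
      rw [Finset.sum_congr rfl fun g _ => sum_conj_inv hU g fun u => ∑ v ∈ U, (χ : G → ℂ) (u * v),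
        Finset.sum_const, Finset.card_univ, nsmul_eq_mul, Nat.card_eq_fintype_card, kap_apply]
    rw [← h2, Finset.sum_comm, sq, Finset.sum_mul_sum, Finset.sum_div, Finset.mul_sum]
    refine Finset.sum_congr rfl fun u _ => ?_
    rw [Finset.sum_comm, Finset.sum_div, Finset.mul_sum]
    exact Finset.sum_congr rfl fun v _ => by rw [schurAvg_sum_char_conj_mul χ.2]; ring
  rcases h with rfl | rfl
  · exact h1
  · simp [h1, div_neg]

theorem kap_indFun {T : Subgroup G} [Fintype T] (hU : ∀ g u, g * u * g⁻¹ ∈ U ↔ u ∈ U)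
    {V : Finset T} (hV : ∀ t, t ∈ V ↔ (t : G) ∈ U) {θ : T → ℂ}
    (h : ∀ u ∈ U, ∀ v ∈ U, ∀ t : T, u * v = t → θ t ≠ 0 → u ∈ T) :
    kap U (indFun T θ) = (Nat.card T : ℂ)⁻¹ * Nat.card G * kap V θ := by
  classical
  have h1 : ∀ φ : G → ℂ, (∀ u ∈ U, u ∉ T → φ u = 0) → ∑ u ∈ U, φ u = ∑ t ∈ V, φ t := fun φ hφ =>
    (Finset.sum_of_injOn (↑) Subtype.val_injective.injOn (fun t ht => (hV t).1 ht)
      (fun u hu h => hφ u hu fun h' => h ⟨⟨u, h'⟩, (hV _).2 hu, rfl⟩) fun _ _ => rfl).symm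
  have h2 : kap U (extendByZero T θ) = kap V θ := by
    rw [kap_apply, kap_apply, h1 _ fun u hu hu' => Finset.sum_eq_zero fun v hv => by
      by_cases h2 : u * v ∈ T
      · rw [extendByZero_of_mem _ h2]; exact by_contra fun h3 => hu' (h u hu v hv ⟨_, h2⟩ rfl h3)
      · exact extendByZero_of_not_mem _ h2]
    refine Finset.sum_congr rfl fun t _ => ?_
    rw [h1 _ fun v _ hv => extendByZero_of_not_mem _ fun h => hv ((T.mul_mem_cancel_left t.2).1 h)]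
    exact Finset.sum_congr rfl fun v _ => extendByZero_coe θ (t * v)
  simp only [kap_apply, indFun_apply', ← Finset.mul_sum] at h2 ⊢
  rw [mul_assoc, ← h2, Finset.sum_congr rfl fun u _ => Finset.sum_comm, Finset.sum_comm,
    Nat.card_eq_fintype_card (α := G), ← nsmul_eq_mul, ← Finset.card_univ, ← Finset.sum_const]
  congr 1
  refine Finset.sum_congr rfl fun g _ => Eq.trans ?_ (sum_conj_inv hU g _)
  refine Finset.sum_congr rfl fun u _ => Eq.trans ?_ (sum_conj_inv hU g _)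
  exact Finset.sum_congr rfl fun v _ => by congr 1; group

end Kap

variable {G : Type*} [Group G] [Fintype G] {M : Ideal AlgInt} {P : Subgroup G} {n : ℕ}
  {r d : ZMod (2 ^ n)} {D : MC P n r d} {e : (resField M)[G]} {B : Set (IrrCharacter G)}

namespace Shape

variable {b : G → ℂ} {F : Fin 4 → IrrCharacter G} {f : Fin 4 → G → ℂ}
  {J : Finset (IrrCharacter G)} {s : IrrCharacter G → G → ℂ} {κ : IrrCharacter G → Fin 4}
  (Sh : Shape M D e B b F f J s κ) {ψ ψ' : IrrCharacter G}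
include Sh

theorem trip (hψ : ψ ∈ J) : Trip F f (s ψ + (f 0 + f (κ ψ))) (s ψ) ψ (κ ψ) true :=
  ⟨Sh.sg ψ hψ, ((Sh.memJ ψ).1 hψ).2, Sh.ne ψ hψ, rfl⟩

theorem gen_a (hψ : ψ ∈ J) : IsGeneralizedCharacter G (s ψ + (f 0 + f (κ ψ))) :=
  (Sh.sg ψ hψ).gen.add (Sh.quad.gen_pr _ true)

theorem inner_s (hψ : ψ ∈ J) (hψ' : ψ' ∈ J) :
    classInner (s ψ) (s ψ') = if ψ = ψ' then 1 else 0 := by
  split_ifs with h
  exacts [h ▸ (Sh.sg ψ hψ).inner_self, (Sh.sg ψ hψ).inner_of_ne (Sh.sg ψ' hψ') h]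

theorem inner_s_b (hψ : ψ ∈ J) : classInner (s ψ) b = 0 := by
  simp [← Sh.quad.sum, classInner_sum_right,
    Sh.quad.inner_of_notMem (Sh.sg ψ hψ) ((Sh.memJ ψ).1 hψ).2]

theorem inner_s_a (hψ : ψ ∈ J) (hψ' : ψ' ∈ J) :
    classInner (s ψ) (s ψ' + (f 0 + f (κ ψ'))) = if ψ = ψ' then 1 else 0 := by
  simp [classInner_add_right, Sh.inner_s hψ hψ',
    Sh.quad.inner_of_notMem (Sh.sg ψ hψ) ((Sh.memJ ψ).1 hψ).2]

theorem inner_f_b (i : Fin 4) : classInner (f i) b = 1 := by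
  rw [(Sh.quad.sg i).gen.classInner_comm Sh.quad.gen, Sh.quad.inner_left]

theorem a_one (hψ : ψ ∈ J) : (s ψ + (f 0 + f (κ ψ))) 1 = 0 := by
  rw [← Sh.prj_a ψ hψ]; exact prj_apply_one (one_notMem_xc D)

theorem val_cm (h : IsMax 2 ⊤ ⊤ (eBlk M B) P e) (hM : IsPModular 2 M) (hB : IsPBlock M B)
    (m : IrrCharacter G → ℤ) {t : G → ℂ} (ht : Sg t ψ) (hψ : ψ ∈ B) :
    val M (cm 2 M P e (D.a (2 * zq n)) (f 0 + ∑ ρ ∈ J, (m ρ : ℂ) • s ρ) t) =
      val M ((2 : ℕ) : ℂ) ^ blockHeight 2 B (ψ : G → ℂ) := by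
  have h0 := (Sh.ht _).1 ⟨0, rfl⟩
  have h1 := (h.val_cm_eq_iff_of_major hM hB (D.a_mem _) (le_centralizer_z D) h0.1 hψ).2 h0.2
  rw [← (Sh.quad.sg 0).val_cm ht] at h1
  rw [cm_add_left, Valuation.map_add_eq_of_lt_left _ _, h1]
  rw [h1, cm_sum_left]
  refine Valuation.map_sum_lt _ (pow_pos (val_prime_pos hM) _).ne' fun ρ hρ => ?_
  have h2 := (Sh.memJ ρ).1 hρ
  rw [cm_smul_left, map_mul, (Sh.sg ρ hρ).val_cm ht]
  exact (mul_le_of_le_one_left' (val_intCast_le_one _)).trans_lt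
    (h.val_cm_lt_of_major hM hB (D.a_mem _) (le_centralizer_z D) h2.1 hψ
      fun h3 => h2.2 ((Sh.ht ρ).2 ⟨h2.1, h3⟩))

end Shape

variable {T : Subgroup G} [Fintype T] {c : Set (IrrCharacter T)} {e' : (resField M)[T]}
  {b : T → ℂ} {F : Fin 4 → IrrCharacter T} {f : Fin 4 → T → ℂ} {J : Finset (IrrCharacter T)}
  {s : IrrCharacter T → T → ℂ} {κ : IrrCharacter T → Fin 4} {α β : G → ℂ} {γ δ : T → ℂ}
  (h : IsMax 2 ⊤ ⊤ (eBlk M B) P e) (hM : IsPModular 2 M) (hB : IsPBlock M B)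
  (hT : T = centralizer {D.a (2 * zq n)}) (h' : SubMax 2 M P e T c e')
  (Sh : Shape M (D.subgroupOf h'.le) e' c b F f J s κ)
include h hM hB hT h' Sh

omit h hB hT in
theorem prj_res_eq (hα : IsClassFunction G α) (hγ : IsClassFunction T γ)
    (h1 : classInner α (indFun T b) = classInner γ b)
    (h2 : ∀ ψ ∈ J, classInner α (indFun T (s ψ + (f 0 + f (κ ψ)))) =
      classInner γ (s ψ + (f 0 + f (κ ψ)))) :
    prj 2 M (P.subgroupOf T) e' (xc (D.subgroupOf h'.le)) (fun t : T => α t) =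
      prj 2 M (P.subgroupOf T) e' (xc (D.subgroupOf h'.le)) γ := by
  have hc := (hα.restrict T).sub hγ
  rw [← sub_eq_zero, ← map_sub]
  refine Sh.complete _ (isClassFunction_prj hM hc _) (prj_prj hM hc) ?_ fun ψ hψ => ?_
  · rw [h'.isMax.classInner_prj_left hM hc Sh.quad.gen.isClassFunction, Sh.prj_b,
      classInner_sub_left, ← frobenius_reciprocity' _ hα, h1, sub_self]
  · rw [h'.isMax.classInner_prj_left hM hc (Sh.gen_a hψ).isClassFunction, Sh.prj_a ψ hψ,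
      classInner_sub_left, ← frobenius_reciprocity' _ hα, h2 ψ hψ, sub_self]

omit hB Sh in
theorem cm_eq_of_prj (hα : IsClassFunction G α) (hβ : IsClassFunction G β)
    (hγ : IsClassFunction T γ) (hδ : IsClassFunction T δ)
    (h1 : prj 2 M (P.subgroupOf T) e' (xc (D.subgroupOf h'.le)) (fun t : T => α t) =
      prj 2 M (P.subgroupOf T) e' (xc (D.subgroupOf h'.le)) γ)
    (h2 : prj 2 M (P.subgroupOf T) e' (xc (D.subgroupOf h'.le)) (fun t : T => β t) =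
      prj 2 M (P.subgroupOf T) e' (xc (D.subgroupOf h'.le)) δ) :
    cm 2 M P e (D.a (2 * zq n)) α β =
      cm 2 M (P.subgroupOf T) e' ((D.subgroupOf h'.le).a (2 * zq n)) γ δ := by
  have hS : Ctrl T {D.a (2 * zq n)} :=
    (hT ▸ ctrl_cyc D).mono (Set.singleton_subset_iff.2 ⟨_, D.h2, rfl⟩)
  have h3 : ∀ v ∈ P.subgroupOf T, Meets 2 (P.subgroupOf T) e' {(D.subgroupOf h'.le).a (2 * zq n)} v →
      Meets 2 (P.subgroupOf T) e' (xc (D.subgroupOf h'.le)) v := fun v _ hv =>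
    hv.mono (Set.singleton_subset_iff.2 ⟨_, D.h2, rfl⟩)
  have h4 := congrArg (prj 2 M (P.subgroupOf T) e' {(D.subgroupOf h'.le).a (2 * zq n)}) h1
  have h5 := congrArg (prj 2 M (P.subgroupOf T) e' {(D.subgroupOf h'.le).a (2 * zq n)}) h2
  rw [prj_prj_of_imp hM (hα.restrict T) h3, prj_prj_of_imp hM hγ h3] at h4
  rw [prj_prj_of_imp hM (hβ.restrict T) h3, prj_prj_of_imp hM hδ h3] at h5
  rw [cm_of_central (le_centralizer_z D), cm_of_central (le_centralizer_z _), D.card_eq,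
    (D.subgroupOf h'.le).card_eq, h'.classInner_prj h hM hS hα hβ,
    show ((↑) ⁻¹' {D.a (2 * zq n)} : Set T) = {(D.subgroupOf h'.le).a (2 * zq n)} from
      Set.ext fun _ => ⟨fun h => Subtype.ext h, fun h => congrArg Subtype.val h⟩, h4,
    h'.isMax.classInner_prj_left hM hγ (hβ.restrict T), h5, h'.isMax.classInner_prj_left hM hγ hδ]

omit h hB in
theorem kap_indFun_sub {U : Finset G} (hU : ∀ u, u ∈ U ↔ IsConj (D.a (2 * zq n)) u)
    {ψ ψ' : IrrCharacter T} (hψ : ψ ∈ J) (hψ' : ψ' ∈ J) (hκ : κ ψ = κ ψ') :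
    kap U (indFun T (s ψ + (f 0 + f (κ ψ)))) = kap U (indFun T (s ψ' + (f 0 + f (κ ψ')))) := by
  classical
  have hU' : ∀ g u, g * u * g⁻¹ ∈ U ↔ u ∈ U := fun g u => by
    rw [hU, hU]
    exact ⟨fun h => h.trans (isConj_iff.2 ⟨g, rfl⟩).symm, fun h => h.trans (isConj_iff.2 ⟨g, rfl⟩)⟩
  have ho : ∀ u ∈ U, orderOf u = 2 := fun u hu => by
    obtain ⟨x, rfl⟩ := isConj_iff.1 ((hU u).1 hu)
    exact ((MulAut.conj x).orderOf_eq _).trans D.orderOf_z
  have ho' : ∀ u ∈ U, u * u = 1 := fun u hu => by rw [← sq, ← ho u hu, pow_orderOf_eq_one]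
  obtain ⟨V, hV⟩ : ∃ V : Finset T, ∀ t, t ∈ V ↔ (t : G) ∈ U :=
    ⟨Finset.univ.filter fun t : T => (t : G) ∈ U, by simp⟩
  have hS : Ctrl T (xc D) := hT ▸ ctrl_cyc D
  have hz : ∀ g : T, g * (D.subgroupOf h'.le).a (2 * zq n) = (D.subgroupOf h'.le).a (2 * zq n) * g :=
    fun g => Subtype.ext (mem_centralizer_singleton_iff.1 (hT ▸ g.2))
  have h1 : ∀ ψ ∈ J, kap U (indFun T (s ψ + (f 0 + f (κ ψ)))) =
      (Nat.card T : ℂ)⁻¹ * Nat.card G * (s ψ 1 + kap V (f 0 + f (κ ψ))) := fun ψ hψ => by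
    rw [kap_indFun hU' hV fun u hu v hv t ht h0 => ?_, map_add,
      (Sh.sg ψ hψ).kap fun g u => by rw [hV, hV]; exact hU' g u,
      Finset.sum_eq_single_of_mem ((D.subgroupOf h'.le).a (2 * zq n)) ((hV _).2 ((hU _).2 (by rfl)))
        fun u hu hu' => Sh.invol ψ hψ u ((orderOf_coe u).symm.trans (ho _ ((hV u).1 hu))) hu']
    · have h2 := (Sh.sg ψ hψ).one_ne
      rcases irr_par hz (D.subgroupOf h'.le).orderOf_z ψ with h3 | h3 <;>
        rw [← mul_one ((D.subgroupOf h'.le).a _), (Sh.sg ψ hψ).par.2 h3 1] <;> field_simp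
    · rw [← Sh.prj_a ψ hψ] at h0
      obtain ⟨_, ⟨i, hi, rfl⟩, h2⟩ : ∃ w ∈ xc (D.subgroupOf h'.le), IsConj (ppart 2 t) w := by
        by_contra! h2
        exact h0 (prj_apply_eq_zero h2)
      obtain ⟨y, hy⟩ := isConj_iff.1 h2
      have h3 : (y : G) * ppart 2 (u * v) * (y : G)⁻¹ = D.a i := by
        rw [ht, ← coe_ppart]; exact congrArg Subtype.val hy
      have h4 := (inverts_pPart_of_mul Nat.prime_two (ho' u hu) (ho' v hv)
        (isPPart_ppart Nat.prime_two _)).1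
      have h5 := hS _ ⟨i, hi, rfl⟩ (y * u * (y : G)⁻¹) ⟨-i, neg_ne_zero.2 hi, by
        rw [← D.a_inv, ← h3, conj_inv, ← h4]; group⟩
      exact (T.mul_mem_cancel_left y.2).1 ((T.mul_mem_cancel_right (T.inv_mem y.2)).1 h5)
  have h2 := Sh.a_one hψ
  have h3 := Sh.a_one hψ'
  rw [h1 ψ hψ, h1 ψ' hψ', ← hκ, show s ψ 1 = s ψ' 1 by
    rw [← hκ] at h3; simp only [Pi.add_apply] at h2 h3; linear_combination h2 - h3]

theorem exists_transfer : ∃ (F' : Fin 4 → IrrCharacter G) (χ : IrrCharacter T → IrrCharacter G),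
    Function.Injective F' ∧ Set.InjOn χ J ∧
    (∀ i, F' i ∈ B ∧ blockHeight 2 B (F' i : G → ℂ) = 0) ∧
    (∀ ψ ∈ J, χ ψ ∈ B ∧ χ ψ ∉ Set.range F' ∧
      blockHeight 2 B (χ ψ : G → ℂ) = blockHeight 2 c (ψ : T → ℂ)) ∧
    ∀ ρ ∈ B, ρ ∈ Set.range F' ∨ ∃ ψ ∈ J, χ ψ = ρ := by
  classical
  have hS : Ctrl T (xc D) := hT ▸ ctrl_cyc D
  have hpre : ((↑) ⁻¹' xc D : Set T) = xc (D.subgroupOf h'.le) := preimage_a_image D h'.le _
  have hb := Sh.quad.gen
  have hpb := hpre ▸ Sh.prj_b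
  have hpa := fun ψ hψ => hpre ▸ Sh.prj_a ψ hψ
  have hga := fun ψ (hψ : ψ ∈ J) => Sh.gen_a hψ
  have hb' := h'.prj_indFun_self h hM hS hb.isClassFunction hpb
  have ha' := fun ψ hψ => h'.prj_indFun_self h hM hS (hga ψ hψ).isClassFunction (hpa ψ hψ)
  have hb1 : indFun T b 1 = 0 := by rw [← hb']; exact prj_apply_one (one_notMem_xc D)
  have ha1 : ∀ ψ ∈ J, indFun T (s ψ + (f 0 + f (κ ψ))) 1 = 0 := fun ψ hψ => by
    rw [← ha' ψ hψ]; exact prj_apply_one (one_notMem_xc D)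
  have hg : ∀ ψ ∈ J, ∀ ψ' ∈ J, classInner (indFun T (s ψ + (f 0 + f (κ ψ))))
      (indFun T (s ψ' + (f 0 + f (κ ψ')))) =
        (if ψ = ψ' then 1 else 0) + if κ ψ = κ ψ' then 2 else 1 := fun ψ hψ ψ' hψ' => by
    rw [h'.classInner_indFun hM hS (hga ψ' hψ').isClassFunction (hpa ψ' hψ') (hpa ψ hψ),
      Sh.quad.inner_trip (Sh.trip hψ) (Sh.trip hψ'), Sh.inner_s hψ hψ', if_pos rfl]
  obtain ⟨F', f', hq⟩ := exists_quad (isGeneralizedCharacter_indFun hb) (by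
    rw [h'.classInner_indFun hM hS hb.isClassFunction hpb hpb]
    nth_rw 1 [← Sh.quad.sum]
    simp [classInner_sum_left, Sh.inner_f_b]) hb1
  have ht : ∀ ψ, ∃ x χ k σ, ψ ∈ J → Trip F' f' (indFun T (s ψ + (f 0 + f (κ ψ)))) x χ k σ :=
    fun ψ => by
      by_cases hψ : ψ ∈ J
      · obtain ⟨x, χ, k, σ, t⟩ := hq.exists_trip (isGeneralizedCharacter_indFun (hga ψ hψ))
          (by rw [hg ψ hψ ψ hψ]; norm_num) (by
            rw [h'.classInner_indFun hM hS hb.isClassFunction hpb (hpa ψ hψ)]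
            simp only [classInner_add_left, Sh.inner_s_b hψ, Sh.inner_f_b]; norm_num)
        exact ⟨x, χ, k, σ, fun _ => t⟩
      · exact ⟨0, F' 0, 0, true, fun h => absurd h hψ⟩
  choose x χ k σ t using ht
  have hx : ∀ ψ ∈ J, ∀ {y ρ}, Sg y ρ → ρ ∉ Set.range F' →
      classInner y (indFun T (s ψ + (f 0 + f (κ ψ)))) = classInner y (x ψ) := fun ψ hψ y ρ h1 h2 => by
    rw [(t ψ hψ).eq, classInner_add_right, hq.inner_pr_of_notMem h1 h2, add_zero]
  have hxb : ∀ {y ρ}, Sg y ρ → ρ ∉ Set.range F' → classInner y (indFun T b) = 0 := fun h1 h2 => by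
    simp [← hq.sum, classInner_sum_right, hq.inner_of_notMem h1 h2]
  have hF : ∀ i, F' i ∈ B := fun i => by_contra fun h1 => hq.inner_ne_zero_iff.2 ⟨i, rfl⟩
    (hb' ▸ h.classInner_prj_of_notMem hM hB (indFun_isClassFunction _) h1)
  have hχ : ∀ ψ ∈ J, χ ψ ∈ B := fun ψ hψ => by_contra fun h1 => by
    have h2 := h.classInner_prj_of_notMem hM hB (S := xc D)
      (indFun_isClassFunction (s ψ + (f 0 + f (κ ψ)))) h1
    rw [ha' ψ hψ, ← (t ψ hψ).sg.inner_eq_zero, (isGeneralizedCharacter_indFun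
      (hga ψ hψ)).classInner_comm (t ψ hψ).sg.gen, hx ψ hψ (t ψ hψ).sg (t ψ hψ).notMem,
      (t ψ hψ).sg.inner_self] at h2
    exact one_ne_zero h2
  have hall : ∀ ρ ∈ B, ρ ∈ Set.range F' ∨ ∃ ψ ∈ J, χ ψ = ρ := fun ρ hρ => by
    by_contra! h1
    have hc := ρ.2.isClassFunction
    have h2 := prj_res_eq hM h' Sh hc isClassFunction_zero
      (by rw [hxb (sg_self ρ) h1.1, classInner_zero_left]) fun ψ hψ => by
        rw [hx ψ hψ (sg_self ρ) h1.1, (sg_self ρ).inner_of_ne (t ψ hψ).sg (h1.2 ψ hψ).symm,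
          classInner_zero_left]
    refine h.prj_ne_zero_of_major hM hB (D.a_mem _) (le_centralizer_z D) hρ ?_
    rw [← prj_prj_of_imp (S' := xc D) hM hc fun v _ hv =>
      hv.mono (Set.singleton_subset_iff.2 ⟨_, D.h2, rfl⟩), h'.prj_eq_indFun h hM hS hc, hpre, h2,
      map_zero, indFun_zero, map_zero]
  have hinj : Set.InjOn χ J := by
    refine (hq.embed (κ := κ) t hb1 ha1 (fun i hi j hj h1 => by rw [hg i hi j hj, if_neg h1, zero_add])
      fun i _ h1 => ?_).resolve_right fun ⟨h1, h2, h3⟩ => ?_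
    · by_cases h2 : κ i = 1
      · have h3 := Sh.card1
        rw [← h2, h1] at h3
        rcases hn : n - 1 with _ | k <;> rw [hn] at h3 <;> omega
      · have := Sh.card2 _ h2
        omega
    choose! j hj hk using h3
    have hn : 3 ≤ n := by
      by_contra h4
      have h5 := Finset.filter_true_of_mem (s := J) (p := fun i => κ i = κ (j 1))
        fun i hi => (h2 i hi _ (hj 1 (by decide))).1
      have h6 := Sh.card1
      rw [show n - 1 = 1 by have := D.two_le; omega] at h6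
      by_cases h7 : κ (j 1) = 1
      · rw [← h7, h5] at h6; omega
      · have := Sh.card2 _ h7
        rw [h5] at this; omega
    have hj1 := hj 1 (by decide)
    have hz2 : IsPPart 2 (D.a (2 * zq n)) (D.a (2 * zq n)) :=
      isPPart_self Nat.prime_two ⟨1, D.orderOf_z⟩
    have hz : ∀ θ, IsClassFunction T θ → prj 2 M (P.subgroupOf T) e' ((↑) ⁻¹' xc D) θ = θ →
        indFun T θ (D.a (2 * zq n)) = θ ((D.subgroupOf h'.le).a (2 * zq n)) := fun θ h4 h5 =>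
      SubMax.indFun_apply hM hS h4 h5 (g := (D.subgroupOf h'.le).a (2 * zq n))
        ((ppart_eq Nat.prime_two hz2).symm ▸ ⟨_, D.h2, rfl⟩)
    have h3 : ∀ ψ ∈ J, indFun T (s ψ + (f 0 + f (κ ψ))) =
        x (j 1) + pr f' (k ψ) (σ (j (k ψ))) := fun ψ hψ => by
      have h4 := hj _ (t ψ hψ).ne
      by_cases h5 : ψ = j (k ψ)
      · rw [← h5, (t ψ hψ).eq, (h2 ψ hψ _ hj1).2.2]
      · rcases hq.trip_two (t ψ hψ) (t _ h4) (by
          rw [hg ψ hψ _ h4, if_neg h5, if_pos (h2 ψ hψ _ h4).1, zero_add]) with h6 | h6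
        exacts [absurd (h2 ψ hψ _ h4).2.1 h6.1, absurd (hk _ (t ψ hψ).ne).symm h6.2.2]
    have h4 : ∀ l ≠ 0, indFun T (s (j l) + (f 0 + f (κ (j l)))) = x (j 1) + pr f' l (σ (j l)) :=
      fun l hl => by rw [h3 _ (hj l hl), hk l hl]
    obtain ⟨U, hU⟩ : ∃ U : Finset G, ∀ u, u ∈ U ↔ IsConj (D.a (2 * zq n)) u :=
      ⟨Finset.univ.filter _, fun u => (Finset.mem_filter_univ u)⟩
    have hU' : ∀ g u, g * u * g⁻¹ ∈ U ↔ u ∈ U := fun g u => by
      rw [hU, hU]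
      exact ⟨fun h => h.trans (isConj_iff.2 ⟨g, rfl⟩).symm, fun h => h.trans (isConj_iff.2 ⟨g, rfl⟩)⟩
    have hU0 : (U.card : ℂ) ^ 2 ≠ 0 :=
      pow_ne_zero _ (Nat.cast_ne_zero.2 (Finset.card_ne_zero_of_mem ((hU _).2 (by rfl))))
    have h5 := exc_alg (D := fun i => f' i 1) (y := fun i => f' i (D.a (2 * zq n)))
      (yX := x (j 1) (D.a (2 * zq n))) (σ := fun l => σ (j l)) (t _ hj1).sg.one_ne
      (by rw [← Finset.sum_apply, hq.sum, hb1])
      (by rw [← Finset.sum_apply, hq.sum, hz b hb.isClassFunction hpb, Sh.b_z])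
      (fun l hl => by rw [← pr_apply, ← Pi.add_apply, ← h4 l hl, ha1 _ (hj l hl)]) (by
        have h5 := block_orth hM hB (isPPart_one (p := 2) (y := 1) (by simp)) hz2
          fun h => D.h2 (D.a_eq_one_iff.1 (isConj_one_right.1 h))
        rw [sum_block (J := {χ (j 1)}) hq.inj hF fun ρ => ⟨fun h => Finset.mem_singleton.1 h ▸
          ⟨hχ _ hj1, (t _ hj1).notMem⟩, fun h => by
            obtain ⟨ψ, hψ, rfl⟩ := (hall ρ h.1).resolve_left h.2
            exact Finset.mem_singleton.2 (h2 ψ hψ _ hj1).2.1⟩, Finset.sum_singleton, D.a_inv,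
          show -(2 * zq n) = 2 * zq n by linear_combination -D.h4] at h5
        simp only [(hq.sg _).apply_mul, (t _ hj1).sg.apply_mul]
        rwa [add_comm]) (fun l hl => by
        have h5 := kap_indFun_sub hM hT h' Sh hU hj1 (hj l hl) (h2 _ hj1 _ (hj l hl)).1
        have h6 : (fun i => kap U (f' i)) =
            fun i => AddMonoidHom.mulLeft ((U.card : ℂ) ^ 2) (f' i (D.a (2 * zq n)) ^ 2 / f' i 1) := by
          funext i
          rw [(hq.sg i).kap hU', Finset.sum_congr rfl fun u hu =>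
            ((hq.sg i).cls.apply_eq_of_isConj ((hU u).1 hu)).symm, Finset.sum_const, nsmul_eq_mul,
            AddMonoidHom.coe_mulLeft]
          ring
        rw [h4 1 (by decide), h4 l hl, map_add, map_add, add_right_inj, map_pr, map_pr, h6,
          ← map_pr, ← map_pr] at h5
        exact mul_left_cancel₀ hU0 h5) (by
        obtain ⟨ψ, hψ, h5⟩ := Sh.ev hn
        exact ⟨k ψ, (t ψ hψ).ne, by rw [← pr_apply, ← Pi.add_apply, ← h3 ψ hψ,
          hz _ (hga ψ hψ).isClassFunction (hpa ψ hψ), h5]⟩)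
    obtain ⟨ψ, hψ, h6⟩ := Sh.od hn
    refine h6 ?_
    rw [← hz _ (hga ψ hψ).isClassFunction (hpa ψ hψ), h3 ψ hψ, Pi.add_apply, pr_apply,
      h5 _ (t ψ hψ).ne]
  have hpx : ∀ ψ ∈ J, prj 2 M (P.subgroupOf T) e' (xc (D.subgroupOf h'.le)) (fun g : T => x ψ g) =
      prj 2 M (P.subgroupOf T) e' (xc (D.subgroupOf h'.le)) (s ψ) := fun ψ hψ =>
    prj_res_eq hM h' Sh (t ψ hψ).sg.cls (Sh.sg ψ hψ).cls
      (by rw [hxb (t ψ hψ).sg (t ψ hψ).notMem, Sh.inner_s_b hψ]) fun ψ' hψ' => by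
        rw [hx ψ' hψ' (t ψ hψ).sg (t ψ hψ).notMem, Sh.inner_s_a hψ hψ']
        split_ifs with h1
        exacts [h1 ▸ (t ψ hψ).sg.inner_self,
          (t ψ hψ).sg.inner_of_ne (t ψ' hψ').sg fun h => h1 (hinj hψ hψ' h)]
  have hpf : ∀ i, ∃ m : IrrCharacter T → ℤ,
      prj 2 M (P.subgroupOf T) e' (xc (D.subgroupOf h'.le)) (fun g : T => f' i g) =
      prj 2 M (P.subgroupOf T) e' (xc (D.subgroupOf h'.le)) (f 0 + ∑ ρ ∈ J, (m ρ : ℂ) • s ρ) := by
    intro i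
    choose! m hm using fun ψ (hψ : ψ ∈ J) =>
      (hq.sg i).gen.exists_int_classInner (isGeneralizedCharacter_indFun (hga ψ hψ))
    refine ⟨fun ψ => m ψ - 1, prj_res_eq hM h' Sh (hq.sg i).cls ((Sh.quad.sg 0).cls.add
      (isClassFunction_sum _ _ fun ρ hρ => (Sh.sg ρ hρ).cls.smul _)) ?_ fun ψ hψ => ?_⟩
    · rw [(hq.sg i).gen.classInner_comm hq.gen, hq.inner_left, classInner_add_left, Sh.inner_f_b,
        classInner_sum_left, Finset.sum_eq_zero fun ρ hρ => by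
          rw [classInner_smul_left, Sh.inner_s_b hρ, mul_zero], add_zero]
    · rw [hm ψ hψ, classInner_add_left, classInner_sum_left, Finset.sum_congr rfl fun ρ hρ => by
        rw [classInner_smul_left, Sh.inner_s_a hρ hψ]]
      simp [hψ, classInner_add_right, Sh.quad.inner, (Sh.ne ψ hψ).symm,
        Sh.quad.inner_of_notMem' (Sh.sg ψ hψ) ((Sh.memJ ψ).1 hψ).2]
  have hγ : ∀ m : IrrCharacter T → ℤ, IsClassFunction T (f 0 + ∑ ρ ∈ J, (m ρ : ℂ) • s ρ) := fun m =>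
    (Sh.quad.sg 0).cls.add (isClassFunction_sum _ _ fun ρ hρ => (Sh.sg ρ hρ).cls.smul _)
  have h0 : ∀ i, blockHeight 2 B (F' i : G → ℂ) = 0 := fun i => by
    obtain ⟨m, hm⟩ := hpf i
    refine ((h.val_cm_eq_one_iff hM hB (fc_of_central (D.a_mem _) (le_centralizer_z D)) _
      (F' i)).1 ?_).1.2
    have h1 := Sh.val_cm h'.isMax hM h'.blk m (Sh.quad.sg 0) ((Sh.ht _).1 ⟨0, rfl⟩).1
    rw [((Sh.ht _).1 ⟨0, rfl⟩).2, pow_zero] at h1
    rw [← (hq.sg i).val_cm (hq.sg i), cm_eq_of_prj h hM hT h' (hq.sg i).cls (hq.sg i).cls (hγ m)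
      (hγ m) hm hm, cm_add_right, Valuation.map_add_eq_of_lt_left _ _, h1]
    rw [h1, cm_sum_right]
    refine val_sum_lt_one _ _ fun ρ hρ => ?_
    have h2 := (Sh.memJ ρ).1 hρ
    rw [cm_smul_right, map_mul, map_intCast, Sh.val_cm h'.isMax hM h'.blk m (Sh.sg ρ hρ) h2.1]
    exact (mul_le_of_le_one_left' (val_intCast_le_one _)).trans_lt (pow_lt_one₀ zero_le
      (val_prime_lt_one hM) fun h3 => h2.2 ((Sh.ht ρ).2 ⟨h2.1, h3⟩))
  refine ⟨F', χ, hq.inj, hinj, fun i => ⟨hF i, h0 i⟩, fun ψ hψ => ⟨hχ ψ hψ, (t ψ hψ).notMem, ?_⟩,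
    hall⟩
  obtain ⟨m, hm⟩ := hpf 0
  have h1 := (h.val_cm_eq_iff_of_major hM hB (D.a_mem _) (le_centralizer_z D) (hF 0) (hχ ψ hψ)).2
    (h0 0)
  rw [← (hq.sg 0).val_cm (t ψ hψ).sg, cm_eq_of_prj h hM hT h' (hq.sg 0).cls (t ψ hψ).sg.cls (hγ m)
    (Sh.sg ψ hψ).cls hm (hpx ψ hψ),
    Sh.val_cm h'.isMax hM h'.blk m (Sh.sg ψ hψ) ((Sh.memJ ψ).1 hψ).1] at h1
  exact le_antisymm ((val_prime_pow_le_iff hM).1 h1.le) ((val_prime_pow_le_iff hM).1 h1.ge)

end CL.Blk.MCB
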