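/-
2-blocks with defect groups of maximal class: the numerical invariants (Brauer, Olsson).
-/
import Cfsg.Agent.Blk.MCTrans
import Cfsg.Agent.Inv.DihStruct

set_option autoImplicit false
set_option linter.unusedSectionVars false
set_option linter.style.haveILetI false

namespace CL.Blk.MCB

open MonoidAlgebra Cfsg CL.Char CL.Grp CL.Blk.Rk CL.Blk.Pair CL.Inv Subgroup

universe u

variable {G : Type u} [Group G] [Fintype G] {M : Ideal AlgInt} {P : Subgroup G} {n : ℕ}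
  {r d : ZMod (2 ^ n)} {e : (resField M)[G]} {B : Set (IrrCharacter G)}

/-- The numbers of characters of the various heights. -/
structure Counts (B : Set (IrrCharacter G)) (n η : ℕ) : Prop where
  card : Nat.card B + η = 2 ^ (n - 1) + 5
  zero : Nat.card {χ : IrrCharacter G // χ ∈ B ∧ blockHeight 2 B (χ : G → ℂ) = 0} = 4
  ht : ∀ χ ∈ B, blockHeight 2 B (χ : G → ℂ) = 0 ∨ blockHeight 2 B (χ : G → ℂ) = 1 ∨
    blockHeight 2 B (χ : G → ℂ) = n - 1
  one : 3 ≤ n →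
    Nat.card {χ : IrrCharacter G // χ ∈ B ∧ blockHeight 2 B (χ : G → ℂ) = 1} = 2 ^ (n - 1) - 1
  le_one : η = 2 → ∀ χ ∈ B, blockHeight 2 B (χ : G → ℂ) ≤ 1

theorem card_of_cover {ι : Type*} {F : Fin 4 → IrrCharacter G} {χ : ι → IrrCharacter G}
    {J : Finset ι} (hF : Function.Injective F) (hχ : Set.InjOn χ J) (h1 : ∀ i, F i ∈ B)
    (h2 : ∀ j ∈ J, χ j ∈ B ∧ χ j ∉ Set.range F)
    (h3 : ∀ ρ ∈ B, ρ ∈ Set.range F ∨ ∃ j ∈ J, χ j = ρ) : Nat.card B = 4 + J.card := by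
  rw [show B = Set.range F ∪ χ '' J from Set.ext fun ρ => ⟨h3 ρ, by
      rintro (⟨i, rfl⟩ | ⟨j, hj, rfl⟩)
      exacts [h1 i, (h2 j hj).1]⟩, Nat.card_coe_set_eq, Set.ncard_union_eq (Set.disjoint_right.2 (by
      rintro _ ⟨j, hj, rfl⟩; exact (h2 j hj).2)), Set.ncard_range_of_injective hF,
    hχ.ncard_image, Set.ncard_coe_finset]
  simp

theorem et0_le (D : MC P n r d) : et0 D e ≤ 1 := by unfold et0; split_ifs <;> simp

theorem et1_le (D : MC P n r d) : et1 D e ≤ 1 := by unfold et1; split_ifs <;> simp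

section Central

variable (D : MC P n r d) (hz : ∀ g, g * D.a (2 * zq n) = D.a (2 * zq n) * g)
include hz

theorem not_isConj_b_a {i j : ZMod (2 ^ n)} (hi : r * i + d = 0) : ¬ IsConj (D.b i) (D.a j) :=
  fun h => by
    obtain ⟨x, hx⟩ := isConj_iff.1 h
    rw [D.a_involution (i := j) (hx ▸ ((MulAut.conj x).orderOf_eq _).trans
      (D.orderOf_b_of_zero hi))] at h
    exact D.b_ne_a _ _ (eq_z_of_isConj hz h)

theorem et0_of_central (hd : d = 0) : et0 D e = 1 := by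
  refine if_neg ?_
  rintro ⟨_, ⟨j, rfl⟩, h⟩
  exact not_isConj_b_a D hz (by rw [hd, mul_zero, add_zero]) h.isConj

theorem et1_of_central (h : IsMax 2 ⊤ ⊤ (eBlk M B) P e) (hM : IsPModular 2 M) (hr : r = 0)
    (hd : d = 0) : et1 D e = 1 := by
  have := charP_resField hM
  have h0 : ∀ i, r * i + d = 0 := fun i => by rw [hr, hd, zero_mul, add_zero]
  have hn : IsNil 2 ⊤ ⊤ (eBlk M B) := by
    refine h.isNil_of_index_two (X := zpowers (D.a 1))
      (fun u hu v hv => mul_inv_mem_cyc D hu hv) fun g _ ho Q hQ hg => ?_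
    have h3 : IsCyclic (Q ⊓ zpowers (D.a 1) : Subgroup G) := isCyclic_of_le inf_le_right
    refine mem_centralizer_of_isCyclic (D.isPGroup.to_le (inf_le_left.trans hQ)) ?_ ho
    refine mem_normalizer_fintype fun q hq => ?_
    have h4 := (mem_normalizer_iff.1 hg q).1 hq.1
    obtain ⟨i, rfl⟩ := D.mem_cyc.1 hq.2
    obtain ⟨j, h5 | h5⟩ := (D.mem _).1 (hQ h4)
    · exact ⟨h4, D.mem_cyc.2 ⟨j, h5⟩⟩
    · exact absurd (isConj_iff.2 ⟨g, h5⟩).symm (not_isConj_b_a D hz (h0 j))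
  refine if_neg ?_
  rintro ⟨_, ⟨j, rfl⟩ | rfl, h1⟩
  · exact not_isConj_b_a D hz (h0 _) h1.isConj
  obtain ⟨x, hx⟩ := isConj_iff.1
    ((h.mem_fcls_iff_of_isNil hM hn (v := bP D 1) (w := bP D 0)).1 h1)
  have h2 := congrArg Subtype.val hx
  have h3 := zm_even_ne_odd (n := n) (D.two_le.trans' one_le_two)
  obtain ⟨j, rfl | rfl⟩ := exists_aP_or_bP D x
  · exact h3 0 j (by linear_combination -D.b_eq_iff.1 ((D.conj_a_b 1 j).symm.trans h2) - j * hr)
  · exact h3 j 0 (by linear_combination D.b_eq_iff.1 ((D.conj_b_b 1 j).symm.trans h2) - (1 + j) * hr)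

end Central

variable {D : MC P n r d} {T : Subgroup G} [Fintype T] {c : Set (IrrCharacter T)}
  {e' : (resField M)[T]} (h : IsMax 2 ⊤ ⊤ (eBlk M B) P e) (hM : IsPModular 2 M)
  (hT : T = centralizer {D.a (2 * zq n)}) (h' : SubMax 2 M P e T c e')

section

include h hM hT h'

theorem meets_b_iff {i : ZMod (2 ^ n)} (hi : r * i + d = 2 * zq n) {A : Set G} (hA : A ⊆ P) :
    Meets 2 P e A (D.b i) ↔
      Meets 2 (P.subgroupOf T) e' ((↑) ⁻¹' A) ((D.subgroupOf h'.le).b i) := by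
  have hS : Ctrl T {s | D.a (2 * zq n) ∈ zpowers s ∧
      ∀ t ∈ zpowers s, orderOf t = 2 → t = D.a (2 * zq n)} :=
    hT ▸ ctrl_z D (fun _ h => h.1) fun _ h => h.2
  have h1 : ∀ w ∈ P, IsConj (D.b i) w → D.a (2 * zq n) ∈ zpowers w ∧
      ∀ t ∈ zpowers w, orderOf t = 2 → t = D.a (2 * zq n) := fun w hw h1 => by
    obtain ⟨x, hx⟩ := isConj_iff.1 h1
    have h2 : orderOf w = 4 := hx ▸ ((MulAut.conj x).orderOf_eq _).trans (D.orderOf_b_of_half hi)
    obtain ⟨j, rfl | rfl⟩ := (D.mem w).1 hw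
    · exact ⟨z_mem_zpowers_a D (by rintro rfl; simp [D.a_zero] at h2),
        fun t => eq_z_of_mem_zpowers_a D⟩
    have h3 : D.b j ^ 2 = D.a (2 * zq n) := by rw [sq, D.b_mul_self, D.b_order_four h2]
    refine ⟨h3 ▸ pow_mem (mem_zpowers _) 2, fun t ht h4 => ?_⟩
    obtain ⟨k, rfl⟩ := (mem_powers_iff_mem_zpowers.2 ht : t ∈ Submonoid.powers _)
    obtain ⟨l, rfl⟩ : 2 ∣ k := by
      have := orderOf_dvd_iff_pow_eq_one.2 (show D.b j ^ (k * 2) = 1 by
        rw [pow_mul, ← h4]; exact pow_orderOf_eq_one _)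
      rw [h2] at this
      omega
    simp only [pow_mul, h3] at h4 ⊢
    exact eq_z_of_mem_zpowers_a D (pow_mem (mem_zpowers _) l) h4
  have h2 := h1 _ (D.b_mem i) (by rfl)
  refine ⟨fun ⟨w, hw, h3⟩ => ⟨⟨w, h'.le (hA hw)⟩, hw, ?_⟩, fun ⟨w, hw, h3⟩ => ⟨w, hw, ?_⟩⟩
  · exact (h'.fus_iff h hM hS (u := (D.subgroupOf h'.le).b i) (w := ⟨w, h'.le (hA hw)⟩)
      (D.b_mem i) h2 (h1 w (hA hw) h3.isConj)).1 h3
  · exact (h'.fus_iff h hM hS (u := (D.subgroupOf h'.le).b i) (D.b_mem i) h2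
      (h1 w (hA hw) (T.subtype.map_isConj h3.isConj))).2 h3

omit h hM hT in
theorem preimage_range_a : ((↑) ⁻¹' Set.range D.a : Set T) = Set.range (D.subgroupOf h'.le).a :=
  Set.ext fun _ => exists_congr fun _ => ⟨fun h => Subtype.ext h, fun h => congrArg Subtype.val h⟩

theorem et0_eq (hd : d = 2 * zq n) : et0 D e = et0 (D.subgroupOf h'.le) e' := by
  unfold et0
  rw [meets_b_iff h hM hT h' (by rw [mul_zero, zero_add, hd])
    (Set.range_subset_iff.2 D.a_mem), preimage_range_a h']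

theorem et1_eq (hd : r + d = 2 * zq n) : et1 D e = et1 (D.subgroupOf h'.le) e' := by
  unfold et1
  rw [meets_b_iff h hM hT h' (by rw [mul_one, hd]) (Set.union_subset
    (Set.range_subset_iff.2 D.a_mem) (Set.singleton_subset_iff.2 (D.b_mem 0))), Set.preimage_union,
    preimage_range_a h', show ((↑) ⁻¹' {D.b 0} : Set T) = {(D.subgroupOf h'.le).b 0} from
      Set.ext fun _ => ⟨fun h => Subtype.ext h, fun h => congrArg Subtype.val h⟩]

omit h hM in
theorem z_central (g : T) :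
    g * (D.subgroupOf h'.le).a (2 * zq n) = (D.subgroupOf h'.le).a (2 * zq n) * g :=
  Subtype.ext (mem_centralizer_singleton_iff.1 (hT ▸ g.2))

theorem counts_aux (hB : IsPBlock M B) (h5 : n = 4 →
    5 < {χ ∈ c | Par ((D.subgroupOf h'.le).a (2 * zq n)) 1 (χ : T → ℂ)}.ncard) :
    Counts B n (et0 (D.subgroupOf h'.le) e' + et1 (D.subgroupOf h'.le) e') ∧
      blockRank 2 B + et0 D e + et1 D e = 3 := by
  classical
  obtain ⟨b, F, f, J, s, κ, Sh⟩ := exists_shape h'.isMax hM (z_central hT h') h'.blk h5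
  obtain ⟨F', χ, h1, h2, h3, h4, h6⟩ := exists_transfer h hM hB hT h' Sh
  have hn := D.two_le
  have h7 := card_of_cover h1 h2 (fun i => (h3 i).1) (fun j hj => ⟨(h4 j hj).1, (h4 j hj).2.1⟩) h6
  have h8 := card_of_cover (χ := id) Sh.quad.inj (Set.injOn_id _)
    (fun i => ((Sh.ht _).1 ⟨i, rfl⟩).1) (fun j hj => (Sh.memJ j).1 hj) fun ρ hρ =>
      or_iff_not_imp_left.2 fun h => ⟨ρ, (Sh.memJ ρ).2 ⟨hρ, h⟩, rfl⟩
  have h9 : ∀ ψ ∈ J, blockHeight 2 B (χ ψ : G → ℂ) = if κ ψ = 1 then 1 else n - 1 :=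
    fun ψ hψ => (h4 ψ hψ).2.2.trans (Sh.htJ ψ hψ)
  have hc := Sh.card
  have hc1 := Sh.card1
  refine ⟨⟨by omega, ?_, fun ρ hρ => ?_, fun hn => ?_, fun hη ρ hρ => ?_⟩, ?_⟩
  · rw [show {χ : IrrCharacter G // χ ∈ B ∧ blockHeight 2 B (χ : G → ℂ) = 0} = Set.range F' from
      congrArg Subtype (funext fun ρ => propext ⟨fun h => (h6 ρ h.1).resolve_right ?_, ?_⟩),
      Nat.card_range_of_injective h1]
    · simp
    · rintro ⟨ψ, hψ, rfl⟩
      have := h9 ψ hψ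
      split_ifs at this <;> omega
    · rintro ⟨i, rfl⟩
      exact h3 i
  · rcases h6 ρ hρ with ⟨i, rfl⟩ | ⟨ψ, hψ, rfl⟩
    · exact Or.inl (h3 i).2
    · rw [h9 ψ hψ]; split_ifs <;> simp
  · rw [show {χ : IrrCharacter G // χ ∈ B ∧ blockHeight 2 B (χ : G → ℂ) = 1} =
      (χ '' (J.filter (κ · = 1)) : Set _) from congrArg Subtype (funext fun ρ => propext
        ⟨fun h => ?_, ?_⟩), Nat.card_coe_set_eq,
      (h2.mono (Finset.coe_subset.2 (Finset.filter_subset _ _))).ncard_image, Set.ncard_coe_finset]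
    · omega
    · rcases h6 ρ h.1 with ⟨i, rfl⟩ | ⟨ψ, hψ, rfl⟩
      · have := (h3 i).2; omega
      · have := h9 ψ hψ
        refine ⟨ψ, ?_, rfl⟩
        split_ifs at this with h10
        exacts [by simp [hψ, h10], by omega]
    · rintro ⟨ψ, hψ, rfl⟩
      rw [Finset.mem_coe, Finset.mem_filter] at hψ
      exact ⟨(h4 ψ hψ.1).1, by rw [h9 ψ hψ.1, if_pos hψ.2]⟩
  · rcases h6 ρ hρ with ⟨i, rfl⟩ | ⟨ψ, hψ, rfl⟩
    · rw [(h3 i).2]; exact zero_le_one
    · rw [h9 ψ hψ, if_pos (Finset.filter_card_eq (p := fun ψ => κ ψ = 1) (by omega) ψ hψ)]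
  · have h10 := card_eq_prjTr D h hM hB
    have h11 := card_eq_prjTr (D.subgroupOf h'.le) h'.isMax hM h'.blk
    have h12 : (blockRank 2 c + et0 (D.subgroupOf h'.le) e' + et1 (D.subgroupOf h'.le) e' : ℂ) = 3 := by
      exact_mod_cast Sh.rank
    rw [h'.prjTr_eq h hM (hT ▸ ctrl_cyc D), preimage_a_image D h'.le, h7] at h10
    rw [h8] at h11
    exact_mod_cast (show (blockRank 2 B + et0 D e + et1 D e : ℂ) = 3 by
      linear_combination h11 - h10 + h12)

end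

theorem exists_subMax_z (D : MC P n r d) (h : IsMax 2 ⊤ ⊤ (eBlk M B) P e) (hM : IsPModular 2 M) :
    ∃ c e', SubMax 2 M P e (centralizer {D.a (2 * zq n)}) c e' := by
  have := Fintype.ofFinite (centralizer {D.a (2 * zq n)})
  exact h.exists_subMax hM (le_centralizer_z D)
    (centralizer_le (Set.singleton_subset_iff.2 (D.a_mem _)))

theorem card_of_dihedral_sixteen (hM : IsPModular 2 M) (hB : IsPBlock M B)
    (hP : IsDefectGroup 2 M B P) (D : MC P 3 0 0) : Nat.card B = 7 := by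
  have := Fintype.ofFinite (centralizer {D.a (2 * zq 3)})
  obtain ⟨e, h⟩ := exists_isMax_of_isDefectGroup hM hB hP
  obtain ⟨c, e', h'⟩ := exists_subMax_z D h hM
  have h1 := (counts_aux h hM rfl h' hB (by omega)).1.card
  rw [et0_of_central _ (z_central rfl h') rfl,
    et1_of_central _ (z_central rfl h') h'.isMax hM rfl rfl] at h1
  omega

theorem five_lt_ncard_even (D : MC P n r d) (h : IsMax 2 ⊤ ⊤ (eBlk M B) P e) (hM : IsPModular 2 M)
    (hz : ∀ g, g * D.a (2 * zq n) = D.a (2 * zq n) * g) (hB : IsPBlock M B) (hn : n = 4) :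
    5 < {χ ∈ B | Par (D.a (2 * zq n)) 1 (χ : G → ℂ)}.ncard := by
  subst hn
  have : (zpowers (D.a (2 * zq 4))).Normal := ⟨fun g ⟨k, hk⟩ x => ⟨k, by
    simp only [← hk, ← conj_zpow, hz, mul_inv_cancel_right]⟩⟩
  have := Fintype.ofFinite (G ⧸ zpowers (D.a (2 * zq 4)))
  obtain ⟨b, hb, h1, h2⟩ := exists_dominated_isDefectGroup (N := zpowers (D.a (2 * zq 4))) hM
    (D.isPGroup.to_le (zpowers_le.2 (D.a_mem _))) hB (h.isDefectGroup hM hB)
  obtain ⟨φ⟩ := D.nonempty_dihedral_map (QuotientGroup.mk' (zpowers (D.a (2 * zq 4))))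
    fun g _ => QuotientGroup.eq_one_iff g
  obtain ⟨D'⟩ := nonempty_MC_of_dihedral (n := 3) (by norm_num) φ
  have h3 := card_of_dihedral_sixteen hM hb h2 D'
  rw [Nat.card_coe_set_eq, ← Set.ncard_image_of_injective _ inflIrr_injective] at h3
  refine lt_of_lt_of_le (by omega) (h3.ge.trans (Set.ncard_le_ncard ?_))
  rintro _ ⟨χ, hχ, rfl⟩
  exact ⟨h1 hχ, fun g => by simp only [inflIrr_apply, QuotientGroup.mk_mul,
    (QuotientGroup.eq_one_iff _).2 (mem_zpowers _), one_mul]⟩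

/-- The invariants of a 2-block whose defect group has maximal class. -/
theorem exists_counts (hM : IsPModular 2 M) (hB : IsPBlock M B) (hP : IsDefectGroup 2 M B P)
    (D : MC P n r d) : ∃ η₀ η₁ η₀' η₁' : ℕ, Counts B n (η₀' + η₁') ∧
      blockRank 2 B + η₀ + η₁ = 3 ∧ η₀ ≤ 1 ∧ η₁ ≤ 1 ∧ η₀' ≤ 1 ∧ η₁' ≤ 1 ∧ (d = 0 → η₀' = 1) ∧
      (r = 0 → d = 0 → η₁' = 1) ∧ (d = 2 * zq n → η₀ = η₀') ∧ (r + d = 2 * zq n → η₁ = η₁') := by
  have := Fintype.ofFinite (centralizer {D.a (2 * zq n)})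
  obtain ⟨e, h⟩ := exists_isMax_of_isDefectGroup hM hB hP
  obtain ⟨c, e', h'⟩ := exists_subMax_z D h hM
  have hz := z_central rfl h'
  obtain ⟨h1, h2⟩ := counts_aux h hM rfl h' hB (five_lt_ncard_even _ h'.isMax hM hz h'.blk)
  exact ⟨_, _, _, _, h1, h2, et0_le _, et1_le _, et0_le _, et1_le _, et0_of_central _ hz,
    et1_of_central _ hz h'.isMax hM, et0_eq h hM rfl h', et1_eq h hM rfl h'⟩

end CL.Blk.MCB
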