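/-
2-blocks with defect groups of maximal class: the rank in terms of the fusion.
-/
import Cfsg.Agent.Blk.MCMain
import Cfsg.Agent.Blk.TameSolv

set_option autoImplicit false

namespace CL.Blk

open MonoidAlgebra Cfsg CL.Blk.Pair CL.Blk.MCB CL.Inv

universe u

/-- `l(B) = 1 + [b₀ is fused into the cyclic subgroup] + [b₁ is fused into it or to b₀]`. -/
theorem MCB.blockRank_add_et {G : Type u} [Group G] [Fintype G] {M : Ideal AlgInt}
    {P : Subgroup G} {n : ℕ} {r d : ZMod (2 ^ n)} {e : (resField M)[G]}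
    {B : Set (IrrCharacter G)} (D : MC P n r d) (h : IsMax 2 ⊤ ⊤ (eBlk M B) P e)
    (hM : IsPModular 2 M) (hB : IsPBlock M B) : blockRank 2 B + et0 D e + et1 D e = 3 := by
  have := Fintype.ofFinite (Subgroup.centralizer {D.a (2 * zq n)})
  obtain ⟨c, e', h'⟩ := exists_subMax_z D h hM
  exact (counts_aux h hM rfl h' hB
    (five_lt_ncard_even _ h'.isMax hM (z_central rfl h') h'.blk)).2

theorem tameRank : TameRank.{u} := by
  intro G _ _ M B P n r D hM hB hP h3
  have := Fintype.ofFinite G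
  obtain ⟨e, h⟩ := exists_isMax_of_isDefectGroup hM hB hP
  have h1 := MCB.blockRank_add_et D h hM hB
  have h0 : Meets 2 P e (Set.range D.a) (D.b 0) := by
    by_contra h2
    rw [et0, if_neg h2] at h1
    omega
  have h2 : Meets 2 P e (Set.range D.a ∪ {D.b 0}) (D.b 1) := by
    by_contra h2
    rw [et1, if_neg h2] at h1
    omega
  obtain ⟨_, ⟨i, rfl⟩, h4⟩ := h0
  refine ⟨⟨i, h4.isConj⟩, ?_⟩
  obtain ⟨_, ⟨j, rfl⟩ | rfl, h5⟩ := h2
  exacts [⟨j, h5.isConj⟩, ⟨i, h5.isConj.trans h4.isConj⟩]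

end CL.Blk
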