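/-
Brauer's bound k(B) ≤ |D| for two families of 2-groups: definitions and the list of steps.
-/
import Cfsg.Agent.Blk.MCTame
import Cfsg.Agent.Blk.CycMin
import Cfsg.Agent.Blk.EqDeg2
import Cfsg.Agent.Fus.BiEss
import Cfsg.Agent.Fus.NormalCrit

set_option autoImplicit false

namespace CL.KB

open MonoidAlgebra Cfsg Cfsg.FusionSystem CL.Blk CL.Blk.Pair CL.Fus Subgroup

universe u

/-! ### Group theoretic definitions -/

/-- The elements fixed by an automorphism. -/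
def fixK {Q : Type*} [Group Q] (α : MulAut Q) : Subgroup Q where
  carrier := {q | α q = q}
  one_mem' := map_one α
  mul_mem' := fun {a b} ha hb => by
    change α (a * b) = a * b
    rw [map_mul, ha, hb]
  inv_mem' := fun {a} ha => by
    change α a⁻¹ = a⁻¹
    rw [map_inv, ha]

theorem mem_fixK {Q : Type*} [Group Q] {α : MulAut Q} {q : Q} : q ∈ fixK α ↔ α q = q := Iff.rfl

/-- `P = (⟨x⟩ × ⟨c⟩) ⋊ ⟨j⟩` with `x` inverted, possibly up to `c`; the order is `2 ^ (m + 2)`. -/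
structure Fib {G : Type*} [Group G] (P : Subgroup G) (m : ℕ) (x c j : G) : Prop where
  two : 2 ≤ m
  ord : orderOf x = 2 ^ m
  cc : c * c = 1
  cx : c ∉ zpowers x
  comm_x : c * x = x * c
  comm_j : c * j = j * c
  jj : j * j = 1
  conj : j * x * j⁻¹ = x⁻¹ ∨ (j * x * j⁻¹ = x⁻¹ * c ∧ 3 ≤ m)
  mem : ∀ g, g ∈ P ↔ ∃ i : ℤ, g = x ^ i ∨ g = x ^ i * c ∨ g = x ^ i * j ∨ g = x ^ i * c * j

/-- The involution of `⟨x⟩`. -/
abbrev uu {G : Type*} [Group G] (m : ℕ) (x : G) : G := x ^ 2 ^ (m - 1)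

/-- `g` lies in the four-group `{1, u, c, u c}`. -/
def InZ {G : Type*} [Group G] (m : ℕ) (x c g : G) : Prop :=
  g = 1 ∨ g = uu m x ∨ g = c ∨ g = uu m x * c

/-- `g` lies in the abelian subgroup `⟨x⟩ × ⟨c⟩`. -/
def InM {G : Type*} [Group G] (x c g : G) : Prop := ∃ i : ℤ, g = x ^ i ∨ g = x ^ i * c

/-- The defect groups known to force `l(B) ≤ 3`. -/
def Tm (X : Type*) [Group X] : Prop :=
  (∃ y : X, Nat.card (centralizer ({y} : Set X)) ≤ 4) ∨ (commutator X).index ≤ 4 ∨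
    ((∀ a b : X, a * b = b * a) ∧ Nat.card {g : X // g * g = 1} ≤ 4) ∨
      ∃ m x c j, Fib (⊤ : Subgroup X) m x c j

/-- A central cyclic subgroup has a quotient of the kind `Tm`. -/
def Good (D : Type*) [Group D] : Prop :=
  ∃ (z : D) (_ : (zpowers z).Normal), z ∈ center D ∧ Tm (D ⧸ zpowers z)

/-- What an essential subgroup of small rank gives. -/
structure Ess {D : Type*} [Group D] (Q : Subgroup D) (α : MulAut Q) (z : D) : Prop where
  ne_top : Q ≠ ⊤
  ne_one : α ≠ 1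
  three : α ^ 3 = 1
  zQ : z ∈ Q
  fix : α ⟨z, zQ⟩ = ⟨z, zQ⟩
  two : ∀ s ∈ normalizer (Q : Set D), ∀ t ∈ normalizer (Q : Set D), s ∉ Q → t ∉ Q → s * t ∈ Q
  inv : ∀ s ∈ normalizer (Q : Set D), s ∉ Q → ∃ c ∈ Q, ∀ q r : Q, (r : D) = s⁻¹ * α q * s →
    s * α r * s⁻¹ = c * q * c⁻¹

/-- `Q = R K` with `R = ⟨a, b⟩` a four-group (`w = 1`) or quaternion of order 8, `[R, K] = 1`. -/
structure Core {D : Type*} [Group D] (Q K : Subgroup D) (a b w z : D) : Prop where
  aQ : a ∈ Q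
  bQ : b ∈ Q
  KQ : K ≤ Q
  wK : w ∈ K
  zK : z ∈ K
  a2 : a * a = w
  b2 : b * b = w
  w2 : w * w = 1
  ab : a * b = w * (b * a)
  ca : ∀ k ∈ K, k * a = a * k
  cb : ∀ k ∈ K, k * b = b * k
  cov : ∀ q ∈ Q, q ∈ K ∨ a⁻¹ * q ∈ K ∨ b⁻¹ * q ∈ K ∨ (a * b)⁻¹ * q ∈ K
  na : a ∉ K
  nb : b ∉ K
  nab : a * b ∉ K
  nrm : ∀ n ∈ normalizer (Q : Set D), n ∈ Q ∨ (n ∈ normalizer (K : Set D) ∧
    (n * a * n⁻¹ = b ∨ n * a * n⁻¹ = b * w) ∧ (n * b * n⁻¹ = a ∨ n * b * n⁻¹ = a * w))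

/-- The proper subgroups containing `z` have rank at most three modulo `z`. -/
def Rk8 (D : Type*) [Group D] (z : D) : Prop :=
  ∀ Q : Subgroup D, Q ≠ ⊤ → ∀ h : z ∈ Q, (frattini Q ⊔ zpowers (⟨z, h⟩ : Q)).index ≤ 8

/-- The choice of the central element for two-generator groups. -/
def Hz (D : Type*) [Group D] (z : D) : Prop :=
  (∀ d ∈ commutator D, d * d = 1) ∨ z ∈ closure {g : D | ∃ d ∈ commutator D, g = d * d}

/-- A 2-group of order at most 64 with two generators. -/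
structure TwoGen (D : Type*) [Group D] : Prop where
  pg : IsPGroup 2 D
  card : Nat.card D ≤ 64
  gen : ∃ g h : D, closure {g, h} = ⊤

/-! ### Group theoretic steps -/

/-- Odd automorphisms of a group with a cyclic subgroup of index at most four. -/
def CIa : Prop := ∀ (Q : Type u) [Group Q] [Finite Q], IsPGroup 2 Q → ∀ (α : MulAut Q) (y z : Q),
  Odd (orderOf α) → α ≠ 1 → (zpowers y).index ≤ 4 → z ∈ zpowers y → z ≠ 1 → α z = z →
    (fixK α).index = 4

def CoreTop : Prop := ∀ (D : Type u) [Group D] [Finite D], IsPGroup 2 D → ∀ (α : MulAut D) (z : D),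
  Odd (orderOf α) → (fixK α).index = 4 → α z = z → ∃ K a b w, Core (⊤ : Subgroup D) K a b w z

def CoreEss : Prop := ∀ (D : Type u) [Group D] [Finite D], IsPGroup 2 D →
  ∀ (Q : Subgroup D) (α : MulAut Q) (z : D), Ess Q α z → (fixK α).index = 4 →
    ∃ K a b w, Core Q K a b w z

def G1 : Prop := ∀ (D : Type u) [Group D] [Finite D], IsPGroup 2 D →
  ∀ (Q K : Subgroup D) (a b w z κ : D), Core Q K a b w z → K ≤ center D → κ ∈ K →
    (∀ k ∈ K, k ∈ zpowers κ ∨ k * w ∈ zpowers κ) → Good D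

/-- With a cyclic subgroup of index at most four in `Q`, `K = ⟨κ, w⟩`. -/
def KC : Prop := ∀ (D : Type u) [Group D] [Finite D], IsPGroup 2 D →
  ∀ (Q K : Subgroup D) (a b w z y : D), Core Q K a b w z → y ∈ Q → (zpowers y).relIndex Q ≤ 4 →
    ∃ κ ∈ K, ∀ k ∈ K, k ∈ zpowers κ ∨ k * w ∈ zpowers κ

/-- The exceptional configuration for a cyclic subgroup of index four. -/
def DA2 : Prop := ∀ (D : Type u) [Group D] [Finite D], IsPGroup 2 D →
  ∀ (Q K : Subgroup D) (a b w z x t : D), Core Q K a b w z → (zpowers x).index = 4 →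
    w ∈ center D → w ≠ 1 → Nat.card K = 4 → t ∈ zpowers x → t ∈ normalizer (Q : Set D) → t ∉ Q →
    (t * t = a * b ∨ t * t = a * b * w) → zpowers x ⊓ Q = zpowers (a * b) → Good D

def DA : Prop := ∀ (D : Type u) [Group D] [Finite D], IsPGroup 2 D →
  ∀ (Q K : Subgroup D) (a b w z x : D), Core Q K a b w z → (zpowers x).index ≤ 4 →
    z ∈ zpowers x → z ∈ center D → z ≠ 1 → Good D

/-- Elementary facts on a 2-group with a cyclic subgroup of index at most four. -/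
def Pre44 : Prop := ∀ (D : Type u) [Group D] [Finite D], IsPGroup 2 D → ∀ x : D,
  (zpowers x).index ≤ 4 → (∀ z, Rk8 D z) ∧ (zpowers (x ^ 2)).Normal ∧
    (Good D ∨ ∃ z ∈ zpowers x, z ∈ center D ∧ z ≠ 1)

def UB : Prop := ∀ (D : Type u) [Group D] [Finite D], TwoGen D →
  ∀ (Q : Subgroup D) (α : MulAut Q) (z : D), Ess Q α z → z ∈ center D → z ≠ 1 → Hz D z →
    (fixK α).index = 4

def Top43 : Prop := ∀ (D : Type u) [Group D] [Finite D], TwoGen D →
  (∀ α : MulAut D, Odd (orderOf α) → α ≠ 1 → Good D) ∧ (∀ z, z ≠ 1 → Rk8 D z) ∧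
    (Good D ∨ ∃ z ∈ center D, z ≠ 1 ∧ Hz D z)

/-- Two distinct subgroups of index two detect generators of a two-generator 2-group. -/
def Gen2 : Prop := ∀ (D : Type u) [Group D] [Finite D], TwoGen D → ∀ (M₁ M₂ : Subgroup D) (a t : D),
  M₁.index = 2 → M₂.index = 2 → a ∈ M₁ → a ∉ M₂ → t ∈ M₂ → t ∉ M₁ → closure {t, a} = ⊤

def DB1 : Prop := ∀ (D : Type u) [Group D] [Finite D], TwoGen D →
  ∀ (Q K : Subgroup D) (a b w z : D), Core Q K a b w z → Q.index = 2 → Good D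

def DB2 : Prop := ∀ (D : Type u) [Group D] [Finite D], TwoGen D →
  ∀ (Q K : Subgroup D) (a b w z : D), Core Q K a b w z → Q ≠ ⊤ → Q.index ≠ 2 → z ∈ center D →
    z ≠ 1 → Good D

/-! ### Fusion theoretic steps -/

/-- Essential subgroups of rank at most three modulo a fixed element. -/
def EssData : Prop := ∀ (Ω : Type u) [Group Ω] (S E : Subgroup Ω) [Finite S] (F : FusionSystem S)
  (z : E), IsPGroup 2 S → F.IsSaturated 2 → F.IsEssential 2 E → (∀ γ ∈ F.autGroup E, γ z = z) →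
    (frattini E ⊔ zpowers z).index ≤ 8 →
    (∀ s ∈ S, s ∈ normalizer (E : Set Ω) → ∀ t ∈ S, t ∈ normalizer (E : Set Ω) → s ∉ E → t ∉ E →
      s * t ∈ E) ∧ ∃ α ∈ F.autGroup E, α ≠ 1 ∧ α ^ 3 = 1 ∧
      ∀ s ∈ S, ∀ hs : s ∈ normalizer (E : Set Ω), s ∉ E →
        conjAut E hs * α * (conjAut E hs)⁻¹ * α ∈ Inn E

/-- A non-nilpotent system fixing `z` gives an odd automorphism of `S` or an essential subgroup. -/
def EssRed : Prop := ∀ (Ω : Type u) [Group Ω] (S : Subgroup Ω) [Finite S] (F : FusionSystem S)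
  (z : S), IsPGroup 2 S → F.IsSaturated 2 → F ≠ innerFusionSystem S → z ∈ center S →
    (∀ A f, Mor F A f → (z : Ω) ∈ A → f z = z) → Rk8 S z →
    (∃ α : MulAut S, Odd (orderOf α) ∧ α ≠ 1 ∧ α z = z) ∨ ∃ (Q : Subgroup S) (α : MulAut Q), Ess Q α z

/-- The self-centralizing subgroups of `P` with an automorphism of odd order. -/
def FibG : Prop := ∀ (G : Type u) [Group G] (P E : Subgroup G) (m : ℕ) (x c j : G),
  Fib P m x c j → E ≤ P → P ⊓ centralizer (E : Set G) ≤ E → ∀ α : MulAut E, Odd (orderOf α) →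
    α ≠ 1 → ∃ y ∈ P, ¬ InM x c y ∧ y * y = 1 ∧ ∀ g, g ∈ E ↔ InZ m x c g ∨ InZ m x c (y⁻¹ * g)

/-- Some map of the system fixes `c'` and moves `u` into the coset of `y`. -/
def Act {G : Type*} [Group G] {P : Subgroup G} (F : FusionSystem P) (m : ℕ) (x c c' y : G) : Prop :=
  ∃ Q φ, Mor F Q φ ∧ c' ∈ Q ∧ uu m x ∈ Q ∧ φ c' = c' ∧ InZ m x c (y⁻¹ * φ (uu m x))

/-- The fusion in a saturated system on `P`. -/
structure FibFus {G : Type*} [Group G] {P : Subgroup G} (F : FusionSystem P) (m : ℕ) (x c : G) :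
    Prop where
  ord : ∀ Q φ, Mor F Q φ → ∀ v ∈ Q, v * v ≠ 1 → ∃ g ∈ P, φ v = g * v * g⁻¹
  cen : ∀ Q φ, Mor F Q φ → ∀ v ∈ Q, InZ m x c v → InZ m x c (φ v) → φ v = v
  out : ∀ y ∈ P, ¬ InM x c y → (∃ c', (c' = c ∨ c' = uu m x * c) ∧ Act F m x c c' y) ∨
    ∀ Q φ, Mor F Q φ → y ∈ Q → ∃ g ∈ P, φ y = g * y * g⁻¹
  nil : (∀ Q φ, Mor F Q φ → uu m x ∈ Q → φ (uu m x) = uu m x) → F = innerFusionSystem P

def FibF : Prop := ∀ (G : Type u) [Group G] [Finite G] (P : Subgroup G) (m : ℕ) (x c j : G),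
  Fib P m x c j → ∀ F : FusionSystem P, F.IsSaturated 2 → FibFus F m x c

/-! ### Block theoretic steps -/

/-- The number of characters of height zero. -/
noncomputable abbrev k0 {G : Type*} [Group G] (B : Set (IrrCharacter G)) : ℕ :=
  Nat.card {χ : IrrCharacter G // χ ∈ B ∧ blockHeight 2 B (χ : G → ℂ) = 0}

/-- A 2-block with a maximal pair. -/
structure Bk {G : Type*} [Group G] [Finite G] (M : Ideal AlgInt) (B : Set (IrrCharacter G))
    (P : Subgroup G) (e : (resField M)[G]) : Prop where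
  hM : IsPModular 2 M
  hB : IsPBlock M B
  max : IsMax 2 ⊤ ⊤ (eBlk M B) P e

/-- Passing to the quotient by a central 2-subgroup keeps the fusion of pairs. -/
def QT : Prop := ∀ (G : Type u) [Group G] [Finite G] (M : Ideal AlgInt) (B : Set (IrrCharacter G))
  (P : Subgroup G) (e : (resField M)[G]) (Z : Subgroup G) [Z.Normal], Bk M B P e → Z ≤ P →
    centralizer (Z : Set G) = ⊤ →
    ∃ e', Bk M (inflIrr Z ⁻¹' B) (P.map (QuotientGroup.mk' Z)) e' ∧
      ∀ (Q : Subgroup G) (f : (resField M)[G]) (g : G), Z ≤ Q → PLe 2 ⊤ Q f P e →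
        PLe 2 ⊤ (cjs g Q) (cj g f) P e → ∀ v ∈ Q,
          Fus 2 (P.map (QuotientGroup.mk' Z)) e' (v : G ⧸ Z) ((g * v * g⁻¹ : G) : G ⧸ Z)

/-- Bounds from one subsection. -/
def S2 : Prop := ∀ (G : Type u) [Group G] [Finite G] (M : Ideal AlgInt) (B : Set (IrrCharacter G))
  (P : Subgroup G) (e : (resField M)[G]) (v : G), Bk M B P e →
    (v ∈ P → P ≤ centralizer ({v} : Set G) → v * v = 1 →
      4 * Nat.card B ≤ Nat.card P * lOf 2 M v (below 2 P e v) + 3 * k0 B) ∧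
    (FC 2 P e v → lOf 2 M v (below 2 P e v) ≤ 3 →
      k0 B ≤ Nat.card (P ⊓ centralizer ({v} : Set G) : Subgroup G))

/-- The height zero characters when `x` is inverted and the block of `C(u)` is nilpotent. -/
def K0b : Prop := ∀ (G : Type u) [Group G] [Finite G] (M : Ideal AlgInt) (B : Set (IrrCharacter G))
  (P : Subgroup G) (e : (resField M)[G]) (m : ℕ) (x c j : G), Bk M B P e → Fib P m x c j →
    j * x * j⁻¹ = x⁻¹ → FC 2 P e x →
    ∀ (b : Set (IrrCharacter (centralizer ({uu m x} : Set G)))) (e' : _),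
      SubMax 2 M P e (centralizer ({uu m x} : Set G)) b e' → IsNil 2 ⊤ ⊤ (eBlk M b) → k0 B ≤ 8

/-- Lower bounds for the rank of the block of `C(c')`. -/
def Low : Prop := ∀ (G : Type u) [Group G] [Finite G] (M : Ideal AlgInt) (B : Set (IrrCharacter G))
  (P : Subgroup G) (e : (resField M)[G]) (m : ℕ) (x c j c' : G) (F : FusionSystem P),
    Bk M B P e → Fib P m x c j → j * x * j⁻¹ = x⁻¹ → IsBFS 2 ⊤ ⊤ P e F → (c' = c ∨ c' = uu m x * c) →
    ((Act F m x c c' j ∨ Act F m x c c' (x * j)) → 2 ≤ lOf 2 M c' (below 2 P e c')) ∧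
    (Act F m x c c' j → Act F m x c c' (x * j) → 3 ≤ lOf 2 M c' (below 2 P e c'))

/-- The upper bound for the number of characters. -/
def FibUp : Prop := ∀ (G : Type u) [Group G] [Finite G] (M : Ideal AlgInt)
  (B : Set (IrrCharacter G)) (P : Subgroup G) (e : (resField M)[G]) (m : ℕ) (x c j : G),
    Bk M B P e → Fib P m x c j → Nat.card B ≤ 2 ^ m + 6

/-- The lower bound for the number of characters. -/
def FibLo : Prop := ∀ (G : Type u) [Group G] [Finite G] (M : Ideal AlgInt)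
  (B : Set (IrrCharacter G)) (P : Subgroup G) (e : (resField M)[G]) (m : ℕ) (x c j : G),
    Bk M B P e → Fib P m x c j → blockRank 2 B + 2 ^ m + 3 ≤ Nat.card B

/-- Defect groups of the kind `Tm` force rank at most three. -/
def Rk3 : Prop := ∀ (G : Type u) [Group G] [Finite G] (M : Ideal AlgInt)
  (B : Set (IrrCharacter G)) (P : Subgroup G), IsPModular 2 M → IsPBlock M B →
    IsDefectGroup 2 M B P → ∀ (X : Type u) [Group X], Nonempty (X ≃* P) → Tm X → blockRank 2 B ≤ 3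

def CardGood : Prop := ∀ (G : Type u) [Group G] [Finite G] (M : Ideal AlgInt)
  (B : Set (IrrCharacter G)) (P : Subgroup G), IsPModular 2 M → IsPBlock M B →
    IsDefectGroup 2 M B P → Good P → Nat.card B ≤ Nat.card P

/-- The reduction to the centralizer of a central element of the defect group. -/
def MainRed : Prop := ∀ (G : Type u) [Group G] [Finite G] (M : Ideal AlgInt)
  (B : Set (IrrCharacter G)) (P : Subgroup G), IsPModular 2 M → IsPBlock M B →
    IsDefectGroup 2 M B P → ∀ z : P, z ∈ center P → Rk8 P z →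
    ((∃ α : MulAut P, Odd (orderOf α) ∧ α ≠ 1 ∧ α z = z) → Good P) →
    (∀ (Q : Subgroup P) (α : MulAut Q), Ess Q α z → Good P) → Nat.card B ≤ Nat.card P

/-! ### Fusion of elements and maps of the block fusion system -/

section Bridge

variable {k : Type*} [Field k] {G : Type*} [Group G] [Fintype G] {p : ℕ} [Fact p.Prime] [CharP k p]
  {P Q : Subgroup G} {b e : k[G]} {F : FusionSystem P} {v w : G} {φ : G → G}

theorem fus_of_mor (h : IsMax p ⊤ ⊤ b P e) (hF : IsBFS p ⊤ ⊤ P e F) (hφ : Mor F Q φ) (hv : v ∈ Q) :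
    Fus p P e v (φ v) := by
  obtain ⟨g, -, h1, h2⟩ := (hF.mor_iff h (ple_below h.pair (hφ.le hv))).1
    (hφ.mono (zpowers_le.2 hv))
  refine ⟨g, (h1 v (mem_zpowers v)).symm, ?_⟩
  rwa [h1 v (mem_zpowers v), ← cjs_zpowers]

theorem exists_mor_of_fus (h : IsMax p ⊤ ⊤ b P e) (hF : IsBFS p ⊤ ⊤ P e F) (hv : v ∈ P)
    (hw : Fus p P e v w) : ∃ φ, Mor F (zpowers v) φ ∧ φ v = w := by
  obtain ⟨g, rfl, h2⟩ := hw
  exact ⟨_, hF.mor_conj (ple_below h.pair hv) (mem_top g) (by rwa [cjs_zpowers]), rfl⟩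

end Bridge

end CL.KB
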