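/-
Basic facts on the configurations `Core` and `Fib`.
-/
import Cfsg.Agent.Blk.KBDefs

set_option autoImplicit false

namespace CL.KB

open Subgroup CL.Inv

theorem mem_zpowers_two {D : Type*} [Group D] {w g : D} (hw : w * w = 1) :
    g ∈ zpowers w ↔ g = 1 ∨ g = w :=
  ⟨CL.Fus.Bi.eq_or_of_mem_zpowers (by rwa [pow_two]), by
    rintro (rfl | rfl)
    exacts [one_mem _, mem_zpowers _]⟩

/-- If `κ ∈ ⟨w κ²⟩` for a commuting involution `w` in a 2-group then `κ ∈ {1, w}`. -/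
theorem eq_of_mem_zpowers_mul_sq {D : Type*} [Group D] (hD : IsPGroup 2 D) {w κ : D}
    (hw : w * w = 1) (hc : w * κ = κ * w) (h : κ ∈ zpowers (w * (κ * κ))) : κ = 1 ∨ κ = w := by
  obtain ⟨n, hn⟩ := mem_zpowers_iff.1 h
  have hc' : Commute w κ := hc
  rw [(hc'.mul_right hc').mul_zpow, ← pow_two, ← zpow_natCast, ← zpow_mul] at hn
  have h1 : κ ^ (1 - 2 * n) = w ^ n := by
    rw [zpow_sub, zpow_one, mul_inv_eq_iff_eq_mul]; exact_mod_cast hn.symm
  have h2 : (κ * κ) ^ (1 - 2 * n) = 1 := by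
    rw [(Commute.refl κ).mul_zpow, h1, ← (Commute.refl w).mul_zpow, hw, one_zpow]
  have h3 : κ * κ = 1 := eq_one_of_pow_odd hD (k := (1 - 2 * n).natAbs)
    (Int.natAbs_odd.2 ⟨-n, by ring⟩) (by
      rcases Int.natAbs_eq (1 - 2 * n) with h4 | h4
      · rw [← zpow_natCast, ← h4, h2]
      · rw [← zpow_natCast, ← neg_neg ((1 - 2 * n).natAbs : ℤ), ← h4, zpow_neg, h2, inv_one])
  rw [h3, mul_one] at h
  exact (mem_zpowers_two hw).1 h

theorem card_eq_four_mul {D : Type*} [Group D] {A B : Subgroup D} {a b : D}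
    (ha : a ∈ B) (hb : b ∈ B) (na : a ∉ A) (nb : b ∉ A) (nab : a * b ∉ A) (n1 : a⁻¹ * b ∉ A)
    (n2 : b⁻¹ * (a * b) ∉ A)
    (cov : ∀ q ∈ B, q ∈ A ∨ a⁻¹ * q ∈ A ∨ b⁻¹ * q ∈ A ∨ (a * b)⁻¹ * q ∈ A) : A.relIndex B = 4 := by
  classical
  let f : Fin 4 → B ⧸ A.subgroupOf B := fun i =>
    ((![1, ⟨a, ha⟩, ⟨b, hb⟩, ⟨a * b, B.mul_mem ha hb⟩] i : B) : B ⧸ A.subgroupOf B)
  have key : ∀ u v : B, (u : B ⧸ A.subgroupOf B) = v ↔ (u : D)⁻¹ * v ∈ A := fun u v =>
    QuotientGroup.eq.trans mem_subgroupOf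
  have sy : ∀ u v : D, u⁻¹ * v ∈ A ↔ v⁻¹ * u ∈ A := fun u v => by
    rw [← A.inv_mem_iff, mul_inv_rev, inv_inv]
  have h3 : a⁻¹ * (a * b) ∉ A := by rwa [inv_mul_cancel_left]
  have hf : Function.Bijective f := by
    refine ⟨fun i j h => ?_, fun q => ?_⟩
    · fin_cases i <;> fin_cases j <;> first | rfl | skip
      all_goals
        have h1 := (key _ _).1 h
        have h2 := (sy _ _).1 h1
        simp only [Fin.zero_eta, Fin.mk_one, Fin.reduceFinMk, Matrix.cons_val, OneMemClass.coe_one,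
          inv_one, one_mul] at h1 h2
        contradiction
    · obtain ⟨q, rfl⟩ := QuotientGroup.mk_surjective q
      rcases cov q q.2 with h | h | h | h
      · exact ⟨0, (key _ _).2 (by simpa using h)⟩
      · exact ⟨1, (key _ _).2 h⟩
      · exact ⟨2, (key _ _).2 h⟩
      · exact ⟨3, (key _ _).2 h⟩
  rw [relIndex, index, ← Nat.card_eq_of_bijective f hf, Nat.card_eq_fintype_card, Fintype.card_fin]

theorem exists_norm_notMem {D : Type*} [Group D] [Finite D] (hD : IsPGroup 2 D) {Q C : Subgroup D}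
    (h : Q < C) : ∃ n ∈ C, n ∈ normalizer (Q : Set D) ∧ n ∉ Q := by
  obtain ⟨n, h1, h2⟩ := SetLike.exists_of_lt (CL.Fus.lt_normalizerIn (hD.to_subgroup C) h)
  exact ⟨n, h1.1, h1.2, h2⟩

open scoped IsMulCommutative in
theorem zpowers_eq_of_mem_cyc {D : Type*} [Group D] [Finite D] {g u v : D} (hu : u ∈ zpowers g)
    (hv : v ∈ zpowers g) (h : orderOf u = orderOf v) : zpowers u = zpowers v := by
  classical
  have key : ∀ t (ht : t ∈ zpowers g), orderOf t = orderOf u → (zpowers t).subgroupOf (zpowers g) =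
      (powMonoidHom (α := zpowers g) (orderOf u)).ker := fun t ht h1 => by
    have h0 : (zpowers t).subgroupOf (zpowers g) ≤ (powMonoidHom (α := zpowers g) (orderOf u)).ker := by
      rintro ⟨s, hs⟩ h2
      obtain ⟨i, rfl⟩ := mem_zpowers_iff.1 (mem_subgroupOf.1 h2)
      refine Subtype.ext ?_
      change (t ^ i) ^ orderOf u = 1
      rw [← zpow_natCast, ← zpow_mul, mul_comm, zpow_mul, zpow_natCast, ← h1, pow_orderOf_eq_one,
        one_zpow]
    refine eq_of_le_of_card_ge h0 ?_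
    rw [IsCyclic.card_powMonoidHom_ker, Nat.card_congr (subgroupOfEquivOfLe (zpowers_le.2 ht)).toEquiv,
      Nat.card_zpowers t, h1]
    exact Nat.gcd_le_right _ (orderOf_pos u)
  have h1 := congrArg (map (zpowers g).subtype) ((key u hu rfl).trans (key v hv h.symm).symm)
  rwa [map_subgroupOf_eq_of_le (zpowers_le.2 hu), map_subgroupOf_eq_of_le (zpowers_le.2 hv)] at h1

theorem normal_zpowers_of_mem {D : Type*} [Group D] {g v : D} (h : (zpowers g).Normal)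
    (hv : v ∈ zpowers g) : (zpowers v).Normal := ⟨fun t ht s => by
  obtain ⟨i, rfl⟩ := mem_zpowers_iff.1 hv
  obtain ⟨j, rfl⟩ := mem_zpowers_iff.1 ht
  obtain ⟨l, hl⟩ := mem_zpowers_iff.1 (h.conj_mem g (mem_zpowers g) s)
  rw [← conj_zpow, ← conj_zpow, ← hl, ← zpow_mul, ← zpow_mul, mul_comm l, mul_assoc, zpow_mul]
  exact zpow_mem (mem_zpowers _) _⟩

theorem normal_zpowers_two {D : Type*} [Group D] [Finite D] (hD : IsPGroup 2 D) {x : D}
    (h : (zpowers x).index ≤ 4) : (zpowers (x ^ 2)).Normal := by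
  by_cases h0 : (zpowers x).Normal
  · exact normal_zpowers_of_mem h0 (pow_mem (mem_zpowers x) 2)
  set N := normalizer (zpowers x : Set D) with hN
  have hN1 : N ≠ ⊤ := fun h1 => h0 (normalizer_eq_top_iff.1 h1)
  have hX : zpowers x ≠ ⊤ := fun h1 => h0 (h1 ▸ inferInstance)
  obtain ⟨n, -, hn, hn'⟩ := exists_norm_notMem hD (lt_top_iff_ne_top.2 hX)
  have h1 := relIndex_mul_index (le_normalizer (H := zpowers x))
  have h2 : (zpowers x).relIndex N ≠ 1 := fun h2 => hn' (relIndex_eq_one.1 h2 hn)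
  have h3 : N.index ≠ 1 := fun h3 => hN1 (index_eq_one.1 h3)
  have h4 : (zpowers x).relIndex N ≠ 0 := index_ne_zero_of_finite
  have h5 : N.index ≠ 0 := index_ne_zero_of_finite
  rw [← hN] at h1
  have h6 : (zpowers x).relIndex N = 2 ∧ N.index = 2 := by
    constructor <;> nlinarith [Nat.two_le_iff _ |>.2 ⟨h4, h2⟩, Nat.two_le_iff _ |>.2 ⟨h5, h3⟩]
  have hNn := normal_of_index_eq_two h6.2
  have sq : ∀ t ∈ N, t ^ 2 ∈ zpowers x := fun t ht =>
    mem_subgroupOf.1 (sq_mem_of_index_two h6.1 (⟨t, ht⟩ : N))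
  refine ⟨fun t ht s => ?_⟩
  have h7 : zpowers (s * x ^ 2 * s⁻¹) = zpowers (x ^ 2) :=
    zpowers_eq_of_mem_cyc (g := x) (by rw [← conj_pow]; exact sq _ (hNn.conj_mem x
      (le_normalizer (mem_zpowers x)) s)) (pow_mem (mem_zpowers x) 2)
      ((MulAut.conj s).orderOf_eq (x ^ 2))
  obtain ⟨i, rfl⟩ := mem_zpowers_iff.1 ht
  rw [← conj_zpow, ← h7]
  exact zpow_mem (mem_zpowers _) _

namespace Core

variable {D : Type*} [Group D] {Q K : Subgroup D} {a b w z n q k : D} (h : Core Q K a b w z)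
include h

theorem wa : w * a = a * w := h.ca w h.wK
theorem wb : w * b = b * w := h.cb w h.wK
theorem w_inv : w⁻¹ = w := inv_eq_of_mul_eq_one_left h.w2
theorem a_inv : a⁻¹ = a * w := inv_eq_of_mul_eq_one_left (by rw [← h.wa, mul_assoc, h.a2, h.w2])
theorem b_inv : b⁻¹ = b * w := inv_eq_of_mul_eq_one_left (by rw [← h.wb, mul_assoc, h.b2, h.w2])
theorem ba : b * a = w * (a * b) := by rw [h.ab, ← mul_assoc, h.w2, one_mul]
theorem ci (hk : k ∈ K) : k * (a * b) = a * b * k := by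
  rw [← mul_assoc, h.ca k hk, mul_assoc, h.cb k hk, mul_assoc]
theorem wi : w * (a * b) = a * b * w := h.ci h.wK
theorem i2 : a * b * (a * b) = w := by
  rw [show a * b * (a * b) = a * (b * a) * b by group, h.ba,
    show a * (w * (a * b)) * b = a * w * a * (b * b) by group, ← h.wa, mul_assoc w, h.a2, h.w2,
    one_mul, h.b2]
theorem i_inv : (a * b)⁻¹ = a * b * w :=
  inv_eq_of_mul_eq_one_left (by rw [← h.wi, mul_assoc, h.i2, h.w2])
theorem iQ : a * b ∈ Q := Q.mul_mem h.aQ h.bQ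
theorem wQ : w ∈ Q := h.KQ h.wK
theorem wk (hk : k ∈ K) : w * k = k * w := by
  rw [← h.a2, mul_assoc, ← h.ca k hk, ← mul_assoc, ← h.ca k hk, mul_assoc]
theorem conj_a_i : a * (a * b) * a⁻¹ = a * b * w := by
  rw [mul_inv_eq_iff_eq_mul, ← h.wi, ← h.ba, mul_assoc b, h.a2, ← mul_assoc, h.a2, h.wb]
theorem conj_i_a : a * b * a * (a * b)⁻¹ = a * w := by
  rw [mul_inv_eq_iff_eq_mul, mul_assoc a b, h.ba, mul_assoc]
theorem b_mul_a_inv : b * a⁻¹ = a * b := by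
  rw [h.a_inv, ← mul_assoc, h.ba, h.wi, mul_assoc, h.w2, mul_one]

/-- Every element of `Q` is `r k` with `r ∈ {1, a, b, a b}`. -/
theorem exists_eq (hq : q ∈ Q) : ∃ k ∈ K, q = k ∨ q = a * k ∨ q = b * k ∨ q = a * b * k := by
  rcases h.cov q hq with h1 | h1 | h1 | h1
  · exact ⟨q, h1, Or.inl rfl⟩
  · exact ⟨_, h1, Or.inr (Or.inl (mul_inv_cancel_left _ _).symm)⟩
  · exact ⟨_, h1, Or.inr (Or.inr (Or.inl (mul_inv_cancel_left _ _).symm))⟩
  · exact ⟨_, h1, Or.inr (Or.inr (Or.inr (mul_inv_cancel_left _ _).symm))⟩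

theorem n_ab : a⁻¹ * b ∉ K := fun h1 => h.nab (by
  have := K.mul_mem h.wK h1
  rwa [← h.a2, mul_assoc, mul_inv_cancel_left] at this)

theorem n_bi : b⁻¹ * (a * b) ∉ K := fun h1 => h.na (by
  have := K.mul_mem h.wK h1
  rwa [h.ab, ← mul_assoc b⁻¹, h.b_inv, mul_assoc b, h.w2, mul_one, ← mul_assoc b, h.b2, ← mul_assoc,
    h.w2, one_mul] at this)

theorem relIndex : K.relIndex Q = 4 :=
  card_eq_four_mul h.aQ h.bQ h.na h.nb h.nab h.n_ab h.n_bi h.cov

theorem card : Nat.card Q = 4 * Nat.card K := by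
  rw [← h.relIndex, mul_comm, ← card_mul_index (K.subgroupOf Q),
    Nat.card_congr (subgroupOfEquivOfLe h.KQ).toEquiv]
  rfl

/-- An element commuting with `a`, `b` and `K` commutes with `Q`. -/
theorem comm_of {g : D} (h1 : g * a = a * g) (h2 : g * b = b * g) (h3 : ∀ k ∈ K, g * k = k * g)
    (hq : q ∈ Q) : g * q = q * g := by
  have e1 : Commute g a := h1
  have e2 : Commute g b := h2
  obtain ⟨k, hk, rfl | rfl | rfl | rfl⟩ := h.exists_eq hq
  exacts [h3 _ hk, e1.mul_right (h3 _ hk), e2.mul_right (h3 _ hk),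
    (e1.mul_right e2).mul_right (h3 _ hk)]

theorem wq (hq : q ∈ Q) : w * q = q * w := h.comm_of h.wa h.wb (fun _ => h.wk) hq

theorem conj_mem (hq : q ∈ Q) (hk : k ∈ K) : q * k * q⁻¹ ∈ K := by
  have key : ∀ r, (∀ k ∈ K, k * r = r * k) → ∀ k' ∈ K, r * k' * k * (r * k')⁻¹ ∈ K := fun r hr k' hk' => by
    have h1 := K.mul_mem (K.mul_mem hk' hk) (K.inv_mem hk')
    rw [show r * k' * k * (r * k')⁻¹ = r * (k' * k * k'⁻¹) * r⁻¹ by group, ← hr _ h1,
      mul_inv_cancel_right]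
    exact h1
  obtain ⟨k', hk', rfl | rfl | rfl | rfl⟩ := h.exists_eq hq
  exacts [K.mul_mem (K.mul_mem hk' hk) (K.inv_mem hk'), key a h.ca k' hk', key b h.cb k' hk',
    key _ (fun _ => h.ci) k' hk']

/-- Conjugation by `Q` moves `a` at most by `w`. -/
theorem conj_a (hq : q ∈ Q) : q * a * q⁻¹ = a ∨ q * a * q⁻¹ = a * w := by
  have key : ∀ r, ∀ k ∈ K, r * k * a * (r * k)⁻¹ = r * a * r⁻¹ := fun r k hk => by
    rw [mul_assoc r, h.ca k hk]; group
  obtain ⟨k, hk, rfl | rfl | rfl | rfl⟩ := h.exists_eq hq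
  · exact Or.inl (by rw [h.ca _ hk, mul_inv_cancel_right])
  · exact Or.inl (by rw [key a k hk, mul_inv_cancel_right])
  · exact Or.inr (by rw [key b k hk, h.ba, mul_assoc, mul_inv_cancel_right, h.wa])
  · exact Or.inr (by rw [key _ k hk, h.conj_i_a])

variable (hn : n ∈ normalizer (Q : Set D)) (hQ : n ∉ Q)
include hn hQ

theorem nK : n ∈ normalizer (K : Set D) := ((h.nrm n hn).resolve_left hQ).1
theorem na' : n * a * n⁻¹ = b ∨ n * a * n⁻¹ = b * w := ((h.nrm n hn).resolve_left hQ).2.1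
theorem nb' : n * b * n⁻¹ = a ∨ n * b * n⁻¹ = a * w := ((h.nrm n hn).resolve_left hQ).2.2

theorem nw : n * w = w * n := by
  rw [← mul_inv_eq_iff_eq_mul, ← h.a2, show n * (a * a) * n⁻¹ = n * a * n⁻¹ * (n * a * n⁻¹) by group]
  rcases h.na' hn hQ with h1 | h1 <;> rw [h1]
  · rw [h.b2, h.a2]
  · rw [mul_assoc, ← mul_assoc w, h.wb, mul_assoc, h.w2, mul_one, h.b2, h.a2]

theorem ni : n * (a * b) * n⁻¹ = a * b ∨ n * (a * b) * n⁻¹ = a * b * w := by
  rw [show n * (a * b) * n⁻¹ = n * a * n⁻¹ * (n * b * n⁻¹) by group]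
  rcases h.na' hn hQ with h1 | h1 <;> rcases h.nb' hn hQ with h2 | h2 <;> rw [h1, h2]
  · exact Or.inr (by rw [h.ba, h.wi])
  · exact Or.inl (by rw [← mul_assoc, h.ba, h.wi, mul_assoc, h.w2, mul_one])
  · exact Or.inl (by rw [mul_assoc, h.wa, ← mul_assoc, h.ba, h.wi, mul_assoc, h.w2, mul_one])
  · exact Or.inr (by rw [mul_assoc, ← mul_assoc w, h.wa, mul_assoc a, h.w2, mul_one, h.ba, h.wi])

theorem comm_na : n * a * n⁻¹ * a⁻¹ = a * b ∨ n * a * n⁻¹ * a⁻¹ = a * b * w := by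
  rcases h.na' hn hQ with h1 | h1 <;> rw [h1]
  · exact Or.inl h.b_mul_a_inv
  · exact Or.inr (by rw [← h.wb, mul_assoc, h.b_mul_a_inv, h.wi])

/-- An element of `Q` fixed modulo `K` by `n` lies in `K ∪ a b K`. -/
theorem mem_of_fix (hq : q ∈ Q) (hf : q⁻¹ * (n * q * n⁻¹) ∈ K) : q ∈ K ∨ (a * b)⁻¹ * q ∈ K := by
  have hK := fun k hk => (mem_normalizer_iff.1 (h.nK hn hQ) k).1 hk
  have key : ∀ r, ∀ k ∈ K, (r * k)⁻¹ * (n * (r * k) * n⁻¹) ∈ K → r⁻¹ * (n * r * n⁻¹) ∈ K :=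
    fun r k hk h1 => by
      have := K.mul_mem (K.mul_mem hk h1) (K.inv_mem (hK k hk))
      rwa [show k * ((r * k)⁻¹ * (n * (r * k) * n⁻¹)) * (n * k * n⁻¹)⁻¹ = r⁻¹ * (n * r * n⁻¹) by
        group] at this
  obtain ⟨k, hk, rfl | rfl | rfl | rfl⟩ := h.exists_eq hq
  · exact Or.inl hk
  · have h1 := key a k hk hf
    rcases h.na' hn hQ with h2 | h2 <;> rw [h2] at h1
    · exact absurd h1 h.n_ab
    · exact absurd ((K.mul_mem_cancel_right h.wK).1 (by rwa [mul_assoc])) h.n_ab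
  · have h1 := key b k hk hf
    have h3 : b⁻¹ * a ∉ K := fun h3 => h.n_ab (by simpa using K.inv_mem h3)
    rcases h.nb' hn hQ with h2 | h2 <;> rw [h2] at h1
    · exact absurd h1 h3
    · exact absurd ((K.mul_mem_cancel_right h.wK).1 (by rwa [mul_assoc])) h3
  · exact Or.inr (by rwa [inv_mul_cancel_left])

theorem two {s : D} (hs : s ∈ normalizer (Q : Set D)) (hsQ : s ∉ Q) : s * n ∈ Q := by
  by_contra h1
  have h2 := h.na' (mul_mem hs hn) h1
  have h3 : s * w * s⁻¹ = w := by rw [h.nw hs hsQ, mul_inv_cancel_right]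
  have h4 : a⁻¹ * (s * n * a * (s * n)⁻¹) ∈ K := by
    rw [show s * n * a * (s * n)⁻¹ = s * (n * a * n⁻¹) * s⁻¹ by group]
    have h5 : a⁻¹ * (s * b * s⁻¹) ∈ K := by
      rcases h.nb' hs hsQ with h6 | h6 <;> rw [h6]
      · rw [inv_mul_cancel]; exact K.one_mem
      · rw [inv_mul_cancel_left]; exact h.wK
    rcases h.na' hn hQ with h6 | h6 <;> rw [h6]
    · exact h5
    · rw [show s * (b * w) * s⁻¹ = s * b * s⁻¹ * (s * w * s⁻¹) by group, h3, ← mul_assoc]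
      exact K.mul_mem h5 h.wK
  rcases h2 with h2 | h2 <;> rw [h2] at h4
  · exact h.n_ab h4
  · exact h.n_ab ((K.mul_mem_cancel_right h.wK).1 (by rwa [mul_assoc]))

theorem sq_mem : n * n ∈ K ∨ (a * b)⁻¹ * (n * n) ∈ K :=
  h.mem_of_fix hn hQ (h.two hn hQ hn hQ) (by
    rw [show (n * n)⁻¹ * (n * (n * n) * n⁻¹) = 1 by group]; exact K.one_mem)

/-- If `n² ∈ a b K` then `n` centralizes `a b`. -/
theorem ni_of_sq (h2 : (a * b)⁻¹ * (n * n) ∈ K) : n * (a * b) = a * b * n := by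
  have h3 : n * w * n⁻¹ = w := by rw [h.nw hn hQ, mul_inv_cancel_right]
  have h4 : n * (n * a * n⁻¹) * n⁻¹ = a * w := by
    rw [← h.conj_i_a, show n * (n * a * n⁻¹) * n⁻¹ =
      a * b * ((a * b)⁻¹ * (n * n) * a) * (n * n)⁻¹ by group, h.ca _ h2]
    group
  rw [← mul_inv_eq_iff_eq_mul, show n * (a * b) * n⁻¹ = n * a * n⁻¹ * (n * b * n⁻¹) by group]
  have h5 : n * (b * w) * n⁻¹ = n * b * n⁻¹ * w := by rw [← h3]; nth_rw 1 [h3]; group
  rcases h.na' hn hQ with h1 | h1 <;> rw [h1] at h4 ⊢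
  · rw [h4, ← mul_assoc, h.ba, h.wi, mul_assoc, h.w2, mul_one]
  · rw [h5, mul_left_inj] at h4
    rw [h4, mul_assoc, h.wa, ← mul_assoc, h.ba, h.wi, mul_assoc, h.w2, mul_one]

end Core

end CL.KB
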