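/-
Odd automorphisms of a 2-group with a cyclic subgroup of index at most four.
-/
import Cfsg.Agent.Blk.KBDefs
import Cfsg.Agent.Inv.AutTwo
import Cfsg.Agent.Grp.Comm1
import Cfsg.Agent.Grp.PGroupFrattini
import Cfsg.Agent.Perm.FCGroup

set_option autoImplicit false

namespace CL.KB

open Subgroup CL.Inv CL.Grp
open scoped commutatorElement

universe u

variable {Q : Type*} [Group Q] [Finite Q] {α : MulAut Q} {y t : Q}

theorem cia_orb (hQ : IsPGroup 2 Q) (H : Subgroup Q) (y g : Q) : ∃ k, g⁻¹ * y ^ 2 ^ k * g ∈ H ∧ 2 ^ k ≤ H.index ∧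
    (y ∈ H → g ∉ H → 2 ^ k < H.index) ∧ (H.index ≤ 2 ^ k → ∀ x, ∃ n : ℤ, x⁻¹ * (y ^ n * g) ∈ H) := by
  obtain ⟨k, hk⟩ := (hQ.to_subgroup (zpowers y)).card_orbit (g : Q ⧸ H)
  have h1 := (MulAction.stabilizer (zpowers y) (g : Q ⧸ H)).pow_index_mem ⟨y, mem_zpowers y⟩
  rw [MulAction.index_stabilizer, ← Nat.card_coe_set_eq, hk] at h1
  rw [Nat.card_coe_set_eq] at hk
  refine ⟨k, ?_, hk ▸ Set.ncard_le_card _, fun hy hg => hk ▸ Set.ncard_lt_card fun e => hg ?_, fun h x => ?_⟩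
  · simpa [mul_assoc] using QuotientGroup.eq.1 (h1.symm : (g : Q ⧸ H) = ((y ^ 2 ^ k * g : Q) : Q ⧸ H))
  · obtain ⟨v, e⟩ := e.ge (Set.mem_univ ((1 : Q) : Q ⧸ H))
    simpa using mul_mem (QuotientGroup.eq.1 (e : ((v * g : Q) : Q ⧸ H) = (1 : Q))) (zpowers_le.2 hy v.2)
  · obtain ⟨⟨_, n, rfl⟩, e⟩ := (Set.eq_univ_iff_ncard _).2 ((Set.ncard_le_card _).antisymm (hk ▸ h)) |>.ge
      (Set.mem_univ (x : Q ⧸ H))
    exact ⟨n, QuotientGroup.eq.1 (e.symm : (x : Q ⧸ H) = ((y ^ n * g : Q) : Q ⧸ H))⟩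

theorem cia_mem {x v : Q} (hx : x ∈ zpowers y) (hv : v ∈ zpowers y) (h : orderOf v = orderOf x) : v ∈ zpowers x :=
  CL.Perm.mem_zpowers_of_isCyclic_subgroup hx hv h.dvd

theorem cia_normal (h : ∀ g : Q, g * t * g⁻¹ ∈ zpowers y) (ht : t ∈ zpowers y) : (zpowers t).Normal := ⟨by
  rintro _ ⟨i, rfl⟩ g
  rw [← conj_zpow]
  exact zpow_mem (cia_mem ht (h g) ((MulAut.conj g).orderOf_eq t)) i⟩

theorem normal_zpowers_sq (hQ : IsPGroup 2 Q) (h : (zpowers y).index ≤ 4) : (zpowers (y ^ 2)).Normal := by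
  refine cia_normal (fun g => ?_) (npow_mem_zpowers y 2)
  by_cases hg : g⁻¹ ∈ zpowers y
  · exact mul_mem (mul_mem (inv_mem_iff.1 hg) (npow_mem_zpowers y 2)) hg
  obtain ⟨k, h1, -, h2, -⟩ := cia_orb hQ (zpowers y) y g⁻¹
  have h3 : k < 2 := (Nat.pow_lt_pow_iff_right one_lt_two).1 ((h2 (mem_zpowers y) hg).trans_le h)
  rw [inv_inv] at h1
  interval_cases k
  · simpa using pow_mem h1 2
  · exact h1

theorem cia_half (hQ : IsPGroup 2 Q) {v : Q} (hv : v ∈ zpowers y) : y ∈ zpowers v ∨ v ∈ zpowers (y ^ 2) := by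
  obtain ⟨i, rfl⟩ := hv
  obtain ⟨k, hk⟩ := IsPGroup.iff_orderOf.1 hQ y
  rcases Int.even_or_odd i with ⟨j, rfl⟩ | h
  · exact .inr ⟨j, by simp only [← two_mul, zpow_mul, zpow_ofNat]⟩
  · exact .inl (mem_zpowers_zpow_iff.2 (by
      rw [hk, Int.gcd, Int.natAbs_natCast]
      exact (Nat.coprime_two_right.2 (Int.natAbs_odd.2 h)).pow_right k))

omit [Finite Q] in
theorem cia_sq (hQ : IsPGroup 2 Q) {w : Q} (hw : w ∈ zpowers t) (e : t = w ^ 2) : t = 1 := by
  obtain ⟨i, rfl⟩ := hw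
  refine eq_one_of_pow_odd hQ (k := (i * 2 - 1).natAbs) (Int.natAbs_odd.2 ⟨i - 1, by ring⟩) (pow_natAbs_eq_one.2 ?_)
  rw [zpow_sub_one, zpow_mul, mul_inv_eq_one, zpow_ofNat]
  exact e.symm

omit [Finite Q] in
theorem cia_invol {s : Q} (h : s ^ 2 = 1) (i : ℤ) : s ^ i = 1 ∨ s ^ i = s := by
  obtain ⟨j, rfl | rfl⟩ := Int.even_or_odd' i <;> simp [zpow_add, zpow_mul, zpow_ofNat, h]

omit [Finite Q] in
/-- the quotient of order sixteen -/
theorem cia_16 {β : MulAut Q} {a b : Q} (hb : β a = b) (a4 : (a ^ 2) ^ 2 = 1) (ca : a ^ 2 ∈ center Q)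
    (cb : b ^ 2 ∈ center Q) (cov : ∀ x, ∃ n m : ℤ, x = b ^ n * a ^ m) (h1 : b ^ 2 ∉ zpowers a) (h2 : a ^ 2 ∉ zpowers b)
    (h3 : β (β (a ^ 2)) ≠ a ^ 2) : (∀ x y : Q, Commute x y) ∧ (∀ x : Q, x ^ 4 = 1) ∧ ∀ x, β x = x → x = 1 := by
  have e : β (a ^ 2) = b ^ 2 := by rw [map_pow, hb]
  have b4 : (b ^ 2) ^ 2 = 1 := by rw [← e, ← map_pow, a4, map_one]
  have ne : b ^ 2 ≠ a ^ 2 := fun h => h1 (h ▸ npow_mem_zpowers a 2)
  have z2 : ∀ (x : Q) (i : ℤ), x ^ (2 * i) = (x ^ 2) ^ i := fun x i => by rw [zpow_mul, zpow_ofNat]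
  have W : ∀ i j : ℤ, β ((b ^ 2) ^ i * (a ^ 2) ^ j) = (b ^ 2) ^ i * (a ^ 2) ^ j → (b ^ 2) ^ i * (a ^ 2) ^ j = 1 := by
    intro i j
    rcases cia_invol b4 i with p | p <;> rcases cia_invol a4 j with q | q <;> rw [p, q] <;> intro h
    · simp
    · exact (ne (by simpa only [one_mul, e] using h)).elim
    · exact (ne (β.injective (by simpa only [mul_one, e] using h))).elim
    · rw [map_mul, e, mem_center_iff.1 ca, mul_left_inj] at h
      exact (h3 (e ▸ h)).elim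
  have c : ∀ {c : Q}, ⁅a, b⁆ ∈ zpowers c → c ∈ center Q → ∀ x y : Q, ⁅x, y⁆ ∈ zpowers c := fun {c} hc hz x y => by
    have : (zpowers c).Normal := ⟨fun x hx g => by
      rwa [mem_center_iff.1 (zpowers_le.2 hz hx) g, mul_inv_cancel_right]⟩
    have p : Commute (QuotientGroup.mk' (zpowers c) a) (QuotientGroup.mk' _ b) := by
      rw [← commutatorElement_eq_one_iff_commute, ← map_commutatorElement]; exact (QuotientGroup.eq_one_iff _).2 hc
    obtain ⟨n, m, rfl⟩ := cov x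
    obtain ⟨k, l, rfl⟩ := cov y
    rw [← QuotientGroup.eq_one_iff, ← QuotientGroup.mk'_apply, map_commutatorElement,
      commutatorElement_eq_one_iff_commute]
    simp only [map_mul, map_zpow]
    exact (((Commute.refl _).zpow_zpow n k).mul_right (p.symm.zpow_zpow n l)).mul_left
      ((p.zpow_zpow m k).mul_right ((Commute.refl _).zpow_zpow m l))
  have ab : ⁅a, b⁆ = 1 := by
    obtain ⟨n, m, h⟩ := cov (a * b)
    obtain ⟨n, rfl | rfl⟩ := Int.even_or_odd' n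
    · refine (h1 ?_).elim
      have p : b * (b ^ (2 * n))⁻¹ = a⁻¹ * a ^ m := by
        rw [mul_inv_eq_iff_eq_mul, mul_assoc, eq_inv_mul_iff_mul_eq, h, z2, mem_center_iff.1 (zpow_mem cb n)]
      have q : (b * (b ^ (2 * n))⁻¹) ^ 2 = b ^ 2 * (((b ^ 2) ^ 2) ^ n)⁻¹ := by group
      rw [b4, one_zpow, inv_one, mul_one, p] at q
      exact q ▸ pow_mem (mul_mem (inv_mem (mem_zpowers a)) (zpow_mem_zpowers a m)) 2
    obtain ⟨m, rfl | rfl⟩ := Int.even_or_odd' m
    · refine (h2 ?_).elim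
      have p : a * (a ^ (2 * m))⁻¹ = b ^ (2 * n + 1) * b⁻¹ := by
        rw [mul_inv_eq_iff_eq_mul, mul_assoc, z2 a, mem_center_iff.1 (zpow_mem ca m), ← mul_assoc,
          eq_mul_inv_iff_mul_eq, h, z2 a]
      have q : (a * (a ^ (2 * m))⁻¹) ^ 2 = a ^ 2 * (((a ^ 2) ^ 2) ^ m)⁻¹ := by group
      rw [a4, one_zpow, inv_one, mul_one, p] at q
      exact q ▸ pow_mem (mul_mem (zpow_mem_zpowers b _) (inv_mem (mem_zpowers b))) 2
    have p : ⁅a, b⁆ = (b ^ 2) ^ n * (a ^ 2) ^ m := by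
      rw [commutatorElement_def, h, zpow_add_one, zpow_add_one, z2, z2, mul_assoc _ b, ← mul_assoc b,
        mem_center_iff.1 (zpow_mem ca m)]
      group
    have hz : ⁅a, b⁆ ∈ center Q := p ▸ mul_mem (zpow_mem cb n) (zpow_mem ca m)
    have q : ⁅a, b⁆ ^ 2 = 1 := by
      rw [p, (Commute.mul_pow (mem_center_iff.1 (zpow_mem ca m) _)), ← zpow_natCast, ← zpow_natCast ((a ^ 2) ^ m),
        ← zpow_mul, ← zpow_mul, mul_comm n, mul_comm m, zpow_mul, zpow_mul, zpow_natCast, zpow_natCast, a4, b4]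
      simp
    obtain ⟨i, hi⟩ := c (mem_zpowers _) hz (β a) (β b)
    rw [← map_commutatorElement] at hi
    rcases cia_invol q i with r | r
    · exact β.injective (by rw [← hi, map_one]; exact r)
    · exact p ▸ W n m (p ▸ hi.symm.trans r)
  have cm : ∀ x y : Q, Commute x y := fun x y => commutatorElement_eq_one_iff_commute.1 (by
    simpa using c (c := 1) (by rw [ab]; exact one_mem _) (one_mem _) x y)
  have sq : ∀ n m : ℤ, (b ^ n * a ^ m) ^ 2 = (b ^ 2) ^ n * (a ^ 2) ^ m := fun n m => by rw [(cm _ _).mul_pow]; group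
  refine ⟨cm, fun x => ?_, fun x hx => ?_⟩
  · obtain ⟨n, m, rfl⟩ := cov x
    have : (b ^ n * a ^ m) ^ 4 = ((b ^ 2) ^ 2) ^ n * ((a ^ 2) ^ 2) ^ m := by rw [(cm _ _).mul_pow]; group
    simp [this, a4, b4]
  · obtain ⟨n, m, rfl⟩ := cov x
    have p := W n m (by rw [← sq, map_pow, hx])
    obtain ⟨n, rfl | rfl⟩ := Int.even_or_odd' n; swap
    · rw [zpow_add_one, z2, b4, one_zpow, one_mul, mul_eq_one_iff_eq_inv] at p
      exact (h1 (p ▸ inv_mem (zpow_mem (npow_mem_zpowers a 2) m))).elim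
    obtain ⟨m, rfl | rfl⟩ := Int.even_or_odd' m; swap
    · rw [zpow_add_one, z2, z2, b4, a4, one_zpow, one_zpow, one_mul, one_mul] at p
      exact (h2 (p ▸ one_mem _)).elim
    rw [z2, z2] at hx ⊢
    exact W n m hx

section fpf

variable (hQ : IsPGroup 2 Q) (hα : Odd (orderOf α)) [(zpowers t).Normal] (hK : fixK α = zpowers t)
include hQ hα hK

omit [Finite Q] [(zpowers t).Normal] in
theorem cia_fpf {x : Q} (h : x⁻¹ * α x ∈ zpowers t) : x ∈ zpowers t :=
  hK.le (aut_fix_of_mul hQ hα (mul_inv_cancel_left x _).symm (hK.ge h))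

theorem cia_surj (g : Q) : ∃ q, ∃ b ∈ zpowers t, g = q * (α q)⁻¹ * b := by
  have h : MonoidHom.FixedPointFree (QuotientGroup.map (zpowers t) (zpowers t) α.toMonoidHom
      fun x hx => show α x ∈ _ from (mem_fixK.1 (hK.ge hx)).symm ▸ hx) := by
    rintro ⟨x⟩ e
    exact (QuotientGroup.eq_one_iff x).2 (cia_fpf hQ hα hK (QuotientGroup.eq.1 e.symm))
  obtain ⟨⟨q⟩, e⟩ := h.commutatorMap_surjective g
  exact ⟨q, (q / α q)⁻¹ * g, QuotientGroup.eq.1 e, by rw [div_eq_mul_inv]; group⟩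

theorem cia_center : zpowers t ≤ center Q := fun b hb => mem_center_iff.2 fun g => by
  obtain ⟨q, c, hc, rfl⟩ := cia_surj hQ hα hK g
  have h := mem_fixK.1 (hK.ge (Normal.conj_mem' inferInstance b hb q))
  rw [map_mul, map_mul, map_inv, mem_fixK.1 (hK.ge hb)] at h
  rw [mul_assoc, show c * b = b * c from congrArg Subtype.val (mul_comm' (⟨c, hc⟩ : zpowers t) ⟨b, hb⟩)]
  calc _ = q * ((α q)⁻¹ * b * α q) * (α q)⁻¹ * c := by group
    _ = _ := by rw [h]; group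

theorem cia_irr (h8 : (zpowers t).index = 8) {N : Subgroup Q} (hN : N ≤ N.comap α.toMonoidHom) (h1 : zpowers t ≤ N) :
    N ≤ zpowers t ∨ N = ⊤ := by
  have e := relIndex_mul_index h1
  have a1 : (zpowers t).relIndex N ≠ 2 := fun h => by
    obtain ⟨x, hx, hx'⟩ := SetLike.not_le_iff_exists.1 fun l : N ≤ zpowers t => by simp [relIndex_eq_one.2 l] at h
    exact hx' (cia_fpf hQ hα hK ((mul_mem_iff_of_index_two h (a := ⟨x, hx⟩⁻¹) (b := ⟨_, hN hx⟩)).2
      (iff_of_false (mt inv_mem_iff.1 hx') fun l => hx' (hK.le (α.injective (hK.ge l))))))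
  have a2 : N.index ≠ 2 := fun h => by
    obtain ⟨g, hg⟩ := SetLike.exists_not_mem_of_ne_top N fun l => by simp [l] at h
    obtain ⟨q, b, hb, rfl⟩ := cia_surj hQ hα hK g
    refine hg (mul_mem ((mul_mem_iff_of_index_two h).2 ?_) (h1 hb))
    rw [inv_mem_iff]
    exact SetLike.ext_iff.1 (eq_of_le_of_card_ge hN (Nat.card_le_card_of_injective
      (fun x : N.comap α.toMonoidHom => (⟨α x, x.2⟩ : N)) fun _ _ l =>
        Subtype.ext (α.injective (congrArg Subtype.val l)))) q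
  rw [← relIndex_eq_one, ← index_eq_one]
  rw [h8] at e
  have := Nat.le_of_dvd (by decide) (Dvd.intro_left _ e)
  generalize N.index = n at *
  interval_cases n <;> omega

theorem cia_eight (h8 : (zpowers t).index = 8) (hy : y ^ 2 = t) : t = 1 := by
  have hZ := cia_center hQ hα hK
  have hF : frattini Q ≤ zpowers t := le_sup_left.trans ((cia_irr hQ hα hK h8 (N := frattini Q ⊔ zpowers t)
    (sup_le ((characteristic_iff_le_comap.1 inferInstance α).trans (comap_mono le_sup_left)) fun x hx =>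
      mem_sup_right (show α x ∈ _ from (mem_fixK.1 (hK.ge hx)).symm ▸ hx)) le_sup_right).resolve_right fun e => by
    rw [sup_comm] at e
    simp [frattini_nongenerating e] at h8)
  have c1 := fun g h => hF (commutatorElement_mem_frattini hQ g h)
  have c2 : ∀ g h k : Q, ⁅g, h * k⁆ = ⁅g, h⁆ * ⁅g, k⁆ := fun g h k => by
    rw [← mul_inv_cancel_right ⁅g, k⁆ h, ← mem_center_iff.1 (hZ (c1 g k)) h]
    simp only [commutatorElement_def]
    group
  rcases cia_irr hQ hα hK h8 (characteristic_iff_le_comap.1 centerCharacteristic α) hZ with h | h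
  · by_contra t1
    have c3 : ∀ g h : Q, ⁅g, h⁆ ^ 2 = 1 := fun g h => by
      rw [sq, ← c2, ← sq, commutatorElement_eq_one_iff_mul_comm, mem_center_iff.1 (hZ (hF (pow_mem_frattini hQ h)))]
    have c4 : ∀ g : Q, (centralizer {g}).index ≤ 2 := fun g => by
      by_cases e : ∀ h : Q, ⁅g, h⁆ = 1
      · rw [show centralizer {g} = ⊤ from eq_top_iff.2 fun h _ =>
          mem_centralizer_singleton_iff.2 (commutatorElement_eq_one_iff_mul_comm.1 (e h)).symm]
        simp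
      obtain ⟨k, e⟩ := not_forall.1 e
      refine Nat.le_of_dvd two_pos (index_dvd_two_iff.2 ⟨k, fun b => or_iff_not_imp_right.2 fun hb => ?_⟩)
      rw [mem_centralizer_singleton_iff, eq_comm, ← commutatorElement_eq_one_iff_mul_comm] at hb ⊢
      obtain ⟨i, hi⟩ := cia_mem (c1 g k) (c1 g b) ((orderOf_eq_prime (c3 _ _) hb).trans (orderOf_eq_prime (c3 _ _) e).symm)
      rw [c2, ((cia_invol (c3 g k) i).resolve_left (hi ▸ hb :)).symm.trans hi |>.symm, ← sq, c3]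
    have yB : y ∉ zpowers t := fun e => t1 (cia_sq hQ e hy.symm)
    obtain ⟨x, hx⟩ := not_forall.1 (mt mem_center_iff.2 (mt (@h y) yB))
    obtain ⟨g, hg, g1⟩ := SetLike.not_le_iff_exists.1 fun l : centralizer {y} ⊓ centralizer {x} ≤ zpowers t => by
      have := (index_antitone l).trans (index_inf_le.trans (Nat.mul_le_mul (c4 y) (c4 x)))
      omega
    have tm : ∀ {A B : Subgroup Q}, A ≤ B → ¬ B ≤ A → 2 * B.index ≤ A.index := fun l l' => by
      rw [← relIndex_mul_index l]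
      exact Nat.mul_le_mul_right _ ((Nat.two_le_iff _).2 ⟨index_ne_zero_of_finite, mt relIndex_eq_one.1 l'⟩)
    have m : ∀ {a b : Q}, a * b = b * a → a ∈ centralizer {b} := mem_centralizer_singleton_iff.2
    have d1 := tm (B := centralizer {g} ⊓ centralizer {y} ⊓ centralizer {x}) (le_inf (le_inf (hZ.trans
      (center_le_centralizer _)) (hZ.trans (center_le_centralizer _))) (hZ.trans (center_le_centralizer _)))
      fun l => g1 (l ⟨⟨m rfl, hg.1⟩, hg.2⟩)
    have d2 := tm (inf_le_left : centralizer {g} ⊓ centralizer {y} ⊓ centralizer {x} ≤ _) fun l =>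
      hx (mem_centralizer_singleton_iff.1 (l ⟨m (mem_centralizer_singleton_iff.1 hg.1).symm, m rfl⟩).2).symm
    have d3 := tm (inf_le_left : centralizer {g} ⊓ centralizer {y} ≤ _) fun l =>
      hx (mem_centralizer_singleton_iff.1 (l (m (mem_centralizer_singleton_iff.1 hg.2).symm)).2)
    have d4 : centralizer {g} = ⊤ := index_eq_one.1 (le_antisymm (by omega) (Nat.pos_of_ne_zero index_ne_zero_of_finite))
    exact g1 (h (mem_center_iff.2 fun a => mem_centralizer_singleton_iff.1 (d4.ge (mem_top a))))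
  · obtain ⟨q, b, hb, e⟩ := cia_surj hQ hα hK y
    refine cia_sq hQ hb ?_
    have cm : ∀ a b : Q, Commute a b := fun a b => mem_center_iff.1 (h.ge (mem_top b)) a
    rw [← hy, e, (cm _ _).mul_pow, (cm _ _).mul_pow, inv_pow, ← map_pow,
      mem_fixK.1 (hK.ge (hF (pow_mem_frattini hQ q))), mul_inv_cancel, one_mul]

theorem cia_sixteen (c1 : ∀ g h : Q, ⁅g, h⁆ ∈ zpowers t) (c2 : ∀ g : Q, g ^ 4 ∈ zpowers t) (hy : y ^ 4 = t) :
    t = 1 := by
  have hZ := cia_center hQ hα hK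
  obtain ⟨q, b, hb, e⟩ := cia_surj hQ hα hK y
  refine cia_sq hQ (mul_mem (pow_mem (c1 (α q)⁻¹ q) 3) (pow_mem hb 2)) ?_
  rw [← hy, e, Commute.mul_pow (mem_center_iff.1 (hZ hb) _), mul_pow_of_central (hZ (c1 _ _)), inv_pow, ← map_pow,
    mem_fixK.1 (hK.ge (c2 q)), mul_inv_cancel, one_mul, Commute.mul_pow (mem_center_iff.1 (hZ (pow_mem hb 2)) _),
    ← pow_mul, ← pow_mul]
  rfl

end fpf

theorem cia : CIa.{u} := by
  intro Q _ _ hQ α y z hα h1 h4 hz z1 hzK
  obtain ⟨k, hk⟩ := hQ.index (fixK α)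
  by_contra hne
  have h8 : 8 ≤ (fixK α).index := by
    obtain rfl | rfl | rfl | h : k = 0 ∨ k = 1 ∨ k = 2 ∨ 3 ≤ k := by omega
    · exact (h1 (MulEquiv.ext fun x => (index_eq_one.1 hk).ge (mem_top x))).elim
    · exact (h1 (aut_eq_one_of_fix_index_le_two hQ hα (fixK α) (fun g h a b => (mul_mem_iff_of_index_two hk).2
        (iff_of_false (mt inv_mem_iff.1 a) b)) fun _ h => h)).elim
    · exact (hne hk).elim
    · exact hk ▸ Nat.pow_le_pow_right two_pos h
  have yK : y ∉ fixK α := fun e => by have := index_antitone (zpowers_le.2 e); omega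
  have z2 := (cia_half hQ hz).resolve_left fun e => yK (zpowers_le.2 hzK e)
  have n2 := normal_zpowers_sq hQ h4
  by_cases y2 : y ^ 2 ∈ fixK α
  · have e : (zpowers (y ^ 2)).index ≤ 8 := by
      have a := (zpowers y).index_mul_card
      have b := (zpowers (y ^ 2)).index_mul_card
      have c := orderOf_le_of_pow_eq_one (x := y) (Nat.mul_pos two_pos (orderOf_pos (y ^ 2)))
        (by rw [pow_mul, pow_orderOf_eq_one])
      rw [Nat.card_zpowers] at a b
      refine Nat.le_of_mul_le_mul_right ?_ (orderOf_pos (y ^ 2))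
      rw [b, ← a]
      exact (Nat.mul_le_mul h4 c).trans (by omega)
    have l := zpowers_le.2 y2
    have hK : fixK α = zpowers (y ^ 2) := (eq_of_le_of_not_lt l fun h => by have := index_strictAnti h; omega).symm
    rw [cia_eight hQ hα hK (le_antisymm e (hK ▸ h8)) rfl, zpowers_one_eq_bot] at z2
    exact z1 z2
  have z4 := (cia_half hQ z2).resolve_left fun e => y2 (zpowers_le.2 hzK e)
  have : (zpowers ((y ^ 2) ^ 2)).Normal := cia_normal (fun g => n2.conj_mem _ (npow_mem_zpowers _ 2) g) (npow_mem_zpowers _ 2)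
  have f : ∀ n : ℕ, α y ^ n ∈ zpowers y → α (y ^ n) = y ^ n := fun n h => aut_fix_of_mem_zpowers hQ hα
    (cia_mem (npow_mem_zpowers y n) (map_pow α y n ▸ h) (α.orderOf_eq _))
  obtain ⟨j, j1, j2, -, j3⟩ := cia_orb hQ (zpowers y) (α y) 1
  rw [inv_one, one_mul, mul_one] at j1
  obtain rfl : j = 2 := by
    have := (Nat.pow_le_pow_iff_right one_lt_two).1 (j2.trans h4 : _ ≤ 2 ^ 2)
    interval_cases j
    exacts [(yK (by simpa [mem_fixK] using f _ j1)).elim, (y2 (f _ j1)).elim, rfl]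
  have l : zpowers ((y ^ 2) ^ 2) ≤ fixK α := zpowers_le.2 (pow_mul y 2 2 ▸ f _ j1)
  have he : (zpowers ((y ^ 2) ^ 2)).map (α : Q →* Q) = zpowers ((y ^ 2) ^ 2) := by
    rw [MonoidHom.map_zpowers]; exact congrArg _ (l (mem_zpowers _))
  have n3 : (zpowers (α y ^ 2)).Normal := by
    rw [← map_pow, ← MonoidHom.coe_coe, ← MonoidHom.map_zpowers]; exact n2.map _ α.surjective
  have cz : ∀ u : Q, (zpowers u).Normal → u ^ 2 = (y ^ 2) ^ 2 → (u : Q ⧸ zpowers ((y ^ 2) ^ 2)) ∈ center _ :=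
    fun u hu e => mem_center_iff.2 (by
      intro g
      obtain ⟨g, rfl⟩ := QuotientGroup.mk_surjective g
      obtain ⟨i, hi⟩ := hu.conj_mem u (mem_zpowers u) g
      have p : (u : Q ⧸ zpowers ((y ^ 2) ^ 2)) ^ 2 = 1 := (QuotientGroup.eq_one_iff (u ^ 2)).2 (e ▸ mem_zpowers _)
      have q := congrArg (QuotientGroup.mk' (zpowers ((y ^ 2) ^ 2))) hi
      simp only [map_zpow, map_mul, map_inv, QuotientGroup.mk'_apply] at q
      rcases cia_invol p i with r | r <;> rw [r] at q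
      · rw [show (u : Q ⧸ zpowers ((y ^ 2) ^ 2)) = 1 by simpa using q.symm, mul_one, one_mul]
      · exact (eq_mul_inv_iff_mul_eq.1 q).symm)
  have lf : ∀ a b : Q, (y ^ 2) ^ 2 ∈ zpowers b → (a : Q ⧸ zpowers ((y ^ 2) ^ 2)) ^ 2 ∈
      zpowers (b : Q ⧸ zpowers ((y ^ 2) ^ 2)) → a ^ 2 ∈ zpowers b := fun a b h ⟨i, hi⟩ =>
    (mul_mem_cancel_left (inv_mem (zpow_mem_zpowers b i))).1 (zpowers_le.2 h (QuotientGroup.eq.1 hi))
  have e4 : (α y ^ 2) ^ 2 = (y ^ 2) ^ 2 := by rw [← map_pow, ← map_pow]; exact l (mem_zpowers _)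
  obtain ⟨a1, a2, a3⟩ := cia_16 (β := QuotientGroup.congr _ _ α he) (a := y) (b := α y) rfl
    ((QuotientGroup.eq_one_iff ((y ^ 2) ^ 2)).2 (mem_zpowers _)) (cz _ n2 rfl) (cz _ n3 e4) (by
      rintro ⟨x⟩
      obtain ⟨n, m, e⟩ := j3 h4 x
      exact ⟨n, -m, congrArg QuotientGroup.mk (show x = α y ^ n * y ^ (-m) by rw [zpow_neg, show y ^ m = _ from e]; group)⟩)
    (fun e => y2 (f 2 (lf _ _ (pow_mem (npow_mem_zpowers y 2) 2) e)))
    (fun e => y2 (aut_fix_of_mem_zpowers hQ hα (map_pow α y 2 ▸ CL.Perm.mem_zpowers_of_isCyclic_subgroup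
      (lf _ _ (e4 ▸ pow_mem (npow_mem_zpowers _ 2) 2) e) (npow_mem_zpowers _ 2)
      (by rw [← map_pow, α.orderOf_eq]))))
    fun e => y2 (by
      have p : α ((y ^ 2)⁻¹ * α (α (y ^ 2))) = (y ^ 2)⁻¹ * α (α (y ^ 2)) := l (QuotientGroup.eq.1 e.symm)
      have q := aut_fix_of_mul hQ (α := α ^ 2) (a := y ^ 2) (hα.of_dvd_nat (orderOf_pow_dvd 2))
        (mul_inv_cancel_left _ _).symm ((congrArg α p).trans p)
      obtain ⟨m, hm⟩ := hα
      have r : (α ^ 2) ^ m ∈ MulAction.stabilizer (MulAut Q) (y ^ 2) := pow_mem q m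
      have s := (mul_mem_cancel_left r).1 (show (α ^ 2) ^ m * α ∈ _ by
        rw [← pow_mul, ← pow_succ, ← hm, pow_orderOf_eq_one]; exact one_mem _)
      exact s)
  have hK : fixK α = zpowers ((y ^ 2) ^ 2) := le_antisymm
    (fun x hx => (QuotientGroup.eq_one_iff x).1 (a3 _ (congrArg QuotientGroup.mk (mem_fixK.1 hx)))) l
  rw [cia_sixteen hQ hα hK (fun g h => (QuotientGroup.eq_one_iff _).1
    (commutatorElement_eq_one_iff_commute.2 (a1 g h))) (fun g => (QuotientGroup.eq_one_iff _).1 (a2 g))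
    (pow_mul y 2 2), zpowers_one_eq_bot] at z4
  exact z1 z4

end CL.KB
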