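/-
Brauer's bound k(B) ≤ |D|: an automorphism of odd order whose fixed subgroup has index four.
-/
import Cfsg.Agent.Blk.KBDefs
import Cfsg.Agent.Inv.AutTwo

set_option autoImplicit false
set_option linter.unusedSectionVars false

namespace CL.KB

open Cfsg Subgroup CL.Inv

universe u

namespace CoreEx

variable {X : Type*} [Group X] {α σ : MulAut X} {K : Subgroup X} {a b c g q w x y z : X}

theorem cov4 (h : K.index = 4) (ha : a ∉ K) (hb : b ∉ K) (hc : c ∉ K) (h1 : a⁻¹ * b ∉ K) (h2 : a⁻¹ * c ∉ K)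
    (h3 : b⁻¹ * c ∉ K) (q : X) : q ∈ K ∨ a⁻¹ * q ∈ K ∨ b⁻¹ * q ∈ K ∨ c⁻¹ * q ∈ K := by
  classical
  have : Finite (X ⧸ K) := Nat.finite_of_card_ne_zero (by rw [← index_eq_card, h]; omega)
  have := Fintype.ofFinite (X ⧸ K)
  have e : ({((1 : X) : X ⧸ K), (a : X ⧸ K), (b : X ⧸ K), (c : X ⧸ K)} : Finset (X ⧸ K)) = Finset.univ :=
    Finset.eq_univ_of_card _ (by
      rw [← Nat.card_eq_fintype_card, ← index_eq_card, h, Finset.card_eq_four]
      exact ⟨_, _, _, _, by simpa [Ne, QuotientGroup.eq], by simpa [Ne, QuotientGroup.eq],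
        by simpa [Ne, QuotientGroup.eq], by simpa [Ne, QuotientGroup.eq], by simpa [Ne, QuotientGroup.eq],
        by simpa [Ne, QuotientGroup.eq], rfl⟩)
  have := e.ge (Finset.mem_univ (q : X ⧸ K))
  simpa only [Finset.mem_insert, Finset.mem_singleton, eq_comm (a := (q : X ⧸ K)), QuotientGroup.eq, inv_one,
    one_mul] using this

theorem app_mem : α x ∈ fixK α ↔ x ∈ fixK α := α.injective.eq_iff

theorem pow_fix (h : α x = x) (n : ℕ) : (α ^ n) x = x := pow_mem (show α ∈ MulAction.stabilizer (MulAut X) x from h) n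

theorem congr (h : (x : X ⧸ fixK α) = y) : (α x : X ⧸ fixK α) = α y := by
  rw [QuotientGroup.eq] at h ⊢
  rwa [← map_inv, ← map_mul, app_mem]

/-- The action of an element on the generators. -/
def Tw (a b w y : X) : Prop := (y * a * y⁻¹ = a ∨ y * a * y⁻¹ = a * w) ∧ (y * b * y⁻¹ = b ∨ y * b * y⁻¹ = b * w) ∧
  y * w * y⁻¹ = w

theorem tw_aux (hw : w * w = 1) (h0 : x * w * x⁻¹ = w) (h1 : x * a * x⁻¹ = a ∨ x * a * x⁻¹ = a * w)
    (h2 : g = a ∨ g = a * w) : x * g * x⁻¹ = a ∨ x * g * x⁻¹ = a * w := by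
  rcases h2 with rfl | rfl
  · exact h1
  · rw [← conj_mul, h0]
    exact h1.symm.imp (fun e => by rw [e, mul_assoc, hw, mul_one]) fun e => by rw [e]

theorem Tw.mul (hw : w * w = 1) (h : Tw a b w x) (h' : Tw a b w y) : Tw a b w (x * y) := by
  have e : ∀ g, x * y * g * (x * y)⁻¹ = x * (y * g * y⁻¹) * x⁻¹ := fun g => by group
  simp only [Tw, e]
  exact ⟨tw_aux hw h.2.2 h.1 h'.1, tw_aux hw h.2.2 h.2.1 h'.2.1, by rw [h'.2.2, h.2.2]⟩

section

variable (h : Core (⊤ : Subgroup X) K a b w z)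
include h

theorem tw (y : X) : Tw a b w y := by
  have wa := h.ca w h.wK
  have wb := h.cb w h.wK
  have hK : ∀ k ∈ K, Tw a b w k := fun k hk =>
    ⟨.inl (by rw [h.ca k hk, mul_inv_cancel_right]), .inl (by rw [h.cb k hk, mul_inv_cancel_right]), by
      rw [← h.a2, ← conj_mul, h.ca k hk, mul_inv_cancel_right]⟩
  have ha : Tw a b w a := ⟨.inl (by group), .inr (by rw [h.ab, ← wb]; group), by rw [← wa]; group⟩
  have hb : Tw a b w b := ⟨.inr (by
    rw [← wa, mul_inv_eq_iff_eq_mul, mul_assoc, h.ab, ← mul_assoc, h.w2, one_mul]), .inl (by group), by rw [← wb]; group⟩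
  rcases h.cov y (mem_top y) with e | e | e | e
  · exact hK y e
  · simpa using ha.mul h.w2 (hK _ e)
  · simpa using hb.mul h.w2 (hK _ e)
  · simpa only [mul_inv_cancel_left] using (ha.mul h.w2 hb).mul h.w2 (hK _ e)

theorem conj_eq (hc : ∀ k ∈ K, c * k * c⁻¹ = k) (q : X) : c * q * c⁻¹ = q ∨ c * q * c⁻¹ = q * w := by
  obtain ⟨h1, h2, h3⟩ := tw h c
  have key : ∀ r, (c * r * c⁻¹ = r ∨ c * r * c⁻¹ = r * w) → r⁻¹ * q ∈ K → c * q * c⁻¹ = q ∨ c * q * c⁻¹ = q * w :=
    fun r e hr => by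
      have e1 := (tw h (r⁻¹ * q)).2.2
      rw [← mul_inv_cancel_left r q, ← conj_mul, hc _ hr]
      exact e.imp (fun e => by rw [e]) fun e => by
        rw [e, mul_assoc, mul_assoc r, ← mul_inv_eq_iff_eq_mul.1 e1]
  rcases h.cov q (mem_top q) with e | e | e | e
  · exact .inl (hc q e)
  · exact key a h1 e
  · exact key b h2 e
  · refine key _ ?_ e
    rw [← conj_mul]
    rcases h1 with e1 | e1 <;> rcases h2 with e2 | e2 <;> rw [e1, e2]
    · exact .inl rfl
    · exact .inr (mul_assoc _ _ _).symm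
    · exact .inr (by rw [mul_assoc, h.cb w h.wK, mul_assoc])
    · exact .inl (by rw [mul_assoc, ← mul_assoc w, h.cb w h.wK, mul_assoc, h.w2, mul_one])

end

variable [Finite X] (hX : IsPGroup 2 X) (ho : Odd (orderOf α)) (h4 : (fixK α).index = 4)
include hX ho

theorem mv (hg : g ∉ fixK α) : g⁻¹ * α g ∉ fixK α := fun h =>
  hg (aut_fix_of_mul hX ho (mul_inv_cancel_left g _).symm h)

theorem fix_pow (n : ℕ) (h : g⁻¹ * (α ^ n) g ∈ fixK α) : (α ^ n) g = g :=
  aut_fix_of_mul hX (ho.of_dvd_nat (orderOf_pow_dvd n)) (mul_inv_cancel_left g _).symm (pow_fix h n)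

theorem mv2 (hg : g ∉ fixK α) : g⁻¹ * α (α g) ∉ fixK α := fun h => hg (by
  obtain ⟨m, e⟩ := exists_pow_eq_self_of_coprime (x := α) (n := 2) (Nat.coprime_two_left.2 ho)
  rw [mem_fixK, ← e]
  exact pow_fix (fix_pow hX ho 2 h) m)

include h4

theorem normal : (fixK α).Normal := by
  have := Fact.mk Nat.prime_two
  have := hX.isNilpotent
  have h1 := Group.normalizerCondition_of_isNilpotent (fixK α) (lt_top_iff_ne_top.2 fun e => by simp [e] at h4)
  have h2 := relIndex_mul_index h1.le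
  have h3 : (fixK α).relIndex (normalizer (fixK α : Set X)) ≠ 1 := fun e => h1.not_ge (relIndex_eq_one.1 e)
  have h5 : (fixK α).relIndex (normalizer (fixK α : Set X)) ≠ 2 := fun e => by
    obtain ⟨g, hg, hg'⟩ := SetLike.exists_of_lt h1
    have h6 : α g ∈ normalizer (fixK α : Set X) := mem_normalizer_fintype fun k hk => by
      have := app_mem.2 ((mem_normalizer_iff.1 hg k).1 hk)
      rwa [map_mul, map_mul, map_inv, mem_fixK.1 hk] at this
    exact mv hX ho hg' ((mul_mem_iff_of_index_two e (a := ⟨g, hg⟩⁻¹) (b := ⟨_, h6⟩)).2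
      (iff_of_false (fun e => hg' (inv_mem_iff.1 e)) fun e => hg' (app_mem.1 e)))
  rw [h4] at h2
  have h6 := Nat.le_of_dvd (by omega) (Dvd.intro _ h2)
  refine normalizer_eq_top_iff.1 (index_eq_one.1 ?_)
  generalize (fixK α).relIndex _ = m at *
  interval_cases m <;> omega

theorem cov3 (hg : g ∉ fixK α) (q : X) : q ∈ fixK α ∨ g⁻¹ * q ∈ fixK α ∨ (α g)⁻¹ * q ∈ fixK α ∨
    (α (α g))⁻¹ * q ∈ fixK α :=
  cov4 h4 hg (mt app_mem.1 hg) (mt app_mem.1 (mt app_mem.1 hg)) (mv hX ho hg) (mv2 hX ho hg)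
    (mv hX ho (mt app_mem.1 hg)) q

theorem three (g : X) : α (α (α g)) = g := by
  by_cases hg : g ∈ fixK α
  · rw [mem_fixK.1 hg, mem_fixK.1 hg, mem_fixK.1 hg]
  rcases cov3 hX ho h4 hg (α (α (α g))) with e | e | e | e
  · exact absurd (app_mem.1 (app_mem.1 (app_mem.1 e))) hg
  · exact fix_pow hX ho 3 e
  · exact absurd e (mv2 hX ho (mt app_mem.1 hg))
  · exact absurd e (mv hX ho (mt app_mem.1 (mt app_mem.1 hg)))

theorem cen (p : X) : ∀ k ∈ fixK α, k * (p⁻¹ * α p) = p⁻¹ * α p * k := fun k hk => by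
  have := mem_fixK.1 ((normal hX ho h4).conj_mem k hk p)
  rw [map_mul, map_mul, map_inv, mem_fixK.1 hk] at this
  calc k * (p⁻¹ * α p) = p⁻¹ * (p * k * p⁻¹) * α p := by group
    _ = _ := by rw [← this]; group

theorem tel (q : X) : α (α (q⁻¹ * α q)) = (q⁻¹ * α q * α (q⁻¹ * α q))⁻¹ := by
  simp only [map_mul, map_inv, three hX ho h4]; group

theorem core (hq : q ∉ fixK α) (ea : a = q⁻¹ * α q) (hz : α z = z) : Core ⊤ (fixK α) a (α a) (a * a) z := by
  have hn := normal hX ho h4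
  have ha : a ∉ fixK α := ea ▸ mv hX ho hq
  have hb : α a ∉ fixK α := mt app_mem.1 ha
  have e3 : α (α a) = (a * α a)⁻¹ := ea ▸ tel hX ho h4 q
  have hab : a * α a ∉ fixK α := fun e => hb (app_mem.1 (e3 ▸ inv_mem e))
  have ca : ∀ k ∈ fixK α, k * a = a * k := ea ▸ cen hX ho h4 q
  have cb : ∀ k ∈ fixK α, k * α a = α a * k := fun k hk => by rw [← mem_fixK.1 hk, ← map_mul, ca k hk, map_mul]
  have h1 : (α a)⁻¹ * (a * α a) ∉ fixK α := fun e => ha (by simpa [mul_assoc] using hn.conj_mem _ e (α a))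
  have cov := cov4 h4 ha hb hab (mv hX ho ha) (by simpa using hb) h1
  have wK : a * a ∈ fixK α := by
    rcases cov (a * a) with e | e | e | e
    · exact e
    · exact absurd (by simpa using e) ha
    · refine app_mem.1 ?_
      have e1 := (fixK α).pow_index_mem a
      have e2 : α a = a * a * ((α a)⁻¹ * (a * a))⁻¹ := by group
      have e4 := ca _ (inv_mem e)
      rw [map_mul, e2]
      generalize ((α a)⁻¹ * (a * a)) = k at e e4
      rw [show a * a * k⁻¹ * (a * a * k⁻¹) = a * a * (k⁻¹ * a) * a * k⁻¹ by group, e4,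
        show a * a * (a * k⁻¹) * a * k⁻¹ = a * a * a * (k⁻¹ * a) * k⁻¹ by group, e4,
        show a * a * a * (a * k⁻¹) * k⁻¹ = a ^ 4 * (k⁻¹ * k⁻¹) by simp only [pow_succ, pow_zero, one_mul, mul_assoc]]
      exact mul_mem (h4 ▸ e1) (mul_mem (inv_mem e) (inv_mem e))
    · exact absurd (by simpa using inv_mem e) (mv hX ho ha)
  have b2 : α a * α a = a * a := by rw [← map_mul, mem_fixK.1 wK]
  have c2 : (a * α a)⁻¹ * (a * α a)⁻¹ = a * a := by rw [← e3, ← map_mul, b2, mem_fixK.1 wK]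
  obtain ⟨k, hk, ek⟩ : ∃ k ∈ fixK α, α a * a = a * α a * k := by
    rcases cov (α a * a) with e | e | e | e
    · exact absurd (by simpa [mul_assoc] using hn.conj_mem _ e a) hab
    · exact absurd (by simpa [mul_assoc] using hn.conj_mem _ e a) hb
    · exact absurd (by simpa using e) ha
    · exact ⟨_, e, by group⟩
  have k2 : k * k = 1 := mul_left_cancel (a := a * a * α a) (by
    calc a * a * α a * (k * k) = a * (a * α a * k) * k := by group
      _ = a * α a * (k * a) := by rw [← ek, ca k hk]; group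
      _ = _ := by rw [← mul_assoc, ← ek, mul_one, cb _ wK, mul_assoc])
  have k3 : a * a * (a * a) * (a * a) * k = 1 := by
    have : a * α a * (a * α a) = a * a * (a * a) * k := by
      calc a * α a * (a * α a) = a * (α a * a) * α a := by group
        _ = a * a * (α a * (k * α a)) := by rw [ek]; group
        _ = _ := by rw [cb k hk, ← mul_assoc (α a), b2, mul_assoc (a * a)]
    rw [mul_assoc, mul_assoc (a * a), ← mul_assoc (a * a) (a * a) k, ← this, ← c2]
    group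
  generalize hw : a * a = w at *
  have w2 : w * w = 1 := eq_one_of_pow_odd hX (k := 3) (by decide) (by
    rw [show (w * w) ^ 3 = w * w * w * (w * w * w) by simp only [pow_succ, pow_zero, one_mul, mul_assoc],
      eq_inv_of_mul_eq_one_left k3, ← mul_inv_rev, k2, inv_one])
  rw [w2, one_mul] at k3
  exact ⟨mem_top _, mem_top _, le_top, wK, hz, hw, b2, w2, by
    rw [ek, ← mul_assoc, ← mul_assoc, ca w wK, mul_assoc a w, cb w wK, ← mul_assoc, mul_assoc _ w, k3, mul_one],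
    ca, cb, fun q _ => cov q, ha, hb, hab, fun n _ => .inl (mem_top n)⟩

/-- An automorphism inverting `α` up to an inner automorphism. -/
theorem swap (h : ∀ q, σ (α (σ⁻¹ (α q))) = c * q * c⁻¹) (hz : α z = z) : (∀ k ∈ fixK α, σ⁻¹ k ∈ fixK α) ∧
    ∃ a b w, Core ⊤ (fixK α) a b w z ∧ (σ a = b ∨ σ a = b * w) ∧ (σ b = a ∨ σ b = a * w) := by
  have hn := normal hX ho h4
  have h3 := three hX ho h4
  have h1 : ∀ k ∈ fixK α, σ (α (σ⁻¹ k)) = c * k * c⁻¹ := fun k hk => by rw [← h, mem_fixK.1 hk]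
  have hc : ∀ k ∈ fixK α, c * k * c⁻¹ = k := fun k hk => by
    have e : k = c * (c * (c * k * c⁻¹) * c⁻¹) * c⁻¹ := by
      rw [← h1 _ (hn.conj_mem _ (hn.conj_mem k hk c) c), ← h1 _ (hn.conj_mem k hk c), ← h1 k hk]
      simp only [MulAut.inv_apply_self, h3, MulAut.apply_inv_self]
    obtain ⟨n, hn⟩ := IsPGroup.iff_orderOf.1 hX c
    obtain ⟨m, e'⟩ := exists_pow_eq_self_of_coprime (x := c) (n := 3) (by rw [hn]; exact Nat.Coprime.pow_right _ (by decide))
    have : Commute (c ^ 3) k := mul_inv_eq_iff_eq_mul.1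
      (Eq.trans (by simp only [pow_succ, pow_zero, one_mul, mul_inv_rev, mul_assoc]) e.symm)
    rw [← e', (this.pow_left m).eq, mul_inv_cancel_right]
  have hK : ∀ k ∈ fixK α, σ⁻¹ k ∈ fixK α := fun k hk => σ.injective (by rw [h1 k hk, hc k hk, MulAut.apply_inv_self])
  have hs : ∀ x ∉ fixK α, σ x ∉ fixK α := fun x hx e => hx (by simpa using hK _ e)
  have h2 : ∀ x, σ (α x) = c * α (α (σ x)) * c⁻¹ := fun x => by rw [← h, h3, MulAut.inv_apply_self]
  obtain ⟨q0, hq0⟩ := SetLike.exists_not_mem_of_ne_top (fixK α) fun e => by simp [e] at h4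
  have C0 := core hX ho h4 hq0 rfl hz
  have rel : ∀ x, (σ (α x) : X ⧸ fixK α) = α (α (σ x)) := fun x => by
    rw [h2, eq_comm, QuotientGroup.eq]
    rcases conj_eq C0 hc (α (α (σ x))) with e | e <;> rw [e]
    exacts [by simp, by simpa using C0.wK]
  obtain ⟨q, hq, a, ea, e⟩ : ∃ q ∉ fixK α, ∃ a, a = q⁻¹ * α q ∧ (σ a : X ⧸ fixK α) = α a := by
    rcases cov3 hX ho h4 C0.na (σ (q0⁻¹ * α q0)) with e | e | e | e
    · exact absurd e (hs _ C0.na)
    · exact ⟨α q0, mt app_mem.1 hq0, _, by rw [map_mul, map_inv], (rel _).trans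
        (congr (congr (QuotientGroup.eq.2 e))).symm⟩
    · exact ⟨q0, hq0, _, rfl, (QuotientGroup.eq.2 e).symm⟩
    · refine ⟨α (α q0), mt app_mem.1 (mt app_mem.1 hq0), α (α (q0⁻¹ * α q0)), by simp only [map_mul, map_inv],
        (rel _).trans ((congr (congr ((rel _).trans (congr (congr (QuotientGroup.eq.2 e))).symm))).trans ?_)⟩
      simp only [h3]
  have C := core hX ho h4 hq ea hz
  have e3 : α (α a) = (a * α a)⁻¹ := ea ▸ tel hX ho h4 q
  have e' : (σ (α a) : X ⧸ fixK α) = a := (rel a).trans (by rw [congr (congr e), h3])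
  generalize a * a = w at C
  have wa := C.ca w C.wK
  have wb := C.cb w C.wK
  have ia : a⁻¹ = a * w := inv_eq_of_mul_eq_one_right (by rw [← mul_assoc, C.a2, C.w2])
  have ib : (α a)⁻¹ = α a * w := inv_eq_of_mul_eq_one_right (by rw [← mul_assoc, C.b2, C.w2])
  have br : ∀ p ∉ fixK α, (p⁻¹ * α p)⁻¹ = a * w ∨ (p⁻¹ * α p)⁻¹ = α a * w ∨ (p⁻¹ * α p)⁻¹ = a * α a := fun p hp => by
    have key : ∀ r, r⁻¹ * p ∈ fixK α → p⁻¹ * α p = r⁻¹ * α r := fun r hr => by
      have e1 := cen hX ho h4 r _ hr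
      have e2 := mem_fixK.1 hr
      rw [← mul_inv_cancel_left r p]
      generalize r⁻¹ * p = k at e1 e2
      rw [map_mul, e2, mul_inv_rev, mul_assoc, ← mul_assoc r⁻¹, ← e1, inv_mul_cancel_left]
    rcases C.cov p (mem_top p) with e | e | e | e
    · exact absurd e hp
    · refine .inr (.inr ?_)
      rw [key _ e, mul_inv_rev, inv_inv, ib, C.ab, wb.symm, mul_assoc]
    · refine .inl ?_
      rw [key _ e, e3, mul_inv_rev, inv_inv, inv_inv, mul_assoc, C.b2]
    · refine .inr (.inl ?_)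
      rw [key _ e, map_mul, e3, ← wb, ← C.a2]
      simp only [mul_inv_rev, inv_inv, mul_assoc, mul_inv_cancel_left]
  have pr : ∀ p ∉ fixK α, ∃ r, (r = a ∨ r = α a ∨ r = a * α a) ∧ (σ (p⁻¹ * α p) = r ∨ σ (p⁻¹ * α p) = r * w) :=
    fun p hp => by
      have e1 : ∀ t, σ (α p) = α (α (σ p)) * t → σ (p⁻¹ * α p) = ((α (α (σ p)))⁻¹ * α (α (α (σ p))))⁻¹ * t :=
        fun t e => by rw [map_mul, map_inv, e, h3]; group
      have e2 := (conj_eq C hc (α (α (σ p)))).imp (fun e => e1 1 (by rw [h2, e, mul_one])) fun e => e1 w (by rw [h2, e])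
      rcases br _ (mt app_mem.1 (mt app_mem.1 (hs p hp))) with e | e | e <;> rw [e, mul_one] at e2
      · exact ⟨a, .inl rfl, e2.symm.imp_left fun e => by rw [e, mul_assoc, C.w2, mul_one]⟩
      · exact ⟨_, .inr (.inl rfl), e2.symm.imp_left fun e => by rw [e, mul_assoc, C.w2, mul_one]⟩
      · exact ⟨_, .inr (.inr rfl), e2⟩
  have cs : ∀ {x r}, x = r ∨ x = r * w → (x : X ⧸ fixK α) = r := by
    rintro _ r (rfl | rfl)
    exacts [rfl, QuotientGroup.mk_mul_of_mem r C.wK]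
  have n1 : (a : X ⧸ fixK α) ≠ α a := fun e => mv hX ho C.na (QuotientGroup.eq.1 e)
  refine ⟨hK, a, α a, w, C, ?_, ?_⟩
  · obtain ⟨r, rfl | rfl | rfl, h5⟩ := pr q hq <;> rw [← ea] at h5
    · exact absurd ((cs h5).symm.trans e) n1
    · exact h5
    · exact absurd (by simpa [mul_assoc] using hn.conj_mem _ (QuotientGroup.eq.1 (e.symm.trans (cs h5))) (α a)) C.na
  · obtain ⟨r, rfl | rfl | rfl, h5⟩ := pr (α q) (mt app_mem.1 hq) <;> rw [← map_inv, ← map_mul, ← ea] at h5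
    · exact h5
    · exact absurd (e'.symm.trans (cs h5)) n1
    · exact absurd (by simpa using QuotientGroup.eq.1 (e'.symm.trans (cs h5))) C.nb

end CoreEx

open CoreEx

theorem coreTop : CoreTop.{u} := fun _ _ _ hD α _ ho h4 hz => by
  obtain ⟨q, hq⟩ := SetLike.exists_not_mem_of_ne_top (fixK α) fun e => by simp [e] at h4
  exact ⟨_, _, _, _, core hD ho h4 hq rfl hz⟩

theorem coreEss : CoreEss.{u} := fun D _ _ hD Q α z E h4 => by
  have hQ := hD.to_subgroup Q
  have ho : Odd (orderOf α) := (show Odd 3 by decide).of_dvd_nat (orderOf_dvd_of_pow_eq_one E.three)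
  have m : ∀ x : Q, (x : D) ∈ (fixK α).map Q.subtype ↔ x ∈ fixK α := fun x =>
    mem_map_iff_mem Q.subtype_injective
  have lift : ∀ {a b w : Q}, Core ⊤ (fixK α) a b w ⟨z, E.zQ⟩ → (∀ n ∈ normalizer (Q : Set D), n ∉ Q →
      n ∈ normalizer (((fixK α).map Q.subtype : Subgroup D) : Set D) ∧ (n * a * n⁻¹ = b ∨ n * a * n⁻¹ = b * w) ∧
        (n * b * n⁻¹ = a ∨ n * b * n⁻¹ = a * w)) → ∃ K a b w, Core Q K a b w z := fun {a b w} C h =>
    ⟨_, a, b, w, a.2, b.2, map_subtype_le _, (m w).2 C.wK, (m ⟨z, E.zQ⟩).2 C.zK, congrArg Subtype.val C.a2,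
      congrArg Subtype.val C.b2, congrArg Subtype.val C.w2, congrArg Subtype.val C.ab,
      by rintro _ ⟨k, hk, rfl⟩; exact congrArg Subtype.val (C.ca k hk),
      by rintro _ ⟨k, hk, rfl⟩; exact congrArg Subtype.val (C.cb k hk),
      fun q hq => (C.cov ⟨q, hq⟩ (mem_top _)).imp (m _).2 (.imp (m _).2 (.imp (m _).2 (m _).2)),
      mt (m a).1 C.na, mt (m b).1 C.nb, mt (m (a * b)).1 C.nab, fun n hn => (em _).imp_right (h n hn)⟩
  by_cases hN : normalizer (Q : Set D) ≤ Q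
  · obtain ⟨q, hq⟩ := SetLike.exists_not_mem_of_ne_top (fixK α) fun e => by simp [e] at h4
    exact lift (core hQ ho h4 hq rfl E.fix) fun n hn h => absurd (hN hn) h
  obtain ⟨s, hs, hs'⟩ := SetLike.not_le_iff_exists.1 hN
  obtain ⟨c, hc, e⟩ := E.inv s hs hs'
  obtain ⟨h1, a, b, w, C, h2, h3⟩ := swap hQ ho h4 (σ := Q.normalizerMonoidHom ⟨s, hs⟩) (c := ⟨c, hc⟩)
    (fun q => Subtype.ext (e q _ (by rw [← map_inv]; simp))) E.fix
  refine lift C fun n hn hn' => ?_
  obtain ⟨y, rfl⟩ : ∃ y : Q, n = y * s :=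
    ⟨⟨_, E.two n hn _ (inv_mem hs) hn' (mt inv_mem_iff.1 hs')⟩, (inv_mul_cancel_right n s).symm⟩
  have e1 : ∀ x : Q, y * s * x * (y * s)⁻¹ = (y * Q.normalizerMonoidHom ⟨s, hs⟩ x * y⁻¹ : Q) := fun x => by
    simp [mul_assoc]
  obtain ⟨t1, t2, t3⟩ := tw C y
  refine ⟨mul_mem (mem_normalizer_fintype ?_) (inv_mem_iff.1 (mem_normalizer_fintype ?_)), ?_, ?_⟩
  · rintro _ ⟨k, hk, rfl⟩
    exact (m _).2 ((normal hQ ho h4).conj_mem k hk y)
  · rintro _ ⟨k, hk, rfl⟩
    exact ⟨_, h1 k hk, by rw [← map_inv]; simp⟩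
  · rw [e1]
    exact (tw_aux C.w2 t3 t2 h2).imp (congrArg Subtype.val) (congrArg Subtype.val)
  · rw [e1]
    exact (tw_aux C.w2 t3 t1 h3).imp (congrArg Subtype.val) (congrArg Subtype.val)

end CL.KB
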