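/-
The essential case for a cyclic subgroup of index at most four.
-/
import Cfsg.Agent.Blk.KBBas

set_option autoImplicit false

namespace CL.KB

open Subgroup

universe u

section

variable {D : Type*} [Group D]

theorem da_mem_sq {H : Subgroup D} {s g : D} (h1 : g ∈ zpowers s) (h2 : g ∈ H) (h3 : s * s ∈ H)
    (h4 : s ∉ H) : g ∈ zpowers (s * s) := by
  obtain ⟨n, rfl⟩ := mem_zpowers_iff.1 h1
  obtain ⟨k, rfl | rfl⟩ := Int.even_or_odd' n
  · exact ⟨k, by simp only [zpow_mul, zpow_two]⟩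
  · rw [zpow_add_one, zpow_mul, zpow_two] at h2
    exact (h4 ((mul_mem_cancel_left (zpow_mem h3 k)).1 h2)).elim

theorem da_card_sq [Finite D] (s : D) : Nat.card (zpowers s) ≤ 2 * Nat.card (zpowers (s * s)) := by
  rw [Nat.card_zpowers, Nat.card_zpowers]
  exact Nat.le_of_dvd (Nat.mul_pos two_pos (orderOf_pos _))
    (orderOf_dvd_of_pow_eq_one (by rw [pow_mul, sq, pow_orderOf_eq_one]))

theorem da_gen {H : Subgroup D} (x : D) : ∃ y, zpowers x ⊓ H = zpowers y :=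
  let ⟨_, h⟩ := (le_zpowers_iff x _).1 (inf_le_left : zpowers x ⊓ H ≤ _); ⟨_, h⟩

theorem da_mul [Finite D] {X Q : Subgroup D} (h : X.index ≤ X.relIndex Q) (g : D) :
    ∃ q ∈ Q, q⁻¹ * g ∈ X := by
  obtain ⟨c, hc⟩ := ((quotientSubgroupOfEmbeddingOfLE X (le_top : Q ≤ ⊤)).injective.bijective_of_nat_card_le
    (by rwa [← relIndex_top_right] at h)).2 (QuotientGroup.mk ⟨g, mem_top g⟩)
  obtain ⟨q, rfl⟩ := QuotientGroup.mk_surjective c
  rw [quotientSubgroupOfEmbeddingOfLE_apply_mk] at hc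
  exact ⟨q, q.2, mem_subgroupOf.1 (QuotientGroup.eq.1 hc)⟩

end

theorem da (h1 : G1.{u}) (h2 : KC.{u}) (h3 : DA2.{u}) : DA.{u} := by
  intro D _ _ hD Q K a b w z x h hx zx zc z1
  obtain ⟨y, hy⟩ := da_gen (H := Q) x
  have yQ : y ∈ Q := (hy.ge (mem_zpowers y)).2
  have r1 : (zpowers y).relIndex Q = (zpowers x).relIndex Q := by rw [← hy, inf_relIndex_right]
  have r2 : (zpowers x).relIndex Q ≤ (zpowers x).index := by
    rw [← relIndex_top_right]; exact relIndex_le_of_le_right le_top index_ne_zero_of_finite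
  obtain ⟨κ₁, hκ₁, hK⟩ := h2 D hD Q K a b w z y h yQ (by omega)
  have qK : ∀ k ∈ K, ∀ q ∈ Q, k * q = q * k := fun k hk q hq => by
    have e1 : ∀ k ∈ K, Commute κ₁ k := fun k hk => by
      rcases hK k hk with ⟨n, rfl⟩ | ⟨n, e⟩
      · exact (Commute.refl _).zpow_right n
      · rw [← mul_inv_cancel_right k w, ← show κ₁ ^ n = k * w from e]
        exact ((Commute.refl _).zpow_right n).mul_right (Commute.inv_right (h.wk hκ₁).symm)
    refine h.comm_of (h.ca k hk) (h.cb k hk) (fun k' hk' => ?_) hq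
    rcases hK k hk with ⟨n, rfl⟩ | ⟨n, e⟩
    · exact (e1 k' hk').zpow_left n
    · rw [← mul_inv_cancel_right k w, ← show κ₁ ^ n = k * w from e]
      exact ((e1 k' hk').zpow_left n).mul_left (Commute.inv_left (h.wk hk'))
  have fin : K ≤ center D → Good D := fun e => h1 D hD Q K a b w z κ₁ h e hκ₁ hK
  have cY : Nat.card (zpowers y) * (zpowers y).relIndex Q = 4 * Nat.card K := by
    rw [← h.card, ← card_mul_index ((zpowers y).subgroupOf Q),
      Nat.card_congr (subgroupOfEquivOfLe (zpowers_le.2 yQ)).toEquiv, relIndex]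
  have k0 : 0 < Nat.card K := Nat.card_pos
  have sq : ∀ r κ, κ ∈ K → r * r = w → κ * r = r * κ → r * κ * (r * κ) = w * (κ * κ) := fun r κ _ e1 e2 => by
    rw [mul_assoc, ← mul_assoc κ, e2, ← e1]; simp only [mul_assoc]
  have sqK : ∀ κ ∈ K, w * (κ * κ) ∈ K := fun κ hκ => mul_mem h.wK (mul_mem hκ hκ)
  by_cases r3 : (zpowers y).relIndex Q ≤ 2
  · have c2 : 2 * Nat.card K ≤ Nat.card (zpowers y) := by nlinarith
    obtain ⟨κ, hκ, e⟩ : ∃ κ ∈ K, y * y = w * (κ * κ) := by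
      obtain ⟨κ, hκ, rfl | rfl | rfl | rfl⟩ := h.exists_eq yQ
      · have := card_le_of_le (zpowers_le.2 hκ); omega
      exacts [⟨κ, hκ, sq _ _ hκ h.a2 (h.ca κ hκ)⟩, ⟨κ, hκ, sq _ _ hκ h.b2 (h.cb κ hκ)⟩,
        ⟨κ, hκ, sq _ _ hκ h.i2 (h.ci hκ)⟩]
    have c3 := da_card_sq y
    rw [e] at c3
    have e2 : zpowers (w * (κ * κ)) = K := eq_of_le_of_card_ge (zpowers_le.2 (sqK κ hκ)) (by omega)
    have e3 : zpowers w = K := by
      rcases eq_of_mem_zpowers_mul_sq hD h.w2 (h.wk hκ) (e2 ▸ hκ) with rfl | rfl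
      · simpa using e2
      · rwa [h.w2, mul_one] at e2
    refine fin (e3 ▸ zpowers_le.2 ?_)
    exact ((mem_zpowers_two h.w2).1 (e3 ▸ h.zK)).resolve_left z1 ▸ zc
  have r4 : (zpowers y).relIndex Q = 4 := by
    obtain ⟨n, hn⟩ := (hD.to_subgroup Q).index ((zpowers y).subgroupOf Q)
    replace hn : (zpowers y).relIndex Q = 2 ^ n := hn
    obtain _ | _ | _ | n := n
    exacts [by omega, by omega, hn, by rw [pow_add, pow_add, pow_add] at hn; have := Nat.two_pow_pos n; omega]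
  have cK : Nat.card (zpowers y) = Nat.card K := by rw [r4] at cY; omega
  have dec := da_mul (X := zpowers x) (Q := Q) (by omega)
  have fin' : ∀ t, x ∈ zpowers t → K ≤ centralizer {t} → Good D := fun t ht e => fin fun k hk =>
    mem_center_iff.2 fun g => by
      obtain ⟨q, hq, hg⟩ := dec g
      obtain ⟨n, hn⟩ := zpowers_le.2 ht hg
      rw [← mul_inv_cancel_left q g, ← show t ^ n = q⁻¹ * g from hn]
      exact Commute.mul_left (qK k hk q hq).symm
        (Commute.zpow_left (mem_centralizer_singleton_iff.1 (e hk)).symm n)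
  by_cases hQ : Q = ⊤
  · exact fin fun k hk => mem_center_iff.2 fun g => (qK k hk g (hQ ▸ mem_top g)).symm
  obtain ⟨n, -, hn, nQ⟩ := exists_norm_notMem hD (lt_top_iff_ne_top.2 hQ)
  obtain ⟨t, ht⟩ := da_gen (H := normalizer (Q : Set D)) x
  obtain ⟨tx, tN⟩ := ht.ge (mem_zpowers t)
  have tQ : t ∉ Q := fun e => by
    obtain ⟨q, hq, hg⟩ := dec n
    exact nQ ((mul_mem_cancel_left (inv_mem hq)).1
      (zpowers_le.2 e (ht.le (mem_inf.2 ⟨hg, mul_mem (inv_mem (le_normalizer hq)) hn⟩))))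
  have ttQ := h.two tN tQ tN tQ
  have hY : zpowers x ⊓ Q = zpowers (t * t) := le_antisymm
    (fun g hg => da_mem_sq (ht.le ⟨hg.1, le_normalizer hg.2⟩) hg.2 ttQ tQ) (zpowers_le.2 ⟨mul_mem tx tx, ttQ⟩)
  rw [← hy, hY] at cK
  rcases h.sq_mem tN tQ with e | hκ
  · refine fin' x (mem_zpowers x) ?_
    rw [← eq_of_le_of_card_ge (zpowers_le.2 e) cK.ge, zpowers_le]
    obtain ⟨k, rfl⟩ := tx
    exact mul_mem (zpow_mem (mem_centralizer_singleton_iff.2 rfl) k) (zpow_mem (mem_centralizer_singleton_iff.2 rfl) k)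
  have ti := h.ni_of_sq tN tQ hκ
  have tκ : (a * b)⁻¹ * (t * t) ∈ centralizer {t} := mul_mem (inv_mem (mem_centralizer_singleton_iff.2 ti.symm))
    (mem_centralizer_singleton_iff.2 (mul_assoc _ _ _))
  have e1 := (mul_inv_cancel_left (a * b) (t * t)).symm
  generalize (a * b)⁻¹ * (t * t) = κ at *
  by_cases hw : κ = 1 ∨ κ = w
  · have e2 : zpowers x ⊓ Q = zpowers (a * b) := by
      rcases hw with rfl | rfl
      exacts [by rw [hY, e1, mul_one], by rw [hY, e1, ← h.i_inv, zpowers_inv]]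
    have e3 := da_mem_sq (e2.le ⟨zx, h.KQ h.zK⟩) h.zK (h.i2 ▸ h.wK) h.nab
    rw [h.i2] at e3
    obtain rfl := ((mem_zpowers_two h.w2).1 e3).resolve_left z1
    refine h3 D hD Q K a b z z x t h (by omega) zc z1 ?_ tx tN tQ (hw.imp (fun e => by rw [e1, e, mul_one])
      fun e => by rw [e1, e]) e2
    rw [← cK, ← hY, e2, Nat.card_zpowers]
    exact orderOf_eq_prime_pow (p := 2) (n := 1) (by rw [pow_one, pow_two, h.i2]; exact z1)
      (by rw [pow_succ, pow_mul, pow_one, pow_two (a * b), h.i2, pow_two, h.w2])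
  have e2 := sq _ _ hκ h.i2 (h.ci hκ)
  have nB : κ ∉ zpowers (w * (κ * κ)) := fun e => hw (eq_of_mem_zpowers_mul_sq hD h.w2 (h.wk hκ) e)
  by_cases xN : x ∈ normalizer (Q : Set D)
  · refine fin' t (ht.le ⟨mem_zpowers x, xN⟩) ?_
    have le : zpowers (w * (κ * κ)) ≤ K ⊓ centralizer {t} := zpowers_le.2 ⟨sqK κ hκ,
      mul_mem (mem_centralizer_singleton_iff.2 (h.nw tN tQ).symm) (mul_mem tκ tκ)⟩
    obtain ⟨c, hc⟩ := card_dvd_of_le le
    have c3 := da_card_sq (t * t)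
    rw [cK, e1, e2] at c3
    refine inf_eq_left.1 (eq_of_le_of_card_ge inf_le_left ?_)
    obtain _ | _ | c := c
    · exact absurd hc Nat.card_pos.ne'
    · exact (nB ((eq_of_le_of_card_ge le (by omega)).ge ⟨hκ, tκ⟩)).elim
    · nlinarith
  have tx2 : t ∈ zpowers (x ^ 2) := by
    obtain ⟨m, rfl⟩ := mem_powers_iff_mem_zpowers.2 tx
    obtain ⟨k, rfl | rfl⟩ := Nat.even_or_odd' m
    · exact (congrArg (· ∈ zpowers (x ^ 2)) (pow_mul x 2 k)).mpr (npow_mem_zpowers _ k)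
    · obtain ⟨e, he⟩ := IsPGroup.iff_orderOf.1 hD x
      exact (xN (zpowers_le.2 tN (mem_zpowers_pow_iff.2 (he ▸ Nat.Coprime.pow_right e
        (Odd.coprime_two_right ⟨k, rfl⟩))))).elim
  have := normal_zpowers_of_mem (normal_zpowers_two hD hx) tx2
  have e3 : t * a * t⁻¹ * a⁻¹ ∈ zpowers x := zpowers_le.2 tx (by
    simpa only [mul_assoc] using mul_mem (mem_zpowers t) (this.conj_mem _ (inv_mem (mem_zpowers t)) a))
  have e4 : a * b ∈ zpowers (a * b * κ) := by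
    rw [← e1, ← hY]
    refine mem_inf.2 ⟨?_, h.iQ⟩
    rcases h.comm_na tN tQ with e | e
    exacts [e ▸ e3, inv_mem_iff.1 (h.i_inv ▸ e ▸ e3)]
  exact (nB (e2 ▸ da_mem_sq ((mul_mem_cancel_left e4).1 (mem_zpowers _)) hκ (e2 ▸ sqK κ hκ)
    fun e => h.nab ((mul_mem_cancel_right hκ).1 e))).elim

end CL.KB
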