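/-
The exceptional configuration for a cyclic subgroup of index four.
-/
import Cfsg.Agent.Blk.KBBas

set_option autoImplicit false

namespace CL.KB

open Subgroup CL.Inv

universe u

theorem da2_four {E : Type*} [Group E] (t : E) : t ^ 4 = t * t * (t * t) := by
  simp only [pow_succ, pow_zero, one_mul, mul_assoc]

theorem da2_inv {E : Type*} [Group E] [Finite E] {x u g : E} (hu : u ∈ zpowers x) (u1 : u ≠ 1) (u2 : u * u = 1)
    (hg : g ∈ zpowers x) (g2 : g * g = 1) : g = 1 ∨ g = u := by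
  by_cases g1 : g = 1
  · exact Or.inl g1
  refine (mem_zpowers_two u2).1 ?_
  rw [← zpowers_eq_of_mem_cyc hg hu ((orderOf_eq_prime (p := 2) (by rwa [pow_two]) g1).trans
    (orderOf_eq_prime (p := 2) (by rwa [pow_two]) u1).symm)]
  exact mem_zpowers g

theorem da2_sq {E : Type*} [Group E] (hE : IsPGroup 2 E) {x : E} {r k : ℤ} (h : x ^ (r * (2 * (2 * k + 1))) = 1) :
    x ^ r * x ^ r = 1 := by
  have h2 : (x ^ r * x ^ r) ^ (2 * k + 1) = 1 := by
    rw [← zpow_add, ← zpow_mul, ← h]; congr 1; ring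
  refine eq_one_of_pow_odd hE (k := (2 * k + 1).natAbs) (Int.natAbs_odd.2 ⟨k, rfl⟩) ?_
  rcases Int.natAbs_eq (2 * k + 1) with h4 | h4
  · rw [← zpow_natCast, ← h4, h2]
  · rw [← zpow_natCast, ← neg_neg ((2 * k + 1).natAbs : ℤ), ← h4, zpow_neg, h2, inv_one]

theorem da2_quot {E : Type*} [Group E] [Finite E] (hE : IsPGroup 2 E) {x c j t : E} (cc : c * c = 1)
    (cx : c ∉ zpowers x) (hcx : c * x = x * c) (hcj : c * j = j * c) (jj : j * j = 1)
    (cov : ∀ g, ∃ i : ℤ, g = x ^ i ∨ g = x ^ i * c ∨ g = x ^ i * j ∨ g = x ^ i * c * j)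
    (hs : ∃ s : ℤ, j * x * j⁻¹ = x ^ s ∨ j * x * j⁻¹ = x ^ s * c) (ht : t ∈ zpowers x) (t4 : orderOf t = 4)
    (hjt : j * t * j⁻¹ = t⁻¹) (hv : j * x * j⁻¹ * x ≠ t * t) : Tm E := by
  obtain ⟨m, hm⟩ := (IsPGroup.iff_orderOf.1 hE) x
  have m2 : 2 ≤ m := (Nat.pow_dvd_pow_iff_le_right (x := 2) (by norm_num)).1 (by
    rw [← hm]; exact t4.symm.dvd.trans (orderOf_dvd_of_mem_zpowers ht))
  have C : Commute x c := hcx.symm
  have u1 : t * t ≠ 1 := fun e => by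
    have := orderOf_dvd_of_pow_eq_one (x := t) (n := 2) (by rwa [pow_two]); rw [t4] at this; omega
  have u2 : t * t * (t * t) = 1 := by rw [← pow_orderOf_eq_one t, t4, da2_four]
  have jc : j * c * j⁻¹ = c := by rw [← hcj, mul_inv_cancel_right]
  have j2 : ∀ g, j * (j * g * j⁻¹) * j⁻¹ = g := fun g => by
    rw [show j * (j * g * j⁻¹) * j⁻¹ = j * j * g * (j * j)⁻¹ by group, jj]; group
  have cp : ∀ n : ℤ, c ^ n ∈ zpowers x → c ^ n = 1 := fun n hn =>
    ((mem_zpowers_two cc).1 (zpow_mem (mem_zpowers c) n)).resolve_right fun e => cx (e ▸ hn)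
  obtain ⟨n, rfl⟩ := mem_zpowers_iff.1 ht
  have key : ∀ s : ℤ, x ^ (s * n) = (x ^ n)⁻¹ → x ^ (s * s) = x → x ^ (s + 1) = 1 ∨ x ^ (s + 1) = x ^ n * x ^ n :=
    fun s h1 h2 => by
      have h3 : (4 : ℤ) ∣ s + 1 := by
        have : (x ^ n) ^ (s + 1) = 1 := by rw [zpow_add_one, ← zpow_mul, mul_comm n, h1, inv_mul_cancel]
        exact_mod_cast t4 ▸ orderOf_dvd_iff_zpow_eq_one.2 this
      obtain ⟨k, hk⟩ := h3
      refine da2_inv (mul_mem ht ht) u1 u2 (zpow_mem (mem_zpowers x) _) (da2_sq hE (k := k - 1) ?_)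
      rw [show (s + 1) * (2 * (2 * (k - 1) + 1)) = s * s - 1 by rw [show s = 4 * k - 1 by omega]; ring, zpow_sub_one, h2,
        mul_inv_cancel]
  refine Or.inr (Or.inr (Or.inr ?_))
  obtain ⟨s, hs | hs⟩ := hs
  · rcases key s (by rw [← hjt, ← conj_zpow, hs, zpow_mul]) (by rw [zpow_mul, ← hs, conj_zpow, ← hs, j2]) with e | e
    · exact ⟨m, x, c, j, m2, hm, cc, cx, hcx, hcj, jj,
        Or.inl (by rw [hs, eq_inv_iff_mul_eq_one, ← zpow_add_one, e]), fun g => ⟨fun _ => cov g, fun _ => mem_top g⟩⟩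
    · exact absurd (by rw [hs, ← zpow_add_one, e]) hv
  have h1 : x ^ (s * n) * c ^ n = (x ^ n)⁻¹ := by
    rw [← hjt, ← conj_zpow, hs, (C.zpow_left s).mul_zpow, zpow_mul]
  have h2 : x ^ (s * s) * c ^ (s + 1) = x := by
    rw [zpow_add_one, ← mul_assoc, zpow_mul, ← (C.zpow_left s).mul_zpow, ← hs, conj_zpow]
    nth_rw 2 [← j2 x]
    rw [hs, show j * (x ^ s * c) * j⁻¹ = j * x ^ s * j⁻¹ * (j * c * j⁻¹) by group, jc]
  have h3 := cp n (by rw [eq_inv_mul_of_mul_eq h1]; exact mul_mem (inv_mem (zpow_mem (mem_zpowers x) _)) (inv_mem ht))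
  have h4 := cp (s + 1) (by
    rw [eq_inv_mul_of_mul_eq h2]; exact mul_mem (inv_mem (zpow_mem (mem_zpowers x) _)) (mem_zpowers x))
  rw [h3, mul_one] at h1
  rw [h4, mul_one] at h2
  have m3 : 3 ≤ m := by
    by_contra e
    obtain rfl : m = 2 := by omega
    have h5 : x ∈ zpowers (x ^ n) := by
      rw [zpowers_eq_of_mem_cyc ht (mem_zpowers x) (t4.trans hm.symm)]; exact mem_zpowers x
    obtain ⟨l, hl⟩ := mem_zpowers_iff.1 h5
    refine cx ((mul_mem_cancel_left (zpow_mem (mem_zpowers x) s)).1 ?_)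
    rw [← hs]; nth_rw 2 [← hl]
    rw [← conj_zpow, hjt]
    exact zpow_mem (inv_mem ht) l
  have hs' : j * x * j⁻¹ = x⁻¹ * (x ^ (s + 1) * c) := by rw [hs]; group
  rcases key s h1 h2 with e | e <;> rw [e] at hs'
  · exact ⟨m, x, c, j, m2, hm, cc, cx, hcx, hcj, jj, Or.inr ⟨by rw [hs', one_mul], m3⟩,
      fun g => ⟨fun _ => cov g, fun _ => mem_top g⟩⟩
  have C' : Commute (x ^ n * x ^ n) c := (C.zpow_left n).mul_left (C.zpow_left n)
  refine ⟨m, x, x ^ n * x ^ n * c, j, m2, hm, ?_, fun e => cx ((mul_mem_cancel_left (mul_mem ht ht)).1 e), ?_, ?_, jj,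
    Or.inr ⟨hs', m3⟩, fun g => ⟨fun _ => ?_, fun _ => mem_top g⟩⟩
  · rw [C'.symm.mul_mul_mul_comm, cc, mul_one, u2]
  · rw [mul_assoc, hcx]; group
  · have : j * (x ^ n * x ^ n) * j⁻¹ = x ^ n * x ^ n := by
      rw [show j * (x ^ n * x ^ n) * j⁻¹ = j * x ^ n * j⁻¹ * (j * x ^ n * j⁻¹) by group, hjt, ← mul_inv_rev,
        inv_eq_of_mul_eq_one_left u2]
    rw [mul_assoc, hcj, ← mul_assoc, ← mul_inv_eq_iff_eq_mul.1 this, mul_assoc]
  · obtain ⟨i, e | e | e | e⟩ := cov g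
    exacts [⟨i, Or.inl e⟩, ⟨i - n - n, Or.inr (Or.inl (by rw [e]; group))⟩, ⟨i, Or.inr (Or.inr (Or.inl e))⟩,
      ⟨i - n - n, Or.inr (Or.inr (Or.inr (by rw [e]; group)))⟩]

theorem da2_cov {D : Type*} [Group D] [Finite D] {X M : Subgroup D} {c j : D} (h4 : X.index = 4) (hX : X ≤ M)
    (hc : c ∈ M) (cX : c ∉ X) (hj : j ∉ M) (g : D) :
    g ∈ X ∨ g * c⁻¹ ∈ X ∨ g * j⁻¹ ∈ X ∨ g * (c * j)⁻¹ ∈ X := by
  let f : Fin 4 → D ⧸ X := fun i => ((![1, c⁻¹, j⁻¹, (c * j)⁻¹] i : D) : D ⧸ X)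
  have n1 : c * j ∉ X := fun e => hj ((M.mul_mem_cancel_left hc).1 (hX e))
  have n2 : j * c⁻¹ ∉ X := fun e => hj ((M.mul_mem_cancel_right (M.inv_mem hc)).1 (hX e))
  have n3 : c * j * c⁻¹ ∉ X := fun e =>
    hj ((M.mul_mem_cancel_left hc).1 ((M.mul_mem_cancel_right (M.inv_mem hc)).1 (hX e)))
  have n4 : j ∉ X := fun e => hj (hX e)
  have n5 : c * j * j⁻¹ ∉ X := by rwa [mul_inv_cancel_right]
  have hf : Function.Injective f := fun i k h => by
    fin_cases i <;> fin_cases k <;> first | rfl | skip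
    all_goals
      have h1 := QuotientGroup.eq.1 h
      have h2 := QuotientGroup.eq.1 h.symm
      simp only [Fin.zero_eta, Fin.mk_one, Fin.reduceFinMk, Matrix.cons_val, inv_inv, mul_one] at h1 h2
      contradiction
  obtain ⟨i, hi⟩ := (hf.bijective_of_nat_card_le (by rw [← index, h4]; simp)).2 (g⁻¹ : D)
  have h1 := QuotientGroup.eq.1 hi.symm
  fin_cases i <;> simp only [Fin.zero_eta, Fin.mk_one, Fin.reduceFinMk, Matrix.cons_val, inv_inv, mul_one] at h1 <;>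
    simp only [h1, true_or, or_true]

theorem da2 : DA2.{u} := by
  intro D _ _ hD Q K a b w z x t h h4 hw w1 hK ht hn hQ tt hX
  have wc : ∀ g, g * w = w * g := mem_center_iff.1 hw
  have iX : a * b ∈ zpowers x := (hX.ge (mem_zpowers _)).1
  have wX : w ∈ zpowers x := h.i2 ▸ mul_mem iX iX
  have i4 : orderOf (a * b) = 4 := orderOf_eq_prime_pow (p := 2) (n := 1) (by rwa [pow_one, pow_two, h.i2])
    (by rw [show (a * b) ^ 2 ^ (1 + 1) = _ from da2_four _, h.i2, h.w2])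
  have r2 : (zpowers w).relIndex K = 2 := by
    have := CL.Grp.card_mul_relIndex (zpowers_le.2 h.wK)
    rw [Nat.card_zpowers, orderOf_eq_prime (p := 2) (by rw [pow_two, h.w2]) w1, hK] at this
    omega
  obtain ⟨c, cK, cw⟩ := SetLike.not_le_iff_exists.1 fun e : K ≤ zpowers w => by
    rw [relIndex_eq_one.2 e] at r2; omega
  have c2 : c * c ∈ zpowers w := pow_two c ▸ mem_subgroupOf.1 (sq_mem_of_index_two r2 (⟨c, cK⟩ : K))
  have cX : c ∉ zpowers x := fun e => by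
    have h1 : c ∈ zpowers (a * b) := hX.le ⟨e, h.KQ cK⟩
    obtain ⟨l, rfl⟩ := mem_zpowers_iff.1 h1
    obtain ⟨k, rfl | rfl⟩ := Int.even_or_odd' l
    · exact cw (by rw [zpow_mul, zpow_two, h.i2]; exact zpow_mem (mem_zpowers w) k)
    · rw [zpow_add_one, zpow_mul, zpow_two, h.i2] at cK
      exact h.nab ((K.mul_mem_cancel_left (zpow_mem h.wK k)).1 cK)
  set M := centralizer ({a * b} : Set D) with hM
  have mM : ∀ {g}, g ∈ M ↔ g * (a * b) * g⁻¹ = a * b := fun {g} => by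
    rw [hM, mem_centralizer_singleton_iff, mul_inv_eq_iff_eq_mul]
  have xM : x ∈ M := by
    obtain ⟨l, hl⟩ := mem_zpowers_iff.1 iX
    rw [mM, ← hl]; group
  have cM : c ∈ M := mem_centralizer_singleton_iff.2 (h.ci cK)
  have aM : a ∉ M := fun e => w1 (by simpa [h.conj_a_i] using mM.1 e)
  have XM : zpowers x ≤ M := zpowers_le.2 xM
  have cov : ∀ g, ∃ i : ℤ, g = x ^ i ∨ g = x ^ i * c ∨ g = x ^ i * a ∨ g = x ^ i * c * a := fun g => by
    rcases da2_cov h4 XM cM cX aM g with e | e | e | e <;> obtain ⟨i, hi⟩ := mem_zpowers_iff.1 e <;> refine ⟨i, ?_⟩ <;>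
      rw [hi] <;> simp [mul_assoc]
  have covM : ∀ g ∈ M, ∃ i : ℤ, g = x ^ i ∨ g = x ^ i * c := fun g hg => by
    obtain ⟨i, e | e | rfl | rfl⟩ := cov g
    exacts [⟨i, Or.inl e⟩, ⟨i, Or.inr e⟩, absurd ((M.mul_mem_cancel_left (zpow_mem xM i)).1 hg) aM,
      absurd ((M.mul_mem_cancel_left (mul_mem (zpow_mem xM i) cM)).1 hg) aM]
  have hcx : (c * x)⁻¹ * (x * c) ∈ zpowers w := by
    obtain ⟨r, e | e⟩ := covM _ (mul_mem cM xM)
    · exact absurd ((mul_mem_cancel_right (mem_zpowers x)).1 (e ▸ zpow_mem (mem_zpowers x) r)) cX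
    have e1 : c * x * c⁻¹ = x ^ r := mul_inv_eq_iff_eq_mul.2 e
    have e2 : x ^ (r * r) = x := by
      rw [zpow_mul, ← e1, conj_zpow, ← e1, show c * (c * x * c⁻¹) * c⁻¹ = c * c * x * (c * c)⁻¹ by group]
      rcases (mem_zpowers_two h.w2).1 c2 with e3 | e3 <;> rw [e3]
      · group
      · rw [← wc, mul_inv_cancel_right]
    obtain ⟨k, hk⟩ : (4 : ℤ) ∣ r - 1 := by
      obtain ⟨l, hl⟩ := mem_zpowers_iff.1 iX
      have : (a * b) ^ (r - 1) = 1 := by
        rw [zpow_sub_one, mul_inv_eq_one]; nth_rw 2 [← mM.1 cM]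
        rw [← hl, ← conj_zpow, e1, ← zpow_mul, ← zpow_mul, mul_comm]
      exact_mod_cast i4 ▸ orderOf_dvd_iff_zpow_eq_one.2 this
    have e3 := da2_inv wX w1 h.w2 (zpow_mem (mem_zpowers x) (r - 1)) (da2_sq hD (k := k) (by
      rw [show (r - 1) * (2 * (2 * k + 1)) = r * r - 1 by rw [show r = 4 * k + 1 by omega]; ring, zpow_sub_one, e2,
        mul_inv_cancel]))
    rw [e, show (x ^ r * c)⁻¹ * (x * c) = c⁻¹ * (x ^ (r - 1))⁻¹ * c by group]
    rcases e3 with e3 | e3 <;> rw [e3]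
    · simp
    · rw [h.w_inv, wc, inv_mul_cancel_right]; exact mem_zpowers w
  haveI hN : (zpowers w).Normal := CL.Grp.normal_of_le_center' (zpowers_le.2 hw)
  refine ⟨w, hN, hw, ?_⟩
  let f := QuotientGroup.mk' (zpowers w)
  have f1 : ∀ {g}, f g = 1 ↔ g = 1 ∨ g = w := fun {g} => (QuotientGroup.eq_one_iff g).trans (mem_zpowers_two h.w2)
  have fw : f w = 1 := f1.2 (Or.inr rfl)
  have ft : f t * f t = f (a * b) := by
    rw [← map_mul]; rcases tt with e | e <;> rw [e]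
    rw [map_mul, fw, mul_one]
  refine da2_quot (x := f x) (c := f c) (j := f a) (t := f t) (hD.to_quotient _)
    (by rw [← map_mul]; exact (QuotientGroup.eq_one_iff _).2 c2) (fun e => ?_)
    (by rw [← map_mul, ← map_mul]; exact QuotientGroup.eq.2 hcx) (by rw [← map_mul, h.ca c cK, map_mul])
    (by rw [← map_mul, h.a2, fw]) (fun g => ?_) ?_ (mem_map_of_mem f ht |> (MonoidHom.map_zpowers f x).le) ?_ ?_ ?_
  · obtain ⟨l, hl⟩ := mem_zpowers_iff.1 e
    rw [← map_zpow] at hl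
    exact cX ((mul_mem_cancel_left (inv_mem (zpow_mem (mem_zpowers x) l))).1 (zpowers_le.2 wX (QuotientGroup.eq.1 hl)))
  · obtain ⟨g, rfl⟩ := QuotientGroup.mk'_surjective _ g
    obtain ⟨i, hi⟩ := cov g
    refine ⟨i, ?_⟩
    rcases hi with rfl | rfl | rfl | rfl <;> simp only [map_mul, map_zpow, f, true_or, or_true]
  · obtain ⟨s, hs⟩ := covM (a * x * a⁻¹) (by
      have e1 : a⁻¹ * (a * b) * a = a * b * w := by
        rw [inv_mul_cancel_left, h.ba, h.wi]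
      rw [mM, show a * x * a⁻¹ * (a * b) * (a * x * a⁻¹)⁻¹ = a * (x * (a⁻¹ * (a * b) * a) * x⁻¹) * a⁻¹ by group, e1,
        show x * (a * b * w) * x⁻¹ = x * (a * b) * (w * x⁻¹) by group, ← wc, ← mul_assoc _ x⁻¹, mM.1 xM, ← e1]
      group)
    exact ⟨s, hs.imp (fun e => by rw [← map_zpow, ← e, map_mul, map_mul, map_inv])
      fun e => by rw [← map_zpow, ← map_mul f (x ^ s), ← e, map_mul, map_mul, map_inv]⟩
  · refine orderOf_eq_prime_pow (p := 2) (n := 1) ?_ ?_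
    · rw [pow_one, pow_two, ft, f1]
      rintro (e | e)
      exacts [h.nab (e ▸ K.one_mem), h.nab (e ▸ h.wK)]
    · rw [show f t ^ 2 ^ (1 + 1) = _ from da2_four _, ft, ← map_mul, h.i2, fw]
  · have e1 : f t * f a * (f t)⁻¹ * (f a)⁻¹ = f t * f t := by
      rw [ft, ← map_inv, ← map_inv, ← map_mul, ← map_mul, ← map_mul]
      rcases h.comm_na hn hQ with e | e <;> rw [e]
      rw [map_mul, fw, mul_one]
    rw [← inv_inj, inv_inv, ← mul_right_inj (f t), ← e1]; group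
  · intro e
    rw [ft, ← map_inv, ← map_mul, ← map_mul, ← map_mul] at e
    obtain ⟨v, hv, e1⟩ : ∃ v, (v = 1 ∨ v = w) ∧ a * x * a⁻¹ = a * b * v * x⁻¹ :=
      ⟨_, (mem_zpowers_two h.w2).1 (QuotientGroup.eq.1 e.symm), by group⟩
    have vc : ∀ g, g * v = v * g := by rcases hv with rfl | rfl; exacts [fun g => by simp, wc]
    have e2 : a * (a * x * a⁻¹) * a⁻¹ = x := by
      rw [show a * (a * x * a⁻¹) * a⁻¹ = a * a * x * (a * a)⁻¹ by group, h.a2, ← wc, mul_inv_cancel_right]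
    rw [e1, show a * (a * b * v * x⁻¹) * a⁻¹ = a * (a * b) * a⁻¹ * (a * v * a⁻¹) * (a * x * a⁻¹)⁻¹ by group, e1,
      h.conj_a_i, vc a, mul_inv_cancel_right, show a * b * w * v * (a * b * v * x⁻¹)⁻¹ =
        a * b * w * (v * x * v⁻¹) * (a * b)⁻¹ by group, ← vc, mul_inv_cancel_right, wc, mul_assoc w, mul_assoc w,
      ← mem_centralizer_singleton_iff.1 xM, mul_inv_cancel_right] at e2
    exact w1 (mul_eq_right.1 e2)

end CL.KB
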