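/-
Elementary facts on two-generator 2-groups and on 2-groups with a cyclic subgroup of index four.
-/
import Cfsg.Agent.Blk.KBDefs
import Cfsg.Agent.Inv.AutTwo
import Cfsg.Agent.Fus.FratChain
import Cfsg.Agent.Fus.BiP
import Cfsg.Agent.Grp.PGroupFrattini
import Cfsg.Agent.Grp.PGroupBasic

set_option autoImplicit false

namespace CL.KB

open Subgroup CL.Grp
open scoped commutatorElement

universe u

namespace TopL

variable {D : Type*} [Group D] [Finite D]

theorem two_idx {H K : Subgroup D} (h : H < K) : 2 * K.index ≤ H.index := by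
  rw [← relIndex_mul_index h.le]
  refine Nat.mul_le_mul_right _ ?_
  have h0 : H.relIndex K ≠ 0 := index_ne_zero_of_finite
  have h1 : H.relIndex K ≠ 1 := fun e => h.not_ge (relIndex_eq_one.1 e)
  omega

theorem two_le_idx {H : Subgroup D} (h : H ≠ ⊤) : 2 ≤ H.index := by
  simpa using two_idx (lt_top_iff_ne_top.2 h)

omit [Finite D] in
theorem idx_le {N : Subgroup D} (hc : commutator D ≤ N) (hp : ∀ x : D, x ^ 2 ∈ N) (T : Finset D)
    (hT : closure (T : Set D) = ⊤) : N.index ≤ 2 ^ T.card := by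
  have := relIndex_sup_closure_dvd hc hp T
  rw [hT, sup_top_eq, relIndex_top_right] at this
  exact Nat.le_of_dvd (by positivity) this

omit [Finite D] in
theorem idx2 {N : Subgroup D} (hc : commutator D ≤ N) (hp : ∀ x : D, x ^ 2 ∈ N) {g h : D}
    (hT : closure {g, h} = ⊤) : N.index ≤ 4 := by
  classical
  exact (idx_le hc hp {g, h} (by simpa using hT)).trans
    (Nat.pow_le_pow_right two_pos Finset.card_le_two)

omit [Finite D] in
theorem idx3 {N : Subgroup D} (hc : commutator D ≤ N) (hp : ∀ x : D, x ^ 2 ∈ N) {g h k : D}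
    (hT : closure {g, h, k} = ⊤) : N.index ≤ 8 := by
  classical
  exact (idx_le hc hp {g, h, k} (by simpa using hT)).trans
    (Nat.pow_le_pow_right two_pos Finset.card_le_three)

theorem fr4 (h : TwoGen D) : (frattini D).index ≤ 4 := by
  obtain ⟨g, k, hT⟩ := h.gen
  exact idx2 (commutator_le_frattini h.pg) (pow_mem_frattini h.pg) hT

omit [Finite D] in
theorem fr_le {M : Subgroup D} (h : M.index = 2) : frattini D ≤ M :=
  frattini_le_coatom (isCoatom_of_index_prime (h ▸ Nat.prime_two))

omit [Finite D] in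
theorem normal_zp {z : D} (hz : z ∈ center D) : (zpowers z).Normal :=
  ⟨fun n hn g => by
    rw [mem_center_iff.1 (zpowers_le.2 hz hn) g, mul_inv_cancel_right]; exact hn⟩

omit [Finite D] in
theorem gen_map {X : Type*} [Group X] {g h : D} (hT : closure {g, h} = ⊤) (f : D →* X)
    (hf : Function.Surjective f) : closure {f g, f h} = ⊤ := by
  rw [← Set.image_pair, ← MonoidHom.map_closure, hT, map_top_of_surjective f hf]

/-- Squaring in a commutative group. -/
def sqH {X : Type*} [Group X] (hc : ∀ a b : X, a * b = b * a) : X →* X :=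
  MonoidHom.mk' (fun x => x * x) fun a b => by
    rw [mul_assoc, ← mul_assoc b a b, ← hc a b]; simp only [mul_assoc]

theorem sq_idx {X : Type*} [Group X] [Finite X] (hc : ∀ a b : X, a * b = b * a) {g h : X}
    (hT : closure {g, h} = ⊤) : (sqH hc).range.index ≤ 4 := by
  refine idx2 ?_ (fun x => ⟨x, (sq x).symm⟩) hT
  rw [commutator_def, commutator_le]
  intro a _ b _
  rw [commutatorElement_eq_one_iff_mul_comm.2 (hc a b)]; exact one_mem _

omit [Finite D] in
theorem quot_comm {N : Subgroup D} [N.Normal] (h : commutator D ≤ N) (a b : D ⧸ N) :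
    a * b = b * a :=
  (Normal.quotient_commutative_iff_commutator_le.2 h).is_comm.comm a b

theorem c2 (h : TwoGen D) (hc : commutator D ≤ center D) : Good D := by
  obtain ⟨g, k, hT⟩ := h.gen
  have hz : ⁅g, k⁆ ∈ center D := hc (commutator_mem_commutator (mem_top _) (mem_top _))
  have := normal_zp hz
  have h1 : commutator D ≤ zpowers ⁅g, k⁆ := by
    refine CL.Fus.Bi.comm_le_of_gen (r := g) (s := k) (fun K a b => ?_) ?_ ?_ (mem_zpowers _)
    · rw [eq_top_iff, ← hT, closure_le]
      rintro _ (rfl | rfl) <;> assumption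
    · rw [normalizer_eq_top]; trivial
    · rw [normalizer_eq_top]; trivial
  refine ⟨_, this, hz, Or.inr (Or.inr (Or.inl ⟨quot_comm h1, ?_⟩))⟩
  have h2 := sq_idx (quot_comm h1) (gen_map hT (QuotientGroup.mk' _) (QuotientGroup.mk'_surjective _))
  rw [index_range] at h2
  exact h2

theorem c4 (hc : (commutator D).index ≤ 4) : Good D := by
  have := normal_zp (one_mem (center D))
  refine ⟨1, this, one_mem _, Or.inr (Or.inl (le_trans ?_ hc))⟩
  have hf := QuotientGroup.mk'_surjective (zpowers (1 : D))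
  have := index_map_dvd (commutator D) hf
  rw [map_commutator_eq, MonoidHom.range_eq_top.2 hf, ← commutator_def] at this
  exact Nat.le_of_dvd (Nat.pos_of_ne_zero index_ne_zero_of_finite) this

omit [Finite D] in
theorem char_iff (H : Subgroup D) [h : H.Characteristic] (α : MulAut D) (x : D) :
    α x ∈ H ↔ x ∈ H := by
  conv_rhs => rw [← h.fixed α]
  rfl

theorem ni (h : TwoGen D) {α : MulAut D} (ho : Odd (orderOf α)) (h1 : α ≠ 1) {M : Subgroup D}
    (hM : M.index = 2) (hi : ∀ x, α x ∈ M ↔ x ∈ M) : False := by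
  refine h1 (CL.Fus.mulAut_eq_one_of_comm_comm_frattini h.pg (Nat.coprime_two_right.2 ho) (C := M)
    (fun x hx => (hi x).2 hx) (fun x => ?_) fun x hx => ?_)
  · rw [mul_mem_iff_of_index_two hM, inv_mem_iff, hi]
  · by_cases hx' : x ∈ frattini D
    · exact mul_mem (inv_mem hx') ((char_iff _ α x).2 hx')
    · have e1 := relIndex_mul_index (fr_le hM)
      have e2 := fr4 h
      have e3 : (frattini D).relIndex M ≠ 0 := index_ne_zero_of_finite
      have e4 : (frattini D).relIndex M ≠ 1 := fun e => hx' (relIndex_eq_one.1 e hx)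
      have e5 : ((frattini D).subgroupOf M).index = 2 := by
        change (frattini D).relIndex M = 2
        rw [hM] at e1; omega
      have := (mul_mem_iff_of_index_two e5 (a := (⟨x, hx⟩ : M)⁻¹) (b := ⟨α x, (hi x).2 hx⟩)).2
        (by rw [inv_mem_iff, mem_subgroupOf, mem_subgroupOf, char_iff])
      exact this

theorem four (h : TwoGen D) {α : MulAut D} (ho : Odd (orderOf α)) (h1 : α ≠ 1)
    (hc : Nat.card (commutator D) = 4) : commutator D ≤ center D := by
  obtain ⟨N, hN, hle, hN2⟩ := exists_normal_card_eq_pow_le h.pg (commutator D) (b := 1) (by omega)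
  have hNc := le_center_of_normal_card_prime h.pg N (by simpa using hN2)
  have hr : (N.subgroupOf (commutator D)).index = 2 := by
    have := card_eq_relIndex_mul_card hle
    change N.relIndex _ = 2
    rw [hc, hN2] at this; omega
  have hm : ∀ a ∈ commutator D, ∀ b ∈ commutator D, a ∉ N → b ∉ N → a⁻¹ * b ∈ N :=
    fun a ha b hb na nb =>
      (mul_mem_iff_of_index_two hr (a := (⟨a, ha⟩ : commutator D)⁻¹) (b := ⟨b, hb⟩)).2
        (by rw [inv_mem_iff, mem_subgroupOf, mem_subgroupOf]; exact iff_of_false na nb)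
  by_contra hn
  obtain ⟨e, he, hec⟩ := SetLike.not_le_iff_exists.1 hn
  have heN : e ∉ N := fun a => hec (hNc a)
  have hC : ∀ g, g * e * g⁻¹ = e → g ∈ centralizer (commutator D : Set D) := fun g hg d hd => by
    have hg' : e * g = g * e := by rw [← mul_inv_eq_iff_eq_mul.1 hg]
    by_cases hdN : d ∈ N
    · exact (mem_center_iff.1 (hNc hdN) g).symm
    · have := mem_center_iff.1 (hNc (hm e he d hd heN hdN)) g
      calc d * g = e * (e⁻¹ * d * g) := by group
        _ = e * g * (e⁻¹ * d) := by rw [← this, mul_assoc]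
        _ = g * d := by rw [hg']; group
  have hcj : ∀ g, e⁻¹ * (g * e * g⁻¹) ∈ N := fun g =>
    hm e he _ (Normal.conj_mem inferInstance e he g) heN fun a => heN (by
      simpa [mul_assoc] using hN.conj_mem _ a g⁻¹)
  obtain ⟨w, -, hw⟩ := (Nat.card_eq_two_iff' (1 : N)).1 (by simpa using hN2)
  have hne : ∀ g, g ∉ centralizer (commutator D : Set D) → e⁻¹ * (g * e * g⁻¹) = w := fun g hg =>
    congrArg Subtype.val (hw ⟨_, hcj g⟩ fun a => hg (hC g
      (inv_mul_eq_one.1 (congrArg Subtype.val a)).symm))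
  obtain ⟨g, hg⟩ : ∃ g, g ∉ centralizer (commutator D : Set D) := by
    by_contra! hh
    exact hec (mem_center_iff.2 fun g => (hh g e he).symm)
  refine ni h ho h1 (M := centralizer (commutator D : Set D)) ?_ (char_iff _ α)
  refine index_eq_two_iff_exists_notMem_and'.2 ⟨g⁻¹, by rwa [inv_mem_iff], fun b => ?_⟩
  by_cases hb : b ∈ centralizer (commutator D : Set D)
  · exact Or.inr hb
  · refine Or.inl (hC _ ?_)
    have := mul_left_cancel ((hne g hg).trans (hne b hb).symm)
    calc g⁻¹ * b * e * (g⁻¹ * b)⁻¹ = g⁻¹ * (b * e * b⁻¹) * g := by group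
      _ = e := by rw [← this]; group

theorem eight (h : TwoGen D) {α : MulAut D} (ho : Odd (orderOf α)) (h1 : α ≠ 1)
    (hc : (commutator D).index = 8) (hne : ¬ commutator D ≤ center D) : False := by
  obtain ⟨g, k, hT⟩ := h.gen
  have hq := quot_comm (le_refl (commutator D))
  have hf := QuotientGroup.mk'_surjective (commutator D)
  have a1 := sq_idx hq (gen_map hT (QuotientGroup.mk' _) hf)
  have hcy : ¬ IsCyclic D := fun hcy => hne fun x _ =>
    mem_center_iff.2 fun y => hcy.isMulCommutative.is_comm.comm y x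
  have a2 : 4 ≤ (frattini D).index :=
    Nat.le_of_dvd (Nat.pos_of_ne_zero index_ne_zero_of_finite) (sq_dvd_index_frattini h.pg hcy)
  have a3 : (sqH hq).range.comap (QuotientGroup.mk' _) ≤ frattini D := by
    rintro x ⟨y, hy⟩
    obtain ⟨y, rfl⟩ := hf y
    have : (y * y)⁻¹ * x ∈ commutator D := QuotientGroup.eq.1 hy
    have h2 := mul_mem (pow_mem_frattini h.pg y) (commutator_le_frattini h.pg this)
    rwa [sq, mul_inv_cancel_left] at h2
  have a4 := index_antitone a3
  rw [index_comap_of_surjective _ hf] at a4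
  have a5 := (sqH hq).range.index_mul_card
  have a6 : Nat.card (D ⧸ commutator D) = 8 := hc
  have a7 : (sqH hq).range.index = 4 := by omega
  refine ni h ho h1 (M := (sqH hq).ker.comap (QuotientGroup.mk' _)) ?_ fun x => ?_
  · rw [index_comap_of_surjective _ hf, index_ker]
    rw [a6, a7] at a5; omega
  · have : ∀ y : D, y ∈ (sqH hq).ker.comap (QuotientGroup.mk' (commutator D)) ↔
        y * y ∈ commutator D := fun y => QuotientGroup.eq_one_iff (y * y)
    rw [this, this, ← map_mul, char_iff]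

theorem top1 (h : TwoGen D) {α : MulAut D} (ho : Odd (orderOf α)) (h1 : α ≠ 1) : Good D := by
  by_cases hz : commutator D ≤ center D
  · exact c2 h hz
  obtain ⟨k, hk⟩ := (h.pg.to_subgroup (commutator D)).exists_card_eq
  obtain ⟨j, hj⟩ := h.pg.index (commutator D)
  have hk3 : 3 ≤ k := by
    by_contra hlt
    have : k = 0 ∨ k = 1 ∨ k = 2 := by omega
    rcases this with rfl | rfl | rfl
    · exact hz (by rw [card_eq_one.1 hk]; exact bot_le)
    · exact hz (le_center_of_normal_card_prime h.pg _ (by simpa using hk))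
    · exact hz (four h ho h1 hk)
  have e := (commutator D).index_mul_card
  have e2 := h.card
  rw [← e, hk, hj, ← pow_add, show (64 : ℕ) = 2 ^ 6 from rfl,
    Nat.pow_le_pow_iff_right one_lt_two] at e2
  by_cases hj3 : j = 3
  · exact (eight h ho h1 (by rw [hj, hj3]; rfl) hz).elim
  · exact c4 (hj ▸ Nat.pow_le_pow_right (n := 2) (i := j) (j := 2) two_pos (by omega))

theorem schreier {Q : Subgroup D} (hQ : Q.index = 2) {s y : D} (hs : s ∉ Q) (hy : y ∈ Q)
    (hT : closure {s, y} = ⊤) : ∃ a b c : Q, closure {a, b, c} = ⊤ := by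
  have hN := normal_of_index_eq_two hQ
  refine ⟨⟨y, hy⟩, ⟨_, hN.conj_mem y hy s⟩, ⟨_, mul_self_mem_of_index_two hQ s⟩, ?_⟩
  apply map_injective Q.subtype_injective
  rw [← MonoidHom.range_eq_map, range_subtype, MonoidHom.map_closure, Set.image_insert_eq,
    Set.image_pair]
  simp only [coe_subtype]
  set H := closure ({y, s * y * s⁻¹, s * s} : Set D) with hH
  have m1 : y ∈ H := subset_closure (Or.inl rfl)
  have m2 : s * y * s⁻¹ ∈ H := subset_closure (Or.inr (Or.inl rfl))
  have m3 : s * s ∈ H := subset_closure (Or.inr (Or.inr rfl))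
  have hle : H ≤ Q := by
    rw [closure_le]
    rintro _ (rfl | rfl | rfl)
    exacts [hy, hN.conj_mem y hy s, mul_self_mem_of_index_two hQ s]
  have hn : s ∈ normalizer (H : Set D) := by
    refine mem_normalizer_fintype fun x hx => ?_
    have : H ≤ H.comap (MulAut.conj s).toMonoidHom := by
      conv_lhs => rw [hH]
      rw [closure_le]
      rintro _ (rfl | rfl | rfl)
      · exact m2
      · change s * (s * y * s⁻¹) * s⁻¹ ∈ H
        simpa [mul_assoc] using mul_mem (mul_mem m3 m1) (inv_mem m3)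
      · change s * (s * s) * s⁻¹ ∈ H
        simpa [mul_assoc] using m3
    exact this hx
  refine le_antisymm hle fun q hq => ?_
  have : q ∈ H ⊔ zpowers s := by
    have : closure {s, y} ≤ H ⊔ zpowers s := by
      rw [closure_le]
      rintro _ (rfl | rfl)
      exacts [mem_sup_right (mem_zpowers _), mem_sup_left m1]
    exact this (hT ▸ mem_top q)
  rcases (CL.Inv.mem_sup_zpowers_iff hn m3 q).1 this with h | h
  · exact h
  · exact absurd (inv_mem_iff.1 ((mul_mem_cancel_left hq).1 (hle h))) hs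

theorem top2 (h : TwoGen D) {z : D} (hz : z ≠ 1) : Rk8 D z := by
  intro Q hQ hzQ
  by_cases h2 : Q.index = 2
  · obtain ⟨g, k, hT⟩ := h.gen
    have : ∃ a b c : Q, closure {a, b, c} = ⊤ := by
      by_cases hg : g ∈ Q <;> by_cases hk : k ∈ Q
      · refine absurd (eq_top_iff.2 ?_) hQ
        rw [← hT, closure_le]
        rintro _ (rfl | rfl) <;> assumption
      · exact schreier h2 hk hg (by rwa [Set.pair_comm])
      · exact schreier h2 hg hk hT
      · refine schreier h2 hg (y := g⁻¹ * k) ((mul_mem_iff_of_index_two h2).2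
          (by rw [inv_mem_iff]; exact iff_of_false hg hk)) (eq_top_iff.2 ?_)
        rw [← hT, closure_le]
        have m1 : g ∈ closure {g, g⁻¹ * k} := subset_closure (Or.inl rfl)
        rintro _ (rfl | rfl)
        · exact m1
        · simpa using mul_mem m1 (subset_closure (Or.inr rfl))
    obtain ⟨a, b, c, hT⟩ := this
    have hp := h.pg.to_subgroup Q
    exact idx3 ((commutator_le_frattini hp).trans le_sup_left)
      (fun x => mem_sup_left (pow_mem_frattini hp x)) hT
  · obtain ⟨j, hj⟩ := h.pg.index Q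
    have e1 : 4 ≤ Q.index := by
      have := two_le_idx hQ
      rcases j with _ | _ | j
      · omega
      · omega
      · rw [hj]; exact Nat.pow_le_pow_right (n := 2) (i := 2) two_pos (by omega)
    have e2 := Q.index_mul_card
    have e3 := h.card
    have e4 : Nat.card Q ≤ 16 := by nlinarith
    have e5 : (⊥ : Subgroup Q) < frattini Q ⊔ zpowers ⟨z, hzQ⟩ := bot_lt_iff_ne_bot.2 fun e =>
      hz (Subtype.ext_iff.1 (mem_bot.1 (e.le (mem_sup_right (mem_zpowers (⟨z, hzQ⟩ : Q))))))
    have := two_idx e5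
    rw [index_bot] at this
    omega

theorem triv_or (hp : IsPGroup 2 D) : Good D ∨ ∃ z ∈ center D, z ≠ 1 := by
  rcases subsingleton_or_nontrivial D with hs | hs
  · refine Or.inl (c4 ?_)
    rw [Subsingleton.elim (commutator D) ⊤, index_top]; omega
  · have := hp.center_nontrivial
    obtain ⟨z, hz⟩ := exists_ne (1 : center D)
    exact Or.inr ⟨z, z.2, fun e => hz (Subtype.ext e)⟩

theorem meet (hp : IsPGroup 2 D) (U : Subgroup D) [U.Normal] (h : U ≠ ⊥) :
    ∃ z ∈ U, z ∈ center D ∧ z ≠ 1 := by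
  have := hp.isNilpotent
  obtain ⟨⟨z, hz⟩, h1⟩ := ne_bot_iff_exists_ne_one.1 (inf_center_ne_bot h)
  exact ⟨z, hz.1, hz.2, fun e => h1 (Subtype.ext e)⟩

theorem top3 (hp : IsPGroup 2 D) : Good D ∨ ∃ z ∈ center D, z ≠ 1 ∧ Hz D z := by
  by_cases hU : closure {g : D | ∃ d ∈ commutator D, g = d * d} = ⊥
  · rcases triv_or hp with h | ⟨z, h1, h2⟩
    · exact Or.inl h
    · exact Or.inr ⟨z, h1, h2, Or.inl fun d hd => mem_bot.1 (hU ▸ subset_closure ⟨d, hd, rfl⟩)⟩
  · have : (closure {g : D | ∃ d ∈ commutator D, g = d * d}).Normal := ⟨fun x hx g => by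
      have : closure {g : D | ∃ d ∈ commutator D, g = d * d} ≤
          (closure {g : D | ∃ d ∈ commutator D, g = d * d}).comap (MulAut.conj g).toMonoidHom := by
        rw [closure_le]
        rintro _ ⟨d, hd, rfl⟩
        exact subset_closure ⟨g * d * g⁻¹, Normal.conj_mem inferInstance d hd g, map_mul _ _ _⟩
      exact this hx⟩
    obtain ⟨z, h1, h2, h3⟩ := meet hp _ hU
    exact Or.inr ⟨z, h2, h3, Or.inr h1⟩

theorem pre1 (hp : IsPGroup 2 D) {x : D} (hx : (zpowers x).index ≤ 4) (z : D) : Rk8 D z := by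
  classical
  intro Q _ hzQ
  have hq := hp.to_subgroup Q
  obtain ⟨n, hn⟩ := (le_zpowers_iff x (zpowers x ⊓ Q)).1 inf_le_left
  have hy : x ^ n ∈ Q := (hn ▸ mem_zpowers (x ^ n) : x ^ n ∈ zpowers x ⊓ Q).2
  set N := frattini Q ⊔ zpowers (⟨z, hzQ⟩ : Q)
  have e1 := Nat.le_of_dvd (by positivity) (relIndex_sup_closure_dvd (N := N)
    ((commutator_le_frattini hq).trans le_sup_left)
    (fun x => mem_sup_left (pow_mem_frattini hq x)) {⟨x ^ n, hy⟩})
  have e2 : (zpowers x).subgroupOf Q ≤ N ⊔ closure (({⟨x ^ n, hy⟩} : Finset Q) : Set Q) := by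
    intro q hq
    obtain ⟨i, hi⟩ : (q : D) ∈ zpowers (x ^ n) := hn ▸ ⟨hq, q.2⟩
    have : q = (⟨x ^ n, hy⟩ : Q) ^ i := Subtype.ext hi.symm
    exact this ▸ mem_sup_right (zpow_mem (subset_closure (by simp)) i)
  have e3 := index_antitone e2
  have e4 := relIndex_le_of_le_right (H := zpowers x) (le_top (a := Q)) index_ne_zero_of_finite
  rw [relIndex_top_right] at e4
  have e5 : ((zpowers x).subgroupOf Q).index ≤ 4 := e4.trans hx
  rw [← relIndex_mul_index (le_sup_left : N ≤ N ⊔ closure (({⟨x ^ n, hy⟩} : Finset Q) : Set Q))]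
  rw [Finset.card_singleton] at e1
  exact Nat.mul_le_mul e1 (e3.trans e5)

theorem pre2 (hp : IsPGroup 2 D) {x : D} (hx : (zpowers x).index ≤ 4) :
    (zpowers (x ^ 2)).Normal := by
  have k1 : ∀ g, (g * x * g⁻¹) ^ 2 ∈ zpowers x := fun g => by
    by_cases hN : normalizer (zpowers x : Set D) = ⊤
    · exact pow_mem ((normalizer_eq_top_iff.1 hN).conj_mem x (mem_zpowers x) g) 2
    have hX : zpowers x ≠ ⊤ := fun e => hN (eq_top_iff.2 (e ▸ le_normalizer))
    have l1 := lt_inf_normalizer_pGroup (hp.to_subgroup ⊤) (lt_top_iff_ne_top.2 hX)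
    rw [top_inf_eq] at l1
    have l2 := two_idx l1
    have l3 := two_le_idx hN
    have l4 : (normalizer (zpowers x : Set D)).index = 2 := by omega
    have l5 := relIndex_mul_index l1.le
    have l6 : ((zpowers x).subgroupOf (normalizer (zpowers x : Set D))).index = 2 := by
      change (zpowers x).relIndex _ = 2
      rw [l4] at l5 l2; omega
    rw [sq]
    exact mul_self_mem_of_index_two l6
      ⟨_, (normal_of_index_eq_two l4).conj_mem x (l1.le (mem_zpowers x)) g⟩
  have k2 : ∀ g, g * x ^ 2 * g⁻¹ ∈ zpowers (x ^ 2) := fun g => by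
    obtain ⟨k, hk⟩ := mem_powers_iff_mem_zpowers.2 (k1 g)
    simp only [conj_pow] at hk
    rcases Nat.even_or_odd k with ⟨j, rfl⟩ | ho
    · rw [← hk, ← two_mul, pow_mul]; exact npow_mem_zpowers _ _
    obtain ⟨s, hs⟩ := IsPGroup.iff_orderOf.1 hp x
    rcases s with _ | s
    · rw [orderOf_eq_one_iff.1 hs]; simp
    · have a1 : (x ^ 2 ^ s) ^ k = 1 := by
        rw [← pow_mul, mul_comm, pow_mul, hk, conj_pow, ← pow_mul, ← pow_succ', ← hs,
          pow_orderOf_eq_one, mul_one, mul_inv_cancel]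
      have a2 := orderOf_dvd_of_pow_eq_one (CL.Inv.eq_one_of_pow_odd hp ho a1)
      rw [hs, Nat.pow_dvd_pow_iff_le_right one_lt_two] at a2
      omega
  exact ⟨fun _ ⟨i, hi⟩ g => by rw [← hi, ← conj_zpow]; exact zpow_mem (k2 g) i⟩

theorem pre3 (hp : IsPGroup 2 D) {x : D} (hx : (zpowers x).index ≤ 4) :
    Good D ∨ ∃ z ∈ zpowers x, z ∈ center D ∧ z ≠ 1 := by
  by_cases h2 : x ^ 2 = 1
  · rcases triv_or hp with h | ⟨z, h1, h3⟩
    · exact Or.inl h
    have := normal_zp h1
    refine Or.inl ⟨z, this, h1, Or.inl ⟨1, (card_le_card_group _).trans ?_⟩⟩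
    have e1 := (zpowers x).index_mul_card
    have e2 : Nat.card (zpowers x) ≤ 2 := by
      rw [Nat.card_zpowers]; exact orderOf_le_of_pow_eq_one two_pos h2
    have e3 := two_idx (bot_lt_iff_ne_bot.2 (mt zpowers_eq_bot.1 h3))
    rw [index_bot] at e3
    have e4 := Nat.mul_le_mul hx e2
    change (zpowers z).index ≤ 4
    omega
  · have := pre2 hp hx
    obtain ⟨z, a, b, c⟩ := meet hp _ (mt zpowers_eq_bot.1 h2)
    exact Or.inr ⟨z, zpowers_le.2 (npow_mem_zpowers x 2) a, b, c⟩

end TopL

open TopL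

theorem gen2 : Gen2.{u} := by
  intro D _ _ h M₁ M₂ a t h1 h2 a1 a2 t2 t1
  by_contra hne
  have hK : closure {t, a} ⊔ frattini D ≠ ⊤ := fun e => hne (frattini_nongenerating e)
  set K := closure {t, a} ⊔ frattini D
  have tK : t ∈ K := mem_sup_left (subset_closure (Or.inl rfl))
  have aK : a ∈ K := mem_sup_left (subset_closure (Or.inr rfl))
  have e1 := two_le_idx hK
  have e2 := two_idx (H := K ⊓ M₁) (K := K)
    (lt_of_le_of_ne inf_le_left fun e => t1 (e.ge tK).2)
  have e3 := two_idx (H := K ⊓ M₁ ⊓ M₂) (K := K ⊓ M₁)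
    (lt_of_le_of_ne inf_le_left fun e => a2 (e.ge ⟨aK, a1⟩).2)
  have e4 := index_antitone (H := frattini D) (K := K ⊓ M₁ ⊓ M₂)
    (le_inf (le_inf le_sup_right (fr_le h1)) (fr_le h2))
  have e5 := fr4 h
  omega

theorem top43 : Top43.{u} := fun _ _ _ h =>
  ⟨fun _ ho h1 => top1 h ho h1, fun _ hz => top2 h hz, top3 h.pg⟩

theorem pre44 : Pre44.{u} := fun _ _ _ hp _ hx => ⟨pre1 hp hx, pre2 hp hx, pre3 hp hx⟩

end CL.KB
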