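/-
Two-generator 2-groups of order at most 64 with a `Core` subgroup of index at least four.
-/
import Cfsg.Agent.Blk.KBBas
import Cfsg.Agent.Blk.KBTop

set_option autoImplicit false

namespace CL.KB

open Subgroup CL.Inv CL.Grp

universe u

namespace Db2

section Gen

variable {X : Type*} [Group X] {s a : X}

theorem comm_idx {u v : X} (hu : u * u ∈ commutator X) (hv : v * v ∈ commutator X)
    (h : closure {u, v} = ⊤) : (commutator X).index ≤ 4 := by
  refine TopL.idx2 le_rfl (fun x => ?_) h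
  let f : X →* Abelianization X := (powMonoidHom 2).comp Abelianization.of
  have key : ∀ y : X, y ∈ f.ker ↔ y ^ 2 ∈ commutator X := fun y => by
    rw [← Abelianization.ker_of, MonoidHom.mem_ker, MonoidHom.mem_ker, map_pow]; rfl
  have h1 : closure {u, v} ≤ f.ker := by
    rw [closure_le]
    rintro _ (rfl | rfl)
    · exact (key _).2 (by rwa [pow_two])
    · exact (key _).2 (by rwa [pow_two])
  exact (key x).1 (h1 (h ▸ mem_top x))

theorem fib_top {x c j : X} (ord : orderOf x = 2 ^ 3) (cc : c * c = 1) (cx : c ∉ zpowers x)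
    (hx : c * x = x * c) (hj : c * j = j * c) (jj : j * j = 1) (conj : j * x * j⁻¹ = x⁻¹ * c)
    (hg : ∀ M : Subgroup X, x ∈ M → j ∈ M → M = ⊤) : Fib ⊤ 3 x c j := by
  refine ⟨by norm_num, ord, cc, cx, hx, hj, jj, Or.inr ⟨conj, le_rfl⟩, fun g => ?_⟩
  have ci : c⁻¹ = c := inv_eq_of_mul_eq_one_left cc
  have ji : j⁻¹ = j := inv_eq_of_mul_eq_one_left jj
  have hc : c ∈ normalizer (zpowers x : Set X) := by
    refine centralizer_le_normalizer _ (mem_centralizer_iff.2 fun y hy => ?_)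
    obtain ⟨n, rfl⟩ := mem_zpowers_iff.1 hy
    exact (Commute.zpow_right hx n).symm
  have hA := mem_sup_zpowers_iff hc (by rw [cc]; exact one_mem _)
  set A := zpowers x ⊔ zpowers c with hAd
  have xA : x ∈ A := mem_sup_left (mem_zpowers x)
  have cA : c ∈ A := mem_sup_right (mem_zpowers c)
  have h1 : ∀ y ∈ A, j * y * j⁻¹ ∈ A := by
    have : A ≤ A.comap (MulAut.conj j).toMonoidHom := by
      refine sup_le (zpowers_le.2 ?_) (zpowers_le.2 ?_)
      · change j * x * j⁻¹ ∈ A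
        rw [conj]; exact A.mul_mem (A.inv_mem xA) cA
      · change j * c * j⁻¹ ∈ A
        rwa [← hj, mul_inv_cancel_right]
    exact fun y hy => this hy
  have hjA : j ∈ normalizer (A : Set X) := mem_normalizer_iff.2 fun y => ⟨h1 y, fun hy => by
    have := h1 _ hy
    rwa [show j * (j * y * j⁻¹) * j⁻¹ = j * j * y * (j * j)⁻¹ by group, jj, one_mul, inv_one,
      mul_one] at this⟩
  have hB := mem_sup_zpowers_iff hjA (by rw [jj]; exact one_mem _) g
  rw [hg _ (mem_sup_left xA) (mem_sup_right (mem_zpowers j))] at hB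
  refine ⟨fun hg' => ?_, fun _ => mem_top _⟩
  rcases hB.1 hg' with h2 | h2 <;> rcases (hA _).1 h2 with h3 | h3 <;>
    obtain ⟨n, hn⟩ := mem_zpowers_iff.1 h3 <;> refine ⟨n, ?_⟩ <;> rw [hn]
  · exact Or.inl rfl
  · exact Or.inr (Or.inl (by group))
  · exact Or.inr (Or.inr (Or.inl (by group)))
  · exact Or.inr (Or.inr (Or.inr (by group)))

theorem pow_four (ha : a * a = 1) (hc : s * s * (s * s) = 1) (hca : s * s * a = a * (s * s)) :
    (s * a) ^ 4 = s * a * s⁻¹ * a * (s * a * s⁻¹)⁻¹ * a⁻¹ := by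
  have ai : a⁻¹ = a := inv_eq_of_mul_eq_one_left ha
  have si : s⁻¹ = s * (s * s) := inv_eq_of_mul_eq_one_left (by rw [← hc]; group)
  have c1 : Commute (s * s) a := hca
  have c2 : Commute (s * s) s := (Commute.refl s).mul_left (Commute.refl s)
  have c3 : s * s * (a * s * a * s) = a * s * a * s * (s * s) :=
    ((c1.mul_right c2).mul_right c1).mul_right c2
  rw [show s * a * s⁻¹ * a * (s * a * s⁻¹)⁻¹ * a⁻¹ = s * a * s⁻¹ * a * s * a⁻¹ * s⁻¹ * a⁻¹ by group,
    si, ai, show s * a * (s * (s * s)) * a * s * a * (s * (s * s)) * a =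
      s * a * s * (s * s * (a * s * a * s) * (s * s)) * a by simp only [mul_assoc], c3,
    mul_assoc _ (s * s), hc]
  simp only [pow_succ, pow_zero, one_mul, mul_one, mul_assoc]

theorem tm_of (ha : a * a = 1) (hc : s * s * (s * s) = 1) (hca : s * s * a = a * (s * s))
    (h4 : (s * a) ^ 4 ≠ 1) (h8 : (s * a) ^ 8 = 1) (hg : closure {s, a} = ⊤) : Tm X := by
  have ord : orderOf (s * a) = 2 ^ 3 := orderOf_eq_prime_pow (n := 2) h4 h8
  by_cases cx : s * s ∈ zpowers (s * a)
  · refine Or.inr (Or.inl (comm_idx ?_ (by rw [ha]; exact one_mem _) hg))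
    obtain ⟨n, hn⟩ := mem_zpowers_iff.1 cx
    have h1 : ((orderOf (s * a) : ℕ) : ℤ) ∣ n + n :=
      orderOf_dvd_iff_zpow_eq_one.2 (by rw [zpow_add, hn, hc])
    rw [ord] at h1
    obtain ⟨m, rfl⟩ : (4 : ℤ) ∣ n := by omega
    rw [← hn, zpow_mul]
    refine zpow_mem ?_ _
    rw [show (4 : ℤ) = (4 : ℕ) from rfl, zpow_natCast, pow_four ha hc hca]
    exact commutator_mem_commutator (mem_top (s * a * s⁻¹)) (mem_top a)
  · have ai : a⁻¹ = a := inv_eq_of_mul_eq_one_left ha
    refine Or.inr (Or.inr (Or.inr ⟨3, s * a, s * s, a, fib_top ord hc cx ?_ hca ha ?_ ?_⟩))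
    · rw [mul_assoc s a, ← hca]; group
    · rw [mul_inv_rev, ai, mul_assoc a, mul_assoc s, ha]; group
    · intro M h1 h2
      rw [eq_top_iff, ← hg, closure_le]
      rintro _ (rfl | rfl)
      · exact (M.mul_mem_cancel_right h2).1 h1
      · exact h2

end Gen

variable {D : Type u} [Group D] {Q K : Subgroup D} {a b w z q r s : D}

theorem comm_img (h : Core Q K a b w z) {X : Type*} [Group X] (π : D →* X) {y : X}
    (h1 : Commute y (π a)) (h2 : Commute y (π b)) (h3 : ∀ k ∈ K, Commute y (π k)) (hq : q ∈ Q) :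
    Commute y (π q) := by
  obtain ⟨k, hk, rfl | rfl | rfl | rfl⟩ := h.exists_eq hq
  · exact h3 _ hk
  · rw [map_mul]; exact h1.mul_right (h3 _ hk)
  · rw [map_mul]; exact h2.mul_right (h3 _ hk)
  · rw [map_mul, map_mul]; exact (h1.mul_right h2).mul_right (h3 _ hk)

/-- The image of `Q` modulo `w` is commutative when `K` is. -/
theorem comm_mod (h : Core Q K a b w z) (hK : ∀ k ∈ K, ∀ k' ∈ K, k * k' = k' * k) {X : Type*}
    [Group X] (π : D →* X) (hw : π w = 1) (hq : q ∈ Q) (hr : r ∈ Q) : Commute (π q) (π r) := by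
  have hab : Commute (π a) (π b) := by
    change π a * π b = π b * π a
    rw [← map_mul, h.ab, map_mul, hw, one_mul, map_mul]
  have hk : ∀ k ∈ K, ∀ q ∈ Q, Commute (π q) (π k) := fun k hk q hq =>
    Commute.map (h.comm_of (h.ca k hk) (h.cb k hk) (hK k hk) hq).symm π
  exact comm_img h π (comm_img h π (Commute.refl _) hab (fun k hk' => hk k hk' a h.aQ) hq).symm
    (comm_img h π hab.symm (Commute.refl _) (fun k hk' => hk k hk' b h.bQ) hq).symm
    (fun k hk' => hk k hk' q hq) hr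

theorem two' (h : Core Q K a b w z) (hN : (normalizer (Q : Set D)).index = 2) (hq : q ∈ Q)
    (hr : r ∈ Q) (h1 : s * q * s⁻¹ ∉ Q) (h2 : s * r * s⁻¹ ∉ Q) : s * (q * r) * s⁻¹ ∈ Q := by
  have hn := normal_of_index_eq_two hN
  have := h.two (hn.conj_mem r (le_normalizer hr) s) h2 (hn.conj_mem q (le_normalizer hq) s) h1
  rwa [show s * q * s⁻¹ * (s * r * s⁻¹) = s * (q * r) * s⁻¹ by group] at this

variable [Finite D]

theorem mem_of_conj (h : Core Q K a b w z) (hK : ∀ k ∈ K, ∀ k' ∈ K, k * k' = k' * k)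
    (hN : (normalizer (Q : Set D)).index = 2) (hw : w ∈ center D)
    (hs : s ∉ normalizer (Q : Set D)) (hq : q ∈ Q) (h1 : s * q * s⁻¹ ∈ Q) :
    q ∈ K ∨ (a * b)⁻¹ * q ∈ K := by
  have hn := normal_of_index_eq_two hN
  have := TopL.normal_zp hw
  obtain ⟨r, hr, h2⟩ : ∃ r ∈ Q, s⁻¹ * r * s⁻¹⁻¹ ∉ Q := by
    by_contra h2
    push Not at h2
    exact hs (inv_mem_iff.1 (mem_normalizer_fintype h2))
  refine h.mem_of_fix (hn.conj_mem r (le_normalizer hr) s⁻¹) h2 hq (zpowers_le.2 h.wK ?_)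
  let π := QuotientGroup.mk' (zpowers w)
  have h3 := comm_mod h hK π ((QuotientGroup.eq_one_iff _).2 (mem_zpowers w)) hr h1
  have h4 : π (s * (q⁻¹ * (s⁻¹ * r * s⁻¹⁻¹ * q * (s⁻¹ * r * s⁻¹⁻¹)⁻¹)) * s⁻¹) = 1 := by
    rw [show s * (q⁻¹ * (s⁻¹ * r * s⁻¹⁻¹ * q * (s⁻¹ * r * s⁻¹⁻¹)⁻¹)) * s⁻¹ =
      (s * q * s⁻¹)⁻¹ * (r * (s * q * s⁻¹)) * r⁻¹ by group, map_mul, map_mul, map_mul π r, h3.eq,
      map_inv, map_inv, inv_mul_cancel_left, mul_inv_cancel]
  have h5 := this.mem_comm ((QuotientGroup.eq_one_iff _).1 h4)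
  rwa [inv_mul_cancel_left] at h5

theorem main (h2 : Gen2.{u}) (hT : TwoGen D) (h : Core Q K a b w z)
    (hK : ∀ k ∈ K, ∀ k' ∈ K, k * k' = k' * k) (hN : (normalizer (Q : Set D)).index = 2)
    (hw : w ∈ center D) (hsq : w = 1 ∨ ∀ k ∈ K, k * k ∈ zpowers w) : Good D := by
  have hn := normal_of_index_eq_two hN
  have F1 := fun s hs q hq => mem_of_conj (s := s) (q := q) h hK hN hw hs hq
  set N := normalizer (Q : Set D) with hNd
  have F2 : ∀ s ∉ N, ∀ k ∈ K, s * (a * k) * s⁻¹ ∉ Q := fun s hs k hk h1 => by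
    rcases F1 s hs _ (Q.mul_mem h.aQ (h.KQ hk)) h1 with h3 | h3
    · exact h.na ((K.mul_mem_cancel_right hk).1 h3)
    · rw [show (a * b)⁻¹ * (a * k) = b⁻¹ * k by group] at h3
      exact h.nb (inv_mem_iff.1 ((K.mul_mem_cancel_right hk).1 h3))
  have Fa : ∀ s ∉ N, s * a * s⁻¹ ∉ Q := fun s hs => by simpa using F2 s hs 1 K.one_mem
  have Fb : ∀ s ∉ N, s * b * s⁻¹ ∉ Q := fun s hs h1 => by
    rcases F1 s hs _ h.bQ h1 with h3 | h3
    · exact h.nb h3
    · exact h.n_bi (by simpa using K.inv_mem h3)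
  have hcore : ∀ q ∈ Q, (∀ s ∉ N, s * q * s⁻¹ ∈ Q) → q ∈ Q.normalCore := fun q hq h1 g => by
    by_cases hg : g ∈ N
    · exact (mem_normalizer_iff.1 hg q).1 hq
    · exact h1 g hg
  have hKc : K ≤ Q.normalCore := fun k hk => hcore k (h.KQ hk) fun s hs => by
    have := two' h hN (Q.inv_mem h.aQ) (Q.mul_mem h.aQ (h.KQ hk))
      (fun h1 => Fa s hs (by simpa [mul_assoc] using Q.inv_mem h1)) (F2 s hs k hk)
    rwa [inv_mul_cancel_left] at this
  have hic : a * b ∈ Q.normalCore :=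
    hcore _ h.iQ fun s hs => two' h hN h.aQ h.bQ (Fa s hs) (Fb s hs)
  have aN : a ∈ N := le_normalizer h.aQ
  obtain ⟨s, hs, hc⟩ : ∃ s ∉ N, s * s ∈ Q := by
    obtain ⟨s, hs⟩ : ∃ s, s ∉ N := by
      by_contra h1
      push Not at h1
      rw [(eq_top_iff.2 fun g _ => h1 g : N = ⊤), index_top] at hN
      omega
    by_cases h1 : s * s ∈ Q
    · exact ⟨s, hs, h1⟩
    refine ⟨s * a, fun h3 => hs ((N.mul_mem_cancel_right aN).1 h3), ?_⟩
    rw [show s * a * (s * a) = s * a * s⁻¹ * (s * s) * a by group]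
    exact Q.mul_mem (h.two (mul_self_mem_of_index_two hN s) h1 (hn.conj_mem a aN s) (Fa s hs)) h.aQ
  have hP := F1 s hs _ hc (by rwa [← mul_assoc, mul_inv_cancel_right])
  have hcc : s * s ∈ Q.normalCore := by
    rcases hP with h1 | h1
    · exact hKc h1
    · exact (Q.normalCore.mul_mem_cancel_left (inv_mem hic)).1 (hKc h1)
  have tN := hn.conj_mem a aN s
  have hL : Q.normalCore ⊔ zpowers s ≠ ⊤ := fun h1 => by
    rcases (mem_sup_zpowers_iff (by rw [normalizer_eq_top]; trivial) hcc a).1 (h1 ▸ mem_top a) with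
      h3 | h3
    · exact Fa s hs (h3 s)
    · exact hs (inv_mem_iff.1 ((N.mul_mem_cancel_left aN).1 (le_normalizer (normalCore_le Q h3))))
  obtain ⟨M, -, hM, hM2⟩ := exists_normal_index_eq_ge hT.pg hL
  have sM : s ∈ M := hM (mem_sup_right (mem_zpowers s))
  have aM : a ∉ M := fun aM => by
    have KM : K ≤ M := fun k hk => hM (mem_sup_left (hKc hk))
    have iM : a * b ∈ M := hM (mem_sup_left hic)
    have QM : Q ≤ M := fun q hq => by
      obtain ⟨k, hk, rfl | rfl | rfl | rfl⟩ := h.exists_eq hq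
      exacts [KM hk, M.mul_mem aM (KM hk),
        M.mul_mem ((M.mul_mem_cancel_left aM).1 iM) (KM hk), M.mul_mem iM (KM hk)]
    have NM : N ≤ M := fun n hn' => by
      by_cases h1 : n ∈ Q
      · exact QM h1
      · exact (M.mul_mem_cancel_right (M.mul_mem (M.mul_mem sM aM) (M.inv_mem sM))).1
          (QM (h.two tN (Fa s hs) hn' h1))
    have : M = ⊤ := eq_top_iff.2 fun g _ => by
      by_cases h1 : g ∈ N
      · exact NM h1
      · exact (M.mul_mem_cancel_right sM).1
          (NM ((mul_mem_iff_of_index_two hN).2 (iff_of_false h1 hs)))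
    rw [this, index_top] at hM2
    omega
  have hg := h2 D hT N M a s hN hM2 aN aM sM hs
  rcases hsq with rfl | hsq
  · have hca : s * s * a = a * (s * s) :=
      comm_mod h hK (MonoidHom.id D) rfl hc h.aQ
    have hz : s * s ∈ center D := mem_center_iff.2 fun g => by
      have h1 : closure {s, a} ≤ centralizer {s * s} := by
        rw [closure_le]
        rintro _ (rfl | rfl)
        · exact mem_centralizer_singleton_iff.2 (mul_assoc _ _ _).symm
        · exact mem_centralizer_singleton_iff.2 hca.symm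
      exact mem_centralizer_singleton_iff.1 (h1 (hg ▸ mem_top g))
    have := TopL.normal_zp hz
    refine ⟨s * s, this, hz, Or.inr (Or.inl (comm_idx ?_ ?_
      (TopL.gen_map hg (QuotientGroup.mk' _) (QuotientGroup.mk'_surjective _))))⟩
    · rw [← map_mul, QuotientGroup.mk'_apply, (QuotientGroup.eq_one_iff _).2 (mem_zpowers _)]
      exact one_mem _
    · rw [← map_mul, h.a2, map_one]; exact one_mem _
  · have := TopL.normal_zp hw
    let π := QuotientGroup.mk' (zpowers w)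
    have hπ : ∀ g, π g = 1 ↔ g ∈ zpowers w := fun g => QuotientGroup.eq_one_iff g
    have w1 : π w = 1 := (hπ w).2 (mem_zpowers w)
    have e1 : π a * π a = 1 := by rw [← map_mul, h.a2, w1]
    have e2 : π s * π s * (π s * π s) = 1 := by
      rw [← map_mul, ← map_mul, hπ]
      rcases hP with h1 | h1
      · exact hsq _ h1
      · have h3 := mul_mem (mem_zpowers w) (hsq _ h1)
        have key : ∀ k ∈ K, a * b * k * (a * b * k) = w * (k * k) := fun k hk => by
          rw [mul_assoc (a * b) k, ← mul_assoc k, h.ci hk, ← h.i2]; simp only [mul_assoc]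
        rwa [← key _ h1, mul_inv_cancel_left] at h3
    have e3 : π s * π s * π a = π a * (π s * π s) := by
      rw [← map_mul]; exact comm_mod h hK π w1 hc h.aQ
    have e4 : (π s * π a) ^ 4 = π (a * b) := by
      rw [pow_four e1 e2 e3]
      simp only [← map_mul, ← map_inv]
      rcases h.comm_na tN (Fa s hs) with h1 | h1 <;> rw [h1]
      rw [map_mul π _ w, w1, mul_one]
    refine ⟨w, this, hw, tm_of e1 e2 e3 ?_ ?_
      (TopL.gen_map hg π (QuotientGroup.mk'_surjective _))⟩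
    · rw [e4, Ne, hπ]
      exact fun h1 => h.nab (zpowers_le.2 h.wK h1)
    · rw [show 8 = 4 + 4 from rfl, pow_add, e4, ← map_mul, h.i2, w1]

end Db2

theorem db2 (h1 : G1.{u}) (h2 : Gen2.{u}) : DB2.{u} := by
  intro D _ _ hT Q K a b w z h hQ hQ2 hz hz1
  have hZ : zpowers z ≤ center D := zpowers_le.2 hz
  by_cases hKz : K ≤ zpowers z
  · exact h1 D hT.pg Q K a b w z z h (hKz.trans hZ) h.zK fun k hk => Or.inl (hKz hk)
  obtain ⟨t, -, tN, tQ⟩ := exists_norm_notMem hT.pg (lt_top_iff_ne_top.2 hQ)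
  set N := normalizer (Q : Set D) with hNd
  have e1 : Q.relIndex N = 2 := relIndex_eq_two_of_mem_iff tQ fun g => ⟨fun hg => by
    by_cases h3 : g ∈ Q
    · exact Or.inl h3
    · exact Or.inr (h.two (N.inv_mem tN) (fun h4 => tQ (inv_mem_iff.1 h4)) hg h3), by
    rintro (h3 | h3)
    · exact le_normalizer h3
    · exact (N.mul_mem_cancel_right (N.inv_mem tN)).1 (le_normalizer h3)⟩
  have e2 := relIndex_mul_index (le_normalizer (H := Q))
  rw [← hNd, e1] at e2
  have e3 := card_mul_index Q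
  have e4 := card_mul_index ((zpowers z).subgroupOf K)
  rw [Nat.card_congr (subgroupOfEquivOfLe (zpowers_le.2 h.zK)).toEquiv, Nat.card_zpowers] at e4
  have n1 : 2 ≤ N.index := (Nat.two_le_iff _).2 ⟨index_ne_zero_of_finite, fun h3 => hQ2 (by omega)⟩
  have n2 : 2 ≤ orderOf z := (Nat.two_le_iff _).2 ⟨(orderOf_pos z).ne', by simpa using hz1⟩
  have n3 : 2 ≤ ((zpowers z).subgroupOf K).index :=
    (Nat.two_le_iff _).2 ⟨index_ne_zero_of_finite, fun h3 => hKz (relIndex_eq_one.1 h3)⟩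
  have n4 := hT.card
  rw [← e3, h.card, ← e4, ← e2] at n4
  have n5 : 4 ≤ orderOf z * ((zpowers z).subgroupOf K).index := Nat.mul_le_mul n2 n3
  have hN : N.index = 2 := by nlinarith
  rw [hN] at n4
  have o2 : orderOf z = 2 := by nlinarith
  have r2 : ((zpowers z).subgroupOf K).index = 2 := by rw [o2] at n4; omega
  have z2 : z * z = 1 := by rw [← pow_two, ← o2, pow_orderOf_eq_one]
  have hr : ∀ k ∈ K, ∀ k' ∈ K, (k ∈ zpowers z ↔ k' ∈ zpowers z) → k * k' ∈ zpowers z :=
    fun k hk k' hk' h3 => (mul_mem_iff_of_index_two r2 (a := ⟨k, hk⟩) (b := ⟨k', hk'⟩)).2 h3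
  have hK : ∀ k ∈ K, ∀ k' ∈ K, k * k' = k' * k := fun k hk k' hk' => by
    by_cases h3 : k ∈ zpowers z
    · exact (mem_center_iff.1 (hZ h3) k').symm
    by_cases h4 : k' ∈ zpowers z
    · exact mem_center_iff.1 (hZ h4) k
    have h5 := mem_center_iff.1 (hZ (hr k hk k' hk' (iff_of_false h3 h4))) k
    rwa [mul_assoc, mul_right_inj] at h5
  by_cases hw : w ∈ zpowers z
  · refine Db2.main h2 hT h hK hN (hZ hw) ?_
    rcases (mem_zpowers_two z2).1 hw with h3 | h3
    · exact Or.inl h3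
    · exact Or.inr fun k hk => h3 ▸ hr k hk k hk Iff.rfl
  have hk : ∀ k ∈ K, k ∈ zpowers z ∨ k * w ∈ zpowers z := fun k hk => by
    by_cases h3 : k ∈ zpowers z
    · exact Or.inl h3
    · exact Or.inr (hr k hk w h.wK (iff_of_false h3 hw))
  have zz : ∀ y ∈ zpowers z, y * y = 1 := fun y hy => by
    rcases (mem_zpowers_two z2).1 hy with rfl | rfl
    exacts [mul_one _, z2]
  have kk : ∀ k ∈ K, k * k = 1 := fun k hk' => by
    rcases hk k hk' with h3 | h3
    · exact zz k h3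
    · rw [← zz _ h3, mul_assoc, ← mul_assoc w, h.wk hk', mul_assoc, h.w2, mul_one]
  have sq : ∀ q ∈ Q, q * q = 1 ∨ q * q = w := fun q hq => by
    have key : ∀ r, ∀ k ∈ K, k * r = r * k → r * r = w → r * k * (r * k) = w := fun r k hk' h3 h4 => by
      rw [mul_assoc, ← mul_assoc k, h3, mul_assoc, kk k hk', mul_one, h4]
    obtain ⟨k, hk', rfl | rfl | rfl | rfl⟩ := h.exists_eq hq
    exacts [Or.inl (kk _ hk'), Or.inr (key a k hk' (h.ca k hk') h.a2),
      Or.inr (key b k hk' (h.cb k hk') h.b2), Or.inr (key _ k hk' (h.ci hk') h.i2)]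
  have hwc : w ∈ center D := mem_center_iff.2 fun g => by
    have key : ∀ r, r * r = w → g * r * g⁻¹ ∈ Q → g * w = w * g := fun r h3 h4 => by
      have h5 := sq _ h4
      rw [show g * r * g⁻¹ * (g * r * g⁻¹) = g * (r * r) * g⁻¹ by group, h3] at h5
      rcases h5 with h5 | h5
      · exact absurd (by rw [conj_eq_one_iff.1 h5]; exact one_mem _) hw
      · exact mul_inv_eq_iff_eq_mul.1 h5
    by_cases h3 : g * a * g⁻¹ ∈ Q
    · exact key a h.a2 h3
    by_cases h4 : g * b * g⁻¹ ∈ Q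
    · exact key b h.b2 h4
    exact key _ h.i2 (Db2.two' h hN h.aQ h.bQ h3 h4)
  refine h1 D hT.pg Q K a b w z z h (fun k hk' => ?_) h.zK hk
  rcases hk k hk' with h3 | h3
  · exact hZ h3
  · exact ((center D).mul_mem_cancel_right hwc).1 (hZ h3)

end CL.KB
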