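/-
Essential subgroups of rank at most three modulo an element fixed by the automizer.
-/
import Cfsg.Agent.Blk.KBBas

set_option autoImplicit false

namespace CL.KB

open Cfsg Cfsg.FusionSystem Subgroup CL.Fus CL.Fus.Bi
open scoped commutatorElement

universe u

theorem exists_quot_act {E : Type*} [Group E] (A : Subgroup (MulAut E)) (N : Subgroup E) [N.Normal]
    [Finite E] (h : ∀ γ ∈ A, ∀ x ∈ N, γ x ∈ N) :
    ∃ ρ : A →* MulAut (E ⧸ N), ∀ (γ : A) (x : E), ρ γ (x : E ⧸ N) = ((γ : MulAut E) x : E) := by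
  have h1 : ∀ γ : A, N.map ((γ : MulAut E) : E →* E) = N := fun γ => by
    refine eq_of_le_of_card_ge ?_ (card_map_of_injective (γ : MulAut E).injective).ge
    rintro _ ⟨x, hx, rfl⟩
    exact h γ γ.2 x hx
  refine ⟨MonoidHom.mk' (fun γ => QuotientGroup.congr N N (γ : MulAut E) (h1 γ)) fun a b => ?_,
    fun γ x => rfl⟩
  ext ⟨x⟩
  rfl

theorem ess_core {Ω : Type*} [Group Ω] {S E : Subgroup Ω} {F : FusionSystem S} [Finite S]
    (hS : IsPGroup 2 S) (hF : F.IsSaturated 2) (hE : F.IsEssential 2 E) {V : Type*} [Group V]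
    [Finite V] (hc : ∀ x y : V, Commute x y) (hel : ∀ x : V, x ^ 2 = 1) (h8 : Nat.card V ≤ 8)
    (ρ : F.autGroup E →* MulAut V) (hker : IsPGroup 2 ρ.ker)
    (hI : ∀ ι : F.autGroup E, (ι : MulAut E) ∈ Inn E → ρ ι = 1) :
    ∃ (s : Ω) (hs : s ∈ normalizer (E : Set Ω)), s ∈ S ∧ s ∉ E ∧ s * s ∈ E ∧
      (∀ g ∈ S, g ∈ normalizer (E : Set Ω) → g ∈ E ∨ g * s ∈ E) ∧ ∃ α ∈ F.autGroup E, α ≠ 1 ∧
        α ^ 3 = 1 ∧ conjAut E hs * α * (conjAut E hs)⁻¹ * α ∈ Inn E := by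
  have hES := IsEssential.le hE
  have := finite_of_le hES
  have hN := hS.to_le (normalizerIn_le S E)
  have hlt := lt_normalizerIn hS (IsEssential.lt_top hS hF hE)
  haveI : (E.subgroupOf (normalizerIn S E)).Normal :=
    (normal_subgroupOf_iff_le_normalizer hlt.le).2 (normalizerIn_le_normalizer S E)
  obtain ⟨⟨s, hsS, hs⟩, -, hsE, hs2, hsc⟩ := CL.Grp.exists_central_mod_of_not_le hN
    (N := E.subgroupOf (normalizerIn S E)) (M := ⊤) fun h => hlt.not_ge fun x hx =>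
      h (mem_top (⟨x, hx⟩ : normalizerIn S E))
  replace hsE : s ∉ E := hsE
  replace hs2 : s ^ 2 ∈ E := hs2
  replace hsc : ∀ g ∈ S, g ∈ normalizer (E : Set Ω) → ⁅s, g⁆ ∈ E := fun g h1 h2 => hsc ⟨g, h1, h2⟩
  have hV : IsPGroup 2 V := fun v => ⟨1, by rw [pow_one, hel]⟩
  have hinv : ∀ y : V, y * y = 1 := fun y => by rw [← pow_two, hel]
  have hcI : ∀ a (ha : a ∈ normalizer (E : Set Ω)), a ∈ E → conjAut E ha ∈ Inn E := fun a ha h =>
    mem_Inn_iff.2 ⟨a, h, fun x hx => autFun_conjAut ha hx⟩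
  obtain ⟨cA, hcA⟩ : ∃ cA : ∀ g, g ∈ S → g ∈ normalizer (E : Set Ω) → F.autGroup E,
      ∀ g h1 h2, (cA g h1 h2 : MulAut E) = conjAut E h2 :=
    ⟨fun g h1 h2 => ⟨_, conjAut_mem_autGroup F hES h2 h1⟩, fun _ _ _ => rfl⟩
  set t := cA s hsS hs with ht
  have ht0 : (t : MulAut E) = conjAut E hs := hcA _ _ _
  have ht2 : ((t * t : F.autGroup E) : MulAut E) ∈ Inn E := by
    rw [coe_mul, ht0, ← conjAut_mul]
    exact hcI _ _ (by rwa [← pow_two])
  have hρ1 : ρ t ≠ 1 := fun h => hsE (mem_of_conjAut_mem_pCore hE.1 (IsEssential.isRadical hS hE)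
    hsS hs (by
      rw [show (⟨conjAut E hs, conjAut_mem_autGroup F hE.1.1 hs hsS⟩ : F.autGroup E) = t from
        Subtype.ext ht0.symm]
      exact le_pCore_of_normal inferInstance hker h))
  obtain ⟨z, hz⟩ := exists_isTv hc hel h8 hρ1 (by rw [← map_mul, hI _ ht2])
  have hte := IsEssential.conjAut_mem_extAut hS hF hE hsS hs
  have ht1 := IsEssential.conjAut_notMem_Inn hE hsS hs hsE
  have hpe : ∀ g ∈ S, ∀ hg : g ∈ normalizer (E : Set Ω), ∃ k, conjAut E hg ^ 2 ^ k = 1 :=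
    fun g h1 hg => by
    obtain ⟨k, hk⟩ := isPGroup_autInducedBy hS E ⟨_, conjAut_mem_autInducedBy hg h1⟩
    exact ⟨k, congrArg Subtype.val hk⟩
  have key : ∀ β : F.autGroup E, ρ t (ρ β z) = ρ β z → (β : MulAut E) ∈ extAut F E := fun β h => by
    refine IsEssential.mem_extAut_of_closure hS hF hE hte ht1 hte ht1 (hpe s hsS hs) β.2 ?_
    have h1 := IsTv.isPGroup_closure hV hc hz (hz.conj (ρ β)) h
    refine ((h1.comap_of_ker_isPGroup ρ hker).map (F.autGroup E).subtype).to_le ((closure_le _).2 ?_)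
    rintro _ (rfl | rfl)
    · exact ⟨t, subset_closure (Or.inl rfl), ht0⟩
    · exact ⟨β * t * β⁻¹, subset_closure (Or.inr (by simp)), by simp [ht0]⟩
  obtain ⟨γ0, hγ, hγ1⟩ := IsEssential.exists_notMem_extAut hS hF hE
  obtain ⟨γ, rfl⟩ : ∃ γ : F.autGroup E, (γ : MulAut E) = γ0 := ⟨⟨γ0, hγ⟩, rfl⟩
  have hz' := hz.conj (ρ γ)
  set z' := ρ γ z with hz'd
  set t' := ρ γ * ρ t * (ρ γ)⁻¹ with ht'
  have key2 : ∀ v, t' v = v → ρ t ((ρ γ)⁻¹ v) = (ρ γ)⁻¹ v := fun v h => by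
    conv_rhs => rw [← h, ht']
    simp
  have e : ρ t z' ≠ z' := fun h => hγ1 (key γ h)
  have e' : t' z ≠ z := fun h => hγ1 ((Subgroup.inv_mem_iff _).1 (key γ⁻¹
    (by rw [map_inv]; exact key2 z h)))
  have f1 : ρ t z' = z' * z := by
    rcases eq_or_of_mem_zpowers hz.pow (hz.comm z') with h | h
    · exact absurd (inv_mul_eq_one.1 h).symm e
    · rw [← h, mul_inv_cancel_left]
  have f2 : t' z = z * z' := by
    rcases eq_or_of_mem_zpowers hz'.pow (hz'.comm z) with h | h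
    · exact absurd (inv_mul_eq_one.1 h).symm e'
    · rw [← h, mul_inv_cancel_left]
  have K : ∀ g (hgS : g ∈ S) (hg : g ∈ normalizer (E : Set Ω)),
      t' (ρ (cA g hgS hg) z') = ρ (cA g hgS hg) z' → g ∈ E := fun g hgS hg h => by
    by_contra hgE
    refine hγ1 ((Subgroup.inv_mem_iff _).1 (IsEssential.mem_extAut_of_conj hS hF hE
      (IsEssential.conjAut_mem_extAut hS hF hE hgS hg) (IsEssential.conjAut_notMem_Inn hE hgS hg hgE)
      (hpe g hgS hg) (Subgroup.inv_mem _ hγ) ?_))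
    have h1 := key (γ⁻¹ * cA g hgS hg * γ⁻¹⁻¹) (by simpa using key2 _ h)
    simpa [hcA] using h1
  have par : ∀ (v : V) (i : ℤ), v ^ i = 1 ∨ v ^ i = v := fun v i =>
    eq_or_of_mem_zpowers (hel v) ⟨i, rfl⟩
  refine ⟨s, hs, hsS, hsE, by rwa [← pow_two], fun g hgS hg => ?_, ?_⟩
  · set τ := ρ (cA g hgS hg) with hτ
    have hcm : ρ t * τ = τ * ρ t := by
      rw [← commutatorElement_eq_one_iff_mul_comm, hτ, ← map_commutatorElement]
      refine hI _ ?_
      rw [commutatorElement_def, coe_mul, coe_mul, coe_mul, coe_inv, coe_inv, ht0, hcA,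
        ← conjAut_inv, ← conjAut_inv, ← conjAut_mul, ← conjAut_mul, ← conjAut_mul]
      exact hcI _ _ (hsc g hgS hg)
    have hτz : τ z = z := by
      have h1 := hz.conj τ
      rw [← hcm, mul_inv_cancel_right] at h1
      exact (eq_or_of_mem_zpowers hz.pow (h1.mem_zpowers_of_isTv hz hρ1)).resolve_left h1.ne_one
    obtain ⟨a, b, c, h1, h2, h3⟩ := hz.exists_decomp hc hz' e e' (τ z')
    have hb : z' ^ b = z' := (par z' b).resolve_left fun h => e (τ.injective (by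
      rw [← MulAut.mul_apply, ← hcm, MulAut.mul_apply, h3, h, mul_one, map_mul, map_zpow, hz.fix, h1]))
    rcases par z a with h | h
    · exact Or.inl (K g hgS hg (by rw [← hτ, h3, h, hb, one_mul, map_mul, hz'.fix, h2]))
    · refine Or.inr (K _ (S.mul_mem hgS hsS) (mul_mem hg hs) ?_)
      have h4 : ρ (cA _ (S.mul_mem hgS hsS) (mul_mem hg hs)) z' = z' * c := by
        rw [show cA _ (S.mul_mem hgS hsS) (mul_mem hg hs) = cA g hgS hg * t from Subtype.ext (by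
          rw [hcA, coe_mul, hcA, ht0, conjAut_mul hg hs]), map_mul, MulAut.mul_apply, ← hτ, f1,
          map_mul τ, hτz, h3, h, hb, (hc _ z).eq, ← mul_assoc, ← mul_assoc, hinv, one_mul]
      rw [h4, map_mul, hz'.fix, h2]
  · set α₀ := t * (γ * t * γ⁻¹) with hα₀
    have hρα : ρ α₀ = ρ t * t' := by simp only [hα₀, ht', map_mul, map_inv]
    have g1 : ρ α₀ z = z' := by
      rw [hρα, MulAut.mul_apply, f2, map_mul, hz.fix, f1, (hc z' z).eq, ← mul_assoc, hinv, one_mul]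
    have g2 : ρ α₀ z' = z' * z := by rw [hρα, MulAut.mul_apply, hz'.fix, f1]
    have g3 : ρ α₀ ^ 3 = 1 := by
      have g4 : ρ α₀ (z' * z) = z := by
        rw [map_mul, g1, g2, (hc _ z').eq, ← mul_assoc, hinv, one_mul]
      ext v
      obtain ⟨a, b, c, h1, h2, rfl⟩ := hz.exists_decomp hc hz' e e' v
      have g5 : ρ α₀ c = c := by rw [hρα, MulAut.mul_apply, h2, h1]
      simp only [pow_succ, pow_zero, one_mul, MulAut.mul_apply, map_mul (ρ α₀) _ c,
        map_mul (ρ α₀) (_ ^ a), map_zpow, g1, g2, g4, g5, MulAut.one_apply]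
    obtain ⟨k, hk⟩ := hker ⟨α₀ ^ 3, by rw [MonoidHom.mem_ker, map_pow]; exact g3⟩
    replace hk : (α₀ ^ 3) ^ 2 ^ k = 1 := congrArg Subtype.val hk
    have hρ4 : ρ (α₀ ^ 4 ^ k) = ρ α₀ := by
      obtain ⟨m, hm⟩ : ∃ m, 4 ^ k = 3 * m + 1 := ⟨4 ^ k / 3, by
        have : 4 ^ k % 3 = 1 := by rw [Nat.pow_mod]; simp
        omega⟩
      rw [map_pow, hm, pow_succ, pow_mul, g3, one_pow, one_mul]
    refine ⟨(α₀ ^ 4 ^ k : F.autGroup E), Subtype.property _, fun h => e ?_, ?_, ?_⟩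
    · rw [show α₀ ^ 4 ^ k = 1 from Subtype.ext h, map_one] at hρ4
      rw [← hρ4, MulAut.one_apply] at g1
      rw [← g1, hz.fix]
    · rw [← SubgroupClass.coe_pow, ← pow_mul, mul_comm, pow_mul,
        show 4 ^ k = 2 ^ k * 2 ^ k from mul_pow 2 2 k, pow_mul, hk, one_pow, coe_one]
    · have h1 : (t : MulAut E) * α₀ * (t : MulAut E)⁻¹ * α₀ ∈ Inn E := by
        have := mul_mem ht2 ((innNormal E).conj_mem _ ht2 γ)
        convert this using 1
        simp only [hα₀, coe_mul, coe_inv, mul_assoc, inv_mul_cancel_left]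
      rw [← ht0, SubgroupClass.coe_pow, ← QuotientGroup.eq_one_iff, QuotientGroup.mk_mul, ← conj_pow,
        QuotientGroup.mk_pow, QuotientGroup.mk_pow]
      rw [← QuotientGroup.eq_one_iff, QuotientGroup.mk_mul] at h1
      rw [eq_inv_of_mul_eq_one_left h1, inv_pow, inv_mul_cancel]

theorem essData : EssData.{u} := by
  intro Ω _ S E _ F z hS hF hE hz h8
  have hES := IsEssential.le hE
  have := finite_of_le hES
  have hEp := hS.to_le hES
  have hcI : ∀ a (ha : a ∈ normalizer (E : Set Ω)), a ∈ E → conjAut E ha ∈ Inn E := fun a ha h =>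
    mem_Inn_iff.2 ⟨a, h, fun x hx => autFun_conjAut ha hx⟩
  have hzc : ∀ a : E, a * z * a⁻¹ = z := fun a => Subtype.ext
    ((autFun_conjAut (le_normalizer a.2) z.2).symm.trans ((autFun_apply _ z.2).trans
      (congrArg Subtype.val (hz _ (conjAut_mem_autGroup F hES (le_normalizer a.2) (hES a.2))))))
  have hzn : (zpowers z).Normal := ⟨fun t ht a => by
    obtain ⟨i, rfl⟩ := mem_zpowers_iff.1 ht
    rw [← conj_zpow, hzc]; exact ht⟩
  set N := frattini E ⊔ zpowers z with hN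
  have hmem : ∀ x ∈ N, ∃ y ∈ frattini E, ∃ i : ℤ, x = y * z ^ i := fun x hx => by
    rw [hN, ← SetLike.mem_coe, normal_mul] at hx
    obtain ⟨y, hy, _, ⟨i, rfl⟩, rfl⟩ := hx
    exact ⟨y, hy, i, rfl⟩
  have hfr : ∀ (γ : MulAut E), ∀ y ∈ frattini E, γ y ∈ frattini E := fun γ y hy =>
    (characteristic_iff_map_le.1 inferInstance γ) ⟨y, hy, rfl⟩
  have hinv : ∀ γ ∈ F.autGroup E, ∀ x ∈ N, γ x ∈ N := fun γ hγ x hx => by
    obtain ⟨y, hy, i, rfl⟩ := hmem x hx
    rw [map_mul, map_zpow, hz γ hγ]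
    exact mul_mem (mem_sup_left (hfr γ y hy)) (mem_sup_right ⟨i, rfl⟩)
  obtain ⟨ρ, hρ⟩ := exists_quot_act (F.autGroup E) N hinv
  haveI := CL.Grp.isMulCommutative_quotient_frattini hEp
  have hc : ∀ x y : E ⧸ N, Commute x y := by
    rintro ⟨x⟩ ⟨y⟩
    refine QuotientGroup.eq.2 (mem_sup_left (QuotientGroup.eq.1 ?_))
    rw [QuotientGroup.mk_mul, QuotientGroup.mk_mul, mul_comm']
  have hel : ∀ x : E ⧸ N, x ^ 2 = 1 := by
    rintro ⟨x⟩
    exact (QuotientGroup.eq_one_iff (x ^ 2)).2 (mem_sup_left ((QuotientGroup.eq_one_iff _).1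
      (CL.Grp.quotient_frattini_pow_eq_one hEp (x : E ⧸ frattini E))))
  have := finite_autGroup F E
  have hker : IsPGroup 2 ρ.ker := isPGroup_of_coprime_eq_one fun α hα hc => Subtype.ext
    (mulAut_eq_one_of_comm_comm_frattini hEp (by rwa [orderOf_coe]) (C := N) (hinv _ α.2)
      (fun x => QuotientGroup.eq.1 (by rw [← hρ, MonoidHom.mem_ker.1 hα, MulAut.one_apply]))
      fun x hx => by
        obtain ⟨y, hy, i, rfl⟩ := hmem x hx
        have h1 := (inferInstance : (frattini E).Normal).conj_mem _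
          (mul_mem (inv_mem hy) (hfr α y hy)) (z ^ i)⁻¹
        rw [map_mul, map_zpow, hz _ α.2]
        convert h1 using 1
        group)
  obtain ⟨s, hs, hsS, hsE, hs2, h1, α, hα, h2, h3, h4⟩ := ess_core hS hF hE hc hel
    (by rwa [← index_eq_card]) ρ hker fun ι hι => by
      obtain ⟨a, ha, e⟩ := mem_Inn_iff.1 hι
      ext ⟨x⟩
      have e1 : (ι : MulAut E) x = ⟨a, ha⟩ * x * ⟨a, ha⟩⁻¹ :=
        Subtype.ext ((autFun_apply _ x.2).symm.trans (e x x.2))
      change ρ ι (x : E ⧸ N) = (x : E ⧸ N)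
      rw [hρ, e1, QuotientGroup.mk_mul, QuotientGroup.mk_mul, QuotientGroup.mk_inv,
        (hc _ (x : E ⧸ N)).eq, mul_inv_cancel_right]
  refine ⟨fun a haS ha b hbS hb haE hbE => ?_, α, hα, h2, h3, fun a haS ha haE => ?_⟩
  · have h5 := E.mul_mem (E.mul_mem ((h1 a haS ha).resolve_left haE) (E.inv_mem hs2))
      (conj_mem_of_mem_normalizer hs ((h1 b hbS hb).resolve_left hbE))
    rwa [show a * s * (s * s)⁻¹ * (s * (b * s) * s⁻¹) = a * b by group] at h5
  · have h5 : (conjAut E ha : MulAut E ⧸ Inn E) = conjAut E hs := by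
      rw [QuotientGroup.eq, ← conjAut_inv, ← conjAut_mul]
      refine hcI _ _ ?_
      have h6 := conj_mem_of_mem_normalizer (inv_mem ha)
        (E.mul_mem hs2 (E.inv_mem ((h1 a haS ha).resolve_left haE)))
      rwa [show a⁻¹ * (s * s * (a * s)⁻¹) * a⁻¹⁻¹ = a⁻¹ * s by group] at h6
    rw [← QuotientGroup.eq_one_iff] at h4 ⊢
    simp only [QuotientGroup.mk_mul, QuotientGroup.mk_inv] at h4 ⊢
    rwa [h5]

theorem essRed : EssRed.{u} := by
  intro Ω _ S _ F z hS hF hne hzc hfix hrk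
  obtain ⟨E, hE, hp⟩ : ∃ E, (E = S ∨ F.IsEssential 2 E) ∧ ¬ IsPGroup 2 (F.autGroup E) := by
    by_contra! h
    exact hne (eq_inner_of_isPGroup hS hF h)
  have hfx : ∀ {A : Subgroup Ω} (hA : A ≤ S) (hz : (z : Ω) ∈ A), ∀ γ ∈ F.autGroup A,
      γ ⟨z, hz⟩ = ⟨z, hz⟩ := fun hA hz γ hγ =>
    Subtype.ext ((autFun_apply γ hz).symm.trans (hfix _ _ (mor_autFun hA hγ) hz))
  rcases hE with rfl | hE
  · have := finite_autGroup F E
    by_contra! h
    exact hp (isPGroup_of_coprime_eq_one fun α hα hc => by_contra fun h1 =>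
      h.1 α (Nat.coprime_two_right.1 hc) h1 (hfx le_rfl z.2 α hα))
  have hES := IsEssential.le hE
  have hzE : (z : Ω) ∈ E := hE.1.2 E (isConj_refl F hES) ⟨z.2, fun g hg =>
    congrArg Subtype.val (mem_center_iff.1 hzc ⟨g, hES hg⟩)⟩
  let ε := subgroupOfEquivOfLe hES
  have hne' : E.subgroupOf S ≠ ⊤ := fun h =>
    (IsEssential.lt_top hS hF hE).not_ge (subgroupOf_eq_top.1 h)
  have h8 : (frattini E ⊔ zpowers (⟨z, hzE⟩ : E)).index ≤ 8 := by
    refine le_trans (Nat.le_of_dvd (Nat.pos_of_ne_zero index_ne_zero_of_finite) ?_) (hrk _ hne' hzE)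
    refine (index_dvd_of_le (H := (frattini (E.subgroupOf S) ⊔
      zpowers (⟨z, hzE⟩ : E.subgroupOf S)).map ε.toMonoidHom) ?_).trans
      (index_map_dvd _ ε.surjective)
    rw [Subgroup.map_sup, MonoidHom.map_zpowers]
    exact sup_le_sup (map_le_iff_le_comap.2 (frattini_le_comap_frattini_of_surjective ε.surjective))
      le_rfl
  obtain ⟨h1, α, hα, h2, h3, h4⟩ := essData Ω S E F ⟨z, hzE⟩ hS hF hE (hfx hES hzE) h8
  have hn : ∀ s : S, s ∈ normalizer (E.subgroupOf S : Set S) → (s : Ω) ∈ normalizer (E : Set Ω) :=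
    fun s hs => by
    have := finite_of_le hES
    exact mem_normalizer_fintype fun g hg => (mem_normalizer_iff.1 hs ⟨g, hES hg⟩).1 hg
  refine Or.inr ⟨E.subgroupOf S, MulAut.congr ε.symm α, hne', fun h => h2 ?_, ?_, hzE, ?_,
    fun s hs t ht hsE htE => h1 s s.2 (hn s hs) t t.2 (hn t ht) hsE htE, fun s hs hsE => ?_⟩
  · exact (MulAut.congr ε.symm).injective (h.trans (map_one _).symm)
  · rw [← map_pow, h3, map_one]
  · exact ε.injective (hfx hES hzE α hα)
  · obtain ⟨c, hc, e⟩ := mem_Inn_iff.1 (h4 s s.2 (hn s hs) hsE)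
    refine ⟨⟨c, hES hc⟩, hc, fun q r hr => Subtype.ext ?_⟩
    have h5 := e _ (ε q).2
    have h6 : (conjAut E (hn s hs))⁻¹ (α (ε q)) = ε r := Subtype.ext (by
      rw [← autFun_apply _ (α (ε q)).2, autFun_conjAut_inv _ (α (ε q)).2]
      exact (congrArg Subtype.val hr).symm)
    rw [autFun_apply _ (ε q).2, MulAut.mul_apply, MulAut.mul_apply, MulAut.mul_apply,
      Subtype.coe_eta, h6] at h5
    exact h5

end CL.KB
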