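/-
Elementary computations in the groups `Fib`.
-/
import Cfsg.Agent.Blk.KBBas

set_option autoImplicit false
set_option linter.unusedSectionVars false

namespace CL.KB

open Subgroup CL.Inv

variable {G : Type*} [Group G] {P : Subgroup G} {m : ℕ} {x c j g g' y y' p v : G}

theorem zpow_two_cases (hc : c * c = 1) (i : ℤ) : c ^ i = 1 ∨ c ^ i = c :=
  (mem_zpowers_two hc).1 ⟨i, rfl⟩

theorem zpow_of_even (hc : c * c = 1) {i : ℤ} (hi : Even i) : c ^ i = 1 := by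
  obtain ⟨k, rfl⟩ := hi
  rw [zpow_add, ← (Commute.refl c).mul_zpow, hc, one_zpow]

theorem zpow_of_odd (hc : c * c = 1) {i : ℤ} (hi : Odd i) : c ^ i = c := by
  obtain ⟨k, rfl⟩ := hi
  rw [zpow_add_one, zpow_of_even hc (even_two_mul k), one_mul]

theorem inM_iff (hc : c * c = 1) : InM x c g ↔ ∃ i k : ℤ, g = x ^ i * c ^ k := by
  refine ⟨?_, ?_⟩
  · rintro ⟨i, rfl | rfl⟩
    exacts [⟨i, 0, by simp⟩, ⟨i, 1, by simp⟩]
  · rintro ⟨i, k, rfl⟩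
    rcases zpow_two_cases hc k with h | h <;> rw [h]
    exacts [⟨i, Or.inl (mul_one _)⟩, ⟨i, Or.inr rfl⟩]

/-- The subgroup `⟨x⟩ × ⟨c⟩`. -/
def Msub (x c : G) : Subgroup G := zpowers x ⊔ zpowers c

/-- The four-group `⟨u⟩ × ⟨c⟩`. -/
def Zsub (m : ℕ) (x c : G) : Subgroup G := Msub (uu m x) c

theorem mem_Msub (hc : c * c = 1) (hx : c * x = x * c) : g ∈ Msub x c ↔ InM x c g := by
  have hn : c ∈ normalizer (zpowers x : Set G) :=
    centralizer_le_normalizer _ (by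
      rintro _ ⟨i, rfl⟩
      exact ((Commute.symm hx).zpow_left i).eq)
  rw [Msub, mem_sup_zpowers_iff hn (hc ▸ one_mem _)]
  refine ⟨?_, ?_⟩
  · rintro (⟨i, rfl⟩ | ⟨i, hi⟩)
    exacts [⟨i, Or.inl rfl⟩, ⟨i, Or.inr (by rw [show x ^ i = g * c⁻¹ from hi, inv_mul_cancel_right])⟩]
  · rintro ⟨i, rfl | rfl⟩
    exacts [Or.inl ⟨i, rfl⟩, Or.inr ⟨i, by simp⟩]

theorem fib_of_gen (two : 2 ≤ m) (ord : orderOf x = 2 ^ m) (cc : c * c = 1) (cx : c ∉ zpowers x)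
    (comm_x : c * x = x * c) (comm_j : c * j = j * c) (jj : j * j = 1)
    (conj : j * x * j⁻¹ = x⁻¹ ∨ (j * x * j⁻¹ = x⁻¹ * c ∧ 3 ≤ m)) (hgen : closure {x, c, j} = P) :
    Fib P m x c j := by
  refine ⟨two, ord, cc, cx, comm_x, comm_j, jj, conj, fun g => ?_⟩
  have hx : x ∈ Msub x c := mem_sup_left (mem_zpowers x)
  have hc : c ∈ Msub x c := mem_sup_right (mem_zpowers c)
  have h1 : (Msub x c).map (MulAut.conj j).toMonoidHom ≤ Msub x c := by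
    rw [Msub, Subgroup.map_sup, MonoidHom.map_zpowers, MonoidHom.map_zpowers, sup_le_iff, zpowers_le,
      zpowers_le]
    refine ⟨?_, ?_⟩
    · change j * x * j⁻¹ ∈ Msub x c
      rcases conj with h | ⟨h, -⟩ <;> rw [h]
      exacts [inv_mem hx, mul_mem (inv_mem hx) hc]
    · change j * c * j⁻¹ ∈ Msub x c
      rwa [← comm_j, mul_inv_cancel_right]
  have hn : j ∈ normalizer (Msub x c : Set G) := mem_normalizer_iff.2 fun g =>
    ⟨fun hg => h1 ⟨g, hg, rfl⟩, fun hg => by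
      have h2 : j * (j * g * j⁻¹) * j⁻¹ ∈ Msub x c := h1 ⟨_, hg, rfl⟩
      rwa [show j * (j * g * j⁻¹) * j⁻¹ = j * j * g * (j * j)⁻¹ by group, jj, one_mul, inv_one,
        mul_one] at h2⟩
  have h2 : P = Msub x c ⊔ zpowers j := by
    rw [← hgen, Msub, zpowers_eq_closure, zpowers_eq_closure, zpowers_eq_closure, ← Subgroup.closure_union,
      ← Subgroup.closure_union]
    congr 1
    ext t
    simp only [Set.mem_insert_iff, Set.mem_singleton_iff, Set.mem_union, or_assoc]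
  rw [h2, mem_sup_zpowers_iff hn (jj ▸ one_mem _), mem_Msub cc comm_x, mem_Msub cc comm_x]
  refine ⟨?_, ?_⟩
  · rintro (⟨i, h | h⟩ | ⟨i, h | h⟩)
    · exact ⟨i, Or.inl h⟩
    · exact ⟨i, Or.inr (Or.inl h)⟩
    · exact ⟨i, Or.inr (Or.inr (Or.inl (by rw [← h, inv_mul_cancel_right])))⟩
    · exact ⟨i, Or.inr (Or.inr (Or.inr (by rw [← h, inv_mul_cancel_right])))⟩
  · rintro ⟨i, rfl | rfl | rfl | rfl⟩
    exacts [Or.inl ⟨i, Or.inl rfl⟩, Or.inl ⟨i, Or.inr rfl⟩,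
      Or.inr ⟨i, Or.inl (mul_inv_cancel_right _ _)⟩, Or.inr ⟨i, Or.inr (mul_inv_cancel_right _ _)⟩]

namespace Fib

variable (h : Fib P m x c j)
include h

theorem cxc : Commute c x := h.comm_x
theorem j_inv : j⁻¹ = j := inv_eq_of_mul_eq_one_left h.jj
theorem c_inv : c⁻¹ = c := inv_eq_of_mul_eq_one_left h.cc
theorem xP : x ∈ P := (h.mem x).2 ⟨1, Or.inl (zpow_one x).symm⟩
theorem cP : c ∈ P := (h.mem c).2 ⟨0, Or.inr (Or.inl (by simp))⟩
theorem jP : j ∈ P := (h.mem j).2 ⟨0, Or.inr (Or.inr (Or.inl (by simp)))⟩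
theorem uP : uu m x ∈ P := P.pow_mem h.xP _
theorem mem_M : g ∈ Msub x c ↔ InM x c g := mem_Msub h.cc h.comm_x
theorem M_le : Msub x c ≤ P := sup_le (zpowers_le.2 h.xP) (zpowers_le.2 h.cP)
theorem memP (hg : InM x c g) : g ∈ P := h.M_le (h.mem_M.2 hg)

theorem zpow_eq_one_iff {i : ℤ} : x ^ i = 1 ↔ (2 : ℤ) ^ m ∣ i := by
  rw [← orderOf_dvd_iff_zpow_eq_one, h.ord]; norm_cast

theorem two_pow_eq : (2 : ℤ) ^ m = 2 * 2 ^ (m - 1) := by
  rw [← pow_succ']; congr 1; have := h.two; omega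

theorem uu_eq : uu m x = x ^ ((2 : ℤ) ^ (m - 1)) := by rw [uu, ← zpow_natCast]; norm_cast

theorem uu_sq : uu m x * uu m x = 1 := by
  rw [h.uu_eq, ← zpow_add, h.zpow_eq_one_iff, h.two_pow_eq, two_mul]

theorem uu_ne_one : uu m x ≠ 1 := fun h1 => by
  rw [h.uu_eq, h.zpow_eq_one_iff, h.two_pow_eq] at h1
  have := Int.le_of_dvd (by positivity) h1
  have : (0 : ℤ) < 2 ^ (m - 1) := by positivity
  omega

theorem zpow_ne_c (i : ℤ) : x ^ i ≠ c := fun h1 => h.cx ⟨i, h1⟩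
theorem c_ne_one : c ≠ 1 := fun h1 => h.cx (h1 ▸ one_mem _)
theorem uu_ne_c : uu m x ≠ c := h.uu_eq ▸ h.zpow_ne_c _
theorem cu : c * uu m x = uu m x * c := (h.cxc.pow_right _).eq
theorem uc_ne_one : uu m x * c ≠ 1 := fun h1 =>
  h.uu_ne_c (mul_right_cancel (h1.trans h.cc.symm))
theorem uc_ne_u : uu m x * c ≠ uu m x := fun h1 => h.c_ne_one (by simpa using h1)
theorem uc_ne_c : uu m x * c ≠ c := fun h1 => h.uu_ne_one (by simpa using h1)
theorem uc_sq : uu m x * c * (uu m x * c) = 1 := by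
  rw [mul_assoc, ← mul_assoc c, h.cu, mul_assoc, h.cc, mul_one, h.uu_sq]

theorem zpow_mul_eq_one {i k : ℤ} : x ^ i * c ^ k = 1 ↔ (2 : ℤ) ^ m ∣ i ∧ Even k := by
  rcases Int.even_or_odd k with hk | hk
  · rw [zpow_of_even h.cc hk, mul_one, h.zpow_eq_one_iff, and_iff_left hk]
  · rw [zpow_of_odd h.cc hk]
    exact iff_of_false (fun h1 => h.zpow_ne_c i (mul_right_cancel (h1.trans h.cc.symm)))
      fun h1 => Int.not_even_iff_odd.2 hk h1.2

theorem mem_Z : g ∈ Zsub m x c ↔ InZ m x c g := by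
  rw [Zsub, mem_Msub h.cc h.cu]
  refine ⟨?_, ?_⟩
  · rintro ⟨i, rfl | rfl⟩ <;> rcases zpow_two_cases h.uu_sq i with h1 | h1 <;> rw [h1]
    exacts [Or.inl rfl, Or.inr (Or.inl rfl), Or.inr (Or.inr (Or.inl (one_mul c))),
      Or.inr (Or.inr (Or.inr rfl))]
  · rintro (rfl | rfl | rfl | rfl)
    exacts [⟨0, Or.inl (by simp)⟩, ⟨1, Or.inl (by simp)⟩, ⟨0, Or.inr (by simp)⟩, ⟨1, Or.inr (by simp)⟩]

theorem Z_le : Zsub m x c ≤ Msub x c :=
  sup_le (le_sup_of_le_left (zpowers_le.2 (pow_mem (mem_zpowers x) _))) le_sup_right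

theorem inM_of_inZ (hg : InZ m x c g) : InM x c g := h.mem_M.1 (h.Z_le (h.mem_Z.2 hg))

theorem comm_M (hg : InM x c g) (hg' : InM x c g') : g * g' = g' * g := by
  obtain ⟨i, k, rfl⟩ := (inM_iff h.cc).1 hg
  obtain ⟨i', k', rfl⟩ := (inM_iff h.cc).1 hg'
  exact (((Commute.refl x).zpow_zpow i i').mul_right (h.cxc.symm.zpow_zpow i k')).mul_left
    ((h.cxc.zpow_zpow k i').mul_right ((Commute.refl c).zpow_zpow k k'))

theorem sq_zpow (i k : ℤ) : x ^ i * c ^ k * (x ^ i * c ^ k) = x ^ (2 * i) := by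
  rw [mul_assoc, ← mul_assoc (c ^ k), (h.cxc.zpow_zpow k i).eq, mul_assoc, ← zpow_add,
    zpow_of_even h.cc ⟨k, rfl⟩, mul_one, ← zpow_add, two_mul]

theorem inZ_zpow {i : ℤ} (hi : (2 : ℤ) ^ m ∣ 2 * i) (k : ℤ) : InZ m x c (x ^ i * c ^ k) := by
  rw [h.two_pow_eq, Int.mul_dvd_mul_iff_left two_ne_zero] at hi
  obtain ⟨l, rfl⟩ := hi
  rw [zpow_mul, ← h.uu_eq, ← h.mem_Z]
  exact mul_mem (mem_sup_left ⟨l, rfl⟩) (mem_sup_right ⟨k, rfl⟩)

theorem sq_of_inZ (hg : InZ m x c g) : g * g = 1 := by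
  rcases hg with rfl | rfl | rfl | rfl
  exacts [one_mul 1, h.uu_sq, h.cc, h.uc_sq]

theorem inZ_of_sq (hg : InM x c g) (h2 : g * g = 1) : InZ m x c g := by
  obtain ⟨i, k, rfl⟩ := (inM_iff h.cc).1 hg
  rw [h.sq_zpow, h.zpow_eq_one_iff] at h2
  exact h.inZ_zpow h2 k

/-- The action of `j` on `⟨x⟩ × ⟨c⟩`. -/
theorem exists_conj : ∃ ε : ℤ, (ε = 0 ∨ (ε = 1 ∧ 3 ≤ m)) ∧ j * x * j⁻¹ = x⁻¹ * c ^ ε ∧
    ∀ i k : ℤ, j * (x ^ i * c ^ k) * j⁻¹ = x ^ (-i) * c ^ (ε * i + k) := by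
  have key : ∀ ε : ℤ, j * x * j⁻¹ = x⁻¹ * c ^ ε →
      ∀ i k : ℤ, j * (x ^ i * c ^ k) * j⁻¹ = x ^ (-i) * c ^ (ε * i + k) := fun ε h1 i k => by
    have h2 : j * c * j⁻¹ = c := by rw [← h.comm_j, mul_inv_cancel_right]
    rw [show j * (x ^ i * c ^ k) * j⁻¹ = j * x ^ i * j⁻¹ * (j * c ^ k * j⁻¹) by group, ← conj_zpow,
      ← conj_zpow, h1, h2, (h.cxc.symm.inv_left.zpow_right ε).mul_zpow, inv_zpow', ← zpow_mul,
      mul_assoc, ← zpow_add]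
  rcases h.conj with h1 | ⟨h1, h2⟩
  · exact ⟨0, Or.inl rfl, by simpa using h1, key 0 (by simpa using h1)⟩
  · exact ⟨1, Or.inr ⟨rfl, h2⟩, by simpa using h1, key 1 (by simpa using h1)⟩

theorem inZ_of_comm_j (hg : InM x c g) (h1 : g * j = j * g) : InZ m x c g := by
  obtain ⟨i, k, rfl⟩ := (inM_iff h.cc).1 hg
  obtain ⟨ε, -, -, h2⟩ := h.exists_conj
  have h3 := h2 i k
  rw [← h1, mul_inv_cancel_right] at h3
  have h4 : x ^ (2 * i) * c ^ (-(ε * i)) = 1 := by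
    rw [two_mul, zpow_add, mul_assoc, zpow_neg, ← mul_right_inj (x ^ (-i)), ← mul_assoc, ← zpow_add,
      neg_add_cancel, zpow_zero, one_mul, mul_inv_eq_iff_eq_mul, mul_one,
      ← mul_left_inj (c ^ k), h3, zpow_add, mul_assoc]
  exact h.inZ_zpow (h.zpow_mul_eq_one.1 h4).1 k

theorem not_inZ_x : ¬ InZ m x c x := fun h1 => by
  have h2 := h.sq_of_inZ h1
  rw [← zpow_two, h.zpow_eq_one_iff] at h2
  have h3 := Int.le_of_dvd two_pos h2
  have h4 : (2 : ℤ) ^ 2 ≤ 2 ^ m := pow_le_pow_right₀ one_le_two h.two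
  omega

theorem inM_x : InM x c x := ⟨1, Or.inl (zpow_one x).symm⟩
theorem inM_c : InM x c c := ⟨0, Or.inr (by simp)⟩

theorem not_inM_j : ¬ InM x c j := fun h1 =>
  h.not_inZ_x (h.inZ_of_comm_j h.inM_x (h.comm_M h.inM_x h1))

theorem mem_iff : g ∈ P ↔ InM x c g ∨ InM x c (g * j⁻¹) := by
  rw [h.mem]
  refine ⟨?_, ?_⟩
  · rintro ⟨i, rfl | rfl | rfl | rfl⟩
    exacts [Or.inl ⟨i, Or.inl rfl⟩, Or.inl ⟨i, Or.inr rfl⟩,
      Or.inr ⟨i, Or.inl (mul_inv_cancel_right _ _)⟩, Or.inr ⟨i, Or.inr (mul_inv_cancel_right _ _)⟩]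
  · rintro (⟨i, h | h⟩ | ⟨i, h | h⟩)
    · exact ⟨i, Or.inl h⟩
    · exact ⟨i, Or.inr (Or.inl h)⟩
    · exact ⟨i, Or.inr (Or.inr (Or.inl (by rw [← h, inv_mul_cancel_right])))⟩
    · exact ⟨i, Or.inr (Or.inr (Or.inr (by rw [← h, inv_mul_cancel_right])))⟩

theorem exists_out (hy : y ∈ P) (hy' : ¬ InM x c y) : ∃ i k : ℤ, y = x ^ i * c ^ k * j := by
  obtain ⟨i, k, h1⟩ := (inM_iff h.cc).1 ((h.mem_iff.1 hy).resolve_left hy')
  exact ⟨i, k, by rw [← h1, inv_mul_cancel_right]⟩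

theorem inM_mul (hg : InM x c g) (hg' : InM x c g') : InM x c (g * g') :=
  h.mem_M.1 (mul_mem (h.mem_M.2 hg) (h.mem_M.2 hg'))

theorem inM_inv (hg : InM x c g) : InM x c g⁻¹ := h.mem_M.1 (inv_mem (h.mem_M.2 hg))

theorem not_inM_mul (hg : InM x c g) (hy : ¬ InM x c y) : ¬ InM x c (g * y) := fun h1 =>
  hy (by simpa using h.inM_mul (h.inM_inv hg) h1)

theorem not_inM_mul' (hg : InM x c g) (hy : ¬ InM x c y) : ¬ InM x c (y * g) := fun h1 =>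
  hy (by simpa using h.inM_mul h1 (h.inM_inv hg))

theorem conj_j_inM (hg : InM x c g) : InM x c (j * g * j⁻¹) := by
  obtain ⟨i, k, rfl⟩ := (inM_iff h.cc).1 hg
  obtain ⟨ε, -, -, h2⟩ := h.exists_conj
  exact (inM_iff h.cc).2 ⟨_, _, h2 i k⟩

theorem conj_out (hy : y ∈ P) (hy' : ¬ InM x c y) (hg : InM x c g) : y * g * y⁻¹ = j * g * j⁻¹ := by
  have h1 := (h.mem_iff.1 hy).resolve_left hy'
  rw [show y * g * y⁻¹ = y * j⁻¹ * (j * g * j⁻¹) * (y * j⁻¹)⁻¹ by group,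
    h.comm_M h1 (h.conj_j_inM hg), mul_inv_cancel_right]

theorem conj_cases (hp : p ∈ P) (hg : InM x c g) : p * g * p⁻¹ = g ∨ p * g * p⁻¹ = j * g * j⁻¹ := by
  by_cases h1 : InM x c p
  · exact Or.inl (by rw [h.comm_M h1 hg, mul_inv_cancel_right])
  · exact Or.inr (h.conj_out hp h1 hg)

theorem conj_inM (hp : p ∈ P) (hg : InM x c g) : InM x c (p * g * p⁻¹) := by
  rcases h.conj_cases hp hg with h1 | h1 <;> rw [h1]
  exacts [hg, h.conj_j_inM hg]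

theorem conj_not_inM (hp : p ∈ P) (hy : ¬ InM x c y) : ¬ InM x c (p * y * p⁻¹) := fun h1 =>
  hy (by simpa [mul_assoc] using h.conj_inM (P.inv_mem hp) h1)

theorem out_mul (hy : y ∈ P) (hy1 : ¬ InM x c y) (hy' : y' ∈ P) (hy2 : ¬ InM x c y') :
    InM x c (y * y') := by
  have h1 := h.inM_mul ((h.mem_iff.1 hy).resolve_left hy1)
    (h.conj_j_inM ((h.mem_iff.1 hy').resolve_left hy2))
  rwa [show y * j⁻¹ * (j * (y' * j⁻¹) * j⁻¹) = y * y' * (j * j)⁻¹ by group, h.jj, inv_one,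
    mul_one] at h1

theorem out_inv_mul (hy : y ∈ P) (hy1 : ¬ InM x c y) (hy' : y' ∈ P) (hy2 : ¬ InM x c y') :
    InM x c (y⁻¹ * y') :=
  h.out_mul (P.inv_mem hy) (fun h1 => hy1 (by simpa using h.inM_inv h1)) hy' hy2

theorem comm_Z (hg : InZ m x c g) (hp : p ∈ P) : g * p = p * g := by
  have h1 : j * g * j⁻¹ = g := by
    obtain ⟨ε, h0, -, h2⟩ := h.exists_conj
    have h3 : j * uu m x * j⁻¹ = uu m x := by
      have h3 := h2 (2 ^ (m - 1)) 0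
      have h4 : Even ((2 : ℤ) ^ (m - 1)) := (Int.even_pow' (by have := h.two; omega)).2 even_two
      rwa [zpow_zero, mul_one, add_zero, zpow_of_even h.cc (h4.mul_left ε), mul_one, zpow_neg,
        ← h.uu_eq, inv_eq_of_mul_eq_one_left h.uu_sq] at h3
    have h4 : j * c * j⁻¹ = c := by rw [← h.comm_j, mul_inv_cancel_right]
    rcases hg with rfl | rfl | rfl | rfl
    exacts [by group, h3, h4, by rw [← conj_mul, h3, h4]]
  rw [eq_comm, ← mul_inv_eq_iff_eq_mul]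
  exact (h.conj_cases hp (h.inM_of_inZ hg)).elim id fun h2 => h2.trans h1

theorem inZ_of_comm (hy : y ∈ P) (hy' : ¬ InM x c y) (hg : InM x c g) (h1 : g * y = y * g) :
    InZ m x c g := h.inZ_of_comm_j hg (by
  rw [eq_comm, ← mul_inv_eq_iff_eq_mul, ← h.conj_out hy hy' hg, ← h1, mul_inv_cancel_right])

theorem out_sq (hy : y ∈ P) (hy' : ¬ InM x c y) :
    y * y = 1 ∨ (y * y = c ∧ j * x * j⁻¹ = x⁻¹ * c ∧ 3 ≤ m) := by
  obtain ⟨i, k, rfl⟩ := h.exists_out hy hy'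
  obtain ⟨ε, h0, h1, h2⟩ := h.exists_conj
  have h3 : x ^ i * c ^ k * j * (x ^ i * c ^ k * j) = c ^ (ε * i) := by
    rw [show x ^ i * c ^ k * j * (x ^ i * c ^ k * j) =
      x ^ i * c ^ k * (j * (x ^ i * c ^ k) * j⁻¹) * (j * j) by group, h.jj, mul_one, h2, mul_assoc,
      ← mul_assoc (c ^ k), (h.cxc.zpow_zpow k (-i)).eq, mul_assoc, ← mul_assoc, ← zpow_add,
      add_neg_cancel, zpow_zero, one_mul, ← zpow_add, show k + (ε * i + k) = ε * i + 2 * k by ring,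
      zpow_add, zpow_of_even h.cc (even_two_mul k), mul_one]
  rw [h3]
  rcases h0 with rfl | ⟨rfl, h0⟩
  · exact Or.inl (by simp)
  · exact (zpow_two_cases h.cc _).imp_right fun h4 => ⟨h4, by simpa using h1, h0⟩

theorem xj_sq (h1 : j * x * j⁻¹ = x⁻¹ * c) : x * j * (x * j) = c := by
  rw [show x * j * (x * j) = x * (j * x * j⁻¹) * (j * j) by group, h1, h.jj, mul_one,
    mul_inv_cancel_left]

theorem comm_out (hy : y ∈ P) (hy' : ¬ InM x c y) : ∃ ε : ℤ, (ε = 0 ∨ (ε = 1 ∧ 3 ≤ m)) ∧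
    ∀ i k : ℤ, x ^ i * c ^ k * y * (x ^ i * c ^ k)⁻¹ = x ^ (2 * i) * c ^ (-(ε * i)) * y := by
  obtain ⟨ε, h0, -, h2⟩ := h.exists_conj
  refine ⟨ε, h0, fun i k => ?_⟩
  rw [show x ^ i * c ^ k * y * (x ^ i * c ^ k)⁻¹ =
    x ^ i * c ^ k * (y * (x ^ i * c ^ k) * y⁻¹)⁻¹ * y by group,
    h.conj_out hy hy' ((inM_iff h.cc).2 ⟨i, k, rfl⟩), h2, mul_inv_rev, ← zpow_neg, ← zpow_neg,
    neg_neg, mul_assoc (x ^ i), ← mul_assoc (c ^ k), ← zpow_add, (h.cxc.zpow_zpow _ i).eq,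
    ← mul_assoc, ← zpow_add, two_mul]
  congr 3; ring

theorem exists_conj_in_M (hy : y ∈ P) (hy' : ¬ InM x c y) (hp : p ∈ P) :
    ∃ g, InM x c g ∧ p * y * p⁻¹ = g * y * g⁻¹ := by
  by_cases h1 : InM x c p
  · exact ⟨p, h1, rfl⟩
  · exact ⟨p * y⁻¹, h.out_mul hp h1 (P.inv_mem hy) fun h2 => hy' (by simpa using h.inM_inv h2),
      by group⟩

theorem not_conj_mul_c (hy : y ∈ P) (hy' : ¬ InM x c y) (hp : p ∈ P) : p * y * p⁻¹ ≠ y * c :=
  fun h1 => by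
  obtain ⟨g, hg, h2⟩ := h.exists_conj_in_M hy hy' hp
  obtain ⟨i, k, rfl⟩ := (inM_iff h.cc).1 hg
  obtain ⟨ε, h0, h3⟩ := h.comm_out hy hy'
  rw [h2, h3, ← h.comm_Z (Or.inr (Or.inr (Or.inl rfl))) hy, mul_left_inj, ← mul_inv_eq_one,
    mul_assoc, ← zpow_sub_one, h.zpow_mul_eq_one, h.two_pow_eq,
    Int.mul_dvd_mul_iff_left two_ne_zero] at h1
  have h4 : Even i := ((Int.even_pow' (n := m - 1) (by have := h.two; omega)).2 even_two).two_dvd.trans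
    h1.1 |> even_iff_two_dvd.2
  exact (Int.even_sub_one.1 h1.2) (h4.mul_left ε).neg

theorem exists_conj_mul_u (hy : y ∈ P) (hy' : ¬ InM x c y) :
    ∃ g, InM x c g ∧ g * y * g⁻¹ = y * uu m x := by
  obtain ⟨ε, h0, h3⟩ := h.comm_out hy hy'
  refine ⟨_, (inM_iff h.cc).2 ⟨2 ^ (m - 2), 0, rfl⟩, ?_⟩
  have h4 : Even (-(ε * 2 ^ (m - 2))) := by
    rcases h0 with rfl | ⟨rfl, h0⟩
    · simp
    · exact (((Int.even_pow' (by omega)).2 even_two).mul_left 1).neg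
  rw [h3, zpow_of_even h.cc h4, mul_one, ← pow_succ', show m - 2 + 1 = m - 1 by have := h.two; omega,
    ← h.uu_eq, h.comm_Z (Or.inr (Or.inl rfl)) hy]

theorem card_M : Nat.card (Msub x c) = 2 ^ (m + 1) := by
  rw [card_eq_two_mul_of_mem_iff (A := zpowers x) (B := Msub x c) h.cx fun g => by
    rw [h.mem_M]
    refine ⟨?_, ?_⟩
    · rintro ⟨i, rfl | rfl⟩
      exacts [Or.inl ⟨i, rfl⟩, Or.inr ⟨i, by simp⟩]
    · rintro (⟨i, rfl⟩ | ⟨i, hi⟩)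
      exacts [⟨i, Or.inl rfl⟩,
        ⟨i, Or.inr (by rw [show x ^ i = g * c⁻¹ from hi, inv_mul_cancel_right])⟩],
    Nat.card_zpowers, h.ord, pow_succ']

theorem card : Nat.card P = 2 ^ (m + 2) := by
  rw [card_eq_two_mul_of_mem_iff (A := Msub x c) (B := P) (w := j) (h.mem_M.not.2 h.not_inM_j)
    fun g => by rw [h.mem_iff, h.mem_M, h.mem_M], h.card_M, ← pow_succ']

theorem isPGroup : IsPGroup 2 P := IsPGroup.of_card h.card

theorem finite : Finite P := Nat.finite_of_card_ne_zero (by rw [h.card]; positivity)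

theorem card_Z : Nat.card (Zsub m x c) = 4 := by
  have h1 : c ∉ zpowers (uu m x) := fun h1 => h.cx (zpowers_le.2 (pow_mem (mem_zpowers x) _) h1)
  rw [card_eq_two_mul_of_mem_iff (A := zpowers (uu m x)) (B := Zsub m x c) h1 fun g => by
    rw [h.mem_Z, mem_zpowers_two h.uu_sq, mem_zpowers_two h.uu_sq, mul_inv_eq_one,
      mul_inv_eq_iff_eq_mul, InZ, or_assoc],
    Nat.card_zpowers, orderOf_eq_prime (p := 2) (by rw [pow_two, h.uu_sq]) h.uu_ne_one]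

theorem mem_inf_centralizer_out (hy : y ∈ P) (hy' : ¬ InM x c y) :
    g ∈ P ⊓ centralizer ({y} : Set G) ↔ InZ m x c g ∨ InZ m x c (g * y⁻¹) := by
  rw [mem_inf, mem_centralizer_singleton_iff]
  refine ⟨fun ⟨h1, h2⟩ => ?_, ?_⟩
  · by_cases h3 : InM x c g
    · exact Or.inl (h.inZ_of_comm hy hy' h3 h2)
    · exact Or.inr (h.inZ_of_comm hy hy' (h.out_mul h1 h3 (P.inv_mem hy) fun h2 => hy'
        (by simpa using h.inM_inv h2)) (by rw [← mul_assoc, ← h2]; group))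
  · rintro (h1 | h1)
    · exact ⟨h.memP (h.inM_of_inZ h1), h.comm_Z h1 hy⟩
    · refine ⟨(P.mul_mem_cancel_right (P.inv_mem hy)).1 (h.memP (h.inM_of_inZ h1)), ?_⟩
      have h2 := h.comm_Z h1 hy
      rw [inv_mul_cancel_right, ← mul_assoc, eq_mul_inv_iff_mul_eq] at h2
      exact h2

theorem card_inf_centralizer_out (hy : y ∈ P) (hy' : ¬ InM x c y) :
    Nat.card (P ⊓ centralizer ({y} : Set G) : Subgroup G) = 8 := by
  rw [card_eq_two_mul_of_mem_iff (A := Zsub m x c) (w := y) (fun h1 => hy' (h.mem_M.1 (h.Z_le h1)))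
    fun g => by rw [h.mem_inf_centralizer_out hy hy', h.mem_Z, h.mem_Z], h.card_Z]

theorem inf_centralizer_in (hv : InM x c v) (h2 : v * v ≠ 1) :
    P ⊓ centralizer ({v} : Set G) = Msub x c := by
  ext g
  rw [mem_inf, mem_centralizer_singleton_iff, h.mem_M]
  refine ⟨fun ⟨h1, h3⟩ => by_contra fun h4 => h2 (h.sq_of_inZ (h.inZ_of_comm h1 h4 hv h3.symm)),
    fun h1 => ⟨h.memP h1, h.comm_M h1 hv⟩⟩

theorem uu_mem_zpowers (hv : InM x c v) (h2 : v * v ≠ 1) : uu m x ∈ zpowers (v * v) := by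
  have := h.finite
  obtain ⟨i, k, rfl⟩ := (inM_iff h.cc).1 hv
  rw [h.sq_zpow] at h2 ⊢
  obtain ⟨n, hn⟩ := IsPGroup.iff_orderOf.1 h.isPGroup ⟨_, P.zpow_mem h.xP (2 * i)⟩
  rw [← orderOf_coe] at hn
  obtain _ | n := n
  · exact absurd (orderOf_eq_one_iff.1 hn) h2
  have h3 : (x ^ (2 * i)) ^ 2 ^ n ≠ 1 := pow_ne_one_of_lt_orderOf (by positivity)
    (by rw [show orderOf (x ^ (2 * i)) = 2 ^ (n + 1) from hn]; exact Nat.pow_lt_pow_succ one_lt_two)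
  have h4 : (x ^ (2 * i)) ^ 2 ^ n * (x ^ (2 * i)) ^ 2 ^ n = 1 := by
    rw [← pow_add, ← two_mul, ← pow_succ', ← show orderOf (x ^ (2 * i)) = 2 ^ (n + 1) from hn,
      pow_orderOf_eq_one]
  have h5 : (x ^ (2 * i)) ^ 2 ^ n = x ^ (2 * i * 2 ^ n) := by
    rw [← zpow_natCast, ← zpow_mul]; norm_cast
  rcases h.inZ_of_sq ⟨_, Or.inl h5⟩ h4 with h6 | h6 | h6 | h6
  · exact absurd h6 h3
  · exact h6 ▸ pow_mem (mem_zpowers _) _
  · exact absurd (h5.symm.trans h6) (h.zpow_ne_c _)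
  · rw [h5, h.uu_eq, ← inv_mul_eq_iff_eq_mul, ← zpow_neg, ← zpow_add] at h6
    exact absurd h6 (h.zpow_ne_c _)

theorem map_inj {H : Type*} [Group H] (φ : G →* H) (hφ : Function.Injective φ) :
    Fib (P.map φ) m (φ x) (φ c) (φ j) where
  two := h.two
  ord := (orderOf_injective φ hφ x).trans h.ord
  cc := by rw [← map_mul, h.cc, map_one]
  cx := fun ⟨i, hi⟩ => h.cx ⟨i, hφ (by rw [map_zpow]; exact hi)⟩
  comm_x := by rw [← map_mul, h.comm_x, map_mul]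
  comm_j := by rw [← map_mul, h.comm_j, map_mul]
  jj := by rw [← map_mul, h.jj, map_one]
  conj := h.conj.imp (fun h1 => by simpa using congrArg φ h1)
    fun h1 => ⟨by simpa using congrArg φ h1.1, h1.2⟩
  mem := fun g => by
    refine ⟨?_, ?_⟩
    · rintro ⟨g, hg, rfl⟩
      obtain ⟨i, hi⟩ := (h.mem g).1 hg
      exact ⟨i, by rcases hi with rfl | rfl | rfl | rfl <;> simp⟩
    · rintro ⟨i, hi⟩
      have h1 := P.zpow_mem h.xP i
      rcases hi with rfl | rfl | rfl | rfl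
      exacts [⟨_, h1, by simp⟩, ⟨_, P.mul_mem h1 h.cP, by simp⟩, ⟨_, P.mul_mem h1 h.jP, by simp⟩,
        ⟨_, P.mul_mem (P.mul_mem h1 h.cP) h.jP, by simp⟩]

theorem subgroupOf {T : Subgroup G} (hT : P ≤ T) :
    Fib (P.subgroupOf T) m ⟨x, hT h.xP⟩ ⟨c, hT h.cP⟩ ⟨j, hT h.jP⟩ where
  two := h.two
  ord := (orderOf_coe _).symm.trans h.ord
  cc := Subtype.ext h.cc
  cx := fun ⟨i, hi⟩ => h.cx ⟨i, congrArg Subtype.val hi⟩
  comm_x := Subtype.ext h.comm_x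
  comm_j := Subtype.ext h.comm_j
  jj := Subtype.ext h.jj
  conj := h.conj.imp Subtype.ext fun h1 => ⟨Subtype.ext h1.1, h1.2⟩
  mem := fun g => by
    rw [mem_subgroupOf, h.mem]
    simp only [Subtype.ext_iff, coe_mul, SubgroupClass.coe_zpow]

end Fib

end CL.KB
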