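/-
Odd automorphisms of the self-centralizing subgroups of a group `Fib`, and the fusion in a saturated system on it.
-/
import Cfsg.Agent.Blk.KBFib
import Cfsg.Agent.Inv.AutTwo
import Cfsg.Agent.Fus.EssExt
import Cfsg.Agent.Fus.CopAut

set_option autoImplicit false
set_option linter.unusedSectionVars false

namespace CL.KB

open Cfsg Cfsg.FusionSystem Subgroup CL.Inv CL.Fus

universe u

section Grp

variable {G : Type*} [Group G] {P E : Subgroup G} {m : ℕ} {x c j g g' w y : G}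

theorem Fib.inZ_mul (h : Fib P m x c j) (hg : InZ m x c g) (hg' : InZ m x c g') : InZ m x c (g * g') :=
  h.mem_Z.1 (mul_mem (h.mem_Z.2 hg) (h.mem_Z.2 hg'))

theorem Fib.inZ_inv (h : Fib P m x c j) (hg : InZ m x c g) : InZ m x c g⁻¹ :=
  h.mem_Z.1 (inv_mem (h.mem_Z.2 hg))

theorem Fib.inZ_memP (h : Fib P m x c j) (hg : InZ m x c g) : g ∈ P := h.memP (h.inM_of_inZ hg)

theorem Fib.z_three (h : Fib P m x c j) (hg : InZ m x c g) (hg' : InZ m x c g') (hw : InZ m x c w)
    (h1 : w ≠ 1) (h2 : g ≠ 1) (h3 : g ≠ w) (h4 : g' ≠ 1) (h5 : g' ≠ w) : g' = g ∨ g' = g * w := by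
  have e1 : uu m x * (uu m x * c) = c := by rw [← mul_assoc, h.uu_sq, one_mul]
  have e2 : c * (uu m x * c) = uu m x := by rw [← mul_assoc, h.cu, mul_assoc, h.cc, mul_one]
  have e3 : uu m x * c * uu m x = c := by rw [mul_assoc, h.cu, e1]
  have e4 : uu m x * c * c = uu m x := by rw [mul_assoc, h.cc, mul_one]
  have e5 := h.cu
  rcases hg with rfl | rfl | rfl | rfl <;> rcases hg' with rfl | rfl | rfl | rfl <;>
    rcases hw with rfl | rfl | rfl | rfl <;>
    first
      | exact absurd rfl h1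
      | exact absurd rfl h2
      | exact absurd rfl h3
      | exact absurd rfl h4
      | exact absurd rfl h5
      | exact Or.inl rfl
      | exact Or.inr rfl
      | exact Or.inr e1.symm
      | exact Or.inr e2.symm
      | exact Or.inr e3.symm
      | exact Or.inr e4.symm
      | exact Or.inr e5.symm

theorem Fib.sq_mem (h : Fib P m x c j) (hg : InM x c g) : g * g ∈ zpowers x := by
  obtain ⟨i, k, rfl⟩ := (inM_iff h.cc).1 hg
  rw [h.sq_zpow]
  exact ⟨_, rfl⟩

theorem Fib.u_mem (_h : Fib P m x c j) : uu m x ∈ zpowers x := npow_mem_zpowers x _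

theorem Fib.sq_ne_uc (h : Fib P m x c j) (hg : g ∈ P) : g * g ≠ uu m x * c := fun e => by
  by_cases hM : InM x c g
  · have h1 := h.sq_mem hM
    rw [e] at h1
    exact h.cx (by simpa using mul_mem (inv_mem h.u_mem) h1)
  · rcases h.out_sq hg hM with h1 | ⟨h1, -⟩
    · exact h.uc_ne_one (e.symm.trans h1)
    · exact h.uc_ne_c (e.symm.trans h1)

theorem Fib.Z_le_centric (h : Fib P m x c j) (hE : E ≤ P) (hC : P ⊓ centralizer (E : Set G) ≤ E)
    (hg : InZ m x c g) : g ∈ E :=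
  hC ⟨h.inZ_memP hg, fun _ he => (h.comm_Z hg (hE he)).symm⟩

theorem autFun_fix_of_mul (hE : IsPGroup 2 E) {α : MulAut E} (hα : Odd (orderOf α)) {a b : G}
    (ha : a ∈ E) (hb : b ∈ E) (hab : autFun α a = a * b) (hbb : autFun α b = b) :
    autFun α a = a := by
  rw [autFun_apply α ha] at hab ⊢
  rw [autFun_apply α hb] at hbb
  exact congrArg Subtype.val (aut_fix_of_mul hE hα (a := ⟨a, ha⟩) (b := ⟨b, hb⟩)
    (Subtype.ext hab) (Subtype.ext hbb))

theorem Fib.fixZ (h : Fib P m x c j) (hE : E ≤ P) (hZ : ∀ g, InZ m x c g → g ∈ E) {α : MulAut E}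
    (hα : Odd (orderOf α)) (hpres : ∀ g, InZ m x c g → InZ m x c (autFun α g))
    (hw : InZ m x c w) (h1 : w ≠ 1) (hfix : autFun α w = w) (hg : InZ m x c g) :
    autFun α g = g := by
  have hf := homOn_autFun α
  by_cases h2 : g = 1
  · rw [h2, hf.map_one]
  by_cases h3 : g = w
  · rw [h3, hfix]
  have h4 : autFun α g ≠ 1 := fun e =>
    h2 (autFun_injOn α (hZ g hg) (one_mem E) (e.trans hf.map_one.symm))
  have h5 : autFun α g ≠ w := fun e => h3 (autFun_injOn α (hZ g hg) (hZ w hw) (e.trans hfix.symm))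
  rcases h.z_three hg (hpres g hg) hw h1 h2 h3 h4 h5 with e | e
  · exact e
  · exact autFun_fix_of_mul (h.isPGroup.to_le hE) hα (hZ g hg) (hZ w hw) e hfix

theorem Fib.aut_eq_one (h : Fib P m x c j) (hE : E ≤ P) {α : MulAut E} (hα : Odd (orderOf α))
    (hfix : ∀ g, InZ m x c g → autFun α g = g)
    (hM : ∀ g ∈ E, InM x c g → InM x c (autFun α g)) : α = 1 := by
  have hf := homOn_autFun α
  have hEp := h.isPGroup.to_le hE
  have key : ∀ k : ℕ, ∀ g ∈ E, InM x c g → g ^ 2 ^ k = 1 → autFun α g = g := by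
    intro k
    induction k with
    | zero => intro g _ _ hg; rw [pow_zero, pow_one] at hg; rw [hg, hf.map_one]
    | succ k ih =>
      intro g hgE hgM hg
      have h1 : autFun α (g * g) = g * g := ih _ (mul_mem hgE hgE) (h.inM_mul hgM hgM)
        (by rw [← pow_two, ← pow_mul, ← pow_succ', hg])
      have hb : InM x c (g⁻¹ * autFun α g) := h.inM_mul (h.inM_inv hgM) (hM g hgE hgM)
      refine autFun_fix_of_mul hEp hα hgE (mul_mem (inv_mem hgE) (autFun_mem α hgE))
        (by rw [mul_inv_cancel_left]) (hfix _ (h.inZ_of_sq hb ?_))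
      rw [hf.map_mul hgE hgE] at h1
      calc g⁻¹ * autFun α g * (g⁻¹ * autFun α g)
          = g⁻¹ * (autFun α g * g⁻¹) * autFun α g := by group
        _ = g⁻¹ * g⁻¹ * (autFun α g * autFun α g) := by
          rw [h.comm_M (hM g hgE hgM) (h.inM_inv hgM)]; group
        _ = 1 := by rw [h1]; group
  refine aut_eq_one_of_fix_index_le_two hEp hα ((Msub x c).subgroupOf E) (fun a b ha hb => ?_)
    fun b hb => ?_
  · rw [mem_subgroupOf, h.mem_M] at ha hb ⊢
    exact h.out_inv_mul (hE a.2) ha (hE b.2) hb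
  · rw [mem_subgroupOf, h.mem_M] at hb
    obtain ⟨k, hk⟩ := hEp b
    have := key k b b.2 hb (by simpa using congrArg Subtype.val hk)
    rw [autFun_coe] at this
    exact Subtype.ext this

theorem Fib.eq_one_of_large (h : Fib P m x c j) (hE : E ≤ P) (hZ : ∀ g, InZ m x c g → g ∈ E)
    {α : MulAut E} (hα : Odd (orderOf α)) {v : G} (hvE : v ∈ E) (hvM : InM x c v)
    (hv : v * v ≠ 1) : α = 1 := by
  have hf := homOn_autFun α
  have huZ : InZ m x c (uu m x) := Or.inr (Or.inl rfl)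
  have hucZ : InZ m x c (uu m x * c) := Or.inr (Or.inr (Or.inr rfl))
  have hpres : ∀ g, InZ m x c g → InZ m x c (autFun α g) := by
    intro g hg
    have hgE := hZ g hg
    have h1 : autFun α g * autFun α g = 1 := by
      rw [← hf.map_mul hgE hgE, h.sq_of_inZ hg, hf.map_one]
    by_cases hM : InM x c (autFun α g)
    · exact h.inZ_of_sq hM h1
    · refine absurd (h.sq_of_inZ (h.inZ_of_comm (hE (autFun_mem α hgE)) hM hvM ?_)) hv
      have h2 := autFun_mem α⁻¹ hvE
      rw [← autFun_apply_inv α hvE, ← hf.map_mul h2 hgE, ← hf.map_mul hgE h2, h.comm_Z hg (hE h2)]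
  have hsq : ∀ e ∈ E, autFun α (uu m x * c) ≠ e * e := fun e he h1 => by
    have h2 := autFun_mem α⁻¹ he
    rw [← autFun_apply_inv α he, ← hf.map_mul h2 h2] at h1
    exact h.sq_ne_uc (hE h2) (autFun_injOn α (hZ _ hucZ) (mul_mem h2 h2) h1).symm
  obtain ⟨i, hi⟩ := h.uu_mem_zpowers hvM hv
  have hu : uu m x = v ^ i * v ^ i := by
    rw [← hi]
    exact (Commute.refl v).mul_zpow i
  have hvi := zpow_mem hvE i
  have hfix : ∀ g, InZ m x c g → autFun α g = g := by
    intro g hg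
    have hu1 : autFun α (uu m x) = autFun α (v ^ i) * autFun α (v ^ i) := by
      rw [hu, hf.map_mul hvi hvi]
    rcases hpres _ huZ with e | e | e | e
    · exact absurd (autFun_injOn α (hZ _ huZ) (one_mem E) (e.trans hf.map_one.symm)) h.uu_ne_one
    · exact h.fixZ hE hZ hα hpres huZ h.uu_ne_one e hg
    · refine h.fixZ hE hZ hα hpres hucZ h.uc_ne_one ?_ hg
      rcases hpres _ hucZ with e' | e' | e' | e'
      · exact absurd (e'.trans (mul_one 1).symm) (hsq 1 (one_mem E))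
      · exact absurd (e'.trans hu) (hsq _ hvi)
      · exact absurd (e'.trans (e.symm.trans hu1)) (hsq _ (autFun_mem α hvi))
      · exact e'
    · exact absurd (hu1.symm.trans e) (h.sq_ne_uc (hE (autFun_mem α hvi)))
  refine h.aut_eq_one hE hα hfix fun g hgE hgM => ?_
  by_cases h2 : g * g = 1
  · rw [hfix g (h.inZ_of_sq hgM h2)]; exact hgM
  by_contra hM
  obtain ⟨k, hk⟩ := h.uu_mem_zpowers hgM h2
  have h3 : uu m x = (autFun α g * autFun α g) ^ k := by
    rw [← hfix _ huZ, ← hk, ← hf.map_mul hgE hgE]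
    exact hf.map_zpow (mul_mem hgE hgE) k
  rcases h.out_sq (hE (autFun_mem α hgE)) hM with h4 | ⟨h4, -⟩
  · rw [h4, one_zpow] at h3
    exact h.uu_ne_one h3
  · rw [h4] at h3
    rcases zpow_two_cases h.cc k with h5 | h5
    · exact h.uu_ne_one (h3.trans h5)
    · exact h.uu_ne_c (h3.trans h5)

theorem Fib.sq_mul_Z (h : Fib P m x c j) (hy : y ∈ P) (hg : InZ m x c (y⁻¹ * g)) :
    g * g = y * y := by
  have h1 := h.comm_Z hg hy
  have h2 := h.sq_of_inZ hg
  calc g * g = y * (y⁻¹ * g * y) * (y⁻¹ * g) := by group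
    _ = y * y * (y⁻¹ * g * (y⁻¹ * g)) := by rw [h1]; group
    _ = y * y := by rw [h2, mul_one]

end Grp

theorem fibG : FibG.{u} := by
  intro G _ P E m x c j h hE hC α hα hne
  have hZ : ∀ g, InZ m x c g → g ∈ E := fun g hg => h.Z_le_centric hE hC hg
  have hsm : ∀ v ∈ E, InM x c v → InZ m x c v := fun v hv hM =>
    h.inZ_of_sq hM (by_contra fun h2 => hne (h.eq_one_of_large hE hZ hα hv hM h2))
  obtain ⟨y, hyE, hyM⟩ : ∃ y ∈ E, ¬ InM x c y := by
    by_contra! hcon
    exact h.not_inZ_x (hsm x (hC ⟨h.xP, fun e he => h.comm_M (hcon e he) h.inM_x⟩) h.inM_x)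
  have hmem : ∀ g, g ∈ E ↔ InZ m x c g ∨ InZ m x c (y⁻¹ * g) := fun g => by
    refine ⟨fun hg => ?_, ?_⟩
    · by_cases hM : InM x c g
      · exact Or.inl (hsm g hg hM)
      · exact Or.inr (hsm _ (mul_mem (inv_mem hyE) hg) (h.out_inv_mul (hE hyE) hyM (hE hg) hM))
    · rintro (hg | hg)
      · exact hZ g hg
      · simpa using mul_mem hyE (hZ _ hg)
  refine ⟨y, hE hyE, hyM, ?_, hmem⟩
  rcases h.out_sq (hE hyE) hyM with h1 | ⟨h1, -⟩
  · exact h1
  have hf := homOn_autFun α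
  have hpres : ∀ g, InZ m x c g → InZ m x c (autFun α g) := by
    intro g hg
    have hgE := hZ g hg
    refine ((hmem _).1 (autFun_mem α hgE)).resolve_right fun h2 => h.c_ne_one ?_
    rw [← h1, ← h.sq_mul_Z (hE hyE) h2, ← hf.map_mul hgE hgE, h.sq_of_inZ hg, hf.map_one]
  have hcZ : InZ m x c c := Or.inr (Or.inr (Or.inl rfl))
  have hc : autFun α c = c := by
    have h2 : autFun α c = autFun α y * autFun α y := by rw [← hf.map_mul hyE hyE, h1]
    rcases (hmem _).1 (autFun_mem α hyE) with h3 | h3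
    · rw [h.sq_of_inZ h3] at h2
      exact absurd (autFun_injOn α (hZ c hcZ) (one_mem E) (h2.trans hf.map_one.symm)) h.c_ne_one
    · rw [h2, h.sq_mul_Z (hE hyE) h3, h1]
  refine absurd (h.aut_eq_one hE hα (fun g hg => h.fixZ hE hZ hα hpres hcZ h.c_ne_one hc hg)
    fun g hgE hgM => h.inM_of_inZ (hpres g (hsm g hgE hgM))) hne

section Fusion

variable {G : Type u} [Group G] [Finite G] {P E Q : Subgroup G} {m : ℕ} {x c j : G}
  {F : FusionSystem P} {φ : G → G}

theorem Fib.isPGroup_autGroup_top (h : Fib P m x c j) (F : FusionSystem P) :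
    IsPGroup 2 (F.autGroup P) := by
  have := finite_autGroup F P
  refine isPGroup_of_coprime_eq_one fun α _ hα => by_contra fun hne => ?_
  obtain ⟨y, hy, hyM, -, hmem⟩ := fibG G P P m x c j h le_rfl inf_le_left α
    (Nat.coprime_two_right.1 hα) hne
  rcases (hmem x).1 h.xP with h1 | h1
  · exact h.not_inZ_x h1
  · refine hyM ?_
    simpa using h.inM_mul h.inM_x (h.inM_inv (h.inM_of_inZ h1))

theorem Fib.inner_top (h : Fib P m x c j) (hF : F.IsSaturated 2) (hφ : Mor F P φ) :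
    ∃ g ∈ P, ∀ v ∈ P, φ v = g * v * g⁻¹ := by
  obtain ⟨α, hα, e⟩ := hφ.exists_aut' le_rfl fun v hv => hφ.mem hv
  rw [autGroup_top_eq_Inn h.isPGroup hF (h.isPGroup_autGroup_top F), mem_Inn_iff] at hα
  obtain ⟨g, hg, e'⟩ := hα
  exact ⟨g, hg, fun v hv => (e v hv).symm.trans (e' v hv)⟩

theorem Fib.centralizerIn_eq (h : Fib P m x c j) {v : G} (hv : InZ m x c v) :
    centralizerIn P (zpowers v) = P := by
  refine le_antisymm (centralizerIn_le _ _) fun g hg => mem_centralizerIn'.2 ⟨hg, ?_⟩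
  rintro _ ⟨k, rfl⟩
  exact ((show Commute v g from h.comm_Z hv hg).zpow_left k).eq

theorem Fib.cen (h : Fib P m x c j) (hF : F.IsSaturated 2) (hφ : Mor F Q φ) {v : G} (hv : v ∈ Q)
    (h1 : InZ m x c v) (h2 : InZ m x c (φ v)) : φ v = v := by
  have hφ' := hφ.mono (zpowers_le.2 hv)
  have hi : img φ (zpowers v) = zpowers (φ v) := hφ'.homOn.img_zpowers (mem_zpowers v)
  have hfc : F.IsFullyCentralized (zpowers (φ v)) := by
    refine ⟨zpowers_le.2 (hφ.mem hv), fun R _ => ?_⟩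
    rw [h.centralizerIn_eq h2]
    exact card_le_of_le (centralizerIn_le _ _)
  obtain ⟨k, hk, e⟩ := hφ'.extend_centralizerIn (hi ▸ receptive_of_fullyCentralized h.isPGroup hF hfc)
  rw [h.centralizerIn_eq h1] at hk
  obtain ⟨g, hg, e'⟩ := h.inner_top hF (hk.mono le_sup_right)
  rw [← e v (mem_zpowers v), e' v (h.inZ_memP h1), ← h.comm_Z h1 hg, mul_inv_cancel_right]

theorem Fib.conj_cases_E (h : Fib P m x c j) {y s e : G} (hy : y ∈ P) (hyM : ¬ InM x c y)
    (hmem : ∀ g, g ∈ E ↔ InZ m x c g ∨ InZ m x c (y⁻¹ * g)) (hs : s ∈ P)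
    (hsn : s ∈ normalizer (E : Set G)) (he : e ∈ E) :
    s * e * s⁻¹ = e ∨ s * e * s⁻¹ = e * uu m x := by
  have hyE : y ∈ E := (hmem y).2 (Or.inr (Or.inl (inv_mul_cancel y)))
  have hy' : s * y * s⁻¹ = y ∨ s * y * s⁻¹ = y * uu m x := by
    rcases (hmem _).1 (conj_mem_of_mem_normalizer hsn hyE) with h1 | h1
    · exact absurd (h.inM_of_inZ h1) (h.conj_not_inM hs hyM)
    rcases h1 with h1 | h1 | h1 | h1
    · exact Or.inl (by rw [← mul_inv_cancel_left y (s * y * s⁻¹), h1, mul_one])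
    · exact Or.inr (by rw [← mul_inv_cancel_left y (s * y * s⁻¹), h1])
    · exact absurd (by rw [← mul_inv_cancel_left y (s * y * s⁻¹), h1]) (h.not_conj_mul_c hy hyM hs)
    · obtain ⟨g, hg, hgy⟩ := h.exists_conj_mul_u hy hyM
      refine absurd ?_ (h.not_conj_mul_c (mul_mem hy h.uP)
        (h.not_inM_mul' (h.inM_of_inZ (Or.inr (Or.inl rfl))) hyM)
        (mul_mem hs (inv_mem (h.memP hg))))
      rw [mul_assoc y, ← h1, ← hgy]
      group
  rcases (hmem e).1 he with h1 | h1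
  · exact Or.inl (by rw [← h.comm_Z h1 hs, mul_inv_cancel_right])
  · have h2 : s * e * s⁻¹ = s * y * s⁻¹ * (y⁻¹ * e) := by
      rw [show s * e * s⁻¹ = s * y * (y⁻¹ * e * s⁻¹) by group, h.comm_Z h1 (inv_mem hs)]
      group
    rcases hy' with h3 | h3
    · exact Or.inl (by rw [h2, h3, mul_inv_cancel_left])
    · refine Or.inr ?_
      rw [h2, h3, mul_assoc, ← h.comm_Z h1 h.uP]
      group

/-- The essential subgroups. -/
theorem Fib.ess (h : Fib P m x c j) (h2 : EssData.{u}) (hF : F.IsSaturated 2)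
    (hE : F.IsEssential 2 E) : (∀ e ∈ E, e * e = 1) ∧ (∀ g, InZ m x c g → g ∈ E) ∧
      (∀ e ∈ E, InM x c e → InZ m x c e) ∧ ∃ a, Mor F E a ∧ (∀ e ∈ E, a e ∈ E) ∧
        (∃ c', (c' = c ∨ c' = uu m x * c) ∧ a c' = c') ∧ ¬ InM x c (a (uu m x)) := by
  have hEP : E ≤ P := hE.1.1
  have hC : P ⊓ centralizer (E : Set G) ≤ E := fun g hg =>
    IsCentric.centralizerIn_le hE.1 (mem_centralizerIn.2 hg)
  have := finite_autGroup F E
  obtain ⟨α, -, hα, hne⟩ : ∃ α ∈ F.autGroup E, (orderOf α).Coprime 2 ∧ α ≠ 1 := by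
    by_contra! hcon
    exact IsEssential.not_isPGroup hE (isPGroup_of_coprime_eq_one hcon)
  obtain ⟨y, hy, hyM, hy2, hmem⟩ := fibG G P E m x c j h hEP hC α (Nat.coprime_two_right.1 hα) hne
  have hZ : ∀ g, InZ m x c g → g ∈ E := fun g hg => (hmem g).2 (Or.inl hg)
  have hsq : ∀ e ∈ E, e * e = 1 := fun e he => by
    rcases (hmem e).1 he with h1 | h1
    exacts [h.sq_of_inZ h1, (h.sq_mul_Z hy h1).trans hy2]
  have hsm : ∀ e ∈ E, InM x c e → InZ m x c e := fun e he hM => h.inZ_of_sq hM (hsq e he)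
  have hcomm : ∀ a ∈ E, ∀ b ∈ E, a * b = b * a := fun a ha b hb => by
    calc a * b = a * (b * a * (b * a)) * b := by
          rw [hsq _ (mul_mem hb ha), mul_one]
      _ = a * b * (a * b) * a * b := by group
      _ = b * a * (a * b * (a * b)) := by
          rw [hsq _ (mul_mem ha hb), one_mul, mul_one]
          have h1 := hsq _ (mul_mem ha hb)
          have h3 := hsq a ha
          have h4 := hsq b hb
          calc a * b = (a * b)⁻¹ := (inv_eq_of_mul_eq_one_right h1).symm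
            _ = b⁻¹ * a⁻¹ := mul_inv_rev a b
            _ = b * a := by rw [inv_eq_of_mul_eq_one_right h3, inv_eq_of_mul_eq_one_right h4]
      _ = b * a := by rw [hsq _ (mul_mem ha hb), mul_one]
  have hcard : Nat.card E ≤ 8 := by
    rw [← h.card_inf_centralizer_out hy hyM]
    exact card_le_of_le fun e he => ⟨hEP he, mem_centralizer_singleton_iff.2
      (hcomm e he y ((hmem y).2 (Or.inr (Or.inl (inv_mul_cancel y)))))⟩
  obtain ⟨-, a, ha, ha1, ha3, hinv⟩ := h2 G P E F 1 h.isPGroup hF hE (fun γ _ => map_one γ)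
    ((Nat.le_of_dvd Nat.card_pos (index_dvd_card _)).trans hcard)
  obtain ⟨s, hs, hsn, hsE, -⟩ := IsEssential.exists_normalizer h.isPGroup hF hE
  have hf := homOn_autFun a
  have hmor := mor_autFun hEP ha
  have huZ : InZ m x c (uu m x) := Or.inr (Or.inl rfl)
  have hcZ : InZ m x c c := Or.inr (Or.inr (Or.inl rfl))
  have hucZ : InZ m x c (uu m x * c) := Or.inr (Or.inr (Or.inr rfl))
  have huE := hZ _ huZ
  have hu : autFun a (uu m x) ≠ uu m x := by
    intro hu
    obtain ⟨b, hb, hb'⟩ := mem_Inn_iff.1 (hinv s hs hsn hsE)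
    have h3 : conjAut E hsn * a * (conjAut E hsn)⁻¹ * a = 1 := aut_ext fun e he => by
      rw [hb' e he, hcomm b hb e he, mul_inv_cancel_right, autFun_one he]
    have h4 : a = conjAut E hsn * (a * ((conjAut E hsn)⁻¹ * a⁻¹)) := by
      calc a = (a ^ 3)⁻¹ * a := by rw [ha3, inv_one, one_mul]
        _ = (conjAut E hsn * a * (conjAut E hsn)⁻¹ * a) * a⁻¹ * a⁻¹ := by rw [h3]; group
        _ = _ := by group
    have hodd : Odd (orderOf a) :=
      Odd.of_dvd_nat (by decide : Odd 3) (orderOf_dvd_of_pow_eq_one ha3)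
    refine ha1 (aut_ext fun e he => ?_)
    rw [autFun_one he]
    have he1 := autFun_mem a⁻¹ he
    have h5 : autFun (conjAut E hsn)⁻¹ (autFun a⁻¹ e) = s⁻¹ * autFun a⁻¹ e * s⁻¹⁻¹ := by
      have h6 := conj_mem_of_mem_normalizer (inv_mem hsn) he1
      conv_lhs => rw [show autFun a⁻¹ e = s * (s⁻¹ * autFun a⁻¹ e * s⁻¹⁻¹) * s⁻¹ by group,
        ← autFun_conjAut hsn h6, autFun_inv_apply _ h6]
    have h7 : autFun (a * ((conjAut E hsn)⁻¹ * a⁻¹)) e = e ∨
        autFun (a * ((conjAut E hsn)⁻¹ * a⁻¹)) e = e * uu m x := by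
      rw [autFun_mul _ _ he, autFun_mul _ _ he, h5]
      rcases h.conj_cases_E hy hyM hmem (inv_mem hs) (inv_mem hsn) he1 with h8 | h8
      · exact Or.inl (by rw [h8, autFun_apply_inv a he])
      · exact Or.inr (by rw [h8, hf.map_mul he1 huE, autFun_apply_inv a he, hu])
    have h9 : autFun a e = e ∨ autFun a e = e * uu m x := by
      rw [h4, autFun_mul _ _ he, autFun_conjAut hsn (autFun_mem _ he)]
      rcases h7 with h8 | h8
      · rw [h8]; exact h.conj_cases_E hy hyM hmem hs hsn he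
      · rw [h8]
        rcases h.conj_cases_E hy hyM hmem hs hsn (mul_mem he huE) with h10 | h10
        · exact Or.inr h10
        · exact Or.inl (by rw [h10, mul_assoc, h.uu_sq, mul_one])
    rcases h9 with h9 | h9
    · exact h9
    · exact autFun_fix_of_mul (h.isPGroup.to_le hEP) hodd he huE h9 hu
  have huM : ¬ InM x c (autFun a (uu m x)) := fun hM =>
    hu (h.cen hF hmor huE huZ (hsm _ (autFun_mem a huE) hM))
  refine ⟨hsq, hZ, hsm, autFun a, hmor, fun e he => autFun_mem a he, ?_, huM⟩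
  by_cases hcM : InM x c (autFun a c)
  · exact ⟨c, Or.inl rfl, h.cen hF hmor (hZ c hcZ) hcZ (hsm _ (autFun_mem a (hZ c hcZ)) hcM)⟩
  · refine ⟨_, Or.inr rfl, h.cen hF hmor (hZ _ hucZ) hucZ
      (hsm _ (autFun_mem a (hZ _ hucZ)) ?_)⟩
    rw [hf.map_mul huE (hZ c hcZ)]
    exact h.out_mul (hEP (autFun_mem a huE)) huM (hEP (autFun_mem a (hZ c hcZ))) hcM

/-- Elements avoiding all essential subgroups up to conjugacy have no new fusion. -/
theorem Fib.conj_of_avoid (h : Fib P m x c j) (hF : F.IsSaturated 2) (hφ : Mor F Q φ) {v : G}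
    (hv : v ∈ Q) (hav : ∀ A, F.IsEssential 2 A → ∀ g ∈ P, g * v * g⁻¹ ∉ A) :
    ∃ g ∈ P, φ v = g * v * g⁻¹ := by
  refine alperin_induction h.isPGroup hF (fun f => ∃ g ∈ P, f v = g * v * g⁻¹)
    (fun f hf => ⟨1, one_mem P, by rw [hf v hv]; group⟩) ?_ hφ
  rintro f k a A hf ⟨g, hg, e⟩ (rfl | hA) ha - hfA hk
  · obtain ⟨g', hg', e'⟩ := h.inner_top hF ha
    exact ⟨g' * g, mul_mem hg' hg, by rw [hk v hv, e' _ (hfA v hv), e]; group⟩
  · exact absurd (e ▸ hfA v hv) (hav A hA g hg)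

end Fusion

theorem fibF (_h1 : FibG.{u}) (h2 : EssData.{u}) : FibF.{u} := by
  intro G _ _ P m x c j h F hF
  refine ⟨fun Q φ hφ v hv hv2 => h.conj_of_avoid hF hφ hv fun A hA g _ hg => hv2 ?_,
    fun Q φ hφ v hv h1 h3 => h.cen hF hφ hv h1 h3, fun y hy hyM => ?_, fun hu => ?_⟩
  · have := (h.ess h2 hF hA).1 _ hg
    calc v * v = g⁻¹ * (g * v * g⁻¹ * (g * v * g⁻¹)) * g := by group
      _ = 1 := by rw [this]; group
  · refine or_iff_not_imp_left.2 fun hA Q φ hφ hyQ =>
      h.conj_of_avoid hF hφ hyQ fun A hAe g hg hgA => hA ?_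
    obtain ⟨-, hZ, hsm, a, ha, haA, ⟨c', hc', hac⟩, hu⟩ := h.ess h2 hF hAe
    have hAP : A ≤ P := hAe.1.1
    have hcZ : InZ m x c c' := by
      rcases hc' with rfl | rfl
      exacts [Or.inr (Or.inr (Or.inl rfl)), Or.inr (Or.inr (Or.inr rfl))]
    have huA := hZ _ (Or.inr (Or.inl rfl))
    refine ⟨c', hc', A, fun e => g⁻¹ * a e * g⁻¹⁻¹, ha.comp (mor_conj F hAP (inv_mem hg)) haA,
      hZ _ hcZ, huA, ?_, ?_⟩
    · beta_reduce
      rw [hac, ← h.comm_Z hcZ (inv_mem hg), mul_inv_cancel_right]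
    · have h3 := hsm _ (mul_mem (inv_mem hgA) (haA _ huA))
        (h.out_inv_mul (hAP hgA) (h.conj_not_inM hg hyM) (hAP (haA _ huA)) hu)
      have h4 : y⁻¹ * (g⁻¹ * a (uu m x) * g⁻¹⁻¹) = (g * y * g⁻¹)⁻¹ * a (uu m x) := by
        rw [show y⁻¹ * (g⁻¹ * a (uu m x) * g⁻¹⁻¹) =
          g⁻¹ * ((g * y * g⁻¹)⁻¹ * a (uu m x) * g) by group, h.comm_Z h3 hg]
        group
      beta_reduce
      rw [h4]
      exact h3
  · refine eq_inner_of_isPGroup h.isPGroup hF ?_
    rintro A (rfl | hA)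
    · exact h.isPGroup_autGroup_top F
    · obtain ⟨-, hZ, -, a, ha, -, -, hM⟩ := h.ess h2 hF hA
      refine absurd ?_ hM
      rw [hu A a ha (hZ _ (Or.inr (Or.inl rfl)))]
      exact h.inM_of_inZ (Or.inr (Or.inl rfl))

end CL.KB
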