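/-
The steps `G1`, `KC` and `DB1` of the bound k(B) ≤ |D|.
-/
import Cfsg.Agent.Blk.KBBas

set_option autoImplicit false

namespace CL.KB

open Subgroup CL.Inv

universe u

theorem g1_card_le_four {X : Type*} {S : Set X} {p q r s : X}
    (h : ∀ x ∈ S, x = p ∨ x = q ∨ x = r ∨ x = s) : Nat.card S ≤ 4 := by
  have h1 : S ⊆ {p, q, r, s} := fun x hx => by simpa using h x hx
  have h2 := Set.ncard_insert_le p {q, r, s}
  have h3 := Set.ncard_insert_le q {r, s}
  have h4 := Set.ncard_insert_le r {s}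
  have h5 := Set.ncard_singleton s
  have h6 := Set.ncard_le_ncard h1 (Set.toFinite _)
  change S.ncard ≤ 4
  omega

theorem g1_norm {D : Type*} [Group D] [Finite D] {H : Subgroup D} {x : D}
    (h : H ≤ H.comap (MulAut.conj x).toMonoidHom) : x ∈ normalizer (H : Set D) :=
  mem_normalizer_fintype fun _ hn => h hn

theorem g1_mem_sup {D : Type*} [Group D] [Finite D] {w κ : D} (hw : w * w = 1)
    (hc : w * κ = κ * w) (g : D) :
    g ∈ zpowers κ ⊔ zpowers w ↔ g ∈ zpowers κ ∨ g * w ∈ zpowers κ := by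
  rw [mem_sup_zpowers_iff (g1_norm (zpowers_le.2 ?_)) (by rw [hw]; exact one_mem _),
    inv_eq_of_mul_eq_one_left hw]
  change w * κ * w⁻¹ ∈ zpowers κ
  rw [hc, mul_inv_cancel_right]
  exact mem_zpowers κ

theorem g1 : G1.{u} := by
  intro D _ _ hD Q K a b w z κ h hK hκ hcov
  have hc : ∀ k ∈ K, ∀ g, g * k = k * g := fun k hk g => mem_center_iff.1 (hK hk) g
  let C : Subgroup D :=
    { carrier := {g | g * a * g⁻¹ * a⁻¹ ∈ K}
      one_mem' := by
        change 1 * a * 1⁻¹ * a⁻¹ ∈ K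
        rw [show 1 * a * 1⁻¹ * a⁻¹ = (1 : D) by group]; exact K.one_mem
      mul_mem' := fun {g g'} hg hg' => by
        change g * g' * a * (g * g')⁻¹ * a⁻¹ ∈ K
        rw [show g * g' * a * (g * g')⁻¹ * a⁻¹ =
          g * (g' * a * g'⁻¹ * a⁻¹) * (a * g⁻¹ * a⁻¹) by group, hc _ hg',
          show g' * a * g'⁻¹ * a⁻¹ * g * (a * g⁻¹ * a⁻¹) =
            g' * a * g'⁻¹ * a⁻¹ * (g * a * g⁻¹ * a⁻¹) by group]
        exact K.mul_mem hg' hg
      inv_mem' := fun {g} hg => by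
        change g⁻¹ * a * g⁻¹⁻¹ * a⁻¹ ∈ K
        rw [show g⁻¹ * a * g⁻¹⁻¹ * a⁻¹ = g⁻¹ * (g * a * g⁻¹ * a⁻¹)⁻¹ * g by group,
          hc _ (K.inv_mem hg), inv_mul_cancel_right]
        exact K.inv_mem hg }
  have hQC : Q ≤ C := fun q hq => by
    change q * a * q⁻¹ * a⁻¹ ∈ K
    rcases h.conj_a hq with h1 | h1 <;> rw [h1]
    · rw [mul_inv_cancel]; exact K.one_mem
    · rw [← h.wa, mul_inv_cancel_right]; exact h.wK
  have hCQ : C ≤ Q := by
    by_contra h1
    obtain ⟨n, hn, hn1, hn2⟩ := exists_norm_notMem hD (lt_of_le_not_ge hQC h1)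
    change n * a * n⁻¹ * a⁻¹ ∈ K at hn
    rcases h.comm_na hn1 hn2 with h2 | h2 <;> rw [h2] at hn
    · exact h.nab hn
    · exact h.nab ((K.mul_mem_cancel_right h.wK).1 hn)
  have hZ : zpowers κ ≤ K := zpowers_le.2 hκ
  have hN : (zpowers κ).Normal := ⟨fun t ht g => by
    rw [hc t (hZ ht), mul_inv_cancel_right]; exact ht⟩
  refine ⟨κ, hN, hK hκ, Or.inl ⟨(a : D ⧸ zpowers κ), ?_⟩⟩
  have key : ∀ g : D, (g : D ⧸ zpowers κ) ∈ centralizer ({(a : D ⧸ zpowers κ)} : Set _) →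
      g * a * g⁻¹ * a⁻¹ ∈ zpowers κ := fun g hg => by
    rw [← QuotientGroup.eq_one_iff]
    have h1 := mem_centralizer_singleton_iff.1 hg
    simp only [QuotientGroup.mk_mul, QuotientGroup.mk_inv]
    rw [h1]; group
  have hk : ∀ k ∈ K, (k : D ⧸ zpowers κ) = 1 ∨ (k : D ⧸ zpowers κ) = (w : D) := fun k hk => by
    rcases hcov k hk with h1 | h1
    · exact Or.inl ((QuotientGroup.eq_one_iff k).2 h1)
    · refine Or.inr ?_
      have h2 := (QuotientGroup.eq_one_iff _).2 h1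
      rw [QuotientGroup.mk_mul, mul_eq_one_iff_eq_inv, ← QuotientGroup.mk_inv, h.w_inv] at h2
      exact h2
  by_cases hw : w ∈ zpowers κ
  · have hw1 := (QuotientGroup.eq_one_iff w).2 hw
    refine g1_card_le_four (p := 1) (q := (a : D)) (r := (b : D)) (s := (a * b : D)) fun x hx => ?_
    obtain ⟨g, rfl⟩ := QuotientGroup.mk_surjective x
    obtain ⟨k, hk1, h1⟩ := h.exists_eq (hCQ (hZ (key g hx)))
    have h2 : (k : D ⧸ zpowers κ) = 1 := (hk k hk1).elim id fun h3 => h3.trans hw1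
    rcases h1 with rfl | rfl | rfl | rfl
    · exact Or.inl h2
    · exact Or.inr (Or.inl (by rw [QuotientGroup.mk_mul, h2, mul_one]))
    · exact Or.inr (Or.inr (Or.inl (by rw [QuotientGroup.mk_mul, h2, mul_one])))
    · exact Or.inr (Or.inr (Or.inr (by rw [QuotientGroup.mk_mul, h2, mul_one])))
  · refine g1_card_le_four (p := 1) (q := (w : D)) (r := (a : D)) (s := (a * w : D)) fun x hx => ?_
    obtain ⟨g, rfl⟩ := QuotientGroup.mk_surjective x
    have h0 := key g hx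
    obtain ⟨k, hk1, h1⟩ := h.exists_eq (hCQ (hZ h0))
    have h3 : ∀ r, r * k * a * (r * k)⁻¹ * a⁻¹ = r * a * r⁻¹ * a⁻¹ := fun r => by
      rw [mul_assoc r, h.ca k hk1]; group
    rcases h1 with rfl | rfl | rfl | rfl
    · exact (hk g hk1).elim Or.inl fun h2 => Or.inr (Or.inl h2)
    · rcases hk k hk1 with h2 | h2
      · exact Or.inr (Or.inr (Or.inl (by rw [QuotientGroup.mk_mul, h2, mul_one])))
      · exact Or.inr (Or.inr (Or.inr (by rw [QuotientGroup.mk_mul, h2, QuotientGroup.mk_mul])))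
    · rw [h3, h.ba, show w * (a * b) * b⁻¹ * a⁻¹ = w by group] at h0
      exact absurd h0 hw
    · rw [h3, h.conj_i_a, ← h.wa, mul_inv_cancel_right] at h0
      exact absurd h0 hw

theorem kc_le {D : Type*} [Group D] [Finite D] {B K T : Subgroup D} {κ : D}
    (h2 : B.relIndex K ≤ 2) (hBT : B ≤ T) (hκ : κ ∈ K) (hT : κ ∈ T) (hB : κ ∉ B) : K ≤ T := by
  have h1 : B.relIndex K ≠ 1 := fun h1 => hB (relIndex_eq_one.1 h1 hκ)
  have h0 : B.relIndex K ≠ 0 := index_ne_zero_of_finite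
  have h3 : (B.subgroupOf K).index = 2 := by change B.relIndex K = 2; omega
  intro k hk
  by_cases h4 : k ∈ B
  · exact hBT h4
  · have h5 := (mul_mem_iff_of_index_two h3 (a := ⟨k, hk⟩) (b := ⟨κ, hκ⟩)).2
      (by rw [mem_subgroupOf, mem_subgroupOf]; exact iff_of_false h4 hB)
    exact (T.mul_mem_cancel_right hT).1 (hBT (mem_subgroupOf.1 h5))

theorem kc : KC.{u} := by
  intro D _ _ hD Q K a b w z y h hy hi
  have main : ∀ r, r * r = w → (∀ k ∈ K, k * r = r * k) → ∀ κ ∈ K, y = r * κ →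
      ∃ κ ∈ K, ∀ k ∈ K, k ∈ zpowers κ ∨ k * w ∈ zpowers κ := fun r hr hc κ hκ hy1 => by
    have hv : y ^ 2 = w * (κ * κ) := by
      rw [pow_two, hy1, mul_assoc, ← mul_assoc κ, hc κ hκ, ← hr]; group
    have hB : zpowers (y ^ 2) ≤ K := by
      rw [hv]; exact zpowers_le.2 (K.mul_mem h.wK (K.mul_mem hκ hκ))
    have h1 : orderOf y ≤ 2 * orderOf (y ^ 2) :=
      orderOf_le_of_pow_eq_one (Nat.mul_pos two_pos (orderOf_pos _))
        (by rw [pow_mul, pow_orderOf_eq_one])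
    have h2 := card_mul_index ((zpowers y).subgroupOf Q)
    have h3 := card_mul_index ((zpowers (y ^ 2)).subgroupOf K)
    rw [Nat.card_congr (subgroupOfEquivOfLe (zpowers_le.2 hy)).toEquiv, Nat.card_zpowers,
      h.card] at h2
    rw [Nat.card_congr (subgroupOfEquivOfLe hB).toEquiv, Nat.card_zpowers] at h3
    have h4 : (zpowers (y ^ 2)).relIndex K ≤ 2 := by
      change ((zpowers y).subgroupOf Q).index ≤ 4 at hi
      change ((zpowers (y ^ 2)).subgroupOf K).index ≤ 2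
      have h5 := Nat.mul_le_mul h1 hi
      have h6 := orderOf_pos (y ^ 2)
      rw [h2, ← h3] at h5
      nlinarith
    by_cases h5 : κ ∈ zpowers (y ^ 2)
    · have h6 : y ^ 2 = w := by
        rw [hv] at h5 ⊢
        rcases eq_of_mem_zpowers_mul_sq hD h.w2 (h.wk hκ) h5 with h7 | h7 <;> rw [h7]
        · rw [mul_one, mul_one]
        · rw [h.w2, mul_one]
      rw [h6] at h4
      by_cases h7 : K ≤ zpowers w
      · exact ⟨w, h.wK, fun k hk => Or.inl (h7 hk)⟩
      · obtain ⟨κ', h8, h9⟩ := SetLike.not_le_iff_exists.1 h7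
        exact ⟨κ', h8, fun k hk => (g1_mem_sup h.w2 (h.wk h8) k).1
          (kc_le h4 le_sup_right h8 (mem_sup_left (mem_zpowers κ')) h9 hk)⟩
    · refine ⟨κ, hκ, fun k hk => (g1_mem_sup h.w2 (h.wk hκ) k).1
        (kc_le h4 (zpowers_le.2 ?_) hκ (mem_sup_left (mem_zpowers κ)) h5 hk)⟩
      rw [hv]
      exact mul_mem (mem_sup_right (mem_zpowers w))
        (mem_sup_left (mul_mem (mem_zpowers κ) (mem_zpowers κ)))
  obtain ⟨κ, hκ, h1 | h1 | h1 | h1⟩ := h.exists_eq hy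
  · subst h1
    have h2 := relIndex_mul_relIndex (zpowers y) K Q (zpowers_le.2 hκ) h.KQ
    have h0 : (zpowers y).relIndex K ≠ 0 := index_ne_zero_of_finite
    rw [h.relIndex] at h2
    exact ⟨y, hκ, fun k hk => Or.inl (relIndex_eq_one.1 (by omega) hk)⟩
  · exact main a h.a2 h.ca κ hκ h1
  · exact main b h.b2 h.cb κ hκ h1
  · exact main _ h.i2 (fun _ => h.ci) κ hκ h1

theorem db1 (h1 : G1.{u}) (h2 : Gen2.{u}) : DB1.{u} := by
  intro D _ _ hD Q K a b w z h hQ
  have hQn := normal_of_index_eq_two hQ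
  obtain ⟨t, ht⟩ : ∃ t, t ∉ Q := by
    by_contra h3
    have h4 : Q = ⊤ := eq_top_iff.2 fun g _ => by_contra fun h5 => h3 ⟨g, h5⟩
    rw [h4, index_top] at hQ
    omega
  have hn : t ∈ normalizer (Q : Set D) := by rw [normalizer_eq_top]; exact mem_top t
  have htK : ∀ k ∈ K, t * k * t⁻¹ ∈ K := fun k hk => (mem_normalizer_iff.1 (h.nK hn ht) k).1 hk
  -- the second subgroup of index two
  have m0 := mem_sup_zpowers_iff (A := K) (w := a * b)
    (g1_norm fun k hk => h.conj_mem h.iQ hk) (by rw [h.i2]; exact h.wK)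
  have hM0 : K ⊔ zpowers (a * b) ≤ Q := sup_le h.KQ (zpowers_le.2 h.iQ)
  have hi0 : a * b ∈ K ⊔ zpowers (a * b) := mem_sup_right (mem_zpowers _)
  have m2 := mem_sup_zpowers_iff (A := K ⊔ zpowers (a * b)) (w := t)
    (g1_norm (sup_le (fun k hk => mem_sup_left (htK k hk)) (zpowers_le.2 (by
      change t * (a * b) * t⁻¹ ∈ K ⊔ zpowers (a * b)
      rcases h.ni hn ht with h3 | h3 <;> rw [h3]
      exacts [hi0, mul_mem hi0 (mem_sup_left h.wK)]))))
    (by
      rcases h.sq_mem hn ht with h3 | h3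
      · exact mem_sup_left h3
      · exact (mul_mem_cancel_left (inv_mem hi0)).1 (mem_sup_left h3))
  have c0 := card_eq_two_mul_of_mem_iff h.nab m0
  have c2 := card_eq_two_mul_of_mem_iff (fun h3 => ht (hM0 h3)) m2
  have hidx : (K ⊔ zpowers (a * b) ⊔ zpowers t).index = 2 := by
    have h3 := card_mul_index (K ⊔ zpowers (a * b) ⊔ zpowers t)
    have h4 := card_mul_index Q
    rw [c2, c0] at h3
    rw [h.card, hQ, ← h3] at h4
    have h5 : 0 < Nat.card K := Nat.card_pos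
    nlinarith
  have hgen : closure {t, a} = ⊤ := h2 D hD Q _ a t hQ hidx h.aQ (fun h3 => by
    rcases (m2 a).1 h3 with h4 | h4
    · rcases (m0 a).1 h4 with h5 | h5
      · exact h.na h5
      · have h6 := h.conj_mem (Q.inv_mem h.aQ) h5
        rw [show a⁻¹ * (a * (a * b)⁻¹) * a⁻¹⁻¹ = b⁻¹ by group] at h6
        exact h.nb (K.inv_mem_iff.1 h6)
    · exact ht (Q.inv_mem_iff.1 ((Q.mul_mem_cancel_left h.aQ).1 (hM0 h4))))
    (mem_sup_right (mem_zpowers t)) ht
  have hcen : ∀ g, t * g = g * t → a * g = g * a → g ∈ center D := fun g h3 h4 => by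
    have h5 : closure {t, a} ≤ centralizer {g} := by
      rw [closure_le]
      rintro _ (rfl | rfl)
      exacts [mem_centralizer_singleton_iff.2 h3, mem_centralizer_singleton_iff.2 h4]
    rw [hgen] at h5
    exact mem_center_iff.2 fun x => mem_centralizer_singleton_iff.1 (h5 (mem_top x))
  obtain ⟨κ, hκ, hκt, hsq⟩ : ∃ κ ∈ K, t * κ = κ * t ∧ (t * t = κ ∨ t * t = a * b * κ) := by
    rcases h.sq_mem hn ht with h3 | h3
    · exact ⟨_, h3, (mul_assoc _ _ _).symm, Or.inl rfl⟩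
    · have h4 : Commute t (a * b) := h.ni_of_sq hn ht h3
      exact ⟨_, h3, h4.inv_right.mul_right ((Commute.refl t).mul_right (Commute.refl t)),
        Or.inr (mul_inv_cancel_left _ _).symm⟩
  set T := zpowers κ ⊔ zpowers w with hT
  have hTc : T ≤ center D := sup_le (zpowers_le.2 (hcen κ hκt (h.ca κ hκ).symm))
    (zpowers_le.2 (hcen w (h.nw hn ht) h.wa.symm))
  have hTK : T ≤ K := sup_le (zpowers_le.2 hκ) (zpowers_le.2 h.wK)
  have hTg : ∀ g, ∀ k ∈ T, g * k * g⁻¹ ∈ T := fun g k hk => by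
    rw [mem_center_iff.1 (hTc hk) g, mul_inv_cancel_right]; exact hk
  have hwT : w ∈ T := mem_sup_right (mem_zpowers w)
  have t1 := mem_sup_zpowers_iff (A := T) (w := a) (g1_norm fun k hk => hTg a k hk)
    (by rw [h.a2]; exact hwT)
  have ha1 : a ∈ T ⊔ zpowers a := mem_sup_right (mem_zpowers a)
  have t2 := mem_sup_zpowers_iff (A := T ⊔ zpowers a) (w := b)
    (g1_norm (sup_le (fun k hk => mem_sup_left (hTg b k hk)) (zpowers_le.2 (by
      change b * a * b⁻¹ ∈ T ⊔ zpowers a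
      rw [h.ba, mul_assoc, mul_inv_cancel_right]
      exact mul_mem (mem_sup_left hwT) ha1))))
    (by rw [h.b2]; exact mem_sup_left hwT)
  have ha2 : a ∈ T ⊔ zpowers a ⊔ zpowers b := mem_sup_left ha1
  have hb2 : b ∈ T ⊔ zpowers a ⊔ zpowers b := mem_sup_right (mem_zpowers b)
  have hw2 : w ∈ T ⊔ zpowers a ⊔ zpowers b := mem_sup_left (mem_sup_left hwT)
  have hκ2 : κ ∈ T ⊔ zpowers a ⊔ zpowers b :=
    mem_sup_left (mem_sup_left (mem_sup_left (mem_zpowers κ)))
  have t3 := mem_sup_zpowers_iff (A := T ⊔ zpowers a ⊔ zpowers b) (w := t)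
    (g1_norm (sup_le (sup_le (fun k hk => mem_sup_left (mem_sup_left (hTg t k hk)))
      (zpowers_le.2 (by
        change t * a * t⁻¹ ∈ T ⊔ zpowers a ⊔ zpowers b
        rcases h.na' hn ht with h3 | h3 <;> rw [h3]
        exacts [hb2, mul_mem hb2 hw2]))) (zpowers_le.2 (by
        change t * b * t⁻¹ ∈ T ⊔ zpowers a ⊔ zpowers b
        rcases h.nb' hn ht with h3 | h3 <;> rw [h3]
        exacts [ha2, mul_mem ha2 hw2]))))
    (by
      rcases hsq with h3 | h3 <;> rw [h3]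
      exacts [hκ2, mul_mem (mul_mem ha2 hb2) hκ2])
  have htop : closure {t, a} ≤ T ⊔ zpowers a ⊔ zpowers b ⊔ zpowers t := by
    rw [closure_le]
    rintro _ (rfl | rfl)
    exacts [mem_sup_right (mem_zpowers _), mem_sup_left ha2]
  have hT2 : T ⊔ zpowers a ⊔ zpowers b ≤ Q :=
    sup_le (sup_le (hTK.trans h.KQ) (zpowers_le.2 h.aQ)) (zpowers_le.2 h.bQ)
  have hKT : K ≤ T := fun k hk => by
    rcases (t3 k).1 (htop (hgen ▸ mem_top k)) with h3 | h3
    · rcases (t2 k).1 h3 with h4 | h4 <;> rcases (t1 _).1 h4 with h5 | h5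
      · exact h5
      · exact absurd (K.inv_mem_iff.1 ((K.mul_mem_cancel_left hk).1 (hTK h5))) h.na
      · exact absurd (K.inv_mem_iff.1 ((K.mul_mem_cancel_left hk).1 (hTK h5))) h.nb
      · rw [mul_assoc, ← mul_inv_rev] at h5
        exact absurd (K.inv_mem_iff.1 ((K.mul_mem_cancel_left hk).1 (hTK h5))) h.nab
    · exact absurd (Q.inv_mem_iff.1 ((Q.mul_mem_cancel_left (h.KQ hk)).1 (hT2 h3))) ht
  exact h1 D hD.pg Q K a b w z κ h (hKT.trans hTc) hκ fun k hk =>
    (g1_mem_sup h.w2 (h.wk hκ) k).1 (hKT hk)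

end CL.KB
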