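/-
Brauer's bound k(B) ≤ |D| for two families of 2-groups: at most eight characters of height zero.
-/
import Cfsg.Agent.Blk.KBFib

set_option autoImplicit false
set_option linter.unusedSectionVars false

namespace CL.KB

open MonoidAlgebra Cfsg CL.Char CL.Grp CL.Blk CL.Blk.Rk CL.Blk.Pair Subgroup
open scoped ComplexConjugate IsMulCommutative

universe u

namespace K0

section Grp

variable {Q : Type*} [Group Q] {y : Q} {k : ℕ} {θ : Q → ℂ}

theorem pow_cyc [Finite Q] (hθ : IsGeneralizedCharacter Q θ) {N : ℕ} (h0 : N ≠ 0) (hN : y ^ N = 1) :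
    (fun t => θ (y ^ t)) ∈ cyc N := by
  have := Fintype.ofFinite (zpowers y)
  have h : ∀ t : ℕ, θ (y ^ t) = ∑ ψ : zpowers y →* ℂˣ, classInner (fun a : zpowers y => θ a) (lin ψ) *
      (ψ ⟨y, mem_zpowers y⟩ : ℂ) ^ t := fun t => by
    simpa only [lin_apply, map_pow, Units.val_pow_eq_pow_val, SubmonoidClass.coe_pow] using
      apply_eq_sum_lin (fun a b => mul_comm a b) (fun a : zpowers y => θ a) (⟨y, mem_zpowers y⟩ ^ t)
  simp only [h]
  refine sum_mem_cyc _ fun ψ _ => mul_mem_cyc ?_ (pow_mem_cyc h0 (by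
    rw [← Units.val_pow_eq_pow_val, ← map_pow, show (⟨y, mem_zpowers y⟩ : zpowers y) ^ N = 1 from Subtype.ext hN,
      map_one, Units.val_one]))
  obtain ⟨n, hn⟩ := (hθ.restrict (zpowers y)).exists_int_classInner (isGenChar_lin ψ)
  rw [hn]; exact const_mem_cyc n

/-- The odd powers. -/
def od (y : Q) : Set Q := {v | ∃ t : ℕ, ¬ 2 ∣ t ∧ v = y ^ t}

theorem inv_od (ho : orderOf y = 2 ^ (k + 1)) : y⁻¹ ∈ od y := by
  obtain ⟨n, hn⟩ : ∃ n, 2 ^ k = n + 1 := ⟨_, (Nat.succ_pred_eq_of_pos (by positivity)).symm⟩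
  refine ⟨2 * n + 1, by omega, inv_eq_of_mul_eq_one_left ?_⟩
  rw [← pow_succ, show 2 * n + 1 + 1 = 2 ^ (k + 1) by rw [pow_succ]; omega, ← ho, pow_orderOf_eq_one]

theorem pow_od {s : Q} {t : ℕ} (hs : s ∈ od y) (ht : ¬ 2 ∣ t) : s ^ t ∈ od y := by
  obtain ⟨r, hr, rfl⟩ := hs
  exact ⟨r * t, fun h => (Nat.prime_two.dvd_mul.1 h).elim hr ht, (pow_mul _ _ _).symm⟩

theorem self_od : y ∈ od y := ⟨1, by decide, (pow_one y).symm⟩

theorem pow_eq_of_od {s : Q} (ho : orderOf y = 2 ^ (k + 1)) (hs : s ∈ od y) : s ^ 2 ^ k = y ^ 2 ^ k := by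
  obtain ⟨t, ht, rfl⟩ := hs
  obtain ⟨r, rfl⟩ : ∃ r, t = 2 * r + 1 := ⟨t / 2, by omega⟩
  rw [← pow_mul, add_mul, one_mul, pow_add, mul_right_comm, ← pow_succ', ← ho, pow_mul, pow_orderOf_eq_one, one_pow,
    one_mul]

theorem ctrl (ho : orderOf y = 2 ^ (k + 1)) : Ctrl (centralizer {y ^ 2 ^ k}) (od y) := fun s hs g hg => by
  rw [mem_centralizer_singleton_iff, ← mul_inv_eq_iff_eq_mul, ← pow_eq_of_od ho hs, ← conj_pow, pow_eq_of_od ho hg,
    pow_eq_of_od ho hs]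

variable [Fintype Q]

theorem inner_od (ho : orderOf y = 2 ^ (k + 1)) (hc : Nat.card Q = 2 ^ (k + 3)) (θ : Q → ℂ) :
    classInner ((od y).indicator fun _ => 8) θ = (2 ^ k)⁻¹ * ∑ t ∈ tSet 2 k, conj (θ (y ^ t)) := by
  classical
  have h : ∀ v, v ∈ od y ↔ v ∈ (tSet 2 k).image (y ^ ·) := fun v => by
    simp only [tSet, Finset.mem_image, Finset.mem_filter, Finset.mem_range]
    refine ⟨fun ⟨t, ht, e⟩ => ⟨t % 2 ^ (k + 1), ⟨Nat.mod_lt _ (by positivity), fun d => ht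
      ((Nat.dvd_mod_iff (dvd_pow_self 2 k.succ_ne_zero)).1 d)⟩, by rw [← ho, pow_mod_orderOf, e]⟩,
      fun ⟨t, ht, e⟩ => ⟨t, ht.2, e.symm⟩⟩
  rw [classInner_def, hc, ← Finset.sum_subset (Finset.subset_univ ((tSet 2 k).image (y ^ ·))) fun v _ hv => by
    rw [Set.indicator_of_notMem (mt (h v).1 hv), zero_mul], Finset.sum_image fun a ha b hb e =>
      pow_injOn_Iio_orderOf (ho ▸ Finset.mem_range.1 (Finset.mem_filter.1 ha).1)
        (ho ▸ Finset.mem_range.1 (Finset.mem_filter.1 hb).1) e,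
    Finset.sum_congr rfl fun t ht => by rw [Set.indicator_of_mem ((h _).2 (Finset.mem_image_of_mem _ ht))],
    ← Finset.mul_sum]
  push_cast
  field_simp
  ring

theorem cls_ind {S : Set Q} (hS : ∀ g, ∀ s ∈ S, g * s * g⁻¹ ∈ S) (hθ : IsClassFunction Q θ) :
    IsClassFunction Q (S.indicator θ) := fun v g => by
  by_cases hv : v ∈ S
  · rw [Set.indicator_of_mem hv, Set.indicator_of_mem (hS g v hv), hθ]
  · rw [Set.indicator_of_notMem hv, Set.indicator_of_notMem fun h => hv (by simpa [mul_assoc] using hS g⁻¹ _ h)]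

theorem gen_od (ho : orderOf y = 2 ^ (k + 1)) (hc : Nat.card Q = 2 ^ (k + 3))
    (hS : ∀ g, ∀ s ∈ od y, g * s * g⁻¹ ∈ od y) : IsGeneralizedCharacter Q ((od y).indicator fun _ => 8) := by
  refine isGeneralizedCharacter_iff.2 ⟨cls_ind hS (isClassFunction_const _), fun χ hχ => ?_⟩
  obtain ⟨n, hn⟩ := exists_int_avg_two (conj_mem_cyc (by positivity)
    (pow_cyc hχ.isGeneralizedCharacter (by positivity) (ho ▸ pow_orderOf_eq_one y)))
  exact ⟨n, by rw [inner_od ho hc, hn, inv_mul_cancel_left₀ (pow_ne_zero _ two_ne_zero)]⟩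

theorem inner_pair (hc : Nat.card Q = 2 ^ (k + 3)) (h : y ≠ y⁻¹) (e : θ y⁻¹ = θ y) :
    2 ^ (k + 2) * classInner (({y, y⁻¹} : Set Q).indicator θ) θ = θ y * conj (θ y) := by
  classical
  rw [classInner_def, hc, ← Finset.sum_subset (Finset.subset_univ {y, y⁻¹}) fun v _ hv => by
    rw [Set.indicator_of_notMem (by simpa using hv), zero_mul], Finset.sum_pair h,
    Set.indicator_of_mem (by simp), Set.indicator_of_mem (by simp), e]
  push_cast
  field_simp
  ring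

theorem card_le {β : Q → ℂ} (hβ : IsGeneralizedCharacter Q β) {n : ℕ} (h : classInner β β = n)
    {p : IrrCharacter Q → Prop} (hp : ∀ χ, p χ → classInner β (χ : Q → ℂ) ≠ 0) : Nat.card {χ // p χ} ≤ n := by
  classical
  choose c hc using fun χ : IrrCharacter Q => hβ.exists_int_classInner χ.2.isGeneralizedCharacter
  rw [hβ.isClassFunction.classInner_eq_sum] at h
  simp only [hc, map_intCast] at h hp
  have h1 : ∑ χ, c χ * c χ = n := by exact_mod_cast h
  rw [Nat.card_eq_fintype_card, Fintype.card_subtype, ← Int.ofNat_le, ← h1, Finset.card_eq_sum_ones]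
  push_cast
  exact (Finset.sum_le_sum fun χ hχ => mul_self_pos.2 (by
    exact_mod_cast hp χ (Finset.mem_filter.1 hχ).2)).trans (Finset.sum_le_sum_of_subset_of_nonneg
      (Finset.filter_subset _ _) fun _ _ _ => mul_self_nonneg _)

end Grp

theorem sInd_mul {G : Type*} [Group G] [Fintype G] {M : Ideal AlgInt} {P : Subgroup G} {e : (resField M)[G]}
    {B : Set (IrrCharacter G)} (h : IsMax 2 ⊤ ⊤ (eBlk M B) P e) (hM : IsPModular 2 M) (hn : IsNil 2 ⊤ ⊤ (eBlk M B))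
    {S : Set G} {S' : Set P} (e' : ∀ v : P, (v : G) ∈ S ↔ v ∈ S') (hS : ∀ g, ∀ s ∈ S', g * s * g⁻¹ ∈ S') (θ : P → ℂ) :
    sInd 2 P e S * θ = S'.indicator θ := by
  have := charP_resField hM
  funext v
  by_cases hv : v ∈ S'
  · rw [Pi.mul_apply, Set.indicator_of_mem hv, sInd_of_meets (meets_of_mem h.pair v.2 ((e' v).2 hv)), one_mul]
  · rw [Pi.mul_apply, Set.indicator_of_notMem hv, sInd_of_not_meets, zero_mul]
    rintro ⟨s, hs, h1⟩
    obtain ⟨g, hg⟩ := isConj_iff.1 ((h.mem_fcls_iff_of_isNil hM hn (w := ⟨s, h1.mem⟩)).1 h1).symm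
    exact hv (hg ▸ hS g _ ((e' ⟨s, h1.mem⟩).1 hs))

theorem main {G : Type*} [Group G] [Finite G] {M : Ideal AlgInt} {P T : Subgroup G} {e : (resField M)[G]}
    {B : Set (IrrCharacter G)} {k : ℕ} {x c j : G} (K : Bk M B P e) (F : Fib P (k + 1) x c j) (hj : j * x * j⁻¹ = x⁻¹)
    (fc : FC 2 P e x) {b : Set (IrrCharacter T)} {e' : (resField M)[T]} (h' : SubMax 2 M P e T b e')
    (hn : IsNil 2 ⊤ ⊤ (eBlk M b)) (hS : Ctrl T (od x)) : k0 B ≤ 8 := by
  classical
  obtain ⟨hM, hB, h⟩ := K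
  have := charP_resField hM
  have := Fintype.ofFinite G
  have := Fintype.ofFinite T
  have := Fintype.ofFinite (P.subgroupOf T)
  let y : P.subgroupOf T := ⟨⟨x, h'.le F.xP⟩, F.xP⟩
  have ho : orderOf y = 2 ^ (k + 1) := by rw [← orderOf_coe, ← orderOf_coe]; exact F.ord
  have hc : Nat.card (P.subgroupOf T) = 2 ^ (k + 3) := (F.subgroupOf h'.le).card
  have cy : ∀ g : P.subgroupOf T, g * y * g⁻¹ = y ∨ g * y * g⁻¹ = y⁻¹ := fun g =>
    (F.conj_cases (p := g.1.1) g.2 F.inM_x).imp (fun e => Subtype.ext (Subtype.ext e))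
      fun e => Subtype.ext (Subtype.ext (e.trans hj))
  have i1 : ∀ g, ∀ s ∈ od y, g * s * g⁻¹ ∈ od y := by
    rintro g _ ⟨t, ht, rfl⟩
    rw [← conj_pow]
    exact pow_od ((cy g).elim (·.symm ▸ self_od) (·.symm ▸ inv_od ho)) ht
  have i2 : ∀ g, ∀ s ∈ ({y, y⁻¹} : Set _), g * s * g⁻¹ ∈ ({y, y⁻¹} : Set _) := by
    rintro g _ (rfl | rfl)
    · exact cy g
    · rw [← conj_inv]; exact (cy g).symm.imp (fun e => by rw [e, inv_inv]) fun e => congrArg _ e
  have x2 : x * x ≠ 1 := fun e => F.not_inZ_x (F.inZ_of_sq F.inM_x e)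
  obtain ⟨ξ, hξ, h0⟩ := exists_height_zero (p := 2) (tr_nonempty hM h'.blk)
  have hx := ξ.2.isClassFunction
  have iso := fun θ θ' => h'.isMax.classInner_bstar_of_isNil hM h'.blk hn hξ h0 (θ := θ) (θ' := θ')
  have gn := fun θ (a : IsGeneralizedCharacter _ θ) => h'.isMax.isGeneralizedCharacter_bstar hM
    (h'.isMax.stable_of_isNil hM hn a.isClassFunction) a ξ.2.isGeneralizedCharacter
  have g0 := gen_od ho hc i1
  have p0 := prj_bstar (e := e') (S := (↑) ⁻¹' od x) hM hx ((od y).indicator fun _ => 8)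
  rw [sInd_mul h'.isMax hM hn (S := (↑) ⁻¹' od x) (S' := od y) (fun v => ⟨fun ⟨t, a, e⟩ => ⟨t, a, Subtype.ext (Subtype.ext e)⟩,
    fun ⟨t, a, e⟩ => ⟨t, a, congrArg (fun a : P.subgroupOf T => (a.1.1 : G)) e⟩⟩) i1,
    Set.indicator_indicator, Set.inter_self] at p0
  refine card_le (isGeneralizedCharacter_indFun (gn _ g0)) ?_ fun χ hχ => ?_
  · rw [h'.classInner_indFun hM hS (gn _ g0).isClassFunction p0 p0, iso _ _ g0.isClassFunction g0.isClassFunction,
      inner_od ho hc, Finset.sum_congr rfl fun t ht => by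
        rw [Set.indicator_of_mem (pow_od self_od (not_dvd_of_mem_tSet ht))], Finset.sum_const, card_tSet_two]
    simp [map_ofNat]
  have cχ := χ.2.isClassFunction
  obtain ⟨θ, hθ, h1⟩ := MCB.exists_bstar_eq h'.isMax hM hn h'.blk hξ h0 fun t : T => (χ : G → ℂ) t
  have key : ∀ η, IsClassFunction _ η →
      classInner (bstar 2 M (P.subgroupOf T) e' η ξ) (fun t : T => (χ : G → ℂ) t) = classInner η θ := fun η a => by
    rw [← h'.isMax.blockPart_bstar hM h'.blk hx, classInner_blockPart_left, ← h1, iso _ _ a hθ]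
  have gθ : IsGeneralizedCharacter _ θ := isGeneralizedCharacter_iff.2 ⟨hθ, fun ψ hψ => by
    rw [← iso _ _ hθ hψ.isClassFunction, h1]
    exact (isGeneralizedCharacter_blockPart _ (χ.2.isGeneralizedCharacter.restrict T)).exists_int_classInner
      (gn _ hψ.isGeneralizedCharacter)⟩
  have e1 : θ y⁻¹ = θ y := by
    rw [← hθ y ⟨⟨j, h'.le F.jP⟩, F.jP⟩]
    exact congrArg θ (Subtype.ext (Subtype.ext hj.symm))
  have e2 : conj (θ y) = θ y := by rw [gθ.conj_apply, e1]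
  have h2 : prj 2 M P e {x} = prj 2 M P e {x, x⁻¹} := by
    refine prj_congr fun v hv => ⟨fun h2 => h2.mono (by simp), ?_⟩
    rintro ⟨_, rfl | rfl, h2⟩
    · exact meets_singleton.2 h2
    · refine meets_singleton.2 (h2.trans h.pair ?_)
      have h3 := fus_conj h.pair (inv_mem F.xP) F.jP
      rwa [← conj_inv, hj, inv_inv] at h3
  have h3 : cm 2 M P e x χ χ = θ y * conj (θ y) := by
    rw [cm, F.inf_centralizer_in F.inM_x x2, F.card_M, h2, h'.classInner_prj h hM (hS.mono (by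
      rintro _ (rfl | rfl)
      exacts [self_od, inv_od F.ord])) cχ cχ, ← h'.isMax.prj_blockPart hM h'.blk (cχ.restrict T), ← h1,
      prj_bstar hM hx, sInd_mul h'.isMax hM hn (S := (↑) ⁻¹' ({x, x⁻¹} : Set G)) (S' := {y, y⁻¹})
        (fun v => by simp [y, Subtype.ext_iff]) i2,
      key _ (cls_ind i2 hθ), ← inner_pair hc (fun e => x2 (mul_eq_one_iff_eq_inv.2
        (congrArg (fun a : P.subgroupOf T => (a.1.1 : G)) e))) e1]
    push_cast; rfl
  have h4 := (h.val_cm_eq_one_iff hM hB fc χ χ).2 ⟨hχ, hχ⟩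
  have h5 := val_le_one_iff.2 (genChar_mem_valRing M gθ y)
  rw [h3, e2, map_mul, MCB.mul_eq_one_iff_of_le_one' h5 h5] at h4
  obtain ⟨n, hn1, hn2⟩ := exists_int_avg_two_of_real hM (conj_mem_cyc (by positivity)
    (pow_cyc gθ (by positivity) (ho ▸ pow_orderOf_eq_one y))) (by simp only [pow_one, e2])
  rw [frobenius_reciprocity _ cχ, key _ g0.isClassFunction, inner_od ho hc, hn1,
    inv_mul_cancel_left₀ (pow_ne_zero _ two_ne_zero)]
  intro e
  simp [e, e2, h4.1] at hn2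

end K0

theorem k0b : K0b.{u} := by
  intro G _ _ M B P e m x c j K F hj fc b e' h' hn
  obtain ⟨k, rfl⟩ : ∃ k, m = k + 1 := ⟨m - 1, by have := F.two; omega⟩
  exact K0.main K F hj fc h' hn (K0.ctrl F.ord)

end CL.KB
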