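/-
The lower bound for the number of characters of a block with defect group `Fib` (helper99).
-/
import Cfsg.Agent.Blk.KBFib

set_option autoImplicit false

namespace CL.KB

open MonoidAlgebra Cfsg Cfsg.FusionSystem CL.Blk CL.Blk.Pair CL.Fus Subgroup

universe u

/-- Counting subsections: classes of length at most two in `S`, and further classes of the elements of `R`. -/
theorem count_sub {G : Type*} [Group G] [Finite G] {M : Ideal AlgInt} {B : Set (IrrCharacter G)}
    {P : Subgroup G} {e : (resField M)[G]} (h : Bk M B P e) (S R : Finset G)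
    (hS : ∀ v ∈ S, v ∈ P ∧ (fcls 2 P e v (below 2 P e v)).ncard ≤ 2) (hR : ∀ r ∈ R, r ∈ P)
    (hRS : ∀ r ∈ R, ∀ v ∈ S, ¬ Fus 2 P e r v) (hRR : ∀ r ∈ R, ∀ r' ∈ R, Fus 2 P e r r' → r = r') :
    S.card + 2 * ∑ r ∈ R, lOf 2 M r (below 2 P e r) ≤ 2 * Nat.card B := by
  classical
  have := Fintype.ofFinite G
  have := charP_resField h.hM
  have he := h.max.pair
  have h1 : (Nat.card B : ℝ) =
      ∑ v : P, (lOf 2 M (v : G) (below 2 P e v) : ℝ) / (fcls 2 P e v (below 2 P e v)).ncard := by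
    refine Complex.ofReal_injective ?_
    push_cast
    exact h.max.card_eq_sum_lOf h.hM h.hB
  have h2 : ∀ v : P, (if (v : G) ∈ S then (1 / 2 : ℝ) else 0) + ∑ r ∈ R, (if Fus 2 P e r v then
      (lOf 2 M r (below 2 P e r) : ℝ) / (fcls 2 P e r (below 2 P e r)).ncard else 0) ≤
      (lOf 2 M (v : G) (below 2 P e v) : ℝ) / (fcls 2 P e v (below 2 P e v)).ncard := fun v => by
    by_cases hv : ∃ r ∈ R, Fus 2 P e r v
    · obtain ⟨r, hr, hrv⟩ := hv
      rw [if_neg fun hs => hRS r hr v hs hrv, zero_add, Finset.sum_eq_single_of_mem r hr fun r' hr' hne =>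
        if_neg fun h' => hne (hRR r' hr' r hr (h'.trans he (hrv.symm he (hR r hr)))), if_pos hrv,
        h.max.lOf_eq_of_mem_fcls h.hM h.hB (hR r hr) hrv, fcls_eq_of_mem he hrv]
    · push Not at hv
      rw [Finset.sum_eq_zero fun r hr => if_neg (hv r hr), add_zero]
      have h3 : (0 : ℝ) < (fcls 2 P e v (below 2 P e v)).ncard := by exact_mod_cast ncard_fcls_pos he v.2
      have h4 : (1 : ℝ) ≤ lOf 2 M (v : G) (below 2 P e v) := by exact_mod_cast h.max.lOf_pos h.hM v.2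
      split_ifs with hs
      · have h5 : ((fcls 2 P e v (below 2 P e v)).ncard : ℝ) ≤ 2 := by exact_mod_cast (hS v hs).2
        rw [le_div_iff₀ h3]; linarith
      · positivity
  have h3 := Finset.sum_le_sum fun v (_ : v ∈ (Finset.univ : Finset P)) => h2 v
  have h4 : ∀ T : Finset G, (∀ v ∈ T, v ∈ P) → (Finset.univ.filter fun v : P => (v : G) ∈ T).card = T.card :=
    fun T hT => Finset.card_bij (fun v _ => (v : G)) (fun v hv => by simpa using hv)
      (fun a _ b _ hab => Subtype.ext hab) fun w hw => ⟨⟨w, hT w hw⟩, by simpa using hw, rfl⟩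
  have h5 : ∀ r ∈ R, ∑ v : P, (if Fus 2 P e r v then
      (lOf 2 M r (below 2 P e r) : ℝ) / (fcls 2 P e r (below 2 P e r)).ncard else 0) =
      lOf 2 M r (below 2 P e r) := fun r hr => by
    have h6 := h4 (fcls 2 P e r (below 2 P e r)).toFinset fun v hv => fcls_subset (Set.mem_toFinset.mp hv)
    have h7 : (0 : ℝ) < (fcls 2 P e r (below 2 P e r)).ncard := by exact_mod_cast ncard_fcls_pos he (hR r hr)
    rw [← Finset.sum_filter, Finset.sum_const, nsmul_eq_mul]
    simp only [Set.mem_toFinset] at h6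
    rw [← Set.ncard_eq_toFinset_card'] at h6
    change ((Finset.univ.filter fun v : P => (v : G) ∈ fcls 2 P e r (below 2 P e r)).card : ℝ) * _ = _
    rw [h6]; field_simp
  rw [Finset.sum_add_distrib, Finset.sum_comm, Finset.sum_congr rfl h5, ← Finset.sum_filter, Finset.sum_const,
    h4 S fun v hv => (hS v hv).1, ← h1, nsmul_eq_mul] at h3
  have h6 : (S.card : ℝ) + 2 * ∑ r ∈ R, (lOf 2 M r (below 2 P e r) : ℝ) ≤ 2 * Nat.card B := by linarith
  exact_mod_cast h6

theorem act_mul_c {G : Type*} [Group G] {P : Subgroup G} {F : FusionSystem P} {m : ℕ} {x c j c' y : G}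
    (h : Fib P m x c j) (hy : y ∈ P) (ha : Act F m x c c' (y * c)) : Act F m x c c' y := by
  obtain ⟨Q, φ, h1, h2, h3, h4, h5⟩ := ha
  refine ⟨Q, φ, h1, h2, h3, h4, ?_⟩
  have h6 : c ∈ Zsub m x c := h.mem_Z.2 (Or.inr (Or.inr (Or.inl rfl)))
  have := mul_mem h6 (h.mem_Z.2 h5)
  rw [mul_inv_rev, mul_assoc, mul_inv_cancel_left] at this
  exact h.mem_Z.1 this

theorem fibLo (h1 : FibF.{u}) (h2 : Low.{u}) : FibLo.{u} := by
  intro G _ _ M B P e m x c j hb h
  classical
  have := Fintype.ofFinite G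
  have := charP_resField hb.hM
  have he := hb.max.pair
  obtain ⟨F, hF⟩ := hb.max.exists_isBFS
  have FF := h1 G P m x c j h F (hF.isSaturated hb.max)
  have hO : ∀ v ∈ P, v * v ≠ 1 → ∀ w, Fus 2 P e v w → ∃ g ∈ P, w = g * v * g⁻¹ := fun v hv h' w hw => by
    obtain ⟨φ, hφ, rfl⟩ := exists_mor_of_fus hb.max hF hv hw
    exact FF.ord _ φ hφ v (mem_zpowers v) h'
  have hC : ∀ v w, InZ m x c v → InZ m x c w → Fus 2 P e v w → v = w := fun v w hv hw hf => by
    obtain ⟨φ, hφ, rfl⟩ := exists_mor_of_fus hb.max hF (h.memP (h.inM_of_inZ hv)) hf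
    exact (FF.cen _ φ hφ v (mem_zpowers v) hv hw).symm
  have hY : ∀ y ∈ P, ¬ InM x c y → (∀ c', (c' = c ∨ c' = uu m x * c) → ¬ Act F m x c c' y) →
      ∀ w, Fus 2 P e y w → ∃ g ∈ P, w = g * y * g⁻¹ := fun y hy hy' ha w hw => by
    obtain ⟨φ, hφ, rfl⟩ := exists_mor_of_fus hb.max hF hy hw
    exact ((FF.out y hy hy').resolve_left fun ⟨c', a, b⟩ => ha c' a b) _ φ hφ (mem_zpowers y)
  let S : Finset G := (Msub x c : Set G).toFinset \ (Zsub m x c : Set G).toFinset
  have hS : ∀ v, v ∈ S ↔ InM x c v ∧ ¬ InZ m x c v := fun v => by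
    simp only [S, Finset.mem_sdiff, Set.mem_toFinset, SetLike.mem_coe, h.mem_M, h.mem_Z]
  have hS' : ∀ v ∈ S, v * v ≠ 1 := fun v hv e' => ((hS v).1 hv).2 (h.inZ_of_sq ((hS v).1 hv).1 e')
  have hcard : S.card + 4 = 2 ^ (m + 1) := by
    have h3 : ∀ H : Subgroup G, (H : Set G).toFinset.card = Nat.card H := fun H => by
      rw [Set.toFinset_card, ← Nat.card_eq_fintype_card]; rfl
    rw [← h.card_M, ← h.card_Z, ← h3, ← h3]
    exact Finset.card_sdiff_add_card_eq_card (Set.toFinset_subset_toFinset.mpr h.Z_le)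
  have hS2 : ∀ v ∈ S, v ∈ P ∧ (fcls 2 P e v (below 2 P e v)).ncard ≤ 2 := fun v hv => by
    have hv' := ((hS v).1 hv).1
    refine ⟨h.memP hv', (Set.ncard_le_ncard (t := {v, j * v * j⁻¹}) (fun w hw => ?_)).trans
      ((Set.ncard_insert_le _ _).trans (by simp))⟩
    obtain ⟨g, hg, rfl⟩ := hO v (h.memP hv') (hS' v hv) w hw
    exact h.conj_cases hg hv'
  let R : Finset G := {1, uu m x, c, uu m x * c}
  have hR : ∀ r, r ∈ R ↔ InZ m x c r := fun r => by simp only [R, InZ, Finset.mem_insert, Finset.mem_singleton]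
  have hRP : ∀ r ∈ R, r ∈ P := fun r hr => h.memP (h.inM_of_inZ ((hR r).1 hr))
  have hsum : ∑ r ∈ R, lOf 2 M r (below 2 P e r) = blockRank 2 B + (lOf 2 M (uu m x) (below 2 P e (uu m x)) +
      (lOf 2 M c (below 2 P e c) + lOf 2 M (uu m x * c) (below 2 P e (uu m x * c)))) := by
    rw [Finset.sum_insert, Finset.sum_insert, Finset.sum_pair h.uc_ne_c.symm, hb.max.lOf_one hb.hM hb.hB]
    · simp [h.uu_ne_c, h.uc_ne_u.symm, h.c_ne_one]
    · simp [h.uu_ne_one.symm, h.c_ne_one.symm, h.uc_ne_one.symm]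
  have hRS : ∀ r ∈ R, ∀ v ∈ S, ¬ Fus 2 P e r v := fun r hr v hv hf => by
    obtain ⟨g, -, hg⟩ := hO v (hS2 v hv).1 (hS' v hv) r (hf.symm he (hRP r hr))
    have := h.sq_of_inZ ((hR r).1 hr)
    rw [hg, show g * v * g⁻¹ * (g * v * g⁻¹) = g * (v * v) * g⁻¹ by group, conj_eq_one_iff] at this
    exact hS' v hv this
  have p1 := hb.max.lOf_pos hb.hM h.uP
  have p2 := hb.max.lOf_pos hb.hM h.cP
  have p3 := hb.max.lOf_pos hb.hM (mul_mem h.uP h.cP)
  have hpow : 2 ^ (m + 1) = 2 * 2 ^ m := by ring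
  have key : ∀ y ∈ P, ¬ InM x c y → (∀ w, Fus 2 P e y w → ∃ g ∈ P, w = g * y * g⁻¹) →
      (∀ w, Fus 2 P e (y * c) w → ∃ g ∈ P, w = g * (y * c) * g⁻¹) → blockRank 2 B + 2 ^ m + 3 ≤ Nat.card B := by
    intro y hy hy' f1 f2
    have hyc := mul_mem hy h.cP
    have hyc' := h.not_inM_mul' h.inM_c hy'
    have hout : ∀ z ∈ P, ¬ InM x c z → (∀ w, Fus 2 P e z w → ∃ g ∈ P, w = g * z * g⁻¹) →
        ∀ w, InM x c w → ¬ Fus 2 P e z w := fun z _ hz' f w hw hf => by
      obtain ⟨g, hg, rfl⟩ := f w hf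
      exact h.conj_not_inM hg hz' hw
    have n1 : ¬ Fus 2 P e y (y * c) := fun hf => by
      obtain ⟨g, hg, e'⟩ := f1 _ hf
      exact h.not_conj_mul_c hy hy' hg e'.symm
    have hM : ∀ r ∈ R, InM x c r := fun r hr => h.inM_of_inZ ((hR r).1 hr)
    have h3 := count_sub hb S (insert y (insert (y * c) R)) hS2 (by
      simp only [Finset.forall_mem_insert]; exact ⟨hy, hyc, hRP⟩) (by
      simp only [Finset.forall_mem_insert]
      exact ⟨fun v hv => hout y hy hy' f1 v ((hS v).1 hv).1, fun v hv => hout _ hyc hyc' f2 v ((hS v).1 hv).1,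
        hRS⟩) (by
      simp only [Finset.forall_mem_insert]
      exact ⟨⟨fun _ => trivial, fun hf => absurd hf n1, fun r hr hf => absurd hf (hout y hy hy' f1 r (hM r hr))⟩,
        ⟨fun hf => absurd (hf.symm he hyc) n1, fun _ => trivial,
          fun r hr hf => absurd hf (hout _ hyc hyc' f2 r (hM r hr))⟩, fun r hr =>
        ⟨fun hf => absurd (hf.symm he (hRP r hr)) (hout y hy hy' f1 r (hM r hr)),
          fun hf => absurd (hf.symm he (hRP r hr)) (hout _ hyc hyc' f2 r (hM r hr)),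
          fun r' hr' => hC r r' ((hR r).1 hr) ((hR r').1 hr')⟩⟩)
    rw [Finset.sum_insert, Finset.sum_insert fun hh => hyc' (hM _ hh), hsum] at h3
    · have p4 := hb.max.lOf_pos hb.hM hy
      have p5 := hb.max.lOf_pos hb.hM hyc
      omega
    · rw [Finset.mem_insert]
      rintro (e' | e')
      exacts [h.c_ne_one (left_eq_mul.mp e'), hy' (hM _ e')]
  have hxj := mul_mem h.xP h.jP
  have hxj' := h.not_inM_mul h.inM_x h.not_inM_j
  rcases h.conj with hj | ⟨hj, -⟩
  · have key' : ∀ y ∈ P, ¬ InM x c y → (∀ c', (c' = c ∨ c' = uu m x * c) → ¬ Act F m x c c' y) →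
        blockRank 2 B + 2 ^ m + 3 ≤ Nat.card B := fun y hy hy' ha =>
      key y hy hy' (hY y hy hy' ha) (hY _ (mul_mem hy h.cP) (h.not_inM_mul' h.inM_c hy')
        fun c' a b => ha c' a (act_mul_c h hy b))
    by_cases a1 : ∀ c', (c' = c ∨ c' = uu m x * c) → ¬ Act F m x c c' j
    · exact key' j h.jP h.not_inM_j a1
    by_cases a2 : ∀ c', (c' = c ∨ c' = uu m x * c) → ¬ Act F m x c c' (x * j)
    · exact key' _ hxj hxj' a2
    push Not at a1 a2
    obtain ⟨c₁, b1, a1⟩ := a1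
    obtain ⟨c₂, b2, a2⟩ := a2
    have h3 := count_sub hb S R hS2 hRP hRS fun r hr r' hr' => hC r r' ((hR r).1 hr) ((hR r').1 hr')
    rw [hsum] at h3
    have l1 := h2 G M B P e m x c j c₁ F hb h hj hF b1
    have l2 := h2 G M B P e m x c j c₂ F hb h hj hF b2
    rcases b1 with rfl | rfl <;> rcases b2 with b2 | b2 <;> rw [b2] at a2 l2
    · have := l1.2 a1 a2; omega
    · have := l1.1 (Or.inl a1); have := l2.1 (Or.inr a2); omega
    · have := l1.1 (Or.inl a1); have := l2.1 (Or.inr a2); omega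
    · have := l1.2 a1 a2; omega
  · have s1 := h.xj_sq hj
    have s2 : x * j * c * (x * j * c) = c := by
      have h3 := h.comm_Z (Or.inr (Or.inr (Or.inl rfl))) hxj
      calc x * j * c * (x * j * c) = x * j * (c * (x * j)) * c := by group
        _ = c := by rw [h3, ← mul_assoc, s1, h.cc, one_mul]
    exact key _ hxj hxj' (hO _ hxj (s1.trans_ne h.c_ne_one)) (hO _ (mul_mem hxj h.cP) (s2.trans_ne h.c_ne_one))

end CL.KB
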