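/-
The rank of the block of `C(c')` from the dihedral quotient, and the upper bound for `k(B)`.
-/
import Cfsg.Agent.Blk.KBFib
import Cfsg.Agent.C2Low.EssA

set_option autoImplicit false
set_option linter.unusedSectionVars false

namespace CL.KB

open MonoidAlgebra Cfsg Cfsg.FusionSystem CL.Blk CL.Blk.Pair CL.Blk.Rk CL.Blk.MCB CL.Fus CL.Inv Subgroup

universe u

section Sub

variable {G : Type*} [Group G] [Finite G] {M : Ideal AlgInt} {P Q H : Subgroup G}
  {e f : (resField M)[G]} {B : Set (IrrCharacter G)}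

theorem low_L (h : IsMax 2 ⊤ ⊤ (eBlk M B) P e) (hM : IsPModular 2 M) {v : G} (hv : v ∈ P)
    {b : Set (IrrCharacter (centralizer ({v} : Set G)))} {e' : _}
    (h' : SubMax 2 M P e (centralizer ({v} : Set G)) b e') :
    lOf 2 M v (below 2 P e v) = blockRank 2 b := by
  have := charP_resField hM
  have := Fintype.ofFinite G
  have := Fintype.ofFinite (centralizer ({v} : Set G))
  have hvH : v ∈ centralizer ({v} : Set G) := mem_centralizer_singleton_iff.2 rfl
  have h1 := below_incl (h'.incl_eq.symm ▸ h.pair) h'.isMax.pair h'.le (v := ⟨v, hvH⟩) hv le_rfl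
  have h2 := below_mul_central h'.isMax.pair (z := ⟨v, hvH⟩) hv
    (fun g => Subtype.ext (mem_centralizer_singleton_iff.1 g.2)) (one_mem _)
  rw [mul_one, h'.isMax.below_one] at h2
  rw [h2, h'.incl_eq] at h1
  rw [h1]
  exact lOf_hat hM (isCent_centralizer v) h'.blk

theorem low_T (h : IsMax 2 ⊤ ⊤ (eBlk M B) P e) (hM : IsPModular 2 M) {b : Set (IrrCharacter H)}
    {e' : _} (h' : SubMax 2 M P e H b e') (hC : centralizer (Q : Set G) ≤ H) (g : H)
    (h1 : PLe 2 ⊤ Q f P e) (h2 : PLe 2 ⊤ (cjs (g : G) Q) (cj (g : G) f) P e) :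
    ∃ f', PLe 2 ⊤ (Q.subgroupOf H) f' (P.subgroupOf H) e' ∧
      PLe 2 ⊤ (cjs g (Q.subgroupOf H)) (cj g f') (P.subgroupOf H) e' := by
  have := charP_resField hM
  have := Fintype.ofFinite G
  have := Fintype.ofFinite H
  have key : ∀ (R : Subgroup H) (R' : Subgroup G), R.map H.subtype = R' →
      centralizer (R' : Set G) ≤ H → ∀ φ, PLe 2 ⊤ R' φ P e →
      ∃ f', PLe 2 ⊤ R f' (P.subgroupOf H) e' ∧ incl H f' = φ := by
    rintro R _ rfl hR φ hφ
    obtain ⟨f', hf⟩ := h'.isMax.exists_ple (Q := R) fun x hx => hφ.le ⟨x, hx, rfl⟩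
    have h3 := hf.map_incl_top hR
    rw [map_subgroupOf_subtype h'.le, h'.incl_eq] at h3
    exact ⟨f', hf, h.unique h3 hφ⟩
  have hQ := map_subgroupOf_subtype (h1.le.trans h'.le)
  obtain ⟨f₁, h3, h4⟩ := key _ _ hQ hC f h1
  obtain ⟨f₂, h5, h6⟩ := key (cjs g (Q.subgroupOf H)) _ (by rw [← cjs_map_subtype, hQ])
    (by rw [← cjs_centralizer]; exact (cjs_mono _ hC).trans (cjs_of_mem g.2).le) _ h2
  rw [← h4, eq_comm, cj_incl_eq_iff] at h6
  exact ⟨f₁, h3, h6 ▸ h5⟩

end Sub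

section Dih

variable {H : Type*} [Group H] {P : Subgroup H} {m : ℕ} {x c j z : H} [(zpowers z).Normal]

theorem low_Z (h : Fib P m x c j) (hz : z = c ∨ z = uu m x * c) {ζ : H} (hζ : InZ m x c ζ) :
    (ζ : H ⧸ zpowers z) = 1 ∨ (ζ : H ⧸ zpowers z) = (uu m x : H) := by
  have h1 : (z : H ⧸ zpowers z) = 1 := (QuotientGroup.eq_one_iff _).2 (mem_zpowers z)
  have h2 : ((uu m x : H) : H ⧸ zpowers z) * (uu m x : H) = 1 := by
    rw [← QuotientGroup.mk_mul, h.uu_sq, QuotientGroup.mk_one]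
  have h3 : (c : H ⧸ zpowers z) = 1 ∨ (c : H ⧸ zpowers z) = (uu m x : H) := by
    refine hz.imp (fun e => by rw [← e, h1]) fun e => ?_
    have h4 : ((uu m x : H) : H ⧸ zpowers z) * c = 1 := by rw [← QuotientGroup.mk_mul, ← e, h1]
    exact mul_left_cancel (h4.trans h2.symm)
  rcases hζ with rfl | rfl | rfl | rfl
  · exact Or.inl rfl
  · exact Or.inr rfl
  · exact h3
  · rw [QuotientGroup.mk_mul]
    rcases h3 with e | e <;> rw [e]
    · exact Or.inr (mul_one _)
    · exact Or.inl h2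

theorem low_D (h : Fib P m x c j) (hj : j * x * j⁻¹ = x⁻¹) (hz : z = c ∨ z = uu m x * c) :
    ∃ D : MC (P.map (QuotientGroup.mk' (zpowers z))) m 0 0, D.a 1 = x ∧ D.b 0 = j := by
  have hz2 : z * z = 1 := by
    rcases hz with rfl | rfl
    exacts [h.cc, h.uc_sq]
  have hzx : z ∉ zpowers x := by
    rcases hz with rfl | rfl
    · exact h.cx
    · exact fun h1 => h.cx ((mul_mem_cancel_left (pow_mem (mem_zpowers x) _)).1 h1)
  have ho : orderOf (x : H ⧸ zpowers z) = 2 ^ m := by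
    rw [← h.ord, orderOf_eq_orderOf_iff]
    intro n
    rw [← QuotientGroup.mk_pow, QuotientGroup.eq_one_iff]
    refine ⟨fun ⟨i, hi⟩ => ?_, fun h1 => h1 ▸ one_mem _⟩
    refine (hi.symm.trans ((zpow_two_cases hz2 i).resolve_right fun h1 => hzx ?_))
    rw [← h1, show z ^ i = x ^ n from hi]
    exact pow_mem (mem_zpowers x) n
  obtain ⟨W, D, h1, h2⟩ := CL.C2Low.Ess.exists_mc_dih (y := (j : H ⧸ zpowers z)) h.two ho
    (by rw [← QuotientGroup.mk_inv, ← QuotientGroup.mk_mul, ← QuotientGroup.mk_mul, hj, QuotientGroup.mk_inv])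
    (by rw [← QuotientGroup.mk_mul, h.jj, QuotientGroup.mk_one])
  have hW : W = P.map (QuotientGroup.mk' (zpowers z)) := by
    refine le_antisymm (fun g hg => ?_) (map_le_iff_le_comap.2 fun g hg => ?_)
    · have ha : ∀ i, D.a i ∈ P.map (QuotientGroup.mk' (zpowers z)) := fun i =>
        zpowers_le.2 (h1 ▸ ⟨x, h.xP, rfl⟩) (D.mem_cyc.2 ⟨i, rfl⟩)
      obtain ⟨i, rfl | rfl⟩ := (D.mem g).1 hg
      · exact ha i
      · rw [← add_zero i, ← D.a_mul_b]
        exact mul_mem (ha i) (h2 ▸ ⟨j, h.jP, rfl⟩)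
    · have hx : x ∈ W.comap (QuotientGroup.mk' (zpowers z)) := mem_comap.2 (h1 ▸ D.a_mem 1 : (x : H ⧸ zpowers z) ∈ W)
      have hj : j ∈ W.comap (QuotientGroup.mk' (zpowers z)) := mem_comap.2 (h2 ▸ D.b_mem 0 : (j : H ⧸ zpowers z) ∈ W)
      have hc : c ∈ W.comap (QuotientGroup.mk' (zpowers z)) := by
        change (c : H ⧸ zpowers z) ∈ W
        rcases low_Z h hz (Or.inr (Or.inr (Or.inl rfl))) with e | e <;> rw [e]
        · exact one_mem _
        · exact pow_mem hx _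
      obtain ⟨i, rfl | rfl | rfl | rfl⟩ := (h.mem g).1 hg
      exacts [zpow_mem hx i, mul_mem (zpow_mem hx i) hc, mul_mem (zpow_mem hx i) hj,
        mul_mem (mul_mem (zpow_mem hx i) hc) hj]
  subst hW
  exact ⟨D, h1, h2⟩

end Dih

theorem low (h1 : QT.{u}) : Low.{u} := by
  intro G _ _ M B P e m x c j c' F h hF hj hB hc'
  have hM := h.hM
  have := charP_resField hM
  have := Fintype.ofFinite G
  have hZ : InZ m x c c' := Or.inr (Or.inr hc')
  have hcP : c' ∈ P := hF.memP (hF.inM_of_inZ hZ)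
  have hPH : P ≤ centralizer ({c'} : Set G) := fun p hp =>
    mem_centralizer_singleton_iff.2 (hF.comm_Z hZ hp).symm
  have := Fintype.ofFinite (centralizer ({c'} : Set G))
  obtain ⟨b, e', h'⟩ := h.max.exists_subMax hM hPH (centralizer_le (Set.singleton_subset_iff.2 hcP))
  rw [low_L h.max hM hcP h']
  set z : centralizer ({c'} : Set G) := ⟨c', hPH hcP⟩ with hzdef
  have hzc : ∀ g, g * z = z * g := fun g => Subtype.ext (mem_centralizer_singleton_iff.1 g.2)
  have hcen : centralizer (zpowers z : Set (centralizer ({c'} : Set G))) = ⊤ := by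
    rw [centralizer_zpowers_eq, eq_top_iff]
    exact fun g _ => mem_centralizer_singleton_iff.2 (hzc g)
  have hnorm : (zpowers z).Normal := ⟨fun n hn g => by
    rw [← (hcen ▸ mem_top g : g ∈ centralizer (zpowers z : Set _)) n hn, mul_inv_cancel_right]
    exact hn⟩
  have := Fintype.ofFinite (centralizer ({c'} : Set G) ⧸ zpowers z)
  have hF' := hF.subgroupOf hPH
  have hz : z = ⟨c, hPH hF.cP⟩ ∨ z = uu m ⟨x, hPH hF.xP⟩ * ⟨c, hPH hF.cP⟩ :=
    hc'.imp Subtype.ext Subtype.ext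
  have hzP : zpowers z ≤ P.subgroupOf _ := zpowers_le.2 hcP
  obtain ⟨e'', hb, hfus⟩ := h1 _ M b _ e' (zpowers z) ⟨hM, h'.blk, h'.isMax⟩ hzP hcen
  obtain ⟨-, -, -, hr⟩ := isDefectGroup_preimage_of_central hM h'.blk (h'.isMax.pgroup.to_le hzP) hcen
    (h'.isMax.isDefectGroup hM h'.blk)
  obtain ⟨D, d1, d2⟩ := low_D hF' (Subtype.ext hj) hz
  have hsum := MCB.blockRank_add_et D hb.max hM hb.hB
  have key : ∀ y : centralizer ({c'} : Set G), (y : G) ∈ P → ¬ InM x c y → Act F m x c c' y →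
      Meets 2 ((P.subgroupOf _).map (QuotientGroup.mk' (zpowers z))) e'' (Set.range D.a)
        (y : centralizer ({c'} : Set G) ⧸ zpowers z) := by
    rintro y hy hy' ⟨Q, φ, hφ, q1, q2, q3, q4⟩
    obtain ⟨g, -, f, g1, g2, g3⟩ := (hB Q φ).1 hφ
    have hg : g ∈ centralizer ({c'} : Set G) := mem_centralizer_singleton_iff.2 (by
      rw [← mul_inv_eq_iff_eq_mul, ← g1 c' q1, q3])
    obtain ⟨f', f1, f2⟩ := low_T h.max hM h' (centralizer_le (Set.singleton_subset_iff.2 q1)) ⟨g, hg⟩ g2 g3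
    have k1 := hfus _ f' ⟨g, hg⟩ (zpowers_le.2 q1) f1 f2 (uu m ⟨x, hPH hF.xP⟩) q2
    have k2 : InZ m ⟨x, hPH hF.xP⟩ ⟨c, hPH hF.cP⟩ (y⁻¹ * (⟨g, hg⟩ * uu m ⟨x, hPH hF.xP⟩ * ⟨g, hg⟩⁻¹)) := by
      rw [g1 _ q2] at q4
      exact q4.imp Subtype.ext (Or.imp Subtype.ext (Or.imp Subtype.ext Subtype.ext))
    have k3 := k1.symm hb.max.pair ⟨_, hF'.uP, rfl⟩
    refine ⟨_, ⟨(2 ^ (m - 1) : ℕ) * 1, ?_⟩, Fus.trans hb.max.pair ?_ k3⟩
    · rw [← D.a_pow, d1]
      rfl
    have k4 : ¬ InM (⟨x, hPH hF.xP⟩ : centralizer ({c'} : Set G)) ⟨c, hPH hF.cP⟩ y := fun ⟨i, hi⟩ =>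
      hy' ⟨i, hi.imp (congrArg Subtype.val) (congrArg Subtype.val)⟩
    rcases low_Z hF' hz k2 with k5 | k5
    · rw [QuotientGroup.mk_mul, QuotientGroup.mk_inv, inv_mul_eq_one] at k5
      rw [← k5]
      exact Fus.refl hb.max.pair ⟨y, hy, rfl⟩
    · rw [QuotientGroup.mk_mul, QuotientGroup.mk_inv, inv_mul_eq_iff_eq_mul] at k5
      obtain ⟨t, t1, t2⟩ := hF'.exists_conj_mul_u hy k4
      rw [k5, ← QuotientGroup.mk_mul, ← t2]
      exact fus_conj hb.max.pair ⟨y, hy, rfl⟩ ⟨t, hF'.memP t1, rfl⟩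
  have k0 : Act F m x c c' j → et0 D e'' = 0 := fun ha => by
    rw [et0, if_pos (d2 ▸ key ⟨j, hPH hF.jP⟩ hF.jP hF.not_inM_j ha)]
  have k1 : Act F m x c c' (x * j) → et1 D e'' = 0 := fun ha => by
    have k2 := key (⟨x, hPH hF.xP⟩ * ⟨j, hPH hF.jP⟩) (mul_mem hF.xP hF.jP)
      (hF.not_inM_mul hF.inM_x hF.not_inM_j) ha
    rw [QuotientGroup.mk_mul, ← d1, ← d2, D.a_mul_b, add_zero] at k2
    rw [et1, if_pos (k2.mono Set.subset_union_left)]
  have l0 := et0_le (e := e'') D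
  have l1 := et1_le (e := e'') D
  refine ⟨fun ha => ?_, fun ha ha' => ?_⟩
  · rcases ha with ha | ha
    · have := k0 ha; omega
    · have := k1 ha; omega
  · have := k0 ha
    have := k1 ha'
    omega

theorem fibUp (h1 : FibF.{u}) (h2 : S2.{u}) (h3 : K0b.{u}) : FibUp.{u} := by
  intro G _ _ M B P e m x c j h hF
  have hM := h.hM
  have := charP_resField hM
  have := Fintype.ofFinite G
  obtain ⟨F, hB⟩ := h.max.exists_isBFS
  have FF := h1 G P m x c j hF F (hB.isSaturated h.max)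
  have hPT : P ≤ centralizer ({uu m x} : Set G) := fun p hp =>
    mem_centralizer_singleton_iff.2 (hF.comm_Z (Or.inr (Or.inl rfl)) hp).symm
  have := Fintype.ofFinite (centralizer ({uu m x} : Set G))
  obtain ⟨b, e', h'⟩ := h.max.exists_subMax hM hPT (centralizer_le (Set.singleton_subset_iff.2 hF.uP))
  have hn : IsNil 2 ⊤ ⊤ (eBlk M b) := by
    obtain ⟨F', hB'⟩ := h'.isMax.exists_isBFS
    refine (hB'.isNil_iff h'.isMax).2 ((h1 _ _ m _ _ _ (hF.subgroupOf hPT) F'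
      (hB'.isSaturated h'.isMax)).nil fun Q φ hφ hu => ?_)
    obtain ⟨g, -, f, g1, -, -⟩ := (hB' Q φ).1 hφ
    rw [g1 _ hu, mul_inv_eq_iff_eq_mul]
    exact Subtype.ext (mem_centralizer_singleton_iff.1 g.2)
  have k1 := (h2 G M B P e (uu m x) h).1 hF.uP hPT hF.uu_sq
  rw [low_L h.max hM hF.uP h', blockRank_eq_one_of_isNilpotentBlock hM
    ((isNilpotentBlock_iff_top hM).2 ⟨h'.blk, hn⟩), hF.card] at k1
  have fc : ∀ v ∈ P, v * v ≠ 1 → FC 2 P e v := fun v hv hv2 => ⟨hv, fun w hw => by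
    obtain ⟨φ, hφ, rfl⟩ := exists_mor_of_fus h.max hB hv hw
    obtain ⟨g, hg, e1⟩ := FF.ord _ φ hφ v (mem_zpowers v) hv2
    rw [e1, ← card_inf_cjs_of_mem hg (centralizer ({v} : Set G)), ← centralizer_zpowers_eq,
      ← centralizer_zpowers_eq, cjs_centralizer, cjs_zpowers]⟩
  have k2 : k0 B ≤ 8 := by
    rcases hF.conj with hj | ⟨hj, -⟩
    · exact h3 G M B P e m x c j h hF hj
        (fc x hF.xP fun e1 => hF.not_inZ_x (hF.inZ_of_sq hF.inM_x e1)) b e' h' hn
    · have hv := mul_mem hF.xP hF.jP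
      have hv' := hF.not_inM_mul hF.inM_x hF.not_inM_j
      have hsq := hF.xj_sq hj
      have hfc := fc _ hv (hsq ▸ hF.c_ne_one)
      have hc : c ∈ zpowers (x * j) := hsq ▸ mul_mem (mem_zpowers _) (mem_zpowers _)
      have hl := h.max.lOf_eq_one_of_index_two hM hfc fun u hu w hw hu' hw' => by
        have key : ∀ t ∈ P ⊓ centralizer ({x * j} : Set G), t ∉ zpowers (x * j) →
            (uu m x)⁻¹ * t ∈ zpowers (x * j) := fun t ht ht' => by
          have aux : ∀ s, InZ m x c s → s ∉ zpowers (x * j) → (uu m x)⁻¹ * s ∈ zpowers (x * j) := by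
            rintro s (rfl | rfl | rfl | rfl) hs
            · exact absurd (one_mem _) hs
            · rw [inv_mul_cancel]; exact one_mem _
            · exact absurd hc hs
            · rwa [inv_mul_cancel_left]
          rcases (hF.mem_inf_centralizer_out hv hv').1 ht with e1 | e1
          · exact aux t e1 ht'
          · have := mul_mem (aux _ e1 fun e2 => ht' ((mul_mem_cancel_right
              (inv_mem (mem_zpowers _))).1 e2)) (mem_zpowers (x * j))
            rwa [mul_assoc, inv_mul_cancel_right] at this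
        have e1 := mul_mem (key u hu hu') (inv_mem (key w hw hw'))
        have e2 := hF.comm_Z (Or.inr (Or.inl rfl)) (mul_mem hu.1 (inv_mem hw.1))
        rwa [show (uu m x)⁻¹ * u * ((uu m x)⁻¹ * w)⁻¹ = (uu m x)⁻¹ * (u * w⁻¹ * uu m x) by group,
          ← e2, inv_mul_cancel_left] at e1
      have k3 := (h2 G M B P e (x * j) h).2 hfc (by omega)
      rwa [hF.card_inf_centralizer_out hv hv'] at k3
  rw [pow_add] at k1
  omega

end CL.KB
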