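/-
Linear algebra for symmetric local algebras with five-dimensional centre: spaces of maps of rank at
most one, existence of regular elements, and trace functionals from characters of a small algebra.
-/
import Cfsg.Agent.Blk.SymLoc

set_option autoImplicit false

namespace CL.Blk.Rk.Five

open Module Submodule

variable {k V W X : Type*} [Field k] [AddCommGroup V] [Module k V] [AddCommGroup W] [Module k W]
  [AddCommGroup X] [Module k X]

theorem exists_dual_one {x : V} (hx : x ≠ 0) : ∃ f : V →ₗ[k] k, f x = 1 := by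
  obtain ⟨f, h, -⟩ := exists_dual_of_notMem (k := k) (W := ⊥) (x := x) (by simpa using hx)
  exact ⟨f, h⟩

theorem mem_span_of_le_one [FiniteDimensional k W] {U : Submodule k W} (h : finrank k U ≤ 1)
    {a b : W} (ha : a ∈ U) (hb : b ∈ U) (h0 : b ≠ 0) : a ∈ span k {b} := by
  rw [eq_of_le_of_finrank_le ((span_singleton_le_iff_mem _ _).2 hb)
    (by rwa [finrank_span_singleton h0])]
  exact ha

theorem exists_ne_zero_ker [FiniteDimensional k V] (h : 2 ≤ finrank k V) (f : V →ₗ[k] k) :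
    ∃ a, a ≠ 0 ∧ f a = 0 := by
  by_contra! h1
  have := LinearMap.finrank_le_finrank_of_injective (f := f)
    ((injective_iff_map_eq_zero _).2 fun a ha => by_contra fun h0 => h1 a h0 ha)
  rw [finrank_self] at this
  omega

/-- A space of maps of rank at most one has a common image or a common kernel. -/
theorem rank_one [FiniteDimensional k X] (μ : V →ₗ[k] W →ₗ[k] X) (S : Set V) (hne : S.Nonempty)
    (hS : ∀ v, ∀ w ∈ S, ∃ t : k, t ≠ 0 ∧ v + t • w ∈ S)
    (h : ∀ v ∈ S, finrank k (LinearMap.range (μ v)) ≤ 1) :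
    (∃ b, ∀ v a, μ v a ∈ span k {b}) ∨ ∃ f : W →ₗ[k] k, ∀ a, f a = 0 → ∀ v, μ v a = 0 := by
  have h1 : ∀ v ∈ S, ∀ a a', μ v a' ≠ 0 → μ v a ∈ span k {μ v a'} := fun v hv a a' h0 =>
    mem_span_of_le_one (h v hv) ⟨a, rfl⟩ ⟨a', rfl⟩ h0
  have h2 : ∀ (b : X) (v w : V) (t : k), (∀ a, μ (v + t • w) a ∈ span k {b}) →
      (∀ a, μ w a ∈ span k {b}) → ∀ a, μ v a ∈ span k {b} := fun b v w t h3 h4 a => by
    have := sub_mem (h3 a) (smul_mem _ t (h4 a))
    simpa using this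
  by_cases h0 : ∀ v ∈ S, ∀ a, μ v a = 0
  · obtain ⟨w, hw⟩ := hne
    refine Or.inl ⟨0, fun v => ?_⟩
    obtain ⟨t, -, ht⟩ := hS v w hw
    exact h2 0 v w t (fun a => by rw [h0 _ ht]; simp) fun a => by simp [h0 _ hw]
  push Not at h0
  obtain ⟨v₀, hv₀, a₀, h0⟩ := h0
  obtain ⟨g, hg⟩ := exists_dual_one (k := k) h0
  refine or_iff_not_imp_right.2 fun h3 => ⟨μ v₀ a₀, ?_⟩
  have h4 : ∀ a, g (μ v₀ a) = 0 → μ v₀ a = 0 := fun a ha => by
    obtain ⟨t, ht⟩ := mem_span_singleton.1 (h1 v₀ hv₀ a a₀ h0)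
    rw [← ht, map_smul, hg, smul_eq_mul, mul_one] at ha
    rw [← ht, ha, zero_smul]
  have h5 : ∀ v ∈ S, ∀ a, μ v₀ a = 0 → μ v a ≠ 0 → ∀ a', μ v a' ∈ span k {μ v₀ a₀} :=
    fun v hv a ha hva a' => by
      obtain ⟨t, ht0, ht⟩ := hS v v₀ hv₀
      have h6 := h1 _ ht a₀ a (by simpa [ha] using hva)
      simp only [map_add, map_smul, LinearMap.add_apply, LinearMap.smul_apply, ha, smul_zero,
        add_zero] at h6
      have h7 := (smul_mem_iff _ ht0).1 ((Submodule.add_mem_iff_right _ (h1 v hv a₀ a hva)).1 h6)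
      exact mem_span_of_le_one (U := span k {μ v a}) (by rw [finrank_span_singleton hva])
        (h1 v hv a' a hva) h7 h0
  push Not at h3
  obtain ⟨a₁, ha₁, v₁, hv₁⟩ := h3 (g ∘ₗ μ v₀)
  have ha₁' := h4 a₁ ha₁
  obtain ⟨t₁, -, ht₁⟩ := hS v₁ v₀ hv₀
  have h6 : μ (v₁ + t₁ • v₀) a₁ ≠ 0 := by simpa [ha₁'] using hv₁
  intro v
  obtain ⟨t, -, ht⟩ := hS v v₀ hv₀
  refine h2 _ v v₀ t ?_ fun a => h1 v₀ hv₀ a a₀ h0
  by_cases h7 : μ (v + t • v₀) a₁ = 0
  · obtain ⟨s, hs0, hs⟩ := hS (v + t • v₀) _ ht₁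
    refine h2 _ _ _ s (h5 _ hs a₁ ha₁' ?_) (h5 _ ht₁ a₁ ha₁' h6)
    rw [map_add, LinearMap.add_apply, h7, zero_add, map_smul, LinearMap.smul_apply]
    exact smul_ne_zero hs0 h6
  · exact h5 _ ht a₁ ha₁' h7

theorem rank_one_univ [FiniteDimensional k X] (μ : V →ₗ[k] W →ₗ[k] X)
    (h : ∀ v, finrank k (LinearMap.range (μ v)) ≤ 1) :
    (∃ b, ∀ v a, μ v a ∈ span k {b}) ∨ ∃ f : W →ₗ[k] k, ∀ a, f a = 0 → ∀ v, μ v a = 0 :=
  rank_one μ Set.univ Set.univ_nonempty (fun _ _ _ => ⟨1, one_ne_zero, trivial⟩) fun v _ => h v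

/-- Three consecutive layers of a graded symmetric algebra generated in degree one. -/
structure Win (m : V →ₗ[k] V →ₗ[k] W) (l : V →ₗ[k] W →ₗ[k] X) (r : W →ₗ[k] V →ₗ[k] X) : Prop where
  assoc : ∀ a b c, l a (m b c) = r (m a b) c
  m_nd : ∀ b, (∀ a, m a b = 0) → b = 0
  l_nd : ∀ w, (∀ a, l a w = 0) → w = 0
  r_nd : ∀ w, (∀ a, r w a = 0) → w = 0
  gen : ∀ U : Submodule k W, (∀ a b, m a b ∈ U) → U = ⊤

variable {m : V →ₗ[k] V →ₗ[k] W} {l : V →ₗ[k] W →ₗ[k] X} {r : W →ₗ[k] V →ₗ[k] X}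

theorem Win.surj_of_le_two (h : Win m l r) [FiniteDimensional k W] (hW : finrank k W ≤ 2) :
    ∃ v, Function.Surjective (m v) := by
  by_contra! h0
  have h1 : ∀ v, LinearMap.range (m v) ≠ ⊤ := fun v h1 => h0 v (LinearMap.range_eq_top.1 h1)
  rcases rank_one_univ m fun v => by have := finrank_lt (h1 v); omega with ⟨b, hb⟩ | ⟨f, hf⟩
  · by_cases h2 : ∀ v a, m v a = 0
    · exact h1 0 (h.gen _ fun a b => by simp [h2])
    push Not at h2
    obtain ⟨v, a, h2⟩ := h2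
    refine h1 v (h.gen _ fun a' b' => ?_)
    have h3 : b ≠ 0 := by rintro rfl; exact h2 (by simpa using hb v a)
    exact (span_singleton_le_iff_mem _ _).2 (LinearMap.mem_range_self _ a) (mem_span_of_le_one
      (by rw [finrank_span_singleton h3]) (hb a' b') (hb v a) h2)
  · by_cases h2 : ∀ v, f v = 0
    · exact h1 0 (h.gen _ fun a b => by simp [hf b (h2 b)])
    push Not at h2
    obtain ⟨v, h2⟩ := h2
    refine h1 v (h.gen _ fun a b => ⟨(f a / f v) • b, ?_⟩)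
    have h3 : a - (f a / f v) • v = 0 := h.m_nd _ (hf _ (by simp [h2]))
    rw [sub_eq_zero.1 h3]
    simp [h2]

theorem Win.not_compress (h : Win m l r) {p q : V} {w : W} (hpq : m p q ≠ m q p)
    (hp : ∀ a, m a p ∈ span k {w}) (hq : ∀ a, m a q ∈ span k {w}) : False := by
  have hw : w ≠ 0 := by
    rintro rfl
    exact hpq (by rw [(mem_span_singleton.1 (hq p)).choose_spec.symm,
      (mem_span_singleton.1 (hp q)).choose_spec.symm]; simp)
  obtain ⟨g, hg⟩ := exists_dual_one (k := k) hw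
  let P : Submodule k V := ⨅ a, (span k {w}).comap (m a)
  have h1 : ∀ x ∈ P, ∀ a, m a x = g (m a x) • w := fun x hx a => by
    obtain ⟨t, ht⟩ := mem_span_singleton.1 ((mem_iInf _).1 hx a)
    rw [← ht, map_smul, hg, smul_eq_mul, mul_one]
  have hpP : p ∈ P := (mem_iInf _).2 hp
  have hqP : q ∈ P := (mem_iInf _).2 hq
  have h2 : ∀ x ∈ P, ∀ y ∈ P, g (m x y) ≠ 0 → ∃ z, ∀ a, l a w = g (m a x) • z :=
    fun x hx y hy h0 => ⟨(g (m x y))⁻¹ • r w y, fun a => by
      have h3 := h.assoc a x y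
      rw [h1 y hy, h1 x hx, map_smul, map_smul, LinearMap.smul_apply] at h3
      rw [smul_comm, ← h3, smul_smul, inv_mul_cancel₀ h0, one_smul]⟩
  have h3 : ∀ x ∈ P, ∀ y ∈ P, g (m x y) ≠ g (m y x) → (∃ z ∈ P, g (m x z) ≠ 0) →
      (∃ z ∈ P, g (m y z) ≠ 0) → False := by
    rintro x hx y hy hxy ⟨x', hx', h4⟩ ⟨y', hy', h5⟩
    obtain ⟨z, hz⟩ := h2 x hx x' hx' h4
    obtain ⟨z', hz'⟩ := h2 y hy y' hy' h5
    have hz0 : z ≠ 0 := by rintro rfl; exact hw (h.l_nd w fun a => by simp [hz])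
    obtain ⟨f, hf⟩ := exists_dual_one (k := k) hz0
    have h6 : x - f z' • y = 0 := h.m_nd _ fun a => by
      have h7 := congrArg f ((hz a).symm.trans (hz' a))
      rw [map_smul, map_smul, hf, smul_eq_mul, smul_eq_mul, mul_one] at h7
      rw [h1 _ (sub_mem hx (smul_mem _ _ hy)), map_sub, map_sub, map_smul, map_smul, h7,
        smul_eq_mul, mul_comm, sub_self, zero_smul]
    exact hxy (by rw [sub_eq_zero.1 h6]; simp)
  have h4 : g (m p q) ≠ g (m q p) := fun h4 => hpq (by rw [h1 q hqP, h1 p hpP q, h4])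
  by_cases h5 : g (m p q) = 0
  · have h6 : g (m q p) ≠ 0 := fun h6 => h4 (h5.trans h6.symm)
    by_cases h7 : g (m p p) = 0
    · exact h3 _ (add_mem hpP hqP) q hqP (by simpa using h4) ⟨p, hpP, by simpa [h7] using h6⟩
        ⟨p, hpP, h6⟩
    · exact h3 p hpP q hqP h4 ⟨p, hpP, h7⟩ ⟨p, hpP, h6⟩
  by_cases h6 : g (m q p) = 0
  · by_cases h7 : g (m q q) = 0
    · exact h3 p hpP _ (add_mem hpP hqP) (by simpa using h4) ⟨q, hqP, h5⟩
        ⟨q, hqP, by simpa [h7] using h5⟩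
    · exact h3 p hpP q hqP h4 ⟨q, hqP, h5⟩ ⟨q, hqP, h7⟩
  · exact h3 p hpP q hqP h4 ⟨q, hqP, h5⟩ ⟨p, hpP, h6⟩

theorem finrank_span_pair_le (a b : W) : finrank k (span k {a, b} : Submodule k W) ≤ 2 := by
  classical
  have := (finrank_span_finset_le_card (R := k) {a, b}).trans Finset.card_le_two
  rwa [Set.finrank, Finset.coe_pair] at this

theorem exists_span_pair [FiniteDimensional k V] {U : Submodule k V} (h : finrank k U ≤ 2) :
    ∃ a b, U = span k {a, b} := by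
  obtain ⟨a, ha, h1⟩ : ∃ a ∈ U, finrank k U ≤ finrank k (span k {a}) + 1 := by
    by_cases h0 : U = ⊥
    · exact ⟨0, zero_mem _, by rw [h0, finrank_bot]; omega⟩
    obtain ⟨a, ha, h0⟩ := exists_mem_ne_zero_of_ne_bot h0
    exact ⟨a, ha, by rwa [finrank_span_singleton h0]⟩
  obtain ⟨b, hb, h2⟩ := exists_le_sup_span ((span_singleton_le_iff_mem _ _).2 ha) h1
  exact ⟨a, b, le_antisymm (by rwa [span_insert]) (span_le.2 (by
    rintro _ (rfl | rfl); exacts [ha, hb]))⟩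

theorem comm_ne [FiniteDimensional k W] (hW : 3 ≤ finrank k W)
    (hc : ∀ U : Submodule k W, (∀ a b, m a b - m b a ∈ U) → U = ⊤) {p q x : V}
    (h : span k {p, q} ⊔ span k {x} = ⊤) : m p q ≠ m q p := fun h0 => by
  have h1 := hc (span k {m p x - m x p, m q x - m x q}) fun a b => by
    obtain ⟨_, ha1, _, ha2, rfl⟩ := mem_sup.1 (h ▸ mem_top (x := a))
    obtain ⟨_, hb1, _, hb2, rfl⟩ := mem_sup.1 (h ▸ mem_top (x := b))
    obtain ⟨s, t, rfl⟩ := mem_span_pair.1 ha1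
    obtain ⟨u, rfl⟩ := mem_span_singleton.1 ha2
    obtain ⟨s', t', rfl⟩ := mem_span_pair.1 hb1
    obtain ⟨u', rfl⟩ := mem_span_singleton.1 hb2
    refine mem_span_pair.2 ⟨s * u' - s' * u, t * u' - t' * u, ?_⟩
    simp only [map_add, map_smul, LinearMap.add_apply, LinearMap.smul_apply, h0]
    module
  have h2 := finrank_span_pair_le (k := k) (m p x - m x p) (m q x - m x q)
  rw [h1, finrank_top] at h2
  omega

theorem Win.surj_of_three (h : Win m l r) [Infinite k] [FiniteDimensional k V]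
    [FiniteDimensional k W] [FiniteDimensional k X] (hV : finrank k V ≤ 3) (hW : finrank k W = 3)
    (hc : ∀ U : Submodule k W, (∀ a b, m a b - m b a ∈ U) → U = ⊤)
    (hX : (∃ x, ∀ w a, r w a ∈ span k {x}) → finrank k V ≤ 1) :
    ∃ v, Function.Surjective (m v) ∨ Function.Surjective (m.flip v) := by
  have hV3 : finrank k V = 3 := by
    by_contra h0
    obtain ⟨p, x, h1⟩ := exists_span_pair (k := k) (U := (⊤ : Submodule k V))
      (by rw [finrank_top]; omega)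
    exact comm_ne hW.ge hc (p := p) (q := p) (x := x) (by simp [h1, span_insert]) rfl
  by_contra! h0
  have h1 : ∀ f : V →ₗ[k] W, ¬ Function.Surjective f → ∃ a, a ≠ 0 ∧ f a = 0 := fun f hf => by
    by_contra! h1
    exact hf ((LinearMap.injective_iff_surjective_of_finrank_eq_finrank (hV3.trans hW.symm)).1
      ((injective_iff_map_eq_zero _).2 fun a ha => by_contra fun h2 => h1 a h2 ha))
  have h2 : ∀ v b, m v b = 0 → LinearMap.range (m.flip v) ≤ LinearMap.ker (r.flip b) := by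
    rintro v b hv _ ⟨a, rfl⟩
    simp [← h.assoc, hv]
  by_cases h3 : ∀ v, v ≠ 0 → 2 ≤ finrank k (LinearMap.range (m.flip v))
  · rcases rank_one_univ r.flip fun b => by
      obtain ⟨v, hv0, hv⟩ := h1 _ (h0 b).2
      have h4 := (h3 v hv0).trans (Submodule.finrank_mono (h2 v b hv))
      have h5 := (r.flip b).finrank_range_add_finrank_ker
      omega with ⟨x, hx⟩ | ⟨f, hf⟩
    · have := hX ⟨x, fun w a => hx a w⟩
      omega
    · obtain ⟨w, hw0, hw⟩ := exists_ne_zero_ker (by omega) f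
      exact hw0 (h.r_nd w (hf w hw))
  push Not at h3
  obtain ⟨v, hv0, h3⟩ := h3
  have h4 := (m.flip v).finrank_range_add_finrank_ker
  set Q := LinearMap.ker (m.flip v) with hQ
  have h5 : Q ≠ ⊤ := fun h5 => hv0 (h.m_nd v fun a => show a ∈ Q from h5 ▸ mem_top)
  have h6 := finrank_lt h5
  obtain ⟨x, -, hx⟩ := exists_le_sup_span (le_top (a := Q)) (by rw [finrank_top]; omega)
  obtain ⟨p, q, hpq⟩ := exists_span_pair (U := Q) (by omega)
  obtain ⟨w₀, hw₀⟩ : ∃ w, w ∉ LinearMap.ker (r.flip v) := by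
    by_contra! h7
    exact hv0 (h.m_nd v fun b => h.l_nd _ fun a => by rw [h.assoc]; exact h7 _)
  obtain ⟨n, hn1, hn⟩ := exists_dual_of_notMem hw₀
  have h7 : ∀ a, ∀ b ∈ Q, n (m a b) = 0 := fun a b hb => hn _ (h2 b v hb ⟨a, rfl⟩)
  obtain ⟨u, hu⟩ : ∃ u, n (m u x) ≠ 0 := by
    by_contra! h8
    have h9 := h.gen (LinearMap.ker n) fun a b => by
      obtain ⟨b, hb, _, hb', rfl⟩ := mem_sup.1 (hx (mem_top (x := b)))
      obtain ⟨t, rfl⟩ := mem_span_singleton.1 hb'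
      simp [h7 a b hb, h8]
    exact one_ne_zero (hn1.symm.trans (show w₀ ∈ LinearMap.ker n from h9 ▸ mem_top))
  rcases rank_one (m.compl₂ Q.subtype) {u | n (m u x) ≠ 0} ⟨u, hu⟩ (fun a b hb => by
      classical
      obtain ⟨t, ht⟩ := Infinite.exists_notMem_finset ({0, -n (m a x) / n (m b x)} : Finset k)
      simp only [Finset.mem_insert, Finset.mem_singleton, not_or] at ht
      refine ⟨t, ht.1, fun h8 => ht.2 ?_⟩
      simp only [map_add, map_smul, LinearMap.add_apply, LinearMap.smul_apply, smul_eq_mul] at h8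
      rw [eq_div_iff hb]
      linear_combination h8) (fun a ha => by
      obtain ⟨b, hb0, hb⟩ := h1 _ (h0 a).1
      obtain ⟨b, hb1, _, hb', rfl⟩ := mem_sup.1 (hx (mem_top (x := b)))
      obtain ⟨t, rfl⟩ := mem_span_singleton.1 hb'
      have h8 := congrArg n hb
      simp only [map_add, map_smul, h7 a b hb1, zero_add, smul_eq_mul, map_zero] at h8
      obtain rfl := (mul_eq_zero.1 h8).resolve_right ha
      simp only [zero_smul, add_zero] at hb hb0
      have h9 := (m.compl₂ Q.subtype a).finrank_range_add_finrank_ker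
      have h10 : LinearMap.ker (m.compl₂ Q.subtype a) ≠ ⊥ :=
        (Submodule.ne_bot_iff _).2 ⟨⟨b, hb1⟩, hb, fun h => hb0 (congrArg Subtype.val h)⟩
      have h11 := Submodule.finrank_eq_zero.not.2 h10
      omega) with ⟨w, hw⟩ | ⟨f, hf⟩
  · exact h.not_compress (comm_ne hW.ge hc (x := x) (hpq ▸ eq_top_iff.2 hx))
      (fun a => hw a ⟨p, hpq ▸ subset_span (by simp)⟩) fun a => hw a ⟨q, hpq ▸ subset_span (by simp)⟩
  · obtain ⟨b, hb0, hb⟩ := exists_ne_zero_ker (by omega) f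
    exact hb0 (Subtype.ext (h.m_nd _ (hf b hb)))

/-- A character of the algebra `(V, μ, e)`. -/
def IsCh (μ : V →ₗ[k] V →ₗ[k] V) (e : V) (ξ : V →ₗ[k] k) : Prop :=
  ξ e = 1 ∧ ∀ a b, ξ (μ a b) = ξ a * ξ b

theorem exists_isCh [IsAlgClosed k] [FiniteDimensional k V] (hV : finrank k V ≤ 3)
    {μ : V →ₗ[k] V →ₗ[k] V} {e : V} (he : e ≠ 0) (h1 : ∀ a, μ e a = a) (h2 : ∀ a, μ a e = a)
    (h3 : ∀ a b c, μ (μ a b) c = μ a (μ b c)) : ∃ ξ, IsCh μ e ξ := by
  have h4 : ∀ x, x ≠ 0 → (∀ a, μ a x ∈ span k {x}) → ∃ ξ, IsCh μ e ξ := fun x hx h => by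
    obtain ⟨g, hg⟩ := exists_dual_one (k := k) hx
    refine ⟨g ∘ₗ μ.flip x, by simp [h1, hg], fun a b => ?_⟩
    obtain ⟨t, ht⟩ := mem_span_singleton.1 (h b)
    simp [h3, ← ht, hg, mul_comm]
  by_cases h5 : ∀ a, a ∈ span k {e}
  · exact h4 e he fun a => h5 _
  push Not at h5
  obtain ⟨a, ha⟩ := h5
  have : Nontrivial V := ⟨e, 0, he⟩
  obtain ⟨t, ht⟩ := End.exists_eigenvalue (μ.flip a)
  set I := End.eigenspace (μ.flip a) t
  have h6 : ∀ b, ∀ x ∈ I, μ b x ∈ I := fun b x hx => by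
    rw [End.mem_eigenspace_iff, LinearMap.flip_apply] at hx ⊢
    rw [h3, hx, map_smul]
  have h7 : e ∉ I := fun h => ha (by
    rw [End.mem_eigenspace_iff, LinearMap.flip_apply, h1] at h
    exact h ▸ smul_mem _ _ (mem_span_singleton_self e))
  by_cases h8 : finrank k I ≤ 1
  · obtain ⟨x, hx, hx0⟩ := exists_mem_ne_zero_of_ne_bot (End.hasEigenvalue_iff.1 ht)
    exact h4 x hx0 fun b => mem_span_of_le_one h8 (h6 b x hx) hx hx0
  obtain ⟨g, hg1, hg⟩ := exists_dual_of_notMem h7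
  have h9 : I ⊔ span k {e} = ⊤ :=
    eq_top_of_finrank_eq (le_antisymm (finrank_le _) (by rw [finrank_sup_span_singleton h7]; omega))
  refine ⟨g, hg1, fun a b => ?_⟩
  obtain ⟨b, hb, _, hb', rfl⟩ := mem_sup.1 (h9 ▸ mem_top (x := b))
  obtain ⟨t, rfl⟩ := mem_span_singleton.1 hb'
  simp [hg _ (h6 a b hb), hg b hb, h2, hg1, mul_comm]

theorem linearIndependent_isCh {μ : V →ₗ[k] V →ₗ[k] V} {e : V} (h1 : ∀ a, μ e a = a)
    (h2 : ∀ a, μ a e = a) : LinearIndependent k fun ξ : {ξ // IsCh μ e ξ} => ξ.1 := by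
  let : MulOneClass V := { mul := fun a b => μ a b, one := e, one_mul := h1, mul_one := h2 }
  refine LinearIndependent.of_comp (LinearMap.ltoFun k V k k) ?_
  exact (linearIndependent_monoidHom V k).comp
    (fun ξ : {ξ // IsCh μ e ξ} => ({ toFun := ξ.1, map_one' := ξ.2.1, map_mul' := ξ.2.2 } : V →* k))
    fun ξ η h => Subtype.ext (LinearMap.ext fun a => DFunLike.congr_fun h a)

/-- Trace functionals for a regular normal element. -/
theorem exists_trace [IsAlgClosed k] [FiniteDimensional k V] (hV : finrank k V ≤ 3)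
    {π : V →ₗ[k] V →ₗ[k] V} {e : V} (he : e ≠ 0) (h1 : ∀ a, π a e = a)
    (h2 : Function.Injective (π e)) (h3 : ∀ a x y, π (π a x) (π e y) = π a (π x y)) :
    ∃ n, 1 ≤ n ∧ n ≤ finrank k V ∧ ∀ j, n ∣ j + 2 → ∃ τ : V →ₗ[k] k, τ ≠ 0 ∧
      ∀ a g, τ (π a g) = τ (π g ((π e ^ j) a)) := by
  classical
  let θ := LinearEquiv.ofInjectiveEndo (π e) h2
  have hθ : ∀ a, θ a = π e a := fun _ => rfl
  let μ := π.compl₂ θ.symm.toLinearMap
  have hμ : ∀ a b, μ a (π e b) = π a b := fun a b => congrArg (π a) (θ.symm_apply_apply b)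
  have hs : ∀ b, ∃ c, b = π e c := fun b => ⟨θ.symm b, (θ.apply_symm_apply b).symm⟩
  have h4 : ∀ a, μ e a = a := fun a => by obtain ⟨a, rfl⟩ := hs a; rw [hμ]
  have h5 : ∀ a, μ a e = a := fun a => by rw [← h1 e, hμ, h1]
  have h6 : ∀ a b, π e (μ a b) = μ (π e a) (π e b) := fun a b => by
    obtain ⟨b, rfl⟩ := hs b
    rw [hμ, hμ, h3]
  have h7 : ∀ a b c, μ (μ a b) c = μ a (μ b c) := fun a b c => by
    obtain ⟨b, rfl⟩ := hs b
    obtain ⟨c, rfl⟩ := hs c
    rw [← h6, hμ, hμ, hμ]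
    obtain ⟨c, rfl⟩ := hs c
    rw [h3, hμ]
  have hli := linearIndependent_isCh h4 h5
  have := hli.finite_of_isNoetherian
  have := Fintype.ofFinite {ξ // IsCh μ e ξ}
  obtain ⟨ξ₀, hξ₀⟩ := exists_isCh hV he h4 h5 h7
  let s : {ξ // IsCh μ e ξ} → {ξ // IsCh μ e ξ} := fun ξ =>
    ⟨ξ.1 ∘ₗ π e, by simp [h1, ξ.2.1], fun a b => by simp [h6, ξ.2.2]⟩
  have hs1 : Function.Injective s := fun ξ η h => Subtype.ext (LinearMap.ext fun a => by
    obtain ⟨a, rfl⟩ := hs a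
    exact LinearMap.congr_fun (congrArg Subtype.val h) a)
  have hs2 : ∀ n ξ a, (s^[n] ξ).1 a = ξ.1 ((π e ^ n) a) := fun n => by
    induction n with
    | zero => simp
    | succ n ih => intro ξ a; rw [Function.iterate_succ_apply, ih, pow_succ']; rfl
  refine ⟨Function.minimalPeriod s ⟨ξ₀, hξ₀⟩,
    Function.minimalPeriod_pos_of_mem_periodicPts (hs1.mem_periodicPts _),
    Function.minimalPeriod_le_card.trans (hli.fintype_card_le_finrank.trans_eq Subspace.dual_finrank_eq),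
    fun j hj => ⟨∑ ξ with s^[j + 2] ξ = ξ, ξ.1, fun h0 => ?_, fun a g => ?_⟩⟩
  · exact one_ne_zero (linearIndependent_iff'.1 hli _ (fun _ => 1) (by simp only [one_smul]; exact h0) ⟨ξ₀, hξ₀⟩
      (Finset.mem_filter.2 ⟨Finset.mem_univ _, Function.isPeriodicPt_iff_minimalPeriod_dvd.2 hj⟩))
  rw [← hμ, ← hμ g]
  simp only [LinearMap.coe_sum, Finset.sum_apply]
  refine Finset.sum_bijective s (Finite.injective_iff_bijective.1 hs1) (fun ξ => ?_) fun ξ hξ => ?_
  · simp only [Finset.mem_filter, Finset.mem_univ, true_and]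
    rw [← Function.iterate_succ_apply s (j + 2), Function.iterate_succ_apply' s (j + 2), hs1.eq_iff]
  · have h8 := hs2 (j + 2) ξ a
    rw [(Finset.mem_filter.1 hξ).2, pow_succ', pow_succ'] at h8
    rw [ξ.2.2, (s ξ).2.2, h8, mul_comm]
    rfl

end CL.Blk.Rk.Five
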