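/-
The graded symmetric quotient of a symmetric local algebra, and regular elements in it.
-/
import Cfsg.Agent.Blk.SymFiveA

set_option autoImplicit false

namespace CL.Blk.Rk.SymLoc

open Module Submodule Five

variable {k A : Type*} [Field k] [Ring A] [Algebra k A] (S : SymLoc k A) (N : ℕ)

/-- The elements of `J ^ n` orthogonal to `J ^ (N - n)`. -/
def nul (n : ℕ) : Submodule k A where
  carrier := {a | a ∈ S.J ^ n ∧ ∀ j, n + j = N → ∀ w ∈ S.J ^ j, S.lam (w * a) = 0}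
  add_mem' ha hb := ⟨add_mem ha.1 hb.1, fun j hj w hw => by
    rw [mul_add, map_add, ha.2 j hj w hw, hb.2 j hj w hw, add_zero]⟩
  zero_mem' := ⟨zero_mem _, by simp⟩
  smul_mem' c a ha := ⟨smul_mem _ _ ha.1, fun j hj w hw => by
    rw [mul_smul_comm, map_smul, ha.2 j hj w hw, smul_zero]⟩

/-- The span of the commutators of `J` with `J ^ n`. -/
def comm (n : ℕ) : Submodule k A := span k {x | ∃ a ∈ S.J, ∃ y ∈ S.J ^ n, x = a * y - y * a}

theorem exists_pr (P : Submodule k A) :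
    ∃ π : A →ₗ[k] A, (∀ x, π x ≡ x [SMOD P]) ∧ ∀ x ∈ P, π x = 0 := by
  obtain ⟨Q, h⟩ := P.exists_isCompl
  exact ⟨Q.projection P h.symm, fun x => (SModEq.sub_mem.2 (sub_projection_mem h.symm x)).symm,
    fun x hx => (projection_apply_eq_zero_iff h.symm).2 hx⟩

/-- A projection with kernel `nul n`. -/
noncomputable def pr (n : ℕ) : A →ₗ[k] A := (exists_pr (S.nul N n)).choose

/-- The `n`-th layer. -/
noncomputable def lay (n : ℕ) : Submodule k A := (S.J ^ n).map (S.pr N n)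

variable {S N} {m n i : ℕ} {a b x y : A}

theorem nul_le : S.nul N n ≤ S.J ^ n := fun _ h => h.1

theorem mul_mem_nul_left (hb : b ∈ S.J ^ n) (ha : a ∈ S.nul N m) (h : n + m = i) :
    b * a ∈ S.nul N i :=
  ⟨h ▸ S.mul_mem_pow hb ha.1, fun j hj w hw => by
    rw [← mul_assoc]; exact ha.2 (j + n) (by omega) _ (S.mul_mem_pow hw hb)⟩

theorem mul_mem_nul_right (ha : a ∈ S.nul N m) (hb : b ∈ S.J ^ n) (h : m + n = i) :
    a * b ∈ S.nul N i :=
  ⟨h ▸ S.mul_mem_pow ha.1 hb, fun j hj w hw => by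
    rw [← mul_assoc, S.symm, ← mul_assoc]; exact ha.2 (n + j) (by omega) _ (S.mul_mem_pow hb hw)⟩

theorem congr_left (hb : b ∈ S.J ^ n) (hxy : x ≡ y [SMOD S.nul N m]) (h : n + m = i) :
    b * x ≡ b * y [SMOD S.nul N i] := by
  rw [SModEq.sub_mem, ← mul_sub]
  exact mul_mem_nul_left hb (SModEq.sub_mem.1 hxy) h

theorem congr_right (hxy : x ≡ y [SMOD S.nul N m]) (hb : b ∈ S.J ^ n) (h : m + n = i) :
    x * b ≡ y * b [SMOD S.nul N i] := by
  rw [SModEq.sub_mem, ← sub_mul]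
  exact mul_mem_nul_right (SModEq.sub_mem.1 hxy) hb h

theorem pow_succ_le_nul (hN : S.J ^ (N + 1) = ⊥) : S.J ^ (n + 2) ≤ S.nul N (n + 1) := fun a ha =>
  ⟨S.pow_succ_le n ha, fun j hj w hw => by
    have := S.mul_mem_pow hw ha
    rw [show j + (n + 2) = N + 1 by omega, hN, mem_bot] at this
    rw [this, map_zero]⟩

theorem mem_nul_of_left (ha : a ∈ S.J ^ n) (hi : m + n = i) (hN : i ≤ N)
    (h : ∀ b ∈ S.J ^ m, b * a ∈ S.nul N i) : a ∈ S.nul N n :=
  ⟨ha, fun j hj w hw => by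
    rw [show j = N - i + m by omega, pow_add] at hw
    refine mul_le (P := LinearMap.ker (S.lam ∘ₗ LinearMap.mulRight k a)).2 (fun u hu b hb => ?_) hw
    exact (congrArg S.lam (mul_assoc u b a)).trans ((h b hb).2 _ (by omega) u hu)⟩

theorem mem_nul_of_right (ha : a ∈ S.J ^ n) (hi : n + m = i) (hN : i ≤ N)
    (h : ∀ b ∈ S.J ^ m, a * b ∈ S.nul N i) : a ∈ S.nul N n :=
  ⟨ha, fun j hj w hw => by
    rw [show j = m + (N - i) by omega, pow_add] at hw
    refine mul_le (P := LinearMap.ker (S.lam ∘ₗ LinearMap.mulRight k a)).2 (fun b hb u hu => ?_) hw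
    refine (congrArg S.lam (mul_assoc b u a)).trans ?_
    rw [S.symm, mul_assoc]
    exact (h b hb).2 _ (by omega) u hu⟩

theorem not_le_nul (hs : ∃ s ∈ S.J ^ N, S.lam s ≠ 0) (hn : n ≤ N) : ¬ S.J ^ n ≤ S.nul N n :=
  fun h => by
    obtain ⟨s, hs, hs0⟩ := hs
    rw [show N = N - n + n by omega, pow_add] at hs
    exact hs0 (mul_le (P := LinearMap.ker S.lam).2
      (fun u hu b hb => (h hb).2 _ (by omega) u hu) hs)

theorem pr_congr (x : A) : S.pr N n x ≡ x [SMOD S.nul N n] := (exists_pr (S.nul N n)).choose_spec.1 x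

theorem pr_eq_zero : S.pr N n x = 0 ↔ x ∈ S.nul N n :=
  ⟨fun h => SModEq.zero.1 (h ▸ (pr_congr x).symm), (exists_pr (S.nul N n)).choose_spec.2 x⟩

theorem pr_eq_iff : S.pr N n x = S.pr N n y ↔ x ≡ y [SMOD S.nul N n] := by
  rw [SModEq.sub_mem, ← pr_eq_zero, map_sub, sub_eq_zero]

theorem mem_of_congr (hxy : x ≡ y [SMOD S.nul N n]) (hy : y ∈ S.J ^ n) : x ∈ S.J ^ n := by
  simpa using add_mem (nul_le (SModEq.sub_mem.1 hxy)) hy

theorem lay_mem (u : S.lay N n) : (u : A) ∈ S.J ^ n := by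
  obtain ⟨_, x, hx, rfl⟩ := u
  exact mem_of_congr (pr_congr x) hx

theorem lay_ext {u w : S.lay N n} (h : (u : A) ≡ w [SMOD S.nul N n]) : u = w := by
  obtain ⟨_, x, hx, rfl⟩ := u
  obtain ⟨_, y, hy, rfl⟩ := w
  exact Subtype.ext (pr_eq_iff.2 ((pr_congr x).symm.trans (h.trans (pr_congr y))))

theorem lay_eq_zero {u : S.lay N n} (h : (u : A) ∈ S.nul N n) : u = 0 := lay_ext (SModEq.zero.2 h)

theorem exists_lay (hx : x ∈ S.J ^ n) : ∃ u : S.lay N n, x ≡ u [SMOD S.nul N n] :=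
  ⟨⟨_, x, hx, rfl⟩, (pr_congr x).symm⟩

theorem finrank_lay [FiniteDimensional k A] :
    finrank k (S.lay N n) + finrank k (S.nul N n) = finrank k ↥(S.J ^ n) := by
  rw [← finrank_sup_add_finrank_inf_eq, show S.lay N n ⊓ S.nul N n = ⊥ from eq_bot_iff.2
    fun x hx => congrArg Subtype.val (lay_eq_zero (u := ⟨x, hx.1⟩) hx.2), finrank_bot, add_zero]
  refine congrArg (fun U : Submodule k A => finrank k U)
    (le_antisymm (sup_le (fun x hx => lay_mem ⟨x, hx⟩) nul_le) fun x hx => ?_)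
  obtain ⟨u, hu⟩ := exists_lay (N := N) hx
  exact mem_sup.2 ⟨u, u.2, _, SModEq.sub_mem.1 hu, by abel⟩

/-- Multiplication of layers. -/
noncomputable def mu (h : m + n = i) : S.lay N m →ₗ[k] S.lay N n →ₗ[k] S.lay N i :=
  LinearMap.mk₂ k (fun u w => ⟨S.pr N i (u * w), _, h ▸ S.mul_mem_pow (lay_mem u) (lay_mem w), rfl⟩)
    (fun _ _ _ => Subtype.ext (by simp [add_mul])) (fun _ _ _ => Subtype.ext (by simp))
    (fun _ _ _ => Subtype.ext (by simp [mul_add])) fun _ _ _ => Subtype.ext (by simp)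

theorem mu_congr (h : m + n = i) (u : S.lay N m) (w : S.lay N n) :
    (mu h u w : A) ≡ u * w [SMOD S.nul N i] := pr_congr _

theorem mu_nd_left (h : m + n = i) (hN : i ≤ N) (w : S.lay N n)
    (h0 : ∀ u : S.lay N m, mu h u w = 0) : w = 0 :=
  lay_eq_zero (mem_nul_of_left (lay_mem w) h hN fun b hb => by
    obtain ⟨u, hu⟩ := exists_lay (N := N) hb
    refine SModEq.zero.1 ((congr_right hu (lay_mem w) h).trans ?_)
    simpa [h0] using (mu_congr h u w).symm)

theorem mu_nd_right (h : m + n = i) (hN : i ≤ N) (u : S.lay N m)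
    (h0 : ∀ w : S.lay N n, mu h u w = 0) : u = 0 :=
  lay_eq_zero (mem_nul_of_right (lay_mem u) h hN fun b hb => by
    obtain ⟨w, hw⟩ := exists_lay (N := N) hb
    refine SModEq.zero.1 ((congr_left (lay_mem u) hw h).trans ?_)
    simpa [h0] using (mu_congr h u w).symm)

theorem lay_eq_top {U : Submodule k (S.lay N n)}
    (h : S.J ^ n ≤ U.map (S.lay N n).subtype ⊔ S.nul N n) : U = ⊤ :=
  eq_top_iff.2 fun u _ => by
    obtain ⟨_, ⟨w, hw, rfl⟩, z, hz, h1⟩ := mem_sup.1 (h (lay_mem u))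
    rwa [lay_ext (u := u) (w := w) (SModEq.sub_mem.2 (by rw [← h1]; simpa using hz))]

theorem mem_sup_of_congr {U P : Submodule k A} (h : x ≡ y [SMOD P]) (hy : y ∈ U) : x ∈ U ⊔ P :=
  mem_sup.2 ⟨y, hy, _, SModEq.sub_mem.1 h, by abel⟩

theorem congr_mu (h : m + n = i) (ha : a ∈ S.J ^ m) (hb : b ∈ S.J ^ n) :
    ∃ (u : S.lay N m) (w : S.lay N n), a ≡ u [SMOD S.nul N m] ∧ b ≡ w [SMOD S.nul N n] ∧
      a * b ≡ mu h u w [SMOD S.nul N i] := by
  obtain ⟨u, hu⟩ := exists_lay (N := N) ha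
  obtain ⟨w, hw⟩ := exists_lay (N := N) hb
  exact ⟨u, w, hu, hw, ((congr_right hu hb h).trans (congr_left (lay_mem u) hw h)).trans
    (mu_congr h u w).symm⟩

theorem win (hN : 3 ≤ N) : Win (mu (S := S) (N := N) (m := 1) (n := 1) (i := 2) rfl)
    (mu (m := 1) (n := 2) (i := 3) rfl) (mu (m := 2) (n := 1) (i := 3) rfl) where
  assoc a b c := lay_ext <| ((mu_congr _ _ _).trans (congr_left (lay_mem a) (mu_congr _ _ _) rfl)).trans
    (mul_assoc (a : A) b c ▸ ((mu_congr _ _ _).trans (congr_right (mu_congr _ _ _) (lay_mem c) rfl)).symm)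
  m_nd := mu_nd_left _ (by omega)
  l_nd := mu_nd_left _ hN
  r_nd := mu_nd_right _ hN
  gen U h := lay_eq_top ((pow_add S.J 1 1).trans_le (mul_le.2 fun a ha b hb => by
    obtain ⟨u, w, -, -, h1⟩ := congr_mu (N := N) (i := 2) rfl ha hb
    exact mem_sup_of_congr h1 ⟨_, h u w, rfl⟩))

theorem finrank_le_one_of_third (hs : ∃ s ∈ S.J ^ N, S.lam s ≠ 0) (hN : 4 ≤ N)
    (h : ∃ x : S.lay N 3, ∀ w a, mu (m := 2) (n := 1) rfl w a ∈ span k {x}) :
    finrank k (S.lay N 1) ≤ 1 := by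
  obtain ⟨u, hu⟩ := h
  have h1 : S.J ^ 3 ≤ span k {(u : A)} ⊔ S.nul N 3 :=
    (pow_add S.J 2 1).trans_le (mul_le.2 fun a ha b hb => by
      obtain ⟨w, c, -, -, h1⟩ := congr_mu (N := N) (i := 3) rfl ha hb
      obtain ⟨t, ht⟩ := mem_span_singleton.1 (hu w c)
      exact mem_sup_of_congr h1 (mem_span_singleton.2 ⟨t, congrArg Subtype.val ht⟩))
  have h2 := not_le_nul hs (n := 3) (by omega)
  obtain ⟨ν, hν1, hν⟩ := exists_dual_of_notMem (W := S.nul N 3) (x := u) fun h =>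
    h2 (h1.trans (sup_le ((span_singleton_le_iff_mem _ _).2 h) le_rfl))
  have h3 : ∀ x ∈ S.J ^ 3, x ≡ ν x • (u : A) [SMOD S.nul N 3] := fun x hx => by
    obtain ⟨_, h4, z, hz, rfl⟩ := mem_sup.1 (h1 hx)
    obtain ⟨t, rfl⟩ := mem_span_singleton.1 h4
    simpa [SModEq.sub_mem, hν1, hν z hz] using hz
  obtain ⟨w, hw, d, hd, h4⟩ : ∃ w ∈ S.J ^ 2, ∃ d ∈ S.J ^ 1, ν (w * d) ≠ 0 := by
    by_contra! h4
    exact h2 ((pow_add S.J 2 1).trans_le (mul_le.2 fun w hw d hd => SModEq.zero.1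
      (by simpa [h4 w hw d hd] using h3 _ (S.mul_mem_pow hw hd))))
  refine (LinearMap.finrank_le_finrank_of_injective (f := ν ∘ₗ LinearMap.mulRight k w ∘ₗ
    (S.lay N 1).subtype) ((injective_iff_map_eq_zero _).2 fun a ha => ?_)).trans_eq (finrank_self k)
  have h5 := congr_right (i := 4) (h3 _ (S.mul_mem_pow (lay_mem a) hw)) hd rfl
  have h6 := congr_left (i := 4) (lay_mem a) (h3 _ (S.mul_mem_pow hw hd)) rfl
  rw [show ν (a * w) = 0 from ha, zero_smul, zero_mul, mul_assoc] at h5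
  have h7 := SModEq.zero.1 (h6.symm.trans h5)
  rw [mul_smul_comm, smul_mem_iff _ h4] at h7
  refine lay_eq_zero (mem_nul_of_right (m := 3) (lay_mem a) rfl hN fun b hb => SModEq.zero.1
    ((congr_left (lay_mem a) (h3 b hb) rfl).trans (SModEq.zero.2 ?_)))
  rw [mul_smul_comm]
  exact smul_mem _ _ h7

section Regular

variable {v : S.lay N 1}

theorem pow_mem (v : S.lay N 1) (n : ℕ) : (v : A) ^ n ∈ S.J ^ n :=
  Submodule.pow_mem_pow _ (S.mem_pow_one.1 (lay_mem v)) n

theorem exists_left (h : Function.Surjective (mu (m := 1) (n := 1) (i := 2) rfl v)) (n : ℕ) :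
    ∀ y ∈ S.J ^ (n + 1), ∃ u : S.lay N 1, y ≡ v ^ n * u [SMOD S.nul N (n + 1)] := by
  induction n with
  | zero => intro y hy; simpa using exists_lay hy
  | succ n ih =>
    intro y hy
    rw [pow_add] at hy
    refine Submodule.mul_induction_on hy (fun a ha b hb => ?_) ?_
    · obtain ⟨u, hu⟩ := ih a ha
      obtain ⟨w, hw⟩ := exists_lay (N := N) (S.mul_mem_pow (lay_mem u) hb)
      obtain ⟨z, rfl⟩ := h w
      refine ⟨z, (congr_right hu hb rfl).trans ?_⟩
      rw [mul_assoc, pow_succ, mul_assoc]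
      exact congr_left (pow_mem v n) (hw.trans (mu_congr _ _ _)) rfl
    · rintro x y ⟨u, hu⟩ ⟨w, hw⟩
      exact ⟨u + w, by simpa [mul_add] using hu.add hw⟩

theorem exists_right (h : Function.Surjective ((mu (m := 1) (n := 1) (i := 2) rfl).flip v)) (n : ℕ) :
    ∀ y ∈ S.J ^ (n + 1), ∃ u : S.lay N 1, y ≡ u * v ^ n [SMOD S.nul N (n + 1)] := by
  induction n with
  | zero => intro y hy; simpa using exists_lay hy
  | succ n ih =>
    intro y hy
    rw [add_comm, pow_add] at hy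
    refine Submodule.mul_induction_on hy (fun b hb a ha => ?_) ?_
    · obtain ⟨u, hu⟩ := ih a ha
      obtain ⟨w, hw⟩ := exists_lay (N := N) (S.mul_mem_pow hb (lay_mem u))
      obtain ⟨z, rfl⟩ := h w
      refine ⟨z, (congr_left hb hu (by omega)).trans ?_⟩
      rw [← mul_assoc, pow_succ', ← mul_assoc]
      exact congr_right (hw.trans (mu_congr rfl z v)) (pow_mem v n) (by omega)
    · rintro x y ⟨u, hu⟩ ⟨w, hw⟩
      exact ⟨u + w, by simpa [add_mul] using hu.add hw⟩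

theorem eq_zero_right (h : Function.Surjective (mu (m := 1) (n := 1) (i := 2) rfl v))
    (hn : n + 2 ≤ N) {u : S.lay N 1} (hu : (u : A) * v ^ n ∈ S.nul N (n + 1)) : u = 0 :=
  lay_eq_zero (mem_nul_of_right (m := n + 1) (lay_mem u) rfl (by omega) fun b hb => by
    obtain ⟨w, hw⟩ := exists_left h n b hb
    refine SModEq.zero.1 ((congr_left (lay_mem u) hw rfl).trans (SModEq.zero.2 ?_))
    rw [← mul_assoc]
    exact mul_mem_nul_right hu (lay_mem w) (by omega))

theorem eq_zero_left (h : Function.Surjective ((mu (m := 1) (n := 1) (i := 2) rfl).flip v))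
    (hn : n + 2 ≤ N) {u : S.lay N 1} (hu : (v : A) ^ n * u ∈ S.nul N (n + 1)) : u = 0 :=
  lay_eq_zero (mem_nul_of_left (m := n + 1) (lay_mem u) rfl (by omega) fun b hb => by
    obtain ⟨w, hw⟩ := exists_right h n b hb
    refine SModEq.zero.1 ((congr_right hw (lay_mem u) rfl).trans (SModEq.zero.2 ?_))
    rw [mul_assoc]
    exact mul_mem_nul_left (lay_mem w) hu (by omega))

variable [FiniteDimensional k A]

theorem surj_and (hN : 3 ≤ N) (h : Function.Surjective (mu (m := 1) (n := 1) (i := 2) rfl v) ∨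
      Function.Surjective ((mu (m := 1) (n := 1) (i := 2) rfl).flip v)) :
    Function.Surjective (mu (m := 1) (n := 1) (i := 2) rfl v) ∧
      Function.Surjective ((mu (m := 1) (n := 1) (i := 2) rfl).flip v) := by
  have h1 : ∀ f g : S.lay N 1 →ₗ[k] S.lay N 2, Function.Surjective f → (∀ u, g u = 0 → u = 0) →
      Function.Surjective g := fun f g hf hg => by
    have hg' := (injective_iff_map_eq_zero _).2 hg
    exact (LinearMap.injective_iff_surjective_of_finrank_eq_finrank (le_antisymm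
      (LinearMap.finrank_le_finrank_of_injective hg')
      (LinearMap.finrank_le_finrank_of_surjective hf))).1 hg'
  rcases h with h | h
  · exact ⟨h, h1 _ _ h fun u hu => eq_zero_right h (n := 1) hN
      (by rw [pow_one]; exact pr_eq_zero.1 (congrArg Subtype.val hu))⟩
  · exact ⟨h1 _ _ h fun u hu => eq_zero_left h (n := 1) hN
      (by rw [pow_one]; exact pr_eq_zero.1 (congrArg Subtype.val hu)), h⟩

theorem finrank_lay_le (h : Function.Surjective (mu (m := 1) (n := 1) (i := 2) rfl v))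
    (hn : n + 2 ≤ N) : finrank k (S.lay N 1) ≤ finrank k (S.lay N (n + 1)) :=
  LinearMap.finrank_le_finrank_of_injective (f := (mu (add_comm 1 n)).flip
    ⟨_, _, pow_mem v n, rfl⟩) ((injective_iff_map_eq_zero _).2 fun u hu => eq_zero_right h hn
      (SModEq.zero.1 ((congr_left (lay_mem u) (pr_congr _).symm (add_comm 1 n)).trans
        (SModEq.zero.2 (pr_eq_zero.1 (congrArg Subtype.val hu))))))

omit [FiniteDimensional k A] in
theorem exists_coord (h : Function.Surjective (mu (m := 1) (n := 1) (i := 2) rfl v))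
    (hn : n + 2 ≤ N) : ∃ G : A →ₗ[k] S.lay N 1, ∀ (y : A) (u : S.lay N 1),
      y ≡ u * v ^ n [SMOD S.nul N (n + 1)] → G y = u := by
  obtain ⟨g, hg⟩ := LinearMap.exists_leftInverse_of_injective ((S.nul N (n + 1)).mkQ ∘ₗ
    LinearMap.mulRight k ((v : A) ^ n) ∘ₗ (S.lay N 1).subtype) (LinearMap.ker_eq_bot'.2 fun u hu =>
      eq_zero_right h hn ((Quotient.mk_eq_zero _).1 hu))
  exact ⟨g ∘ₗ (S.nul N (n + 1)).mkQ, fun y u hy =>
    (congrArg g hy).trans (LinearMap.congr_fun hg u)⟩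

theorem exists_period [IsAlgClosed k] (hs : ∃ s ∈ S.J ^ N, S.lam s ≠ 0) (hN : 4 ≤ N)
    (hV : finrank k (S.lay N 1) ≤ 3)
    (hL : Function.Surjective (mu (m := 1) (n := 1) (i := 2) rfl v))
    (hR : Function.Surjective ((mu (m := 1) (n := 1) (i := 2) rfl).flip v)) :
    ∃ n, 1 ≤ n ∧ n ≤ finrank k (S.lay N 1) ∧ ∀ j, j + 3 ≤ N → n ∣ j + 2 →
      ¬ S.J ^ (j + 2) ≤ S.comm (j + 1) ⊔ S.nul N (j + 2) := by
  obtain ⟨G, hG⟩ := exists_coord hL (n := 1) (by omega)
  let π := ((LinearMap.mul k A).compl₁₂ (S.lay N 1).subtype (S.lay N 1).subtype).compr₂ G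
  have h1 : ∀ a x : S.lay N 1, (a : A) * x ≡ π a x * v [SMOD S.nul N 2] := fun a x => by
    obtain ⟨u, hu⟩ := exists_right hR 1 _ (S.mul_mem_pow (lay_mem a) (lay_mem x))
    rw [show π a x = u from hG _ _ hu]
    rwa [pow_one] at hu
  have h2 : ∀ j (a x : S.lay N 1), (a : A) * (x * v ^ j) ≡ π a x * v ^ (j + 1)
      [SMOD S.nul N (j + 2)] := fun j a x => by
    rw [← mul_assoc, pow_succ', ← mul_assoc]
    exact congr_right (h1 a x) (pow_mem v j) (add_comm _ _)
  have h3 : ∀ j (a : S.lay N 1), (v : A) ^ j * a ≡ (π v ^ j) a * v ^ j [SMOD S.nul N (j + 1)] :=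
    fun j a => by
      induction j with
      | zero => simp
      | succ j ih =>
        rw [pow_succ', mul_assoc, pow_succ' (π v)]
        exact (congr_left (lay_mem v) ih (add_comm _ _)).trans (pow_succ' (v : A) j ▸ h2 j _ _)
  have hv : v ≠ 0 := by
    rintro rfl
    refine not_le_nul hs (n := 2) (by omega) fun y hy => ?_
    obtain ⟨u, hu⟩ := exists_left hL 1 y hy
    exact SModEq.zero.1 (by simpa using hu)
  obtain ⟨n, hn1, hn2, hn⟩ := exists_trace hV (π := π) hv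
    (fun a => hG _ _ (by rw [pow_one]; exact SModEq.rfl))
    ((injective_iff_map_eq_zero _).2 fun x hx => eq_zero_left hR (n := 1) (by omega)
      (SModEq.zero.1 (by simpa [hx] using h1 v x))) fun a x y => by
    refine sub_eq_zero.1 (eq_zero_right hL (n := 2) hN ?_)
    rw [Submodule.coe_sub, sub_mul, ← SModEq.sub_mem]
    refine (h2 1 _ _).symm.trans (.trans ?_ (h2 1 _ _))
    rw [pow_one]
    refine (congr_left (lay_mem _) (h1 v y).symm rfl).trans
      (.trans ?_ (congr_left (lay_mem a) (h1 x y) rfl))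
    rw [← mul_assoc, ← mul_assoc]
    exact congr_right (h1 a x).symm (lay_mem y) rfl
  refine ⟨n, hn1, hn2, fun j hj hnj hle => ?_⟩
  obtain ⟨τ, hτ0, hτ⟩ := hn j hnj
  obtain ⟨G', hG'⟩ := exists_coord hL (n := j + 1) hj
  have h4 : S.comm (j + 1) ⊔ S.nul N (j + 2) ≤ LinearMap.ker (τ ∘ₗ G') := by
    refine sup_le (span_le.2 ?_) fun y hy => ?_
    · rintro _ ⟨a, ha, y, hy, rfl⟩
      obtain ⟨b, hb⟩ := exists_lay (N := N) (S.mem_pow_one.2 ha)
      obtain ⟨g, hg⟩ := exists_right hR j y hy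
      have h5 := hG' _ _ (((congr_right hb hy (add_comm _ _)).trans
        (congr_left (lay_mem b) hg (add_comm _ _))).trans (h2 j b g))
      have h6 := hG' _ _ (((congr_left hy hb rfl).trans (congr_right hg (lay_mem b) rfl)).trans
        ((mul_assoc (g : A) _ _ ▸ congr_left (lay_mem g) (h3 j b) (add_comm _ _)).trans (h2 j g _)))
      simp [h5, h6, hτ b g]
    · simp [hG' y 0 (by simpa using SModEq.zero.2 hy)]
  refine hτ0 (LinearMap.ext fun u => ?_)
  have h5 := h4 (hle (show (u : A) * v ^ (j + 1) ∈ _ from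
    add_comm 1 (j + 1) ▸ S.mul_mem_pow (lay_mem u) (pow_mem v _)))
  rwa [LinearMap.mem_ker, LinearMap.comp_apply, hG' _ u SModEq.rfl] at h5

end Regular

end CL.Blk.Rk.SymLoc
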