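/-
The theorem of Chlebowitz and Külshammer: a symmetric local algebra whose centre has dimension at
most five has dimension at most eight.
-/
import Cfsg.Agent.Blk.SymFiveB

set_option autoImplicit false

namespace CL.Blk.Rk.SymLoc

open Module Submodule Five

variable {k A : Type*} [Field k] [Ring A] [Algebra k A] (S : SymLoc k A) {N n : ℕ} {a x y z : A}

theorem mem_comm (ha : a ∈ S.J) (hy : y ∈ S.J ^ n) : a * y - y * a ∈ S.comm n :=
  subset_span ⟨a, ha, y, hy, rfl⟩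

theorem comm_le_K : S.comm n ≤ K k A := span_mono fun _ ⟨a, _, y, _, h⟩ => ⟨a, y, h⟩

theorem comm_le_pow : S.comm n ≤ S.J ^ (n + 1) := span_le.2 (by
  rintro _ ⟨a, ha, y, hy, rfl⟩
  exact sub_mem (add_comm 1 n ▸ S.mul_mem_pow (S.mem_pow_one.2 ha) hy)
    (S.mul_mem_pow hy (S.mem_pow_one.2 ha)))

theorem mem_comm_of_sq (ha : a ∈ S.J ^ 2) (hy : y ∈ S.J ^ n) : a * y - y * a ∈ S.comm (n + 1) := by
  rw [pow_two] at ha
  refine Submodule.mul_induction_on ha (fun b hb c hc => ?_) fun b c hb hc => ?_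
  · have := add_mem (S.mem_comm hb (add_comm 1 n ▸ S.mul_mem_pow (S.mem_pow_one.2 hc) hy))
      (S.mem_comm hc (S.mul_mem_pow hy (S.mem_pow_one.2 hb)))
    simpa [mul_assoc] using this
  · convert add_mem hb hc using 1
    noncomm_ring

theorem K_le_of_three (hx : x ∈ S.J) (hy : y ∈ S.J) (hz : z ∈ S.J)
    (h : S.J ≤ S.J ^ 2 ⊔ span k {x, y, z}) :
    K k A ≤ span k {x * y - y * x, x * z - z * x, y * z - z * y} ⊔ S.comm 2 := by
  refine S.K_le fun a ha b hb => ?_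
  obtain ⟨i, hi, _, h1, rfl⟩ := mem_sup.1 (h ha)
  obtain ⟨j, hj, _, h2, rfl⟩ := mem_sup.1 (h hb)
  obtain ⟨r, s, t, rfl⟩ := mem_span_triple.1 h1
  obtain ⟨r', s', t', rfl⟩ := mem_span_triple.1 h2
  refine mem_sup.2 ⟨_, mem_span_triple.2 ⟨r * s' - s * r', r * t' - t * r', s * t' - t * s', rfl⟩, _,
    sub_mem (S.mem_comm ha hj) (S.mem_comm (add_mem (add_mem (smul_mem _ r' hx) (smul_mem _ s' hy))
      (smul_mem _ t' hz)) hi), ?_⟩
  simp only [add_mul, mul_add, smul_mul_assoc, mul_smul_comm]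
  module

theorem comm_two_le (hx : x ∈ S.J) (hy : y ∈ S.J) (h : S.J ≤ S.J ^ 2 ⊔ span k {x, y})
    (h' : S.J ^ 2 ≤ S.J ^ 3 ⊔ span k {x * x, x * y}) :
    S.comm 2 ≤ span k {x * (x * y) - x * y * x, y * (x * y) - x * y * y} ⊔ S.comm 3 := by
  set T := span k {x * (x * y) - x * y * x, y * (x * y) - x * y * y} ⊔ S.comm 3
  have h1 : x * (x * y) - x * y * x ∈ T := mem_sup_left (subset_span (by simp))
  have h2 : y * (x * y) - x * y * y ∈ T := mem_sup_left (subset_span (by simp))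
  have h3 : ∀ a ∈ S.J, a * (x * x) - x * x * a ∈ T → a * (x * y) - x * y * a ∈ T →
      ∀ w ∈ S.J ^ 2, a * w - w * a ∈ T := fun a ha h3 h4 w hw => by
    obtain ⟨j, hj, _, h5, rfl⟩ := mem_sup.1 (h' hw)
    obtain ⟨s, t, rfl⟩ := mem_span_pair.1 h5
    convert add_mem (mem_sup_right (S.mem_comm ha hj)) (add_mem (smul_mem _ s h3) (smul_mem _ t h4))
      using 1
    simp only [add_mul, mul_add, smul_mul_assoc, mul_smul_comm]
    module
  have h4 := h3 x hx (by simp [mul_assoc]) h1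
  have h5 := h3 y hy (by
    convert neg_mem (add_mem h1 (h4 _ (S.mul_mem_sq hy hx))) using 1
    noncomm_ring) h2
  refine span_le.2 ?_
  rintro _ ⟨a, ha, w, hw, rfl⟩
  obtain ⟨i, hi, _, h6, rfl⟩ := mem_sup.1 (h ha)
  obtain ⟨s, t, rfl⟩ := mem_span_pair.1 h6
  refine SetLike.mem_coe.2 ?_
  convert add_mem (mem_sup_right (S.mem_comm_of_sq hi hw))
    (add_mem (smul_mem T s (h4 w hw)) (smul_mem T t (h5 w hw))) using 1
  simp only [add_mul, mul_add, smul_mul_assoc, mul_smul_comm]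
  module

variable [FiniteDimensional k A]

theorem inf_le_of_finrank {U U' T W : Submodule k A} (h1 : U ≤ T ⊔ U') (h2 : U' ≤ U) (h3 : U' ≤ W)
    (h4 : finrank k W + finrank k T ≤ finrank k ↥(U ⊔ W)) : U ⊓ W ≤ U' := by
  have h5 := finrank_sup_add_finrank_inf_eq U W
  have h6 := (Submodule.finrank_mono h1).trans (finrank_add_le_finrank_add_finrank T U')
  exact (eq_of_le_of_finrank_le (le_inf h2 h3) (by omega)).ge

omit [FiniteDimensional k A] in
theorem le_sup_of_inf_le {U U' W W' Y : Submodule k A} (h1 : U ⊓ W ≤ U') (h2 : W ≤ U ⊔ W')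
    (h3 : W' ≤ W) (h4 : W' ≤ Y) : W ≤ U' ⊔ Y := fun w hw => by
  obtain ⟨u, hu, s, hs, rfl⟩ := mem_sup.1 (h2 hw)
  exact add_mem_sup (h1 ⟨hu, (Submodule.add_mem_iff_left _ (h3 hs)).1 hw⟩) (h4 hs)

theorem comm_of_sq (hx : x ∈ S.J) (hy : y ∈ S.J) (h : S.J ≤ S.J ^ 2 ⊔ span k {x, y})
    (h' : S.J ^ 2 ≤ S.J ^ 3 ⊔ span k {x * x}) (a b : A) : a * b = b * a := by
  have hx1 := Submodule.pow_mem_pow _ hx
  have h1 : ∀ m, S.J ^ (m + 2) ≤ span k {x ^ (m + 2)} ⊔ S.J ^ (m + 3) := fun m => by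
    induction m with
    | zero => rwa [sup_comm, pow_two x]
    | succ m ih =>
      refine (pow_succ S.J (m + 2)).trans_le (mul_le.2 fun a ha b hb => ?_)
      obtain ⟨_, h2, i, hi, rfl⟩ := mem_sup.1 (ih ha)
      obtain ⟨s, rfl⟩ := mem_span_singleton.1 h2
      obtain ⟨j, hj, _, h3, h4⟩ := mem_sup.1 (h' (S.mul_mem_sq hx hb))
      obtain ⟨t, rfl⟩ := mem_span_singleton.1 h3
      refine mem_sup.2 ⟨_, smul_mem _ (s * t) (mem_span_singleton_self _), _, add_mem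
        (smul_mem _ s (S.mul_mem_pow (hx1 (m + 1)) hj)) (S.mul_mem_pow (n := 1) hi (S.mem_pow_one.2 hb)), ?_⟩
      rw [add_mul, smul_mul_assoc, pow_succ x (m + 1), mul_assoc, ← h4]
      simp only [mul_add, mul_smul_comm, pow_succ, mul_assoc]
      module
  set T := Algebra.adjoin k {x}
  have hT : x ∈ T := Algebra.self_mem_adjoin_singleton k x
  have h2 : S.J ^ 2 ≤ T.toSubmodule.map (LinearMap.mulLeft k x) := S.pow_le_of_forall fun m hm => by
    obtain ⟨m, rfl⟩ := Nat.exists_eq_add_of_le' hm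
    exact (h1 m).trans (sup_le_sup_right ((span_singleton_le_iff_mem _ _).2
      (mem_map.2 ⟨x ^ (m + 1), T.pow_mem hT _, (pow_succ' x _).symm⟩)) _)
  obtain ⟨f, hf, h3⟩ := h2 (S.mul_mem_sq hx hy)
  have h4 : x * (y - f) = 0 := by rw [mul_sub, sub_eq_zero]; exact h3.symm
  have h6 : ∀ b, ∃ t ∈ T, ∃ s : k, b = t + s • (y - f) := fun b => by
    obtain ⟨c, j, hj, rfl⟩ := S.exists_eq_add b
    obtain ⟨_, hi, _, h6, rfl⟩ := mem_sup.1 (h hj)
    obtain ⟨g, hg, rfl⟩ := h2 hi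
    obtain ⟨r, s, rfl⟩ := mem_span_pair.1 h6
    exact ⟨_, add_mem (add_mem (T.smul_mem (one_mem T) c) (mul_mem hT hg))
      (add_mem (T.smul_mem hT r) (T.smul_mem hf s)), s, by simp only [LinearMap.mulLeft_apply]; module⟩
  have h5 : (y - f) * x = 0 := S.nondeg _ fun b => by
    obtain ⟨t, ht, s, rfl⟩ := h6 b
    rw [mul_add, mul_smul_comm, mul_assoc _ x (y - f), h4, mul_zero, smul_zero, add_zero, mul_assoc,
      S.symm, (Algebra.commute_of_mem_adjoin_self ht).eq, mul_assoc, h4, mul_zero, map_zero]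
  have h7 : ∀ t ∈ T, Commute (y - f) t := fun t ht =>
    Algebra.commute_of_mem_adjoin_singleton_of_commute ht (h5.trans h4.symm)
  obtain ⟨t, ht, s, rfl⟩ := h6 a
  obtain ⟨t', ht', s', rfl⟩ := h6 b
  exact ((Algebra.commute_of_mem_adjoin_singleton_of_commute ht'
    (Algebra.commute_of_mem_adjoin_self ht).symm).add_right ((h7 t ht).symm.smul_right _)).add_left
    (((h7 t' ht').add_right ((Commute.refl _).smul_right _)).smul_left _)

theorem comm_of_mem_cube (hx : x ∈ S.J) (hy : y ∈ S.J) (h : S.J ≤ S.J ^ 2 ⊔ span k {x, y})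
    (h' : finrank k ↥(S.J ^ 2) ≤ finrank k ↥(S.J ^ 3) + 1) (hc : x * y - y * x ∈ S.J ^ 3)
    (h3 : S.J ^ 3 ≠ ⊥) : ∀ a b : A, a * b = b * a := by
  have h1 : ∀ a ∈ S.J, a * a ∉ S.J ^ 3 → S.J ^ 2 ≤ S.J ^ 3 ⊔ span k {a * a} := fun a ha h1 =>
    (eq_of_le_of_finrank_le (sup_le (S.pow_succ_le 1) ((span_singleton_le_iff_mem _ _).2
      (S.mul_mem_sq ha ha))) (by rwa [finrank_sup_span_singleton h1])).ge
  by_cases hx2 : x * x ∈ S.J ^ 3
  swap
  · exact S.comm_of_sq hx hy h (h1 x hx hx2)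
  by_cases hy2 : y * y ∈ S.J ^ 3
  swap
  · exact S.comm_of_sq hy hx (by rwa [Set.pair_comm]) (h1 y hy hy2)
  refine absurd (S.pow_eq_bot_of_le ?_) h3
  have hU : span k {x, y} ≤ S.J := span_le.2 (by rintro _ (rfl | rfl); exacts [hx, hy])
  refine (S.pow_le_pow_sup hU h 3).trans (sup_le ?_ le_rfl)
  have h2 : ∀ a ∈ S.J ^ 3, ∀ b ∈ S.J, a * b ∈ S.J ^ 4 ∧ b * a ∈ S.J ^ 4 := fun a ha b hb =>
    ⟨S.mul_mem_pow ha (S.mem_pow_one.2 hb), S.mul_mem_pow (S.mem_pow_one.2 hb) ha⟩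
  rw [pow_three', span_mul_span, span_mul_span, span_le]
  rintro _ ⟨_, ⟨a, ha, b, hb, rfl⟩, c, hc', rfl⟩
  have hcJ := hU (subset_span hc')
  change a * b * c ∈ S.J ^ 4
  rcases ha with rfl | rfl <;> rcases hb with rfl | rfl
  · exact (h2 _ hx2 _ hcJ).1
  · rcases hc' with rfl | rfl
    · convert sub_mem (h2 _ hx2 _ hy).1 (h2 _ hc _ hx).2 using 1
      noncomm_ring
    · exact (mul_assoc a c c).symm ▸ (h2 _ hy2 _ hx).2
  · rcases hc' with rfl | rfl
    · exact (mul_assoc a c c).symm ▸ (h2 _ hx2 _ hy).2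
    · convert add_mem (h2 _ hy2 _ hx).1 (h2 _ hc _ hy).2 using 1
      noncomm_ring
  · exact (h2 _ hy2 _ hcJ).1

theorem finrank_pow_le_perp {i j : ℕ} (hN : S.J ^ (N + 1) = ⊥) (h : N < j + i) :
    finrank k ↥(S.J ^ i) + finrank k ↥(S.J ^ j) ≤ finrank k A := by
  have h1 : S.J ^ i ≤ S.perp (S.J ^ j) := fun a ha => S.mem_perp.2 fun w hw => by
    have := S.pow_le_pow (Nat.succ_ne_zero N) h (S.mul_mem_pow hw ha)
    rw [hN, mem_bot] at this
    rw [this, map_zero]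
  have := Submodule.finrank_mono h1
  have := S.finrank_add_perp (S.J ^ j)
  omega

theorem finrank_lay_add_le (hN : S.J ^ (N + 1) = ⊥) (n : ℕ) :
    finrank k (S.lay N (n + 1)) + finrank k ↥(S.J ^ (n + 2)) ≤ finrank k ↥(S.J ^ (n + 1)) := by
  have := Submodule.finrank_mono (pow_succ_le_nul (n := n) hN)
  have := finrank_lay (S := S) (N := N) (n := n + 1)
  omega

theorem not_three [IsAlgClosed k] (hN : S.J ^ (N + 1) = ⊥) (hs : ∃ s ∈ S.J ^ N, S.lam s ≠ 0)
    (hN4 : 4 ≤ N) (hd : finrank k S.J ≤ finrank k ↥(S.J ^ 2) + 3)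
    (hK : S.J ^ 2 ≤ K k A ⊔ S.J ^ N) : False := by
  have hle : S.J ^ 2 ≤ S.J := by simpa using S.pow_succ_le 0
  have h1 := S.finrank_lay_add_le hN 0
  have h2 := S.finrank_lay_add_le hN 1
  simp only [Nat.reduceAdd] at h1 h2
  rw [pow_one] at h1
  obtain ⟨Q, hQ⟩ := Submodule.exists_isCompl (S.J ^ 2)
  obtain ⟨x, y, z, hx, hy, hz, h3⟩ : ∃ x y z, x ∈ S.J ∧ y ∈ S.J ∧ z ∈ S.J ∧
      S.J ≤ S.J ^ 2 ⊔ span k {x, y, z} := by
    have h3 : S.J ^ 2 ⊔ Q ⊓ S.J = S.J := by rw [← sup_inf_assoc_of_le _ hle, hQ.sup_eq_top, top_inf_eq]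
    have h4 := finrank_sup_add_finrank_inf_eq (S.J ^ 2) (Q ⊓ S.J)
    rw [h3, ← inf_assoc, hQ.inf_eq_bot, bot_inf_eq, finrank_bot] at h4
    obtain ⟨x, hx, h5⟩ : ∃ x ∈ Q ⊓ S.J, ∃ U ≤ Q ⊓ S.J, finrank k U ≤ 2 ∧ Q ⊓ S.J ≤ span k {x} ⊔ U := by
      by_cases h0 : Q ⊓ S.J = ⊥
      · exact ⟨0, zero_mem _, ⊥, bot_le, by simp, h0.trans_le bot_le⟩
      obtain ⟨x, hx, hx0⟩ := exists_mem_ne_zero_of_ne_bot h0
      obtain ⟨U, hU⟩ := Submodule.exists_isCompl (span k {x})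
      have h5 : span k {x} ⊔ U ⊓ (Q ⊓ S.J) = Q ⊓ S.J := by
        rw [← sup_inf_assoc_of_le _ ((span_singleton_le_iff_mem _ _).2 hx), hU.sup_eq_top, top_inf_eq]
      have h6 := finrank_sup_add_finrank_inf_eq (span k {x}) (U ⊓ (Q ⊓ S.J))
      rw [h5, ← inf_assoc, hU.inf_eq_bot, bot_inf_eq, finrank_bot, finrank_span_singleton hx0] at h6
      exact ⟨x, hx, _, inf_le_right, by omega, h5.ge⟩
    obtain ⟨U, hU, h5, h6⟩ := h5
    obtain ⟨y, z, rfl⟩ := exists_span_pair h5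
    exact ⟨x, y, z, hx.2, (hU (subset_span (by simp))).2, (hU (subset_span (by simp))).2,
      h3.ge.trans (sup_le_sup_left (by rwa [span_insert]) _)⟩
  have h4 := S.K_le_of_three hx hy hz h3
  have h5 : finrank k (span k {x * y - y * x, x * z - z * x, y * z - z * y} : Submodule k A) ≤ 3 := by
    rw [span_insert]
    refine (finrank_add_le_finrank_add_finrank _ _).trans ?_
    have := finrank_span_pair_le (k := k) (x * z - z * x) (y * z - z * y)
    have := finrank_span_pair_le (k := k) (x * y - y * x) (x * y - y * x)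
    have := finrank_span_le_card (R := k) ({x * y - y * x} : Set A)
    simp only [Set.toFinset_singleton, Finset.card_singleton] at this
    omega
  have h6 : S.J ^ N ≤ S.J ^ 3 := S.pow_le_pow three_ne_zero (by omega)
  have h7 : K k A ⊔ S.J ^ 3 = S.J ^ 2 :=
    le_antisymm (sup_le S.K_le_sq (S.pow_succ_le 1)) (hK.trans (sup_le_sup_left h6 _))
  have h8 : finrank k ↥(S.J ^ 2) ≤ 3 + finrank k ↥(S.J ^ 3) :=
    (Submodule.finrank_mono (h7.ge.trans (sup_le (h4.trans (sup_le_sup_left S.comm_le_pow _))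
      le_sup_right))).trans ((finrank_add_le_finrank_add_finrank _ _).trans (add_le_add h5 le_rfl))
  have h9 : S.J ^ 2 ≤ S.comm 1 ⊔ S.nul N 2 := h7.ge.trans (sup_le_sup
    (S.K_le fun a ha b hb => S.mem_comm ha (S.mem_pow_one.2 hb)) (pow_succ_le_nul hN))
  have hw := win (S := S) (N := N) (by omega)
  obtain ⟨v, hv⟩ : ∃ v : S.lay N 1, Function.Surjective (mu (m := 1) (n := 1) (i := 2) rfl v) ∨
      Function.Surjective ((mu (m := 1) (n := 1) (i := 2) rfl).flip v) := by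
    by_cases h10 : finrank k (S.lay N 2) ≤ 2
    · exact (hw.surj_of_le_two h10).imp fun _ => Or.inl
    refine hw.surj_of_three (by omega) (by omega) (fun U hU => lay_eq_top (h9.trans
      (sup_le (span_le.2 ?_) le_sup_right))) (finrank_le_one_of_third hs hN4)
    rintro _ ⟨a, ha, b, hb, rfl⟩
    obtain ⟨u, hu⟩ := exists_lay (N := N) (S.mem_pow_one.2 ha)
    obtain ⟨w, hw⟩ := exists_lay (N := N) hb
    refine mem_sup_of_congr (SModEq.sub ?_ ?_) ⟨_, hU u w, rfl⟩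
    · exact ((congr_right hu hb rfl).trans (congr_left (lay_mem u) hw rfl)).trans (mu_congr _ u w).symm
    · exact ((congr_left hb hu rfl).trans (congr_right hw (lay_mem u) rfl)).trans (mu_congr _ w u).symm
  obtain ⟨hL, hR⟩ := surj_and (by omega) hv
  obtain ⟨n, hn1, hn2, hn⟩ := exists_period hs hN4 (by omega) hL hR
  by_cases h10 : n = 3
  · have h11 := finrank_lay_le hL (n := 1) (by omega)
    simp only [Nat.reduceAdd] at h11
    exact hn 1 hN4 (h10 ▸ dvd_rfl) (le_sup_of_inf_le (inf_le_of_finrank h4 S.comm_le_K S.comm_le_pow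
      (by simp only [Nat.reduceAdd]; rw [h7]; omega)) ((S.pow_succ_le 1).trans hK) h6
      ((S.pow_le_pow four_ne_zero hN4).trans (pow_succ_le_nul hN)))
  · exact hn 0 (by omega) (by have : n = 1 ∨ n = 2 := by omega
                              rcases this with rfl | rfl <;> simp) h9

theorem not_two [IsAlgClosed k] (hN : S.J ^ (N + 1) = ⊥) (hs : ∃ s ∈ S.J ^ N, S.lam s ≠ 0)
    (hN5 : 5 ≤ N) (hd : finrank k S.J ≤ finrank k ↥(S.J ^ 2) + 2)
    (hd' : finrank k ↥(S.J ^ 2) ≤ finrank k ↥(S.J ^ 3) + 2) (hK : S.J ^ 3 ≤ K k A ⊔ S.J ^ N)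
    (hK' : K k A ⊓ S.J ^ 3 ≤ S.comm 2) : False := by
  have hle : S.J ^ 2 ≤ S.J := by simpa using S.pow_succ_le 0
  have h1 := S.finrank_lay_add_le hN 0
  have h2 := S.finrank_lay_add_le hN 1
  have h3 := S.finrank_lay_add_le hN 2
  simp only [Nat.reduceAdd] at h1 h2 h3
  rw [pow_one] at h1
  obtain ⟨v, hv⟩ := (win (S := S) (N := N) (by omega)).surj_of_le_two (by omega)
  obtain ⟨hL, hR⟩ := surj_and (by omega) (Or.inl hv)
  obtain ⟨n, hn1, hn2, hn⟩ := exists_period hs (by omega) (by omega) hL hR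
  have h4 : S.J ^ 3 ≤ S.comm 2 ⊔ S.J ^ 4 := le_sup_of_inf_le hK' hK
    (S.pow_le_pow three_ne_zero (by omega)) (S.pow_le_pow four_ne_zero (by omega))
  by_cases h5 : n = 1
  · exact hn 1 (by omega) (by simp [h5]) (h4.trans (sup_le_sup_left (pow_succ_le_nul hN) _))
  have h6 := finrank_lay_le hL (n := 1) (by omega)
  have h7 := finrank_lay_le hL (n := 2) (by omega)
  simp only [Nat.reduceAdd] at h6 h7
  have h8 : S.J ^ 3 = S.nul N 2 := eq_of_le_of_finrank_le (pow_succ_le_nul hN) (by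
    have := finrank_lay (S := S) (N := N) (n := 2); omega)
  have hvJ := S.mem_pow_one.1 (lay_mem v)
  have hv2 : (v : A) ∉ S.J ^ 2 := fun h => not_le_nul hs (n := 2) (by omega) fun y hy => by
    obtain ⟨u, hu⟩ := exists_left hL 1 y hy
    exact SModEq.zero.1 (hu.trans (SModEq.zero.2 (h8 ▸ S.mul_mem_pow (by rwa [pow_one]) (lay_mem u))))
  obtain ⟨w, hw, h9⟩ := exists_le_sup_span (sup_le hle ((span_singleton_le_iff_mem _ _).2 hvJ))
    (by rw [finrank_sup_span_singleton hv2]; omega)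
  rw [sup_assoc, ← span_insert] at h9
  have h10 := S.comm_two_le hvJ hw h9 fun y hy => by
    obtain ⟨u, hu⟩ := exists_left hL 1 y hy
    obtain ⟨i, hi, _, h10, h11⟩ := mem_sup.1 (h9 (S.mem_pow_one.1 (lay_mem u)))
    obtain ⟨s, t, rfl⟩ := mem_span_pair.1 h10
    rw [← h11, pow_one, ← h8, SModEq.sub_mem] at hu
    refine mem_sup.2 ⟨_, add_mem hu (S.mul_mem_pow (S.mem_pow_one.2 hvJ) hi), _,
      mem_span_pair.2 ⟨s, t, rfl⟩, ?_⟩
    simp only [mul_add, mul_smul_comm]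
    abel
  have h11 := inf_le_of_finrank h10 (span_mono fun _ ⟨a, ha, y, hy, h⟩ =>
    ⟨a, ha, y, S.pow_succ_le 1 hy, h⟩) S.comm_le_pow (by
      have := finrank_span_pair_le (k := k) ((v : A) * (v * w) - v * w * v) (w * (v * w) - v * w * w)
      have := Submodule.finrank_mono h4
      simp only [Nat.reduceAdd]
      omega)
  refine hn 2 hN5 (by have : n = 2 := by omega
                      simp [this]) (le_sup_of_inf_le (U := K k A) (fun a ha => h11 ⟨hK' ⟨ha.1,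
    S.pow_succ_le 2 ha.2⟩, ha.2⟩) ((S.pow_succ_le 2).trans hK) (S.pow_le_pow four_ne_zero (by omega))
    ((S.pow_le_pow (by omega) hN5).trans (pow_succ_le_nul hN)))

include S in
/-- The theorem of Chlebowitz and Külshammer. -/
theorem finrank_le_eight [IsAlgClosed k] (h : finrank k (Subalgebra.center k A) ≤ 5) :
    finrank k A ≤ 8 := by
  have h3 := S.finrank_K
  by_cases hK : K k A = ⊥
  · rw [hK, finrank_bot] at h3; omega
  have hc : ¬ ∀ x y : A, x * y = y * x := fun hc => hK (eq_bot_iff.2 (S.K_le fun a _ b _ => by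
    simp [hc a b]))
  have hJ2 : S.J ^ 2 ≠ ⊥ := fun h => hK (eq_bot_iff.2 (h ▸ S.K_le_sq))
  have h1 := S.le_finrank_center hJ2
  have h2 := S.finrank_J
  have hle : S.J ^ 2 ≤ S.J := by simpa using S.pow_succ_le 0
  have h4 : finrank k ↥(S.J ^ 2) + 1 < finrank k S.J := by
    by_contra! h4
    obtain ⟨a, ha, h5⟩ := exists_le_sup_span hle h4
    exact hc (S.comm_of_le_sup_span ha h5)
  obtain ⟨N, hN2, hN, s, hs, hs0⟩ := S.exists_soc hJ2
  by_contra! h8
  have hN4 : 4 ≤ N := by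
    by_contra! hN4
    have := S.finrank_pow_le_perp (i := 2) (j := 2) hN (by omega)
    omega
  have h5 : finrank k (K k A) + 1 ≤ finrank k ↥(K k A ⊔ S.J ^ N) := by
    rw [← finrank_sup_span_singleton (mt S.lam_eq_zero_of_mem_K hs0)]
    exact Submodule.finrank_mono (sup_le_sup_left ((span_singleton_le_iff_mem _ _).2 hs) _)
  have h6 : K k A ⊔ S.J ^ N ≤ K k A ⊔ S.J ^ 3 :=
    sup_le_sup_left (S.pow_le_pow three_ne_zero (by omega)) _
  have h7 : K k A ⊔ S.J ^ 3 ≤ S.J ^ 2 := sup_le S.K_le_sq (S.pow_succ_le 1)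
  by_cases hd : finrank k S.J = finrank k ↥(S.J ^ 2) + 3
  · exact S.not_three hN ⟨s, hs, hs0⟩ hN4 hd.le (eq_of_le_of_finrank_le (h6.trans h7) (by omega)).ge
  obtain ⟨x, hx, hx2⟩ := SetLike.not_le_iff_exists.1
    (fun h : S.J ≤ S.J ^ 2 => by have := Submodule.finrank_mono h; omega)
  obtain ⟨y, hy, h9⟩ := exists_le_sup_span (sup_le hle ((span_singleton_le_iff_mem _ _).2 hx))
    (by rw [finrank_sup_span_singleton hx2]; omega)
  have hJ3 : S.J ^ 3 ≠ ⊥ := fun h =>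
    hs0 (by rw [(mem_bot k).1 (h ▸ S.pow_le_pow three_ne_zero (by omega) hs : s ∈ ⊥), map_zero])
  have h10 := S.K_le_sup_of_two hx hy h9
  have h11 : K k A ⊔ S.J ^ 3 ≠ S.J ^ 2 := fun h =>
    hJ3 (S.cube_eq_bot hx hy (h ▸ sup_le h10 le_sup_left))
  have h12 := finrank_lt_finrank_of_lt (h7.lt_of_ne h11)
  have h13 := Submodule.finrank_mono h6
  rw [sup_assoc, ← span_insert] at h9
  have h14 := S.K_le_of_three hx hy (zero_mem _) (h9.trans (sup_le_sup_left
    (span_mono (Set.insert_subset_insert (by simp))) _))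
  simp only [mul_zero, zero_mul, sub_zero, Set.pair_eq_singleton, span_insert, span_zero_singleton,
    sup_bot_eq] at h14
  have hc3 : x * y - y * x ∉ S.J ^ 3 := fun hc3 => by
    have h15 : K k A ⊔ S.J ^ 3 = S.J ^ 3 :=
      sup_eq_right.2 (h10.trans (sup_le le_rfl ((span_singleton_le_iff_mem _ _).2 hc3)))
    rw [h15] at h13
    exact hc (S.comm_of_mem_cube hx hy h9 (by omega) hc3 hJ3)
  have h15 : finrank k ↥(K k A ⊔ S.J ^ 3) ≤ finrank k ↥(S.J ^ 3) + 1 := by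
    rw [← finrank_sup_span_singleton hc3]
    exact Submodule.finrank_mono (sup_le h10 le_sup_left)
  by_cases hN5 : 5 ≤ N
  · refine S.not_two hN ⟨s, hs, hs0⟩ hN5 (by omega) (by omega)
      (le_sup_right.trans (eq_of_le_of_finrank_le h6 (by omega)).ge) fun a ha => ?_
    obtain ⟨_, h16, b, hb, rfl⟩ := mem_sup.1 (h14 ha.1)
    obtain ⟨t, rfl⟩ := mem_span_singleton.1 h16
    by_cases ht : t = 0
    · simpa [ht] using hb
    · exact absurd ((smul_mem_iff _ ht).1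
        ((Submodule.add_mem_iff_left _ (S.comm_le_pow hb)).1 ha.2)) hc3
  · have := S.finrank_pow_le_perp (i := 2) (j := 3) hN (by omega)
    omega

end CL.Blk.Rk.SymLoc
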