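/-
Blocks with one simple module and five ordinary characters.
-/
import Cfsg.Agent.Blk.SymFiveC
import Cfsg.Agent.Blk.BasicAlg
import Cfsg.Agent.Blk.PrjVal
import Cfsg.Agent.Blk.CycMin

set_option autoImplicit false

namespace CL.Blk.Pair

open MonoidAlgebra Cfsg CL.Char CL.Grp CL.Blk.Rk Subgroup

variable {G : Type*} [Group G] [Fintype G] {M : Ideal AlgInt} {P : Subgroup G}
  {e : (resField M)[G]} {B : Set (IrrCharacter G)} {χ : IrrCharacter G} {v z : G}

theorem IsMax.half_le_of_eight (h : IsMax 2 ⊤ ⊤ (eBlk M B) P e) (hM : IsPModular 2 M)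
    (hB : IsPBlock M B) (h8 : Nat.card P = 8) (hv : v ∈ P) (hc : P ≤ centralizer ({v} : Set G))
    (hv2 : v ^ 2 = 1) (hχ : χ ∈ B) (h0 : blockHeight 2 B (χ : G → ℂ) ≠ 0) :
    1 / 2 ≤ (classInner (prj 2 M P e {v} χ) χ).re := by
  have := charP_resField hM
  have hc' := χ.2.isClassFunction
  obtain ⟨m, hm⟩ := h.exists_int_cm hM (fc_of_central hv hc) (fun t ht => by
    obtain ⟨s, rfl⟩ := Nat.odd_iff.2 (Nat.two_dvd_ne_zero.1 ht)
    rw [pow_succ, pow_mul, hv2, one_pow, one_mul]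
    exact Fus.refl h.pair hv) χ.2.isGeneralizedCharacter χ.2.isGeneralizedCharacter
  have h1 := h.val_cm_lt_of_major hM hB hv hc hχ hχ h0
  rw [hm, val_intCast_lt_pow_iff hM] at h1
  have h2 : (4 : ℤ) ∣ m := (pow_dvd_pow (2 : ℤ) (show 2 ≤ _ by omega)).trans h1
  rw [cm_of_central hc, h8] at hm
  have h3 := classInner_self_re_nonneg (prj 2 M P e {v} χ)
  rw [h.classInner_prj_prj hM hc' hc'] at h3
  have h4 : m ≠ 0 := by
    rintro rfl
    exact h.prj_ne_zero_of_major hM hB hv hc hχ ((h.prj_eq_zero_iff hM hc').2 (by simpa using hm))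
  have h5 := congrArg Complex.re hm
  simp only [Nat.cast_ofNat, Complex.intCast_re, Complex.mul_re, Complex.re_ofNat, Complex.im_ofNat,
    zero_mul, sub_zero] at h5
  have h6 : (0 : ℝ) ≤ m := by linarith
  have h7 : (4 : ℝ) ≤ m := by
    exact_mod_cast Int.le_of_dvd (lt_of_le_of_ne (by exact_mod_cast h6) h4.symm) h2
  linarith

theorem IsMax.lOf_lt_of_eight (h : IsMax 2 ⊤ ⊤ (eBlk M B) P e) (hM : IsPModular 2 M)
    (hB : IsPBlock M B) (h8 : Nat.card P = 8) (hz : z ∈ P) (hc : P ≤ centralizer ({z} : Set G))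
    (hz2 : orderOf z = 2) : lOf 2 M z (below 2 P e z) < 4 := by
  have hH := isCent_centralizer z
  set H := centralizer ({z} : Set G)
  have := Fintype.ofFinite H
  obtain ⟨b, hb, hbv⟩ := h.exists_hat_below hM hz hH
  obtain ⟨h1, h2⟩ := h.blockDefect_below_of_central hM hB hz hH hc hb hbv
  have hZ := centralizer_zpowers_self z
  set N := zpowers (⟨z, hH.self_mem⟩ : H) with hN
  have : N.Normal := normalizer_eq_top_iff.1 (top_le_iff.1 (hZ ▸ centralizer_le_normalizer _))
  have := Fintype.ofFinite (H ⧸ N)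
  have hNp : IsPGroup 2 N := isPGroup_zpowers_of_orderOf (by simpa using h.pElt hM hz)
  obtain ⟨h3, -, h5, h6⟩ := isDefectGroup_preimage_of_central hM hb hNp hZ h1
  rw [h2, ← h.card_eq hM hB, h8, Nat.card_zpowers, orderOf_mk, hz2] at h5
  have h7 : blockDefect 2 (inflIrr N ⁻¹' b) = 2 :=
    Nat.pow_right_injective le_rfl (show 2 ^ _ = 2 ^ 2 by omega)
  have h9 := card_le_pow_of_defect_le_two hM h3 h7.le
  have h10 := blockRank_lt_card hM h3 (by omega)
  rw [← hbv, lOf_hat hM hH hb, ← h6]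
  rw [h7] at h9
  omega

/-- A block with abelian defect group of order eight and a character of positive height. -/
theorem IsMax.card_lt_of_eight (h : IsMax 2 ⊤ ⊤ (eBlk M B) P e) (hM : IsPModular 2 M)
    (hB : IsPBlock M B) (h8 : Nat.card P = 8) (hab : ∀ v ∈ P, P ≤ centralizer ({v} : Set G))
    (hχ : χ ∈ B) (h0 : blockHeight 2 B (χ : G → ℂ) ≠ 0) : Nat.card B < blockRank 2 B + 4 := by
  have := charP_resField hM
  have hc := χ.2.isClassFunction
  obtain ⟨⟨z, hz⟩, hz2⟩ := exists_prime_orderOf_dvd_card' (G := P) 2 (by rw [h8]; norm_num)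
  rw [orderOf_mk] at hz2
  have hz1 : z ≠ 1 := by rintro rfl; simp at hz2
  have h1 : ∀ v ∈ P, Meets 2 P e {1} v → ¬ Meets 2 P e {z} v := fun v hv h1 h2 => by
    obtain rfl := (meets_one h.pair).1 h1
    exact hz1 (isConj_one_right.1 (meets_singleton.1 h2).isConj)
  have h2 : ∀ v ∈ P, Meets 2 P e ({1} ∪ {z}) v := fun v hv => by_contra fun h2 => by
    have h3 : ∀ w ∈ P, Meets 2 P e ({1} ∪ {z}) w → ¬ Meets 2 P e {v} w := fun w hw h3 h4 =>
      h2 (((meets_singleton.1 h4).meets_iff h.pair hw).2 h3)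
    set T : Set G := {w | w ∈ P ∧ ¬ Meets 2 P e ({1} ∪ {z} ∪ {v}) w}
    have h4 : ∀ w ∈ P, Meets 2 P e ({1} ∪ {z} ∪ {v}) w → ¬ Meets 2 P e T w := fun w hw h4 ⟨u, hu, h5⟩ =>
      hu.2 ((Fus.meets_iff h.pair hw h5).2 h4)
    have h5 := h.prj_of_forall_meets hM hB (S := {1} ∪ {z} ∪ {v} ∪ T) (fun w hw => by
      rw [meets_union]
      exact or_iff_not_imp_left.2 fun h5 => meets_of_mem h.pair hw ⟨hw, h5⟩) hc
    rw [prj_union h4, prj_union h3, prj_union h1, Rk.blockPart_irr_of_mem hχ] at h5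
    have h6 := congrArg (fun α => (classInner α (χ : G → ℂ)).re) h5
    simp only [classInner_add_left, Complex.add_re, χ.2.classInner_self, Complex.one_re] at h6
    have h7 := h.half_le_of_eight hM hB h8 P.one_mem (hab _ P.one_mem) (one_pow 2) hχ h0
    have h9 := h.half_le_of_eight hM hB h8 hz (hab _ hz) (hz2 ▸ pow_orderOf_eq_one z) hχ h0
    have h10 := classInner_self_re_nonneg (prj 2 M P e T χ)
    have h11 := classInner_self_re_nonneg (prj 2 M P e {v} χ)
    rw [h.classInner_prj_prj hM hc hc] at h10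
    refine h.prj_ne_zero_of_major hM hB hv (hab v hv) hχ (classInner_self_eq_zero.1
      (Complex.ext ?_ (classInner_self_im _)))
    rw [h.classInner_prj_prj hM hc hc] at h11 ⊢
    rw [Complex.zero_re]
    linarith
  have h3 := h.prjTr_of_forall_meets hM hB h2
  rw [prjTr_union h1, h.prjTr_one hM hB, h.prjTr_singleton hM hB hz] at h3
  have h4 := h.lOf_lt_of_eight hM hB h8 hz (hab z hz) hz2
  have h5 : blockRank 2 B + lOf 2 M z (below 2 P e z) = Nat.card B := by exact_mod_cast h3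
  omega

/-- The theorem of Chlebowitz and Külshammer for blocks. -/
theorem card_of_rank_one_five {p : ℕ} [Fact p.Prime] (hM : IsPModular p M) (hB : IsPBlock M B)
    (hP : IsDefectGroup p M B P) (hl : blockRank p B = 1) (hk : Nat.card B = 5) :
    Nat.card P = 5 ∨ (Nat.card P = 8 ∧ ¬ IsMulCommutative P) := by
  classical
  obtain ⟨j, h1, h2, h3, h4⟩ := exists_sim_of_rank_one hM hB hl
  have h5 := j.symLoc.finrank_le_eight (h2.trans hk.le)
  have hc := card_defectGroup hM hB hP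
  rw [← hc] at h1 h3
  have hk' := hk
  rw [natCard_subtype_eq] at hk
  set s := Finset.univ.filter fun χ : IrrCharacter G => χ ∈ B
  have h6 : ∀ χ ∈ s, dec (χ : G → ℂ) j = 1 ∨ dec (χ : G → ℂ) j = 2 := fun χ hχ => by
    have h6 := (h4 χ (by simpa [s] using hχ)).1
    have h7 := Finset.single_le_sum (f := fun χ : IrrCharacter G => dec (χ : G → ℂ) j ^ 2)
      (fun _ _ => Nat.zero_le _) hχ
    have h8 : dec (χ : G → ℂ) j < 3 := by nlinarith
    omega
  have h7 : Nat.card P = 5 + 3 * (s.filter fun χ : IrrCharacter G => dec (χ : G → ℂ) j = 2).card := by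
    rw [← h3, ← hk, Finset.card_eq_sum_ones, Finset.card_filter, Finset.mul_sum,
      ← Finset.sum_add_distrib]
    exact Finset.sum_congr rfl fun χ hχ => by rcases h6 χ hχ with h | h <;> simp [h]
  refine or_iff_not_imp_left.2 fun h8 => ⟨by omega, fun hab => ?_⟩
  have h9 : Nat.card P = 8 := by omega
  obtain rfl : p = 2 := (Nat.prime_dvd_prime_iff_eq hM.1 Nat.prime_two).1 (hM.1.dvd_of_dvd_pow (n := 3) (by
    rw [show 2 ^ 3 = Nat.card P from h9.symm, hc]
    exact dvd_pow_self _ fun h0 => by rw [h0, h9] at hc; simp at hc))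
  obtain ⟨χ, hχ⟩ := Finset.card_pos.1 (show 0 < (s.filter fun χ : IrrCharacter G => dec (χ : G → ℂ) j = 2).card by omega)
  obtain ⟨ψ, hψ, hψ'⟩ : ∃ ψ ∈ s, dec (ψ : G → ℂ) j ≠ 2 := by
    by_contra! h10
    rw [Finset.filter_true_of_mem h10] at h7
    omega
  simp only [s, Finset.mem_filter, Finset.mem_univ, true_and] at hχ
  have hψ1 := (h6 ψ hψ).resolve_right hψ'
  simp only [s, Finset.mem_filter, Finset.mem_univ, true_and] at hψ
  obtain ⟨e, h⟩ := exists_isMax_of_isDefectGroup hM hB hP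
  have h10 := h.card_lt_of_eight hM hB h9 (fun v hv x hx => mem_centralizer_singleton_iff.2
    (congrArg Subtype.val (hab.is_comm.comm (⟨x, hx⟩ : P) ⟨v, hv⟩))) hχ.1 fun h0 => by
      have h11 := (blockHeight_eq_zero_iff hχ.1).1 h0 ψ hψ
      rw [(h4 χ hχ.1).2, (h4 ψ hψ).2, hχ.2, hψ1, one_mul,
        Nat.factorization_mul two_ne_zero j.dim_pos.ne'] at h11
      simp [Nat.prime_two.factorization] at h11
  omega

end CL.Blk.Pair
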