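/-
Brauer's bound k(B) ≤ |D| for two families of 2-groups: the block theoretic glue.
-/
import Cfsg.Agent.Blk.KBDefs
import Cfsg.Agent.S4540
import Cfsg.Agent.S4541
import Cfsg.Agent.S4552
import Cfsg.Agent.Blk.SymFiveD
import Cfsg.Agent.Grp.PGroupMaxClass

set_option autoImplicit false

namespace CL.KB

open MonoidAlgebra Cfsg Cfsg.FusionSystem CL.Blk CL.Blk.Pair CL.Blk.Rk CL.Fus Subgroup CL.Char
open scoped IsMulCommutative

universe u

section S2

variable {G : Type*} [Group G] [Fintype G] {M : Ideal AlgInt} {P : Subgroup G}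
  {e : (resField M)[G]} {B : Set (IrrCharacter G)} {χ : IrrCharacter G} {v : G}

/-- The diagonal contributions of a central element of order at most two. -/
theorem rk_cm (h : IsMax 2 ⊤ ⊤ (eBlk M B) P e) (hM : IsPModular 2 M) (hB : IsPBlock M B)
    (hv : v ∈ P) (hc : P ≤ centralizer ({v} : Set G)) (hv2 : v * v = 1) (hχ : χ ∈ B) :
    (if blockHeight 2 B (χ : G → ℂ) = 0 then (1 : ℝ) else 4) ≤ (cm 2 M P e v χ χ).re := by
  have := charP_resField hM
  have hc' := χ.2.isClassFunction
  obtain ⟨m, hm⟩ := h.exists_int_cm hM (fc_of_central hv hc) (fun t ht => by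
    obtain ⟨s, rfl⟩ := Nat.odd_iff.2 (Nat.two_dvd_ne_zero.1 ht)
    rw [pow_succ, pow_mul, sq, hv2, one_pow, one_mul]
    exact Fus.refl h.pair hv) χ.2.isGeneralizedCharacter χ.2.isGeneralizedCharacter
  have hm' := hm
  rw [cm_of_central hc] at hm'
  have h3 := classInner_self_re_nonneg (prj 2 M P e {v} χ)
  rw [h.classInner_prj_prj hM hc' hc'] at h3
  have hP : (Nat.card P : ℂ) ≠ 0 := Nat.cast_ne_zero.2 Nat.card_pos.ne'
  have h4 : m ≠ 0 := by
    rintro rfl
    exact h.prj_ne_zero_of_major hM hB hv hc hχ ((h.prj_eq_zero_iff hM hc').2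
      (by simpa [hP] using hm'))
  have h5 := congrArg Complex.re hm'
  simp only [Complex.intCast_re, Complex.mul_re, Complex.natCast_re, Complex.natCast_im,
    zero_mul, sub_zero] at h5
  have h6 : (0 : ℝ) ≤ m := h5 ▸ mul_nonneg (Nat.cast_nonneg _) h3
  have h7 : 0 < m := lt_of_le_of_ne (by exact_mod_cast h6) h4.symm
  rw [hm, Complex.intCast_re]
  split_ifs with h0
  · exact_mod_cast h7
  · have h1 := h.val_cm_lt_of_major hM hB hv hc hχ hχ h0
    rw [hm, val_intCast_lt_pow_iff hM] at h1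
    have h2 : (4 : ℤ) ∣ m := (pow_dvd_pow (2 : ℤ) (show 2 ≤ _ by omega)).trans h1
    exact_mod_cast Int.le_of_dvd h7 h2

end S2

theorem s2 : S2.{u} := by
  intro G _ _ M B P e v ⟨hM, hB, h⟩
  classical
  have := Fintype.ofFinite G
  have := charP_resField hM
  refine ⟨fun hv hc hv2 => ?_, fun hv hl => ?_⟩
  · have h1 := congrArg Complex.re (h.sum_cm_self hM hB hv)
    rw [inf_eq_left.2 hc, Complex.re_sum, ← Nat.cast_mul, Complex.natCast_re] at h1
    have h2 := Finset.sum_le_sum (s := Finset.univ.filter fun χ : IrrCharacter G => χ ∈ B)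
      fun χ hχ => rk_cm h hM hB hv hc hv2 (Finset.mem_filter.1 hχ).2
    rw [h1, Finset.sum_ite, Finset.sum_const, Finset.sum_const, Finset.filter_filter] at h2
    have h3 := Finset.card_filter_add_card_filter_not
      (s := Finset.univ.filter fun χ : IrrCharacter G => χ ∈ B)
      (fun χ : IrrCharacter G => blockHeight 2 B (χ : G → ℂ) = 0)
    rw [Finset.filter_filter] at h3
    have h4 : Nat.card B = (Finset.univ.filter fun χ : IrrCharacter G => χ ∈ B).card :=
      natCard_subtype_eq _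
    have h6 : k0 B = _ := natCard_subtype_eq _
    rw [h4, h6, ← h3]
    simp only [nsmul_eq_mul, mul_one] at h2
    have h5 : (Finset.univ.filter fun χ : IrrCharacter G =>
        χ ∈ B ∧ blockHeight 2 B (χ : G → ℂ) = 0).card +
        ((Finset.univ.filter fun χ : IrrCharacter G => χ ∈ B).filter
          fun χ : IrrCharacter G => ¬ blockHeight 2 B (χ : G → ℂ) = 0).card * 4 ≤
        Nat.card P * lOf 2 M v (below 2 P e v) := by exact_mod_cast h2
    omega
  · have hH := isCent_centralizer v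
    obtain ⟨b, hb, hbv⟩ := h.exists_hat_below hM hv.1 hH
    rw [← hbv, lOf_hat hM hH hb] at hl
    rw [← h.pow_blockDefect_of_fc hM hv hH hb hbv]
    exact (Cfsg.Agent.S4541.result M hM B hB v (h.pElt hM hv.1) b
      (h.isInducedBlock_below hM hB hv.1 hH hb hbv)).2.2 hl

/-! ### Defect groups forcing rank at most three -/

theorem Fib.map {G G' : Type*} [Group G] [Group G'] {P : Subgroup G} {m : ℕ} {x c j : G}
    (h : Fib P m x c j) (φ : G →* G') (hφ : Function.Injective φ) :
    Fib (P.map φ) m (φ x) (φ c) (φ j) where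
  two := h.two
  ord := by rw [orderOf_injective φ hφ, h.ord]
  cc := by rw [← map_mul, h.cc, map_one]
  cx := fun ⟨i, hi⟩ => h.cx ⟨i, hφ (by simpa using hi)⟩
  comm_x := by rw [← map_mul, h.comm_x, map_mul]
  comm_j := by rw [← map_mul, h.comm_j, map_mul]
  jj := by rw [← map_mul, h.jj, map_one]
  conj := h.conj.imp (fun h1 => by simpa using congrArg φ h1)
    fun h1 => ⟨by simpa using congrArg φ h1.1, h1.2⟩
  mem := fun g => by
    constructor
    · rintro ⟨g, hg, rfl⟩
      obtain ⟨i, hi⟩ := (h.mem g).1 hg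
      exact ⟨i, by rcases hi with rfl | rfl | rfl | rfl <;> simp⟩
    · rintro ⟨i, rfl | rfl | rfl | rfl⟩
      · exact ⟨_, (h.mem _).2 ⟨i, .inl rfl⟩, by simp⟩
      · exact ⟨_, (h.mem _).2 ⟨i, .inr (.inl rfl)⟩, by simp⟩
      · exact ⟨_, (h.mem _).2 ⟨i, .inr (.inr (.inl rfl))⟩, by simp⟩
      · exact ⟨_, (h.mem _).2 ⟨i, .inr (.inr (.inr rfl))⟩, by simp⟩

theorem rk_mc {X : Type*} [Group X] {n : ℕ} {a b : X} (h : CL.Grp.DQSGen n a b) :
    ∃ r d, Nonempty (CL.Inv.MC (⊤ : Subgroup X) n r d) := by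
  have hn := h.two_le
  have hx1 : a ^ 2 ^ n = 1 := h.ord ▸ pow_orderOf_eq_one a
  have hc : Nat.card (⊤ : Subgroup X) = 2 ^ (n + 1) := by rw [card_top, h.card]
  have h0 : b * a * b⁻¹ = a⁻¹ → b * a * b⁻¹ = a ^ ((0 : ZMod (2 ^ n)) - 1).val := fun h1 => by
    rw [h1, zero_sub, CL.SL2.pow_val_neg hx1, CL.Inv.pow_val_one hx1]
  rcases h.rel with ⟨h1, h2⟩ | ⟨h1, h2⟩ | ⟨h3, h1, h2⟩
  · exact ⟨0, 0, CL.Inv.MC.nonempty_of_gens hn (.inl rfl) (.inl rfl) h.ord (h0 h2)
      (by simpa [sq] using h1) h.notMem trivial trivial hc⟩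
  · refine ⟨0, 2 * CL.Inv.zq n, CL.Inv.MC.nonempty_of_gens hn (.inl rfl) (.inr rfl) h.ord (h0 h2)
      ?_ h.notMem trivial trivial hc⟩
    have : 2 * CL.Inv.zq n = ((2 ^ (n - 1) : ℕ) : ZMod (2 ^ n)) := by
      rw [CL.Inv.two_mul_zq hn]; simp
    rw [this, CL.SL2.pow_val_natCast hx1, ← h1, sq]
  · rw [CL.Inv.pow_sub_one_eq_pow_val hn h.ord] at h2
    exact ⟨_, 0, CL.Inv.MC.nonempty_of_gens hn (.inr ⟨rfl, h3⟩) (.inl rfl) h.ord h2
      (by simpa [sq] using h1) h.notMem trivial trivial hc⟩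

/-- An abelian defect group of rank at most two forces rank at most three. -/
theorem rk_ab {G : Type*} [Group G] [Finite G] {M : Ideal AlgInt} (hM : IsPModular 2 M)
    {B : Set (IrrCharacter G)} (hB : IsPBlock M B) {D : Subgroup G} (hD : IsDefectGroup 2 M B D)
    [Nontrivial D] (hc : ∀ a b : D, a * b = b * a) (h3 : Nat.card {g : D // g * g = 1} ≤ 4) :
    blockRank 2 B ≤ 3 := by
  classical
  have := charP_resField hM
  have := Fintype.ofFinite D
  have : IsMulCommutative D := ⟨⟨hc⟩⟩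
  obtain ⟨e, h0⟩ := exists_isMax_of_isDefectGroup hM hB hD
  have h := exists_abMax hM hB h0
  have h2 : Odd (Nat.card (inE D.subtype e)) := Nat.odd_iff.2 (by have := h.not_dvd_card_inE; omega)
  rw [natCard_subtype_eq] at h3
  simp only [← sq] at h3
  have h4 : ∀ a : D, a ≠ 1 → ∃ j, a ^ j ≠ 1 ∧ (a ^ j) ^ 2 = 1 := fun a ha => by
    obtain ⟨k, hk⟩ := IsPGroup.iff_orderOf.1 h.isPGroup a
    obtain _ | k := k
    · exact absurd (orderOf_eq_one_iff.1 hk) ha
    · exact ⟨2 ^ k, pow_ne_one_of_lt_orderOf (by positivity)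
        (by rw [hk]; exact Nat.pow_lt_pow_succ one_lt_two),
        by rw [← pow_mul, ← pow_succ, ← hk, pow_orderOf_eq_one]⟩
  have hfree : ∀ α ∈ inE D.subtype e, ∀ a, a ≠ 1 → α a = a → α = 1 := fun α hα a ha h5 => by
    have h6 : α ^ Nat.card (inE D.subtype e) = 1 :=
      congrArg Subtype.val (pow_card_eq_one' (x := (⟨α, hα⟩ : inE D.subtype e)))
    refine MulEquiv.ext fun b => Cfsg.Agent.S4552.eq_of_omega h2 h6 (fun w hw => ?_) _ b
      (by rw [← h.card_eq]; exact pow_card_eq_one')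
    obtain ⟨j, h7, h8⟩ := h4 a ha
    have h9 : α (a ^ j) = a ^ j := by rw [map_pow, h5]
    by_contra h10
    have h11 : α (α w) ≠ w := fun h11 => h10 (by
      obtain ⟨i, hi⟩ := h2
      have h12 : ∀ i, (α ^ (2 * i)) w = w := fun i => by
        induction i with
        | zero => rfl
        | succ i ih =>
          rw [mul_add, pow_add, MulAut.mul_apply, mul_one, sq, MulAut.mul_apply, h11, ih]
      rw [← h12 i, ← MulAut.mul_apply, ← pow_succ', ← hi, h6, h12]; rfl)
    have h12 : w ≠ 1 := fun h => h10 (by rw [h, map_one])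
    have h13 : w ≠ a ^ j := fun h => h10 (by rw [h, h9])
    have h14 : α w ≠ a ^ j := fun h => h13 (α.injective (h.trans h9.symm))
    have h15 : α (α w) ≠ a ^ j := fun h => h14 (α.injective (h.trans h9.symm))
    have h16 := (Finset.card_le_card (s := {1, a ^ j, w, α w, α (α w)}) (by
      simp [Finset.insert_subset_iff, ← map_pow, hw, h8])).trans h3
    rw [Finset.card_insert_of_notMem (by simp [h7.symm, h12.symm, eq_comm (a := (1 : D)), h12]),
      Finset.card_insert_of_notMem (by simp [h13.symm, h14.symm, h15.symm]),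
      Finset.card_insert_of_notMem (by simp [Ne.symm h10, h11.symm]),
      Finset.card_pair (by simpa using Ne.symm h10)] at h16
    omega
  have h5 : Nat.card (inE D.subtype e) ≤ 3 := by
    obtain ⟨a, ha⟩ := exists_ne (1 : D)
    obtain ⟨j, h7, h8⟩ := h4 a ha
    have h9 := Set.ncard_le_ncard (s := MulAction.orbit (inE D.subtype e) (a ^ j))
      (t := ((Finset.univ.filter fun a : D => a ^ 2 = 1).erase 1 : Finset D)) (by
        rintro _ ⟨α, rfl⟩
        have : α • a ^ j = α.1 (a ^ j) := rfl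
        simp only [this, Finset.coe_erase, Set.mem_sdiff, Finset.coe_filter, Finset.mem_univ,
          true_and, Set.mem_ofPred_eq, ← map_pow, h8, map_one, Set.mem_singleton_iff]
        simpa only [EmbeddingLike.map_eq_one_iff] using h7)
    rw [AbMax.ncard_orbit_of_free hfree h7, Set.ncard_coe_finset,
      Finset.card_erase_of_mem (by simp)] at h9
    omega
  obtain ⟨t, -, -, h8, -⟩ := h.free_counts hfree
  omega

theorem rk3 (h1 : FibUp.{u}) (h2 : FibLo.{u}) : Rk3.{u} := by
  intro G _ _ M B P hM hB hD X _ ⟨φ⟩ hT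
  have := Fintype.ofFinite G
  have hc := card_defectGroup hM hB hD
  by_cases hd : blockDefect 2 B ≤ 2
  · have h3 := card_le_pow_of_defect_le_two hM hB hd
    by_cases h0 : blockDefect 2 B = 0
    · have := blockRank_le_card (p := 2) B
      rw [h0] at h3
      omega
    · have h4 := blockRank_lt_card hM hB h0
      have h5 : 2 ^ blockDefect 2 B ≤ 2 ^ 2 := Nat.pow_le_pow_right two_pos hd
      omega
  obtain ⟨e, h⟩ := exists_isMax_of_isDefectGroup hM hB hD
  obtain ⟨n, hn⟩ : ∃ n, blockDefect 2 B = n + 1 := ⟨blockDefect 2 B - 1, by omega⟩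
  have hX : Nat.card X = 2 ^ (n + 1) := by rw [Nat.card_congr φ.toEquiv, hc, hn]
  set ι : X →* G := P.subtype.comp φ.toMonoidHom
  have hι : Function.Injective ι := P.subtype_injective.comp φ.injective
  have hιP : (⊤ : Subgroup X).map ι = P := by
    rw [← Subgroup.map_map, map_top_of_surjective _ φ.surjective, ← MonoidHom.range_eq_map, range_subtype]
  have key : (∃ a b : X, CL.Grp.DQSGen n a b) → blockRank 2 B ≤ 3 := fun ⟨a, b, hab⟩ => by
    obtain ⟨r, d, ⟨D⟩⟩ := rk_mc hab
    have := MCB.blockRank_add_et ((D.map ι hι).copy hιP) h hM hB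
    omega
  rcases hT with ⟨y, hy⟩ | hT | ⟨hT, hT'⟩ | ⟨m, x, c, j, hT⟩
  · exact key (CL.Grp.exists_dqsGen_of_card_centralizer_le (by omega) hX y hy)
  · exact key (CL.Grp.exists_dqsGen_of_index_commutator_le (by omega) X hX hT)
  · have : Nontrivial P := Finite.one_lt_card_iff_nontrivial.1
      (hc ▸ Nat.one_lt_pow (by omega) one_lt_two)
    refine rk_ab hM hB hD (fun a b => φ.symm.injective (by rw [map_mul, map_mul, hT])) ?_
    rwa [← Nat.card_congr (φ.toEquiv.subtypeEquiv (p := fun g => g * g = 1)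
      (q := fun g => g * g = 1) fun g => by
        rw [MulEquiv.toEquiv_eq_coe, MulEquiv.coe_toEquiv, ← map_mul, EmbeddingLike.map_eq_one_iff])]
  · have h3 := hιP ▸ hT.map ι hι
    have h4 := h1 G M B P e m _ _ _ ⟨hM, hB, h⟩ h3
    have h5 := h2 G M B P e m _ _ _ ⟨hM, hB, h⟩ h3
    omega

/-! ### Major subsections -/

/-- A major subsection of rank at most three bounds the number of characters. -/
theorem card_le_of_major {G : Type*} [Group G] [Finite G] {M : Ideal AlgInt}
    {B : Set (IrrCharacter G)} {P : Subgroup G} {e : (resField M)[G]} (hM : IsPModular 2 M)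
    (hB : IsPBlock M B) (h : IsMax 2 ⊤ ⊤ (eBlk M B) P e) {z : G} (hz : z ∈ P)
    (hzc : P ≤ centralizer ({z} : Set G)) {b : Set (IrrCharacter (centralizer ({z} : Set G)))}
    (hb : IsPBlock M b) (hbv : hat M _ b = below 2 P e z) (hl : blockRank 2 b ≤ 3) :
    Nat.card B ≤ Nat.card P := by
  have := Fintype.ofFinite G
  have hH := isCent_centralizer z
  obtain ⟨h1, h2⟩ := Cfsg.Agent.S4540.result M hM B hB P (h.isDefectGroup hM hB) z hz
    (fun d hd => mem_centralizer_singleton_iff.1 (hzc hd)) b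
    (h.isInducedBlock_below hM hB hz hH hb hbv)
    (h.blockDefect_below_of_central hM hB hz hH hzc hb hbv).1 hl
  rw [h.card_eq hM hB]
  omega

theorem le_cent_of_center {G : Type*} [Group G] {P : Subgroup G} {z : P} (hz : z ∈ center P) :
    P ≤ centralizer ({(z : G)} : Set G) := fun x hx => mem_centralizer_singleton_iff.2
  (congrArg Subtype.val (mem_center_iff.1 hz ⟨x, hx⟩))

theorem cardGood (h3 : Rk3.{u}) : CardGood.{u} := by
  intro G _ _ M B P hM hB hD ⟨z, _, hzc, hT⟩
  have := Fintype.ofFinite G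
  have hc := le_cent_of_center hzc
  have hH := isCent_centralizer (z : G)
  obtain ⟨e, h⟩ := exists_isMax_of_isDefectGroup hM hB hD
  obtain ⟨b, hb, hbv⟩ := h.exists_hat_below hM z.2 hH
  refine card_le_of_major hM hB h z.2 hc hb hbv ?_
  obtain ⟨h1, -⟩ := h.blockDefect_below_of_central hM hB z.2 hH hc hb hbv
  have hZ := centralizer_zpowers_self (z : G)
  set H := centralizer ({(z : G)} : Set G)
  set N := zpowers (⟨z, hH.self_mem⟩ : H) with hN
  have : N.Normal := normalizer_eq_top_iff.1 (top_le_iff.1 (hZ ▸ centralizer_le_normalizer _))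
  have hNp : IsPGroup 2 N := isPGroup_zpowers_of_orderOf (by simpa using h.pElt hM z.2)
  obtain ⟨h4, h5, -, h6⟩ := isDefectGroup_preimage_of_central hM hb hNp hZ h1
  set f : P →* H ⧸ N := (QuotientGroup.mk' N).comp (inclusion hc)
  have h7 : f.range = (P.subgroupOf H).map (QuotientGroup.mk' N) := by
    rw [MonoidHom.range_comp, inclusion_range]
  have h8 : zpowers z = f.ker := by
    ext x
    rw [MonoidHom.mem_ker, MonoidHom.comp_apply, QuotientGroup.mk'_apply, QuotientGroup.eq_one_iff]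
    constructor
    · rintro ⟨i, rfl⟩
      exact ⟨i, Subtype.ext (by simp)⟩
    · rintro ⟨i, hi⟩
      exact ⟨i, Subtype.ext (by simpa using congrArg Subtype.val hi)⟩
  rw [← h6]
  exact h3 _ M _ _ hM h4 (h7 ▸ h5) _
    ⟨(QuotientGroup.quotientMulEquivOfEq h8).trans (QuotientGroup.quotientKerEquivRange f)⟩ hT

theorem mainRed (h1 : EssRed.{u}) (h2 : CardGood.{u}) : MainRed.{u} := by
  intro G _ _ M B P hM hB hD z hzc hrk hA hE
  have := Fintype.ofFinite G
  have := charP_resField hM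
  have hc := le_cent_of_center hzc
  have hH := isCent_centralizer (z : G)
  obtain ⟨e, h⟩ := exists_isMax_of_isDefectGroup hM hB hD
  obtain ⟨b, hb, hbv⟩ := h.exists_hat_below hM z.2 hH
  have hl := h.local_below z.2 (fun g hg => mem_centralizer_singleton_iff.1 (hc hg)) hH
  obtain ⟨F, hF⟩ := hl.exists_isBFS
  by_cases hi : F = innerFusionSystem P
  · refine card_le_of_major hM hB h z.2 hc hb hbv ?_
    rw [blockRank_eq_one_of_isNilpotentBlock hM ((isNilpotentBlock_iff hM).2
      ⟨hb, hbv ▸ (hF.isNil_iff hl).2 hi⟩)]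
    omega
  refine h2 G M B P hM hB hD ?_
  refine (h1 G P F z h.pgroup (hF.isSaturated hl) hi hzc (fun A f hf hz => ?_) hrk).elim hA
    fun ⟨Q, α, hQ⟩ => hE Q α hQ
  obtain ⟨x, hx, -, h3, -⟩ := (hF A f).1 hf
  rw [h3 _ hz, mem_centralizer_singleton_iff.1 hx, mul_inv_cancel_right]

end CL.KB
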