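/-
Two-generator 2-groups of order at most 64: the fixed subgroup of the essential automorphism has index four.
-/
import Cfsg.Agent.Blk.KBDefs
import Cfsg.Agent.Inv.AutTwo
import Cfsg.Agent.Fus.BiP
import Mathlib.GroupTheory.FixedPointFree

set_option autoImplicit false

namespace CL.KB

open Cfsg Subgroup CL.Fus
open scoped commutatorElement

universe u

theorem ub_mod {S : Type*} [Finite S] (f : S → S) (h3 : ∀ x, f (f (f x)) = x) :
    Nat.card S ≡ Nat.card {x // f x = x} [MOD 3] := by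
  classical
  have := Fintype.ofFinite S
  have h := Equiv.Perm.card_fixedPoints_modEq (α := S) (f := f) (p := 3) (n := 1) (by rw [pow_one]; exact funext h3)
  rwa [← Nat.card_eq_fintype_card, ← Nat.card_eq_fintype_card] at h

section

variable {Y : Type*} [Group Y] [Finite Y] (β : Y →* Y) (h3 : ∀ x, β (β (β x)) = x) (hf : ∀ x, β x = x → x = 1)
include h3 hf

theorem ub_norm (x : Y) : x * β x * β (β x) = 1 := by
  simpa [List.range_succ, mul_assoc] using
    MonoidHom.FixedPointFree.prod_pow_eq_one (φ := β) hf (n := 3) (funext h3) x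

theorem ub_card (hc : Nat.card Y = 16) {W : Subgroup Y} (hW : ∀ x ∈ W, β x ∈ W) :
    Nat.card W = 1 ∨ Nat.card W = 4 ∨ Nat.card W = 16 := by
  have h1 := ub_mod (fun x : W => (⟨β x, hW x x.2⟩ : W)) fun x => Subtype.ext (h3 x)
  replace h1 : Nat.card W % 3 = 1 % 3 := h1.trans (congrArg (· % 3) (Nat.card_eq_one_iff_unique.2
    ⟨⟨fun a b => Subtype.ext (Subtype.ext ((hf _ (congrArg Subtype.val a.2)).trans
      (hf _ (congrArg Subtype.val b.2)).symm))⟩, ⟨⟨1, Subtype.ext (map_one β)⟩⟩⟩))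
  have h2 := hc ▸ W.card_subgroup_dvd_card
  have h4 := Nat.le_of_dvd (by norm_num) h2
  generalize Nat.card W = n at *
  interval_cases n <;> omega

/-- a group of order 16 with a fixed point free automorphism of order three is abelian -/
theorem ub_comm (hc : Nat.card Y = 16) (a b : Y) : a * b = b * a := by
  have h1 : ∀ x, β (β x) = (x * β x)⁻¹ := fun x => eq_inv_of_mul_eq_one_right (ub_norm β h3 hf x)
  have h2 : a * β a = β a * a := by
    have := h1 a⁻¹
    rwa [map_inv, map_inv, h1 a, inv_inv, mul_inv_rev, inv_inv, inv_inv] at this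
  have : Nontrivial Y := Finite.one_lt_card_iff_nontrivial.1 (by omega)
  have := (IsPGroup.of_card (p := 2) (n := 4) hc).center_nontrivial
  have h4 := Finite.one_lt_card (α := center Y)
  have h5 := ub_card β h3 hf hc (W := center Y) fun x hx => mem_center_iff.2 fun g => by
    rw [← h3 g, ← map_mul, ← map_mul, mem_center_iff.1 hx]
  have h6 := ub_card β h3 hf hc (W := centralizer {a} ⊓ centralizer {β a}) fun x hx => by
    have e1 : Commute (β x) (β a) := Commute.map (mem_centralizer_singleton_iff.1 hx.1) β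
    have e2 : Commute (β x) (β (β a)) := Commute.map (mem_centralizer_singleton_iff.1 hx.2) β
    refine ⟨mem_centralizer_singleton_iff.2 ?_, mem_centralizer_singleton_iff.2 e1⟩
    have := (e1.mul_right e2).inv_right
    rwa [h1 a, mul_inv_rev, inv_inv, mul_inv_cancel_right] at this
  have h7 : center Y ≤ centralizer {a} ⊓ centralizer {β a} := le_inf (center_le_centralizer _) (center_le_centralizer _)
  have h8 : a ∈ centralizer {a} ⊓ centralizer {β a} :=
    ⟨mem_centralizer_singleton_iff.2 rfl, mem_centralizer_singleton_iff.2 h2⟩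
  by_cases h9 : Nat.card ↥(centralizer {a} ⊓ centralizer {β a}) ≤ Nat.card (center Y)
  · exact (mem_center_iff.1 ((eq_of_le_of_card_ge h7 h9).ge h8) b).symm
  · exact (mem_centralizer_singleton_iff.1 (mem_inf.1 ((eq_top_of_card_eq (centralizer {a} ⊓ centralizer {β a})
      (by omega)).ge (mem_top b))).1).symm

end

theorem ub_card_sup {Y : Type*} [Group Y] (hc : ∀ a b : Y, a * b = b * a) (h2 : ∀ a : Y, a * a = 1) (A : Subgroup Y)
    (w : Y) : Nat.card ↥(A ⊔ zpowers w) ≤ 2 * Nat.card A := by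
  by_cases hw : w ∈ A
  · rw [sup_eq_left.2 (zpowers_le.2 hw)]; omega
  · exact (CL.Inv.card_eq_two_mul_of_mem_iff hw (CL.Inv.mem_sup_zpowers_iff
      (center_le_normalizer _ (mem_center_iff.2 fun g => hc g w)) (h2 w ▸ one_mem _))).le

/-- generators of a subgroup of index two -/
theorem ub_gen {D : Type*} [Group D] [Finite D] {s y : D} (gen : ∀ K : Subgroup D, s ∈ K → y ∈ K → K = ⊤)
    {R : Subgroup D} (h1 : y ∈ R) (h2 : s * y * s⁻¹ ∈ R) (h3 : s * s ∈ R) (g : D) : g ∈ R ∨ g * s⁻¹ ∈ R := by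
  have hA : s ∈ normalizer ((R ⊓ R.comap (MulAut.conj s).toMonoidHom : Subgroup D) : Set D) :=
    mem_normalizer_of_finite fun x hx => ⟨hx.2, by
      change s * (s * x * s⁻¹) * s⁻¹ ∈ R
      convert mul_mem (mul_mem h3 hx.1) (inv_mem h3) using 1
      group⟩
  exact ((CL.Inv.mem_sup_zpowers_iff hA ⟨h3, by simpa [← mul_assoc] using h3⟩ g).1
    ((gen _ (mem_sup_right (mem_zpowers s)) (mem_sup_left (mem_inf.2 ⟨h1, h2⟩))).ge (mem_top g))).imp (·.1) (·.1)

theorem ub_pow {X : Type*} [Group X] {u v e : X} (h : v * u = u * v * e) (hc : ∀ g, Commute e g) (h2 : e * e = 1) :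
    (u * v) ^ 4 = u ^ 4 * v ^ 4 := by
  have h1 : Commute u (v ^ 2) := by
    calc u * v ^ 2 = u * v * e * (e * v) := by rw [mul_assoc, ← mul_assoc e, h2, one_mul, sq, mul_assoc]
      _ = v * (u * v * e) := by nth_rw 1 [← h]; rw [(hc v).eq]; simp only [mul_assoc]
      _ = v ^ 2 * u := by rw [← h, sq, mul_assoc]
  have h3 : (u * v) ^ 2 = u ^ 2 * v ^ 2 * e := by
    calc (u * v) ^ 2 = u * (v * u) * v := by rw [sq]; group
      _ = _ := by rw [h, mul_assoc, mul_assoc, (hc v).eq]; simp only [sq, mul_assoc]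
  rw [show 4 = 2 * 2 from rfl, pow_mul, h3, (hc _).symm.mul_pow, sq e, h2, mul_one, (h1.pow_left 2).mul_pow, ← pow_mul,
    ← pow_mul]

/-- the case of a fixed subgroup of order two in a group of order 32 -/
theorem ub_main {D : Type*} [Group D] [Finite D] (hD : IsPGroup 2 D) {Q : Subgroup D} [Q.Normal] {α : MulAut Q} {z : D}
    (E : Ess Q α z) (hz : z ∈ center D) (z1 : z ≠ 1) (hH : Hz D z) (h2 : Nat.card (fixK α) = 2)
    (h16 : (fixK α).index = 16) {s y : D} (gen : ∀ K : Subgroup D, s ∈ K → y ∈ K → K = ⊤) (hs : s ∉ Q) (hy : y ∈ Q) :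
    False := by
  have hN : ∀ g, g ∈ normalizer (Q : Set D) := fun g => by rw [normalizer_eq_top]; trivial
  have hQ := hD.to_subgroup Q
  set z' : Q := ⟨z, E.zQ⟩ with hz'
  have z1' : z' ≠ 1 := fun e => z1 (congrArg Subtype.val e)
  have zc : ∀ g : Q, Commute z' g := fun g => Subtype.ext (mem_center_iff.1 hz g).symm
  have hK : ∀ x ∈ fixK α, x = 1 ∨ x = z' := fun x hx => or_iff_not_imp_left.2 fun x1 => congrArg Subtype.val
    (((Nat.card_eq_two_iff' (1 : fixK α)).1 h2).unique (y₁ := ⟨x, hx⟩) (y₂ := ⟨z', E.fix⟩)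
      (fun e => x1 (congrArg Subtype.val e)) fun e => z1' (congrArg Subtype.val e))
  have z2 : z' * z' = 1 := (hK _ (mul_mem E.fix E.fix)).resolve_right fun e => z1' (mul_eq_left.1 e)
  have kc : ∀ x ∈ fixK α, (∀ g, Commute x g) ∧ x * x = 1 := fun x hx => by
    rcases hK x hx with rfl | rfl
    exacts [⟨Commute.one_left, mul_one 1⟩, ⟨zc, z2⟩]
  have : (fixK α).Normal := ⟨fun x hx g => by rwa [← ((kc x hx).1 g).eq, mul_inv_cancel_right]⟩
  have a3 : ∀ x, α (α (α x)) = x := fun x => by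
    have := congrArg (· x) E.three
    simpa [pow_succ] using this
  have ao : Odd (orderOf α) := by
    have : Fact (Nat.Prime 3) := ⟨Nat.prime_three⟩
    rw [orderOf_eq_prime E.three E.ne_one]; decide
  let π := QuotientGroup.mk' (fixK α)
  have hπ : ∀ x, π x = 1 ↔ x ∈ fixK α := fun x => QuotientGroup.eq_one_iff x
  have sπ := QuotientGroup.mk'_surjective (fixK α)
  let β := QuotientGroup.map (fixK α) (fixK α) α.toMonoidHom fun x hx => congrArg α hx
  have hβ : ∀ x, β (π x) = π (α x) := fun x => rfl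
  have b3 : ∀ x, β (β (β x)) = x := fun x => by
    obtain ⟨x, rfl⟩ := sπ x
    exact congrArg π (a3 x)
  have bf : ∀ x, β x = x → x = 1 := fun x hx => by
    obtain ⟨x, rfl⟩ := sπ x
    exact (hπ x).2 (CL.Inv.aut_fix_of_mul hQ ao (mul_inv_cancel_left x (α x)).symm (QuotientGroup.eq.1 hx.symm))
  have hc := ub_comm β b3 bf h16
  have hcom : ∀ u v : Q, ⁅u, v⁆ ∈ fixK α := fun u v => (hπ _).1 (by
    rw [map_commutatorElement, commutatorElement_eq_one_iff_mul_comm, hc])
  have p4 : ∀ u v : Q, (u * v) ^ 4 = u ^ 4 * v ^ 4 := fun u v =>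
    ub_pow (e := ⁅v⁻¹, u⁻¹⁆) (by simp only [commutatorElement_def]; group) (kc _ (hcom _ _)).1 (kc _ (hcom _ _)).2
  have n4 : ∀ e : Q, e ^ 4 ≠ z' := fun e he => by
    have h1 := p4 (e * α e) (α (α e))
    rw [p4 e, ← map_pow, ← map_pow, ← map_pow, he, E.fix, E.fix, z2, one_mul, show 4 = 2 * 2 from rfl, pow_mul, sq (e * _ * _),
      (kc (e * α e * α (α e)) ((hπ _).1 (ub_norm β b3 bf (π e)))).2, one_pow] at h1
    exact z1' h1.symm
  let σ : MulAut Q := MulAut.conjNormal s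
  have hσ : ∀ x, (σ x : D) = s * x * s⁻¹ := fun x => rfl
  have hss : s * s ∈ Q := E.two s (hN s) s (hN s) hs hs
  have hg : ∀ R : Subgroup Q, ⟨y, hy⟩ ∈ R → σ ⟨y, hy⟩ ∈ R → ⟨s * s, hss⟩ ∈ R → R = ⊤ := fun R r1 r2 r3 =>
    eq_top_iff.2 fun q _ => by
      rcases ub_gen gen (R := R.map Q.subtype) ⟨_, r1, rfl⟩ ⟨_, r2, rfl⟩ ⟨_, r3, rfl⟩ q with ⟨r, h, e⟩ | ⟨r, -, e⟩
      · rwa [← (Subtype.ext e : r = q)]
      · exact (hs (inv_mem_iff.1 ((mul_mem_cancel_left q.2).1 (e ▸ r.2)))).elim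
  set d : Q := σ ⟨y, hy⟩ * ⟨y, hy⟩⁻¹ with hd
  have d2 : π d * π d ≠ 1 := fun e => by
    let _ : CommGroup (Q ⧸ fixK α) := { (inferInstance : Group (Q ⧸ fixK α)) with mul_comm := hc }
    let f : Q →* Q ⧸ fixK α := (powMonoidHom 2).comp π
    have hf : ∀ q, f q = π q ^ 2 := fun q => rfl
    have e1 : f (σ ⟨y, hy⟩) = f ⟨y, hy⟩ := by rw [← mul_inv_eq_one, ← map_inv, ← map_mul, hf, sq]; exact e
    have fc : ∀ c q : Q, f (c * q * c⁻¹) = f q := fun c q => by rw [map_mul, map_mul, map_inv, mul_inv_cancel_comm]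
    have e2 : ∀ q, f (σ q) = f q := fun q => (hg ((f.comp σ.toMonoidHom).eqLocus f) e1 (by
      change f (σ (σ _)) = f (σ _)
      rw [e1, ← fc ⟨s * s, hss⟩ ⟨y, hy⟩]
      exact congrArg f (Subtype.ext (by simp only [hσ, coe_mul, coe_inv]; group)))
      (congrArg f (Subtype.ext (by simp only [MulEquiv.coe_toMonoidHom, hσ]; group)))).ge (mem_top q)
    have e3 : ∀ q, f (α q) = β (f q) := fun q => by rw [hf, hf, map_pow, hβ]
    obtain ⟨c, hc', e4⟩ := E.inv s (hN s) hs
    have e5 : ∀ q, f q = 1 := fun q => bf _ (by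
      have e6 : σ (α (σ.symm (α q))) = ⟨c, hc'⟩ * q * ⟨c, hc'⟩⁻¹ := Subtype.ext (e4 q _ (by
        have := hσ (σ.symm (α q))
        rw [σ.apply_symm_apply] at this
        rw [this]; group))
      have e7 := congrArg f e6
      rw [fc, e2, e3, ← e2, σ.apply_symm_apply, e3] at e7
      rw [← e7, b3, e7])
    have e8 : ∀ a : Q ⧸ fixK α, a * a = 1 := fun a => by
      obtain ⟨a, rfl⟩ := sπ a
      rw [← sq]; exact e5 a
    have c1 := ub_card_sup hc e8 ⊥ (π ⟨y, hy⟩)
    have c2 := ub_card_sup hc e8 (⊥ ⊔ zpowers (π ⟨y, hy⟩)) (π (σ ⟨y, hy⟩))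
    have c3 := ub_card_sup hc e8 (⊥ ⊔ zpowers (π ⟨y, hy⟩) ⊔ zpowers (π (σ ⟨y, hy⟩))) (π ⟨s * s, hss⟩)
    have c4 : ⊥ ⊔ zpowers (π ⟨y, hy⟩) ⊔ zpowers (π (σ ⟨y, hy⟩)) ⊔ zpowers (π ⟨s * s, hss⟩) = ⊤ :=
      comap_injective sπ ((hg _ (mem_comap.2 (mem_sup_left (mem_sup_left (mem_sup_right (mem_zpowers _)))))
        (mem_comap.2 (mem_sup_left (mem_sup_right (mem_zpowers _)))) (mem_comap.2 (mem_sup_right (mem_zpowers _)))).trans
          (comap_top π).symm)
    rw [c4, card_top, ← index_eq_card, h16] at c3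
    rw [card_bot] at c1
    omega
  have zL : ∀ x ∈ fixK α, (x : D) ∈ zpowers (d : D) ⊔ zpowers z := fun x hx => by
    rcases hK x hx with rfl | rfl
    exacts [one_mem _, mem_sup_right (mem_zpowers z)]
  have dL : (d : D) ∈ zpowers (d : D) ⊔ zpowers z := mem_sup_left (mem_zpowers _)
  have hn : ∀ g : D, g * d * g⁻¹ ∈ zpowers (d : D) ⊔ zpowers z →
      g ∈ normalizer ((zpowers (d : D) ⊔ zpowers z : Subgroup D) : Set D) := fun g h =>
    mem_normalizer_of_finite fun x hx => (sup_le (zpowers_le.2 h) (zpowers_le.2 (by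
      change g * z * g⁻¹ ∈ zpowers (d : D) ⊔ zpowers z
      rw [mem_center_iff.1 hz g, mul_inv_cancel_right]
      exact mem_sup_right (mem_zpowers z))) : _ ≤ comap (MulAut.conj g).toMonoidHom (zpowers (d : D) ⊔ zpowers z)) hx
  have dc : (d : D) = ⁅s, y⁆ := rfl
  have hL := Bi.comm_le_of_gen gen (hn s (by
      convert mul_mem (zL _ (hcom ⟨s * s, hss⟩ ⟨y, hy⟩)) (inv_mem dL) using 1
      simp only [dc, commutatorElement_def, coe_mul, coe_inv]; group))
    (hn y (by
      convert mul_mem (zL _ (hcom ⟨y, hy⟩ d)) dL using 1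
      simp only [commutatorElement_def, coe_mul, coe_inv]; group)) dL
  rcases hH with h | h
  · exact d2 (by rw [← map_mul, (Subtype.ext (h d (commutator_mem_commutator (mem_top s) (mem_top y))) : d * d = 1), map_one])
  have z2' : z * z = 1 := congrArg Subtype.val z2
  have h1 : z ∈ zpowers ((d : D) * d) := (closure_le _).2 (by
    rintro _ ⟨x, hx, rfl⟩
    have e : ∀ x ∈ zpowers (d : D), x * x ∈ zpowers ((d : D) * d) := by
      rintro _ ⟨i, rfl⟩
      exact ⟨i, (Commute.refl _).mul_zpow i⟩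
    refine ((CL.Inv.mem_sup_zpowers_iff (center_le_normalizer _ hz) (z2' ▸ one_mem _) x).1 (hL hx)).elim (e x) fun h => ?_
    have := e _ h
    rwa [mul_assoc, ← mul_assoc z⁻¹, ← mem_center_iff.1 (inv_mem hz) x, mul_assoc, ← mul_inv_rev, z2', inv_one,
      mul_one] at this) h
  obtain ⟨k, hk⟩ := mem_powers_iff_mem_zpowers.2 h1
  have h3 : (d * d) ^ k = z' := Subtype.ext hk
  rcases Nat.even_or_odd k with ⟨j, rfl⟩ | h4
  · exact n4 (d ^ j) (by rw [← h3, ← sq, ← pow_mul, ← pow_mul]; congr 1; ring)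
  · exact d2 (CL.Inv.eq_one_of_pow_odd (hQ.to_quotient _) h4 (by rw [← map_mul, ← map_pow, h3]; exact (hπ _).2 E.fix))

theorem ub : UB.{u} := by
  intro D _ _ t Q α z E hz z1 hH
  have hQ := t.pg.to_subgroup Q
  obtain ⟨k, hk⟩ := hQ.index (fixK α)
  obtain ⟨m, hm⟩ := (hQ.to_subgroup (fixK α)).exists_card_eq
  have h1 := (fixK α).index_mul_card
  have h2 := Q.index_mul_card
  have h3 := t.card
  have h4 : 1 < Q.index := one_lt_index_of_ne_top E.ne_top
  have h5 : 1 < (fixK α).index := one_lt_index_of_ne_top fun e => E.ne_one (MulEquiv.ext fun x => e.ge (mem_top x))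
  have h6 : 1 < Nat.card (fixK α) := (one_lt_card_iff_ne_bot _).2 fun e =>
    z1 (congrArg Subtype.val (mem_bot.1 (e.le (show ⟨z, E.zQ⟩ ∈ fixK α from E.fix))))
  have h7 : Nat.card Q ≡ Nat.card (fixK α) [MOD 3] := ub_mod α fun x => by
    have := congrArg (· x) E.three
    simpa [pow_succ] using this
  have h8 : Nat.card Q ≤ 32 := by nlinarith
  have h9 : k + m ≤ 5 := (Nat.pow_le_pow_iff_right (a := 2) (by norm_num)).1 (by rw [pow_add, ← hk, ← hm, h1]; exact h8)
  rw [← h1, hk, hm, Nat.ModEq] at h7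
  have h10 : k = 2 ∨ (k = 4 ∧ m = 1) := by
    rw [hk] at h5
    rw [hm] at h6
    have : k ≤ 5 := by omega
    have : m ≤ 5 := by omega
    interval_cases k <;> interval_cases m <;> omega
  rcases h10 with rfl | ⟨rfl, rfl⟩
  · exact hk
  exfalso
  have hi : Q.index = 2 := by rw [← h1, hk, hm] at h2; omega
  have := normal_of_index_eq_two hi
  obtain ⟨g, h, e⟩ := t.gen
  have gen : ∀ K : Subgroup D, g ∈ K → h ∈ K → K = ⊤ := fun K a b =>
    eq_top_iff.2 (e.ge.trans ((closure_le K).2 (Set.pair_subset a b)))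
  by_cases hg : g ∈ Q
  · exact ub_main t.pg E hz z1 hH hm hk (fun K a b => gen K b a) (fun e => E.ne_top (gen Q hg e)) hg
  by_cases hh : h ∈ Q
  · exact ub_main t.pg E hz z1 hH hm hk gen hg hh
  · exact ub_main t.pg E hz z1 hH hm hk (y := g * h) (fun K a b => gen K a ((mul_mem_cancel_left a).1 b)) hg
      ((mul_mem_iff_of_index_two hi).2 (iff_of_false hg hh))

end CL.KB
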