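/-
Brauer's bound k(B) ≤ |D| for two families of 2-groups: the assembly.
-/
import Cfsg.Agent.Blk.KBEss
import Cfsg.Agent.Blk.KBRk
import Cfsg.Agent.Blk.KBTop
import Cfsg.Agent.Blk.KBG1
import Cfsg.Agent.Blk.KBDa
import Cfsg.Agent.Blk.KBCia
import Cfsg.Agent.Blk.KBUb
import Cfsg.Agent.Blk.KBCoreEx

set_option autoImplicit false

namespace CL.KB

open MonoidAlgebra Cfsg CL.Blk CL.Blk.Pair Subgroup

universe u

theorem odd_of_three {X : Type*} [Group X] {α : X} (h : α ^ 3 = 1) : Odd (orderOf α) :=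
  Odd.of_dvd_nat (by decide : Odd 3) (orderOf_dvd_of_pow_eq_one h)

theorem pgroup_of_defect {G : Type*} [Group G] [Finite G] {M : Ideal AlgInt}
    {B : Set (IrrCharacter G)} {D : Subgroup G} (hM : IsPModular 2 M) (hB : IsPBlock M B)
    (hD : IsDefectGroup 2 M B D) : IsPGroup 2 D := by
  classical
  have := Fintype.ofFinite G
  have := hM.1
  have := charP_resField hM
  obtain ⟨e, h⟩ := exists_isMax_of_isDefectGroup hM hB hD
  exact h.pgroup

/-- A generator of the intersection of a cyclic subgroup with a subgroup. -/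
theorem exists_gen_inf {D : Type*} [Group D] [Finite D] (x : D) (Q : Subgroup D) :
    ∃ y : Q, zpowers y = (zpowers x).subgroupOf Q := by
  have hc : IsCyclic ((zpowers x).subgroupOf Q) := by
    have e := subgroupOfEquivOfLe (H := zpowers x ⊓ Q) (K := Q) inf_le_right
    rw [inf_subgroupOf_right] at e
    have : IsCyclic (zpowers x ⊓ Q : Subgroup D) := isCyclic_of_le inf_le_left
    exact isCyclic_of_surjective e.symm e.symm.surjective
  obtain ⟨y, hy⟩ := (Subgroup.isCyclic_iff_exists_zpowers_eq_top _).1 hc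
  exact ⟨y, hy⟩

theorem main44 (h1 : CardGood.{u}) (h2 : DA2.{u}) {G : Type u} [Group G] [Finite G]
    {M : Ideal AlgInt} (hM : IsPModular 2 M) {B : Set (IrrCharacter G)} (hB : IsPBlock M B)
    {D : Subgroup G} (hD : IsDefectGroup 2 M B D) (x : D) (hx : (zpowers x).index ≤ 4) :
    Nat.card B ≤ Nat.card D := by
  have hp := pgroup_of_defect hM hB hD
  obtain ⟨hr, -, hg | ⟨z, hzx, hzc, hz⟩⟩ := pre44 D hp x hx
  · exact h1 G M B D hM hB hD hg
  have hda := da g1 kc h2
  refine mainRed essRed h1 G M B D hM hB hD z hzc (hr z) ?_ ?_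
  · rintro ⟨α, ho, hα, hf⟩
    obtain ⟨K, a, b, w, hc⟩ := coreTop D hp α z ho (cia D hp α x z ho hα hx hzx hz hf) hf
    exact hda D hp ⊤ K a b w z x hc hx hzx hzc hz
  · intro Q α hE
    obtain ⟨y, hy⟩ := exists_gen_inf x Q
    have hi : (zpowers y).index ≤ 4 := by
      rw [hy]
      exact le_trans (relIndex_le_of_le_right le_top (by rw [relIndex_top_right]; exact
        index_ne_zero_of_finite)) (by rw [relIndex_top_right]; exact hx)
    have h4 := cia Q (hp.to_subgroup Q) α y ⟨z, hE.zQ⟩ (odd_of_three hE.three) hE.ne_one hi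
      (by rw [hy]; exact hzx) (fun h => hz (congrArg Subtype.val h)) hE.fix
    obtain ⟨K, a, b, w, hc⟩ := coreEss D hp Q α z hE h4
    exact hda D hp Q K a b w z x hc hx hzx hzc hz

theorem main43 (h1 : CardGood.{u}) (h2 : DB2.{u}) {G : Type u} [Group G] [Finite G]
    {M : Ideal AlgInt} (hM : IsPModular 2 M) {B : Set (IrrCharacter G)} (hB : IsPBlock M B)
    {D : Subgroup G} (hD : IsDefectGroup 2 M B D) (hc : Nat.card D ≤ 64)
    (hgen : ∃ g h : D, closure {g, h} = ⊤) : Nat.card B ≤ Nat.card D := by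
  have hp := pgroup_of_defect hM hB hD
  have ht : TwoGen D := ⟨hp, hc, hgen⟩
  obtain ⟨ht1, hr, hg | ⟨z, hzc, hz, hH⟩⟩ := top43 D ht
  · exact h1 G M B D hM hB hD hg
  refine mainRed essRed h1 G M B D hM hB hD z hzc (hr z hz) ?_ ?_
  · rintro ⟨α, ho, hα, -⟩
    exact ht1 α ho hα
  · intro Q α hE
    obtain ⟨K, a, b, w, hc⟩ := coreEss D hp Q α z hE (ub D ht Q α z hE hzc hz hH)
    by_cases hQ : Q.index = 2
    · exact db1 g1 gen2 D ht Q K a b w z hc hQ
    · exact h2 D ht Q K a b w z hc hE.ne_top hQ hzc hz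

theorem final44 (h1 : CardGood.{u}) (h2 : DA2.{u}) {G : Type u} [Group G] [Finite G]
    {M : Ideal AlgInt} (hM : IsPModular 2 M) {B : Set (IrrCharacter G)} (hB : IsPBlock M B)
    {D : Subgroup G} (hD : IsDefectGroup 2 M B D) (C : Subgroup G) (hcyc : IsCyclic C)
    (hidx : C.relIndex D ≤ 4) : Nat.card B ≤ Nat.card D := by
  obtain ⟨g, hg⟩ := (Subgroup.isCyclic_iff_exists_zpowers_eq_top _).1 hcyc
  obtain ⟨x, hx⟩ := exists_gen_inf g D
  refine main44 h1 h2 hM hB hD x ?_
  rw [hx, hg]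
  exact hidx

theorem final43 (h1 : CardGood.{u}) (h2 : DB2.{u}) {G : Type u} [Group G] [Finite G]
    {M : Ideal AlgInt} (hM : IsPModular 2 M) {B : Set (IrrCharacter G)} (hB : IsPBlock M B)
    {D : Subgroup G} (hD : IsDefectGroup 2 M B D) (hc : Nat.card D ≤ 64)
    (hgen : ∃ x ∈ D, ∃ y ∈ D, closure ({x, y} : Set G) = D) : Nat.card B ≤ Nat.card D := by
  obtain ⟨x, hx, y, hy, h⟩ := hgen
  refine main43 h1 h2 hM hB hD hc ⟨⟨x, hx⟩, ⟨y, hy⟩, ?_⟩
  apply map_injective D.subtype_injective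
  rw [MonoidHom.map_closure, ← MonoidHom.range_eq_map, range_subtype, Set.image_pair]
  exact h

end CL.KB
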