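/-
Brauer pairs modulo a central `p`-subgroup.
-/
import Cfsg.Agent.Blk.KBDefs

set_option autoImplicit false
set_option linter.unusedSectionVars false

namespace CL.KB

open MonoidAlgebra Cfsg Cfsg.FusionSystem CL.Blk CL.Blk.Pair CL.Blk.Rk CL.Fus Subgroup

universe u

section Cover

variable {G : Type*} [Group G] [Finite G] {M : Ideal AlgInt} {p : ℕ} [Fact p.Prime]
  {Z : Subgroup G} [Z.Normal] {Q R P : Subgroup G} {a f g e : (resField M)[G]}
  {f' g' e' : (resField M)[G ⧸ Z]}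

/-- `a` is supported on the elements of order prime to `p`. -/
def QReg (p : ℕ) (a : (resField M)[G]) : Prop := ∀ x, a.coeff x ≠ 0 → ¬ p ∣ orderOf x

/-- `f'` is the block of the quotient lying over `f`. -/
def QCov (p : ℕ) (Z : Subgroup G) [Z.Normal] (Q : Subgroup G) (f : (resField M)[G])
    (f' : (resField M)[G ⧸ Z]) : Prop :=
  IsPair p ⊤ (Q.map (QuotientGroup.mk' Z)) f' ∧ f' * quotAlg _ Z f = quotAlg _ Z f

theorem qt_cen (hZ : centralizer (Z : Set G) = ⊤) (hQ : IsPGroup p Q) (hZQ : Z ≤ Q) (x : G)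
    (hx : ¬ p ∣ orderOf x)
    (h : (x : G ⧸ Z) ∈ centralizer (Q.map (QuotientGroup.mk' Z) : Set (G ⧸ Z))) :
    x ∈ centralizer (Q : Set G) := by
  refine mem_centralizer_of_coprime hQ hZQ hx (hZ ▸ mem_top x) fun q hq => ?_
  have h1 : (q : G ⧸ Z) * x = x * q := h _ ⟨q, hq, rfl⟩
  rw [← QuotientGroup.eq_one_iff, QuotientGroup.mk_mul, QuotientGroup.mk_mul, QuotientGroup.mk_mul,
    QuotientGroup.mk_inv, QuotientGroup.mk_inv, ← h1]
  group

theorem qt_cen_le (Z : Subgroup G) [Z.Normal] (Q : Subgroup G) : centralizer (Q : Set G) ≤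
    (centralizer (Q.map (QuotientGroup.mk' Z) : Set (G ⧸ Z))).comap (QuotientGroup.mk' Z) := by
  rintro x hx _ ⟨y, hy, rfl⟩
  rw [← map_mul, hx y hy, map_mul]

theorem QReg.br (ha : QReg p a) (Q : Subgroup G) : QReg p (br Q a) := fun x hx => by
  refine ha x fun h => hx ?_
  by_cases hc : x ∈ centralizer (Q : Set G)
  · rw [coeff_br_of_mem a hc, h]
  · exact coeff_br_of_not_mem a hc

theorem qreg_pair (hM : IsPModular p M) (hf : IsPair p ⊤ Q f) : QReg p f :=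
  fun _ hx => hf.blk.not_dvd_orderOf hM hx

theorem qt_coeff (hZ : centralizer (Z : Set G) = ⊤) (hp : IsPGroup p Z) (ha : QReg p a) {x : G}
    (hx : ¬ p ∣ orderOf x) : (quotAlg _ Z a).coeff (x : G ⧸ Z) = a.coeff x := by
  classical
  have := Fintype.ofFinite Z
  rw [coeff_quotAlg_mk, Finset.sum_eq_single 1 (fun u _ hu => ?_) (by simp)]
  · simp
  · by_contra h1
    have := eq_of_mk_eq_of_pRegular Fact.out hp (ha _ h1) hx (hZ ▸ mem_top x) (by simp)
    exact hu (by simpa using this)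

theorem qt_ne (hZ : centralizer (Z : Set G) = ⊤) (hp : IsPGroup p Z) (ha : QReg p a) (h : a ≠ 0) :
    quotAlg _ Z a ≠ 0 := fun h0 => h (alg_ext fun x => by
  by_contra h1
  have h2 : a.coeff x ≠ 0 := fun h2 => h1 (by rw [h2]; rfl)
  exact h2 (by rw [← qt_coeff hZ hp ha (ha x h2), h0]; rfl))

theorem qt_br (hZ : centralizer (Z : Set G) = ⊤) (hQ : IsPGroup p Q) (hZQ : Z ≤ Q)
    (ha : QReg p a) :
    br (Q.map (QuotientGroup.mk' Z)) (quotAlg _ Z a) = quotAlg _ Z (br Q a) := by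
  have hp := hQ.to_le hZQ
  refine alg_ext fun q => ?_
  by_cases hc : q ∈ centralizer (Q.map (QuotientGroup.mk' Z) : Set (G ⧸ Z))
  · rw [coeff_br_of_mem _ hc]
    by_cases hq : ∃ x : G, (x : G ⧸ Z) = q ∧ ¬ p ∣ orderOf x
    · obtain ⟨x, rfl, hx⟩ := hq
      rw [qt_coeff hZ hp ha hx, qt_coeff hZ hp (ha.br Q) hx,
        coeff_br_of_mem _ (qt_cen hZ hQ hZQ x hx hc)]
    · have key : ∀ c : (resField M)[G], QReg p c → (quotAlg _ Z c).coeff q = 0 := fun c hc => by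
        by_contra h0
        obtain ⟨x, h1, h2⟩ := exists_coeff_ne_zero_of_quotAlg h0
        exact hq ⟨x, h1, hc x h2⟩
      rw [key a ha, key _ (ha.br Q)]
  · rw [coeff_br_of_not_mem _ hc, ((suppIn_br Q a).mono (qt_cen_le Z Q)).quotAlg q hc]

theorem qt_exists (hM : IsPModular p M) (hZ : centralizer (Z : Set G) = ⊤) (hZQ : Z ≤ Q)
    (hf : IsPair p ⊤ Q f) : ∃ f', QCov p Z Q f f' := by
  have := charP_resField hM
  have hp := hf.pgroup.to_le hZQ
  have hb : IsBlk (centralizer (Q : Set G)) (centralizer (Q : Set G)) f := cen_top Q ▸ hf.blk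
  obtain ⟨f', hf', h0⟩ := exists_isBlk_mul_ne_zero
    (le_refl (centralizer (Q.map (QuotientGroup.mk' Z) : Set (G ⧸ Z))))
    (qt_ne hZ hp (qreg_pair hM hf) hb.ne_zero)
  refine ⟨f', ⟨hf.pgroup.map _, (cen_top (Q.map (QuotientGroup.mk' Z))).symm ▸ hf'⟩, ?_⟩
  obtain ⟨c, hc, hcf⟩ := exists_lift_of_isBlk hM hp (C := centralizer (Q : Set G))
    (hZ ▸ le_top) (qt_cen hZ hf.pgroup hZQ) hf'
  have hc' : c ∈ fixAlg (resField M) (centralizer (Q : Set G)) (centralizer (Q : Set G)) :=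
    ⟨hc.1, hc.2.mono (qt_cen_le Z Q)⟩
  rcases hb.nilpotent_or_unit le_rfl hc' with ⟨n, h2⟩ | ⟨w, hw, h2⟩
  · have h3 := congrArg (quotAlg _ Z) h2
    rw [map_mul, map_pow, hcf, IsIdempotentElem.pow_succ_eq n hf'.idem, map_zero] at h3
    exact absurd h3 h0
  · have h3 := congrArg (quotAlg _ Z) h2
    rw [map_mul, map_mul, hcf] at h3
    rw [← h3, ← mul_assoc, ← mul_assoc, ← (hw.1.mono (qt_cen_le Z Q)).quotAlg.mul_comm hf'.fix,
      mul_assoc _ f' f', hf'.idem]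

theorem QCov.unique (hM : IsPModular p M) (hZ : centralizer (Z : Set G) = ⊤) (hZQ : Z ≤ Q)
    (hf : IsPair p ⊤ Q f) (h : QCov p Z Q f f') (h' : QCov p Z Q f g') : f' = g' := by
  refine h.1.blk.eq_of_mul_ne_zero le_rfl h'.1.blk fun h0 => ?_
  refine qt_ne hZ (hf.pgroup.to_le hZQ) (qreg_pair hM hf) hf.blk.ne_zero ?_
  rw [← h.2, ← h'.2, ← mul_assoc, h0, zero_mul]

theorem qt_cjs (Z : Subgroup G) [Z.Normal] (x : G) (Q : Subgroup G) :
    (cjs x Q).map (QuotientGroup.mk' Z) = cjs (x : G ⧸ Z) (Q.map (QuotientGroup.mk' Z)) := by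
  rw [cjs, cjs, Subgroup.map_map, Subgroup.map_map]
  rfl

theorem QCov.cj (h : QCov p Z Q f f') (x : G) :
    QCov p Z (cjs x Q) (cj x f) (cj (x : G ⧸ Z) f') := by
  refine ⟨?_, by rw [quotAlg_cj, ← map_mul, h.2]⟩
  have h1 := h.1.cj (x : G ⧸ Z)
  rwa [cjs_top, ← qt_cjs] at h1

theorem qt_nle (hM : IsPModular p M) (hZ : centralizer (Z : Set G) = ⊤) (hZQ : Z ≤ Q)
    (h : NLe p ⊤ Q f R g) (hf : QCov p Z Q f f') (hg : QCov p Z R g g') :
    NLe p ⊤ (Q.map (QuotientGroup.mk' Z)) f' (R.map (QuotientGroup.mk' Z)) g' := by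
  have := charP_resField hM
  have hZR := hZQ.trans h.le
  have hfix : FixedBy (R.map (QuotientGroup.mk' Z)) f' := by
    rintro _ ⟨x, hx, rfl⟩
    have h1 := hf.cj x
    rw [cjs_eq_self_iff.2 (h.norm hx), h.fix x hx] at h1
    exact h1.unique hM hZ hZQ h.left hf
  have hpi : FixedBy (R.map (QuotientGroup.mk' Z)) (quotAlg _ Z f) := by
    rintro _ ⟨x, hx, rfl⟩
    exact (quotAlg_cj Z x f).symm.trans (by rw [h.fix x hx])
  refine ⟨hf.1, hg.1, map_mono h.le, ?_, hfix, ?_⟩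
  · rintro _ ⟨x, hx, rfl⟩
    rw [← cjs_eq_self_iff]
    exact (qt_cjs Z x Q).symm.trans (by rw [cjs_eq_self_iff.2 (h.norm hx)])
  · refine (hg.1.br_mul_or (suppIn_top _) (hf.1.blk.fix.mono (cen_anti ⊤ (map_mono h.le))) hfix
      hf.1.blk.idem).resolve_right fun h0 => ?_
    refine qt_ne hZ (h.right.pgroup.to_le hZR) (qreg_pair hM h.right) h.right.blk.ne_zero ?_
    have h1 := br_mul hg.1.pgroup hfix hpi
    rw [hf.2, qt_br hZ h.right.pgroup hZR (qreg_pair hM h.left)] at h1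
    have h2 : br (R.map (QuotientGroup.mk' Z)) f' * quotAlg _ Z g = quotAlg _ Z g := by
      conv_lhs => rw [← h.br_mul, map_mul, ← mul_assoc, ← h1, ← map_mul, h.br_mul]
    rw [← h2, ← hg.2, ← mul_assoc, h0, zero_mul]

theorem qt_ple (hM : IsPModular p M) (hZ : centralizer (Z : Set G) = ⊤) (he : IsPair p ⊤ P e)
    (he' : QCov p Z P e e') (h : PLe p ⊤ Q f P e) : Z ≤ Q → ∀ f', QCov p Z Q f f' →
      PLe p ⊤ (Q.map (QuotientGroup.mk' Z)) f' (P.map (QuotientGroup.mk' Z)) e' := by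
  refine h.head_induction (motive := fun Q f => Z ≤ Q → ∀ f', QCov p Z Q f f' →
    PLe p ⊤ (Q.map (QuotientGroup.mk' Z)) f' (P.map (QuotientGroup.mk' Z)) e') ?_ ?_
  · intro hZP f' hf
    rw [hf.unique hM hZ hZP he he']
    exact PLe.refl _ _ _ _
  · intro Q f R g h1 _ ih hZQ f' hf
    obtain ⟨g', hg⟩ := qt_exists hM hZ (hZQ.trans h1.le) h1.right
    exact (qt_nle hM hZ hZQ h1 hf hg).ple.trans (ih (hZQ.trans h1.le) g' hg)

end Cover

theorem qt : QT.{u} := by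
  intro G _ _ M B P e Z _ h hZP hZ
  have hM := h.hM
  have := charP_resField hM
  have := Fintype.ofFinite G
  have := Fintype.ofFinite (G ⧸ Z)
  have hp := h.max.pgroup.to_le hZP
  obtain ⟨e', he'⟩ := qt_exists hM hZ hZP h.max.pair
  obtain ⟨hB', hD', -, -⟩ := isDefectGroup_preimage_of_central hM h.hB hp hZ
    (h.max.isDefectGroup hM h.hB)
  have hb' := isBlk_eBlk hM hB'
  have hmax : IsMax 2 ⊤ ⊤ (eBlk M (inflIrr Z ⁻¹' B)) (P.map (QuotientGroup.mk' Z)) e' := by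
    obtain ⟨f, hf⟩ := h.max.exists_ple hZP
    have h1 := h.max.br_mul_of_ple hf
    have h2 := (hf.left h.max.pair).blk
    rw [cen_top, hZ] at h2
    rw [br_eq_self (hZ ▸ suppIn_top _)] at h1
    obtain rfl := h.max.blk.eq_of_mul_ne_zero le_rfl h2 (h1.symm ▸ h2.ne_zero)
    have h3 : Z.map (QuotientGroup.mk' Z) = ⊥ := by
      rw [Subgroup.map_eq_bot_iff, QuotientGroup.ker_mk']
    have h4 : cen ⊤ (Z.map (QuotientGroup.mk' Z)) = ⊤ := by
      rw [cen_top, h3, eq_top_iff]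
      intro x _ y hy
      rw [mem_bot.1 hy, one_mul, mul_one]
    have h5 : QCov 2 Z Z (eBlk M B) (eBlk M (inflIrr Z ⁻¹' B)) :=
      ⟨⟨hp.map _, h4.symm ▸ hb'⟩, by rw [quotAlg_eBlk (blockIdem_mem_OG hM h.hB), hb'.idem]⟩
    refine ⟨hb', le_rfl, top_le_normalizer_top, (isDefectGroup_iff_isDef_top hM hB').1 hD', he'.1,
      (hb'.br_mul_iff le_rfl (qt_ple hM hZ h.max.pair he' hf le_rfl _ h5) le_top).2 ?_⟩
    rw [h3, br_bot, hb'.idem]
  refine ⟨e', ⟨hM, hB', hmax⟩, fun Q f g hZQ h1 h2 v hv => ?_⟩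
  obtain ⟨F, hF⟩ := hmax.exists_isBFS
  obtain ⟨f', hf⟩ := qt_exists hM hZ hZQ (h1.left h.max.pair)
  have h3 := qt_ple hM hZ h.max.pair he' h1 hZQ f' hf
  have h4 := qt_ple hM hZ h.max.pair he' h2
    (by rw [← cjs_of_normal Z g]; exact cjs_mono g hZQ) _ (hf.cj g)
  rw [qt_cjs] at h4
  exact fus_of_mor hmax hF (hF.mor_conj h3 (mem_top (g : G ⧸ Z)) h4) ⟨v, hv, rfl⟩

end CL.KB

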