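/-
Lower bounds for the number of irreducible characters lying over a character of a central subgroup.
-/
import Cfsg.Agent.Blk.NormDef
import Cfsg.Agent.Blk.PrincCrit2
import Cfsg.Agent.Blk.FongP
import Cfsg.Agent.Char.GoodClass
import Cfsg.Agent.S4607

set_option autoImplicit false

open Cfsg CL.Char CL.Grp Subgroup

namespace CL.Blk.K3

variable {H : Type*} [Group H]

/-- The irreducible characters on which `Z` acts by the same scalars as on `χ₀`. -/
def cs (Z : Subgroup H) (χ₀ : IrrCharacter H) : Set (IrrCharacter H) :=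
  {χ | ∀ z ∈ Z, (χ : H → ℂ) z / (χ : H → ℂ) 1 = (χ₀ : H → ℂ) z / (χ₀ : H → ℂ) 1}

theorem normal_of_le_center {Z : Subgroup H} (hZ : Z ≤ center H) : Z.Normal :=
  ⟨fun z hz g => by rwa [mem_center_iff.1 (hZ hz) g, mul_inv_cancel_right]⟩

theorem comm_of_le_center {Z : Subgroup H} (hZ : Z ≤ center H) (a b : Z) : a * b = b * a :=
  Subtype.ext (mem_center_iff.1 (hZ b.2) a)

variable [Finite H]

theorem cs_eq_overSet {Z : Subgroup H} (hZ : Z ≤ center H) {χ₀ : IrrCharacter H} {θ : IrrCharacter Z}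
    (h : Over Z (χ₀ : H → ℂ) (θ : Z → ℂ)) : cs Z χ₀ = overSet Z {θ} := by
  have := normal_of_le_center hZ
  ext χ
  rw [mem_overSet_singleton]
  refine ⟨fun h1 => ?_, fun h1 z hz => (h1.apply_eq_of_center (z := ⟨z, hz⟩) (hZ hz)).trans
    (h.apply_eq_of_center (z := ⟨z, hz⟩) (hZ hz)).symm⟩
  obtain ⟨θ', h2⟩ := exists_over Z χ
  obtain rfl : θ' = θ := Subtype.ext (funext fun z => by
    have h3 := h2.apply_eq_of_center (hZ z.2)
    rwa [h1 z z.2, h.apply_eq_of_center (hZ z.2), θ.2.one_eq_one_of_comm (comm_of_le_center hZ),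
      θ'.2.one_eq_one_of_comm (comm_of_le_center hZ), div_one, div_one, eq_comm] at h3)
  exact h2

open Classical in
theorem sum_sq_cs {Z : Subgroup H} (hZ : Z ≤ center H) (χ₀ : IrrCharacter H) :
    ∑ χ : IrrCharacter H with χ ∈ cs Z χ₀, charDegree (χ : H → ℂ) ^ 2 = Z.index := by
  have := normal_of_le_center hZ
  obtain ⟨θ, h⟩ := exists_over Z χ₀
  have h1 := sum_sq_overSet (A := {θ}) (isInvSet_singleton_iff.2 fun g n => congrArg _ (Subtype.ext (by
    rw [coe_mk, mem_center_iff.1 (hZ n.2) g, mul_inv_cancel_right])))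
  rw [cs_eq_overSet hZ h]
  refine h1.trans ?_
  · rw [Finset.sum_eq_single θ (fun b hb h => (h (by simpa using hb)).elim) (by simp),
      charDegree_eq_one_of_comm (comm_of_le_center hZ) θ.2, one_pow, mul_one]

theorem three_le_card_block {r : ℕ} [Fact r.Prime] {M : Ideal AlgInt} (hM : IsPModular r M) (h2 : r ≠ 2)
    {B : Set (IrrCharacter H)} (hB : IsPBlock M B) (h0 : blockDefect r B ≠ 0) : 3 ≤ Nat.card B := by
  obtain ⟨D, hD⟩ := exists_isDefectGroup hM hB
  have h1 := (blockDefect_eq_zero_iff_card hM hB).not.1 h0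
  have h3 : Nat.card B ≠ 2 := fun e => h2 ((Nat.prime_dvd_prime_iff_eq Fact.out Nat.prime_two).1 (by
    rw [← (Cfsg.Agent.S4607.result r M hM B hB D hD).1 e, card_defectGroup hM hB hD]
    exact dvd_pow_self r h0))
  have := (pblock_nonempty hM hB).to_subtype
  have := Nat.card_pos (α := B)
  omega

theorem three_le_cs_of_not_dvd {r : ℕ} [hr : Fact r.Prime] (h2 : r ≠ 2) {Z : Subgroup H} (hZ : Z ≤ center H)
    (h1 : ¬ r ∣ Nat.card Z) (h3 : r ∣ Z.index) (χ₀ : IrrCharacter H) : 3 ≤ Nat.card (cs Z χ₀) := by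
  classical
  have := normal_of_le_center hZ
  obtain ⟨M, hM⟩ := exists_isPModular' hr.1
  have h4 : (Nat.card H).factorization r = Z.index.factorization r := by
    rw [← Z.card_mul_index, Nat.factorization_mul Nat.card_pos.ne' Z.index_ne_zero_of_finite, Finsupp.add_apply,
      Nat.factorization_eq_zero_of_not_dvd h1, zero_add]
  obtain ⟨χ, hχ, h5⟩ : ∃ χ ∈ cs Z χ₀, ¬ r ^ Z.index.factorization r ∣ charDegree (χ : H → ℂ) := by
    by_contra! h5
    have h6 : (r ^ Z.index.factorization r) ^ 2 ∣ Z.index := by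
      conv_rhs => rw [← sum_sq_cs hZ χ₀]
      exact Finset.dvd_sum fun χ hχ => pow_dvd_pow_of_dvd (h5 χ (by simpa using hχ)) 2
    rw [← pow_mul, hr.1.pow_dvd_iff_le_factorization Z.index_ne_zero_of_finite] at h6
    have := hr.1.factorization_pos_of_dvd Z.index_ne_zero_of_finite h3
    omega
  have hB := isPBlock_blockOf_irr M χ
  refine (three_le_card_block hM h2 hB fun e => h5 ?_).trans (Nat.card_mono (Set.toFinite _) fun ψ hψ => ?_)
  · have := factorization_charDegree_add_blockDefect (p := r) (self_mem_blockOf hM χ)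
    rw [hr.1.pow_dvd_iff_le_factorization (irr_charDegree_ne_zero χ)]
    omega
  · obtain ⟨θ, h⟩ := exists_over Z χ₀
    rw [cs_eq_overSet hZ h, mem_overSet_singleton] at hχ ⊢
    exact over_of_mem_block_of_not_dvd hM h1 hB (self_mem_blockOf hM χ) hψ hχ

theorem card_cs_quot_le {N Z : Subgroup H} [N.Normal] (χ₀ : IrrCharacter (H ⧸ N)) :
    Nat.card (cs (Z.map (QuotientGroup.mk' N)) χ₀) ≤ Nat.card (cs Z (inflIrr N χ₀)) :=
  Nat.card_le_card_of_injective (fun χ => ⟨inflIrr N χ.1, fun z hz => χ.2 z ⟨z, hz, rfl⟩⟩)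
    fun _ _ h => Subtype.ext (inflIrr_injective (congrArg Subtype.val h))

/-- The product with a linear character. -/
def tw (τ : H →* ℂˣ) (χ : IrrCharacter H) : IrrCharacter H :=
  ⟨(fun g => (τ g : ℂ)) * (χ : H → ℂ), χ.2.linear_mul (isIrrCharacter_linear τ).isCharacter (by simp)⟩

theorem tw_apply (τ : H →* ℂˣ) (χ : IrrCharacter H) (g : H) :
    (tw τ χ : H → ℂ) g = τ g * (χ : H → ℂ) g := rfl

theorem card_cs_tw_le (Z : Subgroup H) (τ : H →* ℂˣ) (χ₀ : IrrCharacter H) :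
    Nat.card (cs Z (tw τ χ₀)) ≤ Nat.card (cs Z χ₀) := by
  refine Nat.card_le_card_of_injective (fun χ => ⟨tw τ⁻¹ χ.1, fun z hz => ?_⟩) fun χ ψ h => Subtype.ext
    (Subtype.ext (funext fun g => ?_))
  · have := χ.2 z hz
    simp only [tw_apply, map_one, Units.val_one, one_mul, MonoidHom.inv_apply, Units.val_inv_eq_inv_val,
      mul_div_assoc] at this ⊢
    rw [this, inv_mul_cancel_left₀ (τ z).ne_zero]
  · have := congrFun (congrArg (fun x => x.1.1) h) g
    exact mul_left_cancel₀ (Units.ne_zero _) this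

theorem exists_tw_trivial {r : ℕ} [hr : Fact r.Prime] (R : Sylow r H) (hR : IsMulCommutative R)
    (χ₀ : IrrCharacter H) : ∃ τ : H →* ℂˣ, ∀ z ∈ center H, z ∈ R.1 →
      (tw τ χ₀ : H → ℂ) z = (tw τ χ₀ : H → ℂ) 1 := by
  obtain ⟨ξ, h⟩ := exists_over R.1 χ₀
  obtain ⟨ψ, hψ⟩ := ξ.2.exists_monoidHom_of_comm fun a b => mul_comm' a b
  have hc : (Nat.card R.1).Coprime R.1.index := R.card_coprime_index
  refine ⟨MonoidHom.transfer ψ ^ (-(Nat.card R.1).gcdB R.1.index), fun z hz hzR => ?_⟩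
  have h1 := h.apply_eq_of_center (z := ⟨z, hzR⟩) hz
  rw [hψ, div_eq_iff (irr_one_ne_zero χ₀)] at h1
  have h2 : (⟨z ^ R.1.index, pow_mem hzR _⟩ : R.1) ^ (Nat.card R.1).gcdB R.1.index = ⟨z, hzR⟩ :=
    (powCoprime hc).left_inv ⟨z, hzR⟩
  rw [tw_apply, tw_apply, map_one, MonoidHom.zpow_apply, MonoidHom.transfer_eq_pow ψ z fun k g _ => by
    rw [mul_assoc, ← mem_center_iff.1 (pow_mem hz k) g, inv_mul_cancel_left], zpow_neg, ← map_zpow, h2, h1]
  simp

/-- If a Sylow `r`-subgroup is abelian for an odd prime `r` dividing `|H : Z|` then at least three irreducible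
characters lie over each character of the central subgroup `Z`. -/
theorem three_le_cs {r : ℕ} [hr : Fact r.Prime] (h2 : r ≠ 2) {Z : Subgroup H} (hZ : Z ≤ center H)
    (R : Sylow r H) (hR : IsMulCommutative R) (h3 : r ∣ Z.index) (χ₀ : IrrCharacter H) :
    3 ≤ Nat.card (cs Z χ₀) := by
  obtain ⟨τ, hτ⟩ := exists_tw_trivial R hR χ₀
  have := normal_of_le_center (inf_le_left.trans hZ : Z ⊓ R.1 ≤ center H)
  obtain ⟨χ, hχ⟩ := exists_inflIrr_eq (N := Z ⊓ R.1) fun n hn => hτ n (hZ hn.1) hn.2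
  refine le_trans ?_ (card_cs_tw_le Z τ χ₀)
  rw [hχ]
  refine le_trans (three_le_cs_of_not_dvd h2 ?_ (fun h => ?_) ?_ χ) (card_cs_quot_le χ)
  · rintro _ ⟨z, hz, rfl⟩
    refine mem_center_iff.2 fun g => ?_
    obtain ⟨g, rfl⟩ := QuotientGroup.mk'_surjective _ g
    rw [← map_mul, ← map_mul, mem_center_iff.1 (hZ hz) g]
  · obtain ⟨y, h4⟩ := exists_prime_orderOf_dvd_card' r h
    obtain ⟨z, hz, e⟩ := y.2
    rw [← orderOf_coe, ← e] at h4
    have h5 : z ^ r ∈ R.1 := ((QuotientGroup.eq_one_iff (N := Z ⊓ R.1) _).1 (by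
      have := pow_orderOf_eq_one (QuotientGroup.mk' (Z ⊓ R.1) z); rwa [h4] at this)).2
    have := normal_of_le_center (zpowers_le.2 (hZ hz))
    obtain ⟨k, hk⟩ := R.2 ⟨_, h5⟩
    have h6 : IsPGroup r (zpowers z) := by
      obtain ⟨j, -, hj⟩ := (Nat.dvd_prime_pow hr.1).1 (orderOf_dvd_of_pow_eq_one (x := z) (n := r ^ (k + 1)) (by
        rw [pow_succ', pow_mul]; exact congrArg Subtype.val hk))
      exact IsPGroup.of_card (by rw [Nat.card_zpowers, hj])
    rw [QuotientGroup.mk'_apply, (QuotientGroup.eq_one_iff z).2 (mem_inf.2 ⟨hz, h6.le_sylow_of_normal R (mem_zpowers z)⟩),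
      orderOf_one] at h4
    exact hr.1.ne_one h4.symm
  · rwa [index_map, QuotientGroup.ker_mk', sup_eq_left.2 inf_le_left, MonoidHom.range_eq_top.2
      (QuotientGroup.mk'_surjective _), index_top, mul_one]

/-- If commuting elements of `H / Z` lift to commuting elements, then the number of characters over a
character of `Z` is the class number of `H / Z`. -/
theorem card_cs_eq {Z : Subgroup H} [Z.Normal] (hZ : Z ≤ center H)
    (h : ∀ x g : H, x * g * x⁻¹ * g⁻¹ ∈ Z → x * g * x⁻¹ * g⁻¹ = 1) (χ₀ : IrrCharacter H) :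
    Nat.card (cs Z χ₀) = Nat.card (ConjClasses (H ⧸ Z)) := by
  cases nonempty_fintype H
  cases nonempty_fintype Z
  obtain ⟨θ, h1⟩ := exists_over Z χ₀
  obtain ⟨ψ, hψ⟩ := θ.2.exists_monoidHom_of_comm (comm_of_le_center hZ)
  rw [cs_eq_overSet hZ h1, ← Nat.card_congr (Equiv.subtypeUnivEquiv (p := fun C : ConjClasses (H ⧸ Z) =>
    ∃ g : H, ConjClasses.mk (g : H ⧸ Z) = C ∧ ∀ (x : H) (h : x * g * x⁻¹ * g⁻¹ ∈ Z), ψ ⟨_, h⟩ = 1) fun C => ?_),
    ← good_card_irr_central Z hZ ψ, ← hψ]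
  · exact Nat.card_congr (Equiv.subtypeEquivRight fun χ => mem_overSet_singleton.trans over_iff)
  · obtain ⟨a, rfl⟩ := ConjClasses.exists_rep C
    obtain ⟨g, rfl⟩ := QuotientGroup.mk_surjective a
    exact ⟨g, rfl, fun x hx => by rw [show (⟨_, hx⟩ : Z) = 1 from Subtype.ext (h x g hx), map_one]⟩

theorem card_le_two_of_conjClasses (h : Nat.card (ConjClasses H) ≤ 2) : Nat.card H ≤ 2 := by
  classical
  cases nonempty_fintype (ConjClasses H)
  by_contra! h1
  have := Finite.one_lt_card_iff_nontrivial.1 (one_lt_two.trans h1)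
  obtain ⟨g, hg⟩ := exists_ne (1 : H)
  have h2 : ∀ a : H, a ≠ 1 → ConjClasses.mk a ≠ ConjClasses.mk 1 := fun a ha e =>
    ha (isConj_one_left.1 (ConjClasses.mk_eq_mk_iff_isConj.1 e))
  have h3 : MulAction.orbit (ConjAct H) g = {1}ᶜ := by
    ext a
    rw [ConjAct.mem_orbit_conjAct, Set.mem_compl_singleton_iff]
    refine ⟨fun h3 e => hg (isConj_one_right.1 (e ▸ h3)), fun h3 => by_contra fun h4 => ?_⟩
    have := Finset.card_le_univ {ConjClasses.mk 1, ConjClasses.mk a, ConjClasses.mk g}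
    rw [Finset.card_eq_three.2 ⟨_, _, _, (h2 a h3).symm, (h2 g hg).symm,
      fun e => h4 (ConjClasses.mk_eq_mk_iff_isConj.1 e), rfl⟩, ← Nat.card_eq_fintype_card] at this
    omega
  have h4 := (MulAction.stabilizer (ConjAct H) g).index_dvd_card
  rw [MulAction.index_stabilizer, h3, Set.ncard_compl, Set.ncard_singleton,
    show Nat.card (ConjAct H) = Nat.card H - 1 + 1 from (Nat.sub_add_cancel (Nat.card_pos (α := H))).symm,
    Nat.dvd_add_self_left, Nat.dvd_one] at h4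
  omega

end CL.Blk.K3
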