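/-
A central extension acting transitively on the non-identity elements of an elementary abelian group, with at most
two irreducible characters over a character of the kernel.
-/
import Cfsg.Agent.Blk.KThree1
import Cfsg.Agent.Perm.FCCrit
import Cfsg.Agent.Perm.FCGroup
import Cfsg.Agent.Grp.Frob
import Cfsg.Agent.S2904

set_option autoImplicit false

open Cfsg CL.Char CL.Grp CL.Perm Subgroup

namespace CL.Blk.K3

theorem sq_add_sq_ne (j : ℕ) : ∀ m x y : ℕ, m % 4 = 3 → x ^ 2 + y ^ 2 ≠ 2 ^ j * m := by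
  have h4 : ∀ x : ℕ, x % 2 = 0 ∧ (x ^ 2 % 8 = 0 ∨ x ^ 2 % 8 = 4) ∨ x ^ 2 % 8 = 1 := fun x => by
    have : x % 8 < 8 := Nat.mod_lt _ (by norm_num)
    rw [Nat.pow_mod, ← Nat.mod_mod_of_dvd x (by norm_num : 2 ∣ 8)]
    interval_cases x % 8 <;> simp
  induction j using Nat.twoStepInduction with
  | zero => intro m x y hm e; have := h4 x; have := h4 y; omega
  | one => intro m x y hm e; have := h4 x; have := h4 y; omega
  | more j ih _ =>
    intro m x y hm e
    have h1 := h4 x; have h2 := h4 y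
    rw [pow_add, mul_comm (2 ^ j), mul_assoc] at e
    obtain ⟨a, rfl⟩ : 2 ∣ x := by omega
    obtain ⟨b, rfl⟩ : 2 ∣ y := by omega
    exact ih m a b hm (by rw [mul_pow, mul_pow] at e; omega)

theorem mul_sq_add_sq_ne {j m a b c : ℕ} (hm : m % 4 = 3) (h0 : a ^ 2 + b ^ 2 ≠ 0) :
    c ^ 2 ≠ 2 ^ j * m * (a ^ 2 + b ^ 2) := fun e => by
  obtain ⟨i, s, ⟨t, rfl⟩, hs⟩ := Nat.exists_eq_two_pow_mul_odd h0
  refine sq_add_sq_ne (j + 2 * i) (m * (2 * t + 1) ^ 2) (c * a) (c * b) ?_ ?_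
  · rw [show m * (2 * t + 1) ^ 2 = m + 4 * (m * (t ^ 2 + t)) by ring]; omega
  · rw [mul_pow, mul_pow, ← mul_add, e, hs]; ring

variable {H V : Type*} [Group H] [Finite H] [Group V] [Finite V] (ρ : H →* MulAut V)

omit [Finite H] [Finite V] in
theorem comm_of_isCyclic_map (hZ : ρ.ker ≤ center H) {A : Subgroup H} (h : IsCyclic (A.map ρ)) :
    IsMulCommutative A :=
  (ρ.subgroupMap A).isMulCommutative_of_isCyclic_of_ker_le_center fun _ hx => mem_center_iff.2 fun y =>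
    Subtype.ext (mem_center_iff.1 (hZ (congrArg Subtype.val hx)) y)

omit [Finite H] in
theorem isFpf_map [Nontrivial V] {A : Subgroup H} (h : ∀ g ∈ A, ∀ v, v ≠ 1 → ρ g v = v → ρ g = 1) :
    IsFpf (A.map ρ) :=
  isFpf_of_mulAut (A.map ρ).subtype fun ⟨_, g, hg, rfl⟩ h1 v hv => by_contra fun h2 =>
    h1 (Subtype.ext (h g hg v h2 hv))

theorem index_le_two_of_fpf [Nontrivial V] (hZ : ρ.ker ≤ center H) {χ₀ : IrrCharacter H}
    (h2 : Nat.card (cs ρ.ker χ₀) ≤ 2) (h : ∀ g v, v ≠ 1 → ρ g v = v → ρ g = 1) : ρ.ker.index ≤ 2 := by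
  refine card_le_two_of_conjClasses (card_cs_eq hZ (fun x g hx => ?_) χ₀ ▸ h2)
  have h3 : IsMulCommutative ((closure {x, g}).map ρ) := by
    rw [MonoidHom.map_closure, Set.image_pair]
    have h4 : ρ x * ρ g = ρ g * ρ x := by simpa [mul_inv_eq_iff_eq_mul] using hx
    exact isMulCommutative_closure (by rintro _ (rfl | rfl) _ (rfl | rfl) <;> simp [h4])
  have := comm_of_isCyclic_map ρ hZ (isFpf_map ρ (A := closure {x, g}) fun g _ => h g).isCyclic_of_isMulCommutative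
  have h5 := congrArg Subtype.val (mul_comm' (⟨x, subset_closure (by simp)⟩ : closure {x, g}) ⟨g, subset_closure (by simp)⟩)
  simpa [mul_inv_eq_iff_eq_mul] using h5

omit [Finite H] in
theorem card_stab_mul (ht : ∀ v w : V, v ≠ 1 → w ≠ 1 → ∃ g, ρ g v = w) {v : V} (hv : v ≠ 1) :
    Nat.card (MulAction.stabilizer ρ.range v) * (Nat.card V - 1) = ρ.ker.index := by
  have h3 : MulAction.orbit ρ.range v = {1}ᶜ := by
    ext w
    refine ⟨fun ⟨a, ha⟩ e => hv (a.1.injective ((ha.trans e).trans (map_one _).symm)), fun h => ?_⟩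
    obtain ⟨g, rfl⟩ := ht v w hv h
    exact ⟨⟨ρ g, g, rfl⟩, rfl⟩
  rw [index_ker, ← card_mul_index (MulAction.stabilizer ρ.range v), MulAction.index_stabilizer, h3, Set.ncard_compl,
    Set.ncard_singleton]

/-- The subgroup of fixed points of an automorphism. -/
def fixOf (α : MulAut V) : Subgroup V := α.toMonoidHom.eqLocus (MonoidHom.id V)

omit [Finite V] in
theorem eq_one_of_fixOf {α : MulAut V} (h : fixOf α = ⊤) : α = 1 :=
  MulEquiv.ext fun v => (h ▸ mem_top v : v ∈ fixOf α)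

theorem eq_one_of_primitive {p n r : ℕ} (hp : p.Prime) [hr : Fact r.Prime] (hV : Nat.card V = p ^ n)
    (h1 : r ∣ p ^ n - 1) (h2 : ∀ k, 0 < k → k < n → ¬ r ∣ p ^ k - 1) {α : MulAut V} (hα : IsPGroup r (zpowers α))
    {v : V} (hv : v ≠ 1) (h : α v = v) : α = 1 := by
  obtain ⟨j, hj, e⟩ := (Nat.dvd_prime_pow hp).1 (hV ▸ (fixOf α).card_subgroup_dvd_card)
  have h3 := hα.card_modEq_card_fixedPoints V
  have h4 : MulAction.fixedPoints (zpowers α) V = fixOf α := by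
    ext w
    refine ⟨fun h => h ⟨α, mem_zpowers α⟩, fun h ⟨a, ha⟩ => ?_⟩
    exact (zpowers_le.2 h : zpowers α ≤ MulAction.stabilizer (MulAut V) w) ha
  rw [h4, hV, SetLike.coe_sort_coe, e] at h3
  have h5 : j ≠ 0 := fun h0 => hv (mem_bot.1 ((card_eq_one.1 (by rw [e, h0, pow_zero]) : fixOf α = ⊥) ▸ h))
  refine eq_one_of_fixOf (eq_top_of_card_eq _ (by_contra fun h6 => h2 (n - j) ?_ (by omega) ?_))
  · exact Nat.sub_pos_of_lt (lt_of_le_of_ne hj fun h7 => h6 (by rw [e, hV, h7]))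
  · have h7 := (Nat.modEq_iff_dvd' (Nat.pow_le_pow_right hp.pos hj)).1 h3.symm
    rw [show p ^ n - p ^ j = p ^ j * (p ^ (n - j) - 1) by
      rw [Nat.mul_sub, ← pow_add, Nat.add_sub_cancel' hj, mul_one]] at h7
    refine (hr.1.dvd_mul.1 h7).resolve_left fun h8 => hr.1.one_lt.ne' (Nat.dvd_one.1 ?_)
    have h9 := Nat.dvd_sub (h8.trans (pow_dvd_pow p hj)) h1
    rwa [Nat.sub_sub_self (Nat.one_le_pow _ _ hp.pos)] at h9

omit [Finite H] in
theorem card_stab_dvd {p : ℕ} [hp : Fact p.Prime] (hV : Nat.card V = p ^ 2) {v : V} (hv : orderOf v = p) :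
    Nat.card (MulAction.stabilizer ρ.range v) ∣ p ^ 2 - p := by
  have h1 := card_dvd_card_of_free_on (A := MulAction.stabilizer ρ.range v) (zpowers v : Set V)ᶜ
    (fun a x hx h => hx ?_) fun a x hx h => Subtype.ext (Subtype.ext (eq_one_of_fixOf ?_))
  · rwa [Nat.card_coe_set_eq, Set.ncard_compl, hV, ← Nat.card_coe_set_eq, SetLike.coe_sort_coe, Nat.card_zpowers,
      hv] at h1
  · obtain ⟨k, hk⟩ := h
    exact ⟨k, a.1.1.injective ((map_zpow _ _ _).trans ((congrArg (· ^ k) a.2).trans hk))⟩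
  · have h2 : zpowers v < fixOf a.1.1 := lt_of_le_of_ne (zpowers_le.2 a.2) fun e => hx (e ▸ h : x ∈ zpowers v)
    obtain ⟨j, hj, e⟩ := (Nat.dvd_prime_pow hp.1).1 (hV ▸ (fixOf a.1.1).card_subgroup_dvd_card)
    have h3 := card_lt_card_of_lt h2
    rw [Nat.card_zpowers, hv, e] at h3
    have h4 : 1 < j := (Nat.pow_lt_pow_iff_right hp.1.one_lt).1 (by rwa [pow_one])
    exact eq_top_of_card_eq _ (by rw [e, hV, le_antisymm hj h4])

theorem card_le_three {p : ℕ} [hp : Fact p.Prime] (hV : ∀ v : V, v ^ p = 1) (hZ : ρ.ker ≤ center H)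
    (ht : ∀ v w : V, v ≠ 1 → w ≠ 1 → ∃ g, ρ g v = w) {χ₀ : IrrCharacter H}
    (h2 : Nat.card (cs ρ.ker χ₀) ≤ 2) {a b c t : ℕ} (h0 : t ≠ 0) (hab : a ^ 2 + b ^ 2 = ρ.ker.index * t ^ 2)
    (hc : c ^ 2 = (Nat.card V - 1) * (ρ.ker.index * t ^ 2)) : Nat.card V ≤ 3 := by
  by_contra! h3
  have := Finite.one_lt_card_iff_nontrivial.1 (lt_trans (by norm_num) h3)
  obtain ⟨v₀, hv₀⟩ := exists_ne (1 : V)
  have hfpf : ¬ ∀ g v, v ≠ 1 → ρ g v = v → ρ g = 1 := fun h => by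
    have h4 := Nat.le_of_dvd (Nat.pos_of_ne_zero index_ne_zero_of_finite) (Dvd.intro_left _ (card_stab_mul ρ ht hv₀))
    have := index_le_two_of_fpf ρ hZ h2 h
    omega
  have hsq : ∀ j m, m % 4 = 3 → Nat.card V - 1 ≠ 2 ^ j * m := fun j m hm e => mul_sq_add_sq_ne (j := j) (c := c) hm
    (hab ▸ mul_ne_zero index_ne_zero_of_finite (pow_ne_zero 2 h0)) (by rw [hc, e, hab])
  obtain ⟨n, hn⟩ := IsPGroup.iff_card.1 (fun v => ⟨1, by rw [pow_one, hV]⟩ : IsPGroup p V)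
  have hn1 : 1 < n := by
    by_contra! h
    refine hfpf fun g v hv e => eq_one_of_fixOf (((fixOf (ρ g)).eq_bot_or_eq_top_of_prime_card (hp := ⟨?_⟩)).resolve_left
      fun h5 => hv (mem_bot.1 (h5 ▸ e)))
    interval_cases n
    · rw [hn, pow_zero] at h3; omega
    · rw [hn, pow_one]; exact hp.1
  have hp2 : p ≠ 2 := by
    rintro rfl
    refine hsq 0 (2 ^ n - 1) ?_ (by rw [hn, pow_zero, one_mul])
    obtain ⟨k, rfl⟩ := Nat.exists_eq_add_of_le' hn1
    have := Nat.one_le_two_pow (n := k)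
    rw [pow_add]; omega
  by_cases h4 : n = 2 ∧ ∃ m : ℕ, p + 1 = 2 ^ m
  · obtain ⟨rfl, m, hm⟩ := h4
    have := hp.1.two_le
    obtain _ | _ | _ | m := m
    · omega
    · omega
    · obtain rfl : p = 3 := by omega
      refine hfpf fun g v hv e => ?_
      have h5 := card_stab_dvd ρ hn (orderOf_eq_prime (hV v) hv)
      have h6 := card_stab_mul ρ ht hv
      set s := Nat.card (MulAction.stabilizer ρ.range v)
      have h7 : s = 1 := by
        obtain ⟨d, h8⟩ : ∃ d, s = d * d := by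
          rw [← h6, hn, show (3 ^ 2 - 1) * (s * (3 ^ 2 - 1) * t ^ 2) = (8 * t) ^ 2 * s by norm_num; ring] at hc
          obtain ⟨d, rfl⟩ := (Nat.pow_dvd_pow_iff two_ne_zero).1 (Dvd.intro _ hc.symm)
          exact ⟨d, Nat.eq_of_mul_eq_mul_left (by positivity) (hc.symm.trans (by ring))⟩
        rw [h8] at h5 ⊢
        have := Nat.le_of_dvd (by norm_num) ((Dvd.intro _ rfl).trans h5)
        interval_cases d <;> first | rfl | exact absurd h5 (by decide)
      exact congrArg Subtype.val (mem_bot.1 (card_eq_one.1 h7 ▸ e : (⟨ρ g, g, rfl⟩ : ρ.range) ∈ ⊥))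
    · have := Nat.one_le_two_pow (n := m)
      refine hsq (m + 4) (4 * 2 ^ m - 1) (by omega) ?_
      obtain ⟨k, hk⟩ := Nat.exists_eq_add_of_le' this
      obtain rfl : p = 8 * k + 7 := by rw [pow_succ, pow_succ, pow_succ, hk] at hm; omega
      rw [hn, pow_add, hk, show 4 * (k + 1) - 1 = 4 * k + 3 by omega]
      exact Nat.sub_eq_of_eq_add (by ring)
  · obtain ⟨r, hr, h5, h6⟩ := Cfsg.Agent.S2904.result p n hp.1.one_lt hn1 (fun h => hp2 h.1) h4
    have := Fact.mk hr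
    have h7 : r ≠ 2 := by
      rintro rfl
      exact h6 1 one_pos hn1 (by rw [pow_one]; exact (hp.1.even_sub_one hp2).two_dvd)
    obtain ⟨R⟩ : Nonempty (Sylow r H) := inferInstance
    have h8 : IsFpf (R.1.map ρ) := isFpf_map ρ fun g hg v hv e => eq_one_of_primitive hp.1 hn h5 h6
      ((R.2.map ρ).to_le (zpowers_le.2 ⟨g, hg, rfl⟩)) hv e
    have h9 : IsCyclic (R.1.map ρ) := isCyclic_of_surjective (⊤ : Subgroup (R.1.map ρ)).subtype
      (hH := h8.isCyclic_of_isPGroup_odd h7 ((R.2.map ρ).to_subgroup ⊤)) fun x => ⟨⟨x, trivial⟩, rfl⟩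
    have := three_le_cs h7 hZ R (comm_of_isCyclic_map ρ hZ h9) (card_stab_mul ρ ht hv₀ ▸ (hn ▸ h5).mul_left _) χ₀
    omega

end CL.Blk.K3
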