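/-
Blocks with a normal abelian defect group and exactly three irreducible characters.
-/
import Cfsg.Agent.Blk.KThree2
import Cfsg.Agent.Blk.RkQuot
import Cfsg.Agent.Blk.PrincLen
import Cfsg.Agent.S4606
import Cfsg.Agent.S4648

set_option autoImplicit false

open Cfsg CL.Char CL.Grp CL.Blk.Pair Subgroup

namespace CL.Blk.K3

universe u

variable {G : Type u} [Group G] [Finite G] {p : ℕ} {M : Ideal AlgInt}

theorem exists_model {A : Type*} [Group A] (σ : G →* A) {K : Subgroup G} [K.Normal] (hK : K = σ.ker)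
    {θ : IrrCharacter K} (hθ : IsInvSet {θ}) :
    ∃ (H : Type u) (_ : Group H) (_ : Finite H) (ρ : H →* A), ρ.ker ≤ center H ∧ ρ.range = σ.range ∧
      ∃ χ₀, Nat.card (cs ρ.ker χ₀) ≤ Nat.card (overSet K {θ}) := by
  cases nonempty_fintype K
  obtain ⟨C⟩ := nonempty_charCover K θ.2 (isInvSet_singleton_iff.1 hθ)
  let ρ : C.Γ ⧸ C.ι.range →* A := QuotientGroup.lift _ (σ.comp C.π) (by
    rintro _ ⟨n, rfl⟩
    rw [MonoidHom.mem_ker, MonoidHom.comp_apply, C.π_ι]
    exact hK.le n.2)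
  have h1 : ∀ z : C.π.ker, ((z : C.Γ) : C.Γ ⧸ C.ι.range) ∈ ρ.ker := fun z => by
    change σ (C.π z) = 1
    rw [z.2, map_one]
  have h2 : ∀ z : C.π.ker, ((z : C.Γ) : C.Γ ⧸ C.ι.range) ∈ center _ := fun z => mem_center_iff.2 fun y => by
    obtain ⟨y, rfl⟩ := QuotientGroup.mk_surjective y
    rw [← QuotientGroup.mk_mul, C.ker_comm, QuotientGroup.mk_mul]
  obtain ⟨χ, hχ⟩ := exists_under θ
  obtain ⟨β₀, h0⟩ := exists_coverIrr C hχ
  refine ⟨_, _, inferInstance, ρ, fun x hx => ?_, ?_, β₀, ?_⟩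
  · obtain ⟨x, rfl⟩ := QuotientGroup.mk_surjective x
    obtain ⟨z, e⟩ := C.exists_eq_ι_mul (x := x) (hK.ge hx)
    rw [e, QuotientGroup.mk_mul, (QuotientGroup.eq_one_iff _).2 (MonoidHom.mem_range.2 ⟨_, rfl⟩), one_mul]
    exact h2 z
  · ext a
    refine ⟨fun ⟨x, e⟩ => ?_, fun ⟨g, e⟩ => ?_⟩
    · obtain ⟨x, rfl⟩ := QuotientGroup.mk_surjective x
      exact ⟨_, e⟩
    · obtain ⟨x, rfl⟩ := C.π_surj g
      exact ⟨x, e⟩
  · have h3 : ∀ β : cs ρ.ker β₀, ∃ ψ : overSet K {θ},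
        (fun x => (ψ.1 : G → ℂ) (C.π x)) = (inflIrr C.ι.range β.1 : C.Γ → ℂ) * C.ext := fun β => by
      obtain ⟨ψ, h4, h5, h6⟩ := C.exists_irr_base (inflIrr _ β.1).2 (le_charKer_inflIrr _) fun z x => by
        have h7 := C.factor_ker_mul (le_charKer_inflIrr _) h0 z 1
        rw [mul_one, inflIrr_apply, inflIrr_apply_one, ← div_eq_iff (irr_one_ne_zero _), ← β.2 _ (h1 z)] at h7
        rw [inflIrr_apply, inflIrr_apply, QuotientGroup.mk_mul, apply_mul_of_mem_charCenter (irr_one_ne_zero _)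
          (β.1.2.center_le_charCenter (h2 z)), h7]
      exact ⟨⟨⟨ψ, h4⟩, mem_overSet_singleton.2 (over_iff.2 (h5.trans_ne (irr_one_ne_zero _)))⟩, h6⟩
    choose f hf using h3
    exact Nat.card_le_card_of_injective f fun β β' e => Subtype.ext (coverIrr_unique C (hf β) (e ▸ hf β'))

theorem exists_isClassFunction_eq_on_pRegular' [hp : Fact p.Prime] {N : Subgroup G} [N.Normal] (hN : IsPGroup p N)
    {χ : G → ℂ} (hχ : IsClassFunction G χ) :
    ∃ f : G ⧸ N → ℂ, IsClassFunction (G ⧸ N) f ∧ ∀ g : G, ¬ p ∣ orderOf g → f g = χ g := by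
  classical
  let f : G ⧸ N → ℂ := fun q =>
    if h : ¬ p ∣ orderOf q then χ (exists_not_dvd_orderOf_mk_eq hp.1 h).choose else 0
  have hf : ∀ g : G, ¬ p ∣ orderOf g → f g = χ g := fun g hg => by
    have h1 : ¬ p ∣ orderOf (g : G ⧸ N) := fun h => hg (h.trans (orderOf_map_dvd (QuotientGroup.mk' N) g))
    obtain ⟨h2, h3⟩ := (exists_not_dvd_orderOf_mk_eq hp.1 h1).choose_spec
    simp only [f, dif_pos h1]
    obtain ⟨c, hc⟩ := isConj_iff.1 (isConj_mul_of_pRegular_of_normal hN (QuotientGroup.eq.1 h2) h3 (by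
      rwa [mul_inv_cancel_left]))
    rw [mul_inv_cancel_left] at hc
    conv_rhs => rw [← hc, hχ]
  refine ⟨f, fun q x => ?_, hf⟩
  have ho : orderOf (x * q * x⁻¹) = orderOf q := (MulAut.conj x).orderOf_eq q
  by_cases h : p ∣ orderOf q
  · simp only [f, ho, h, not_true_eq_false, dite_false]
  · obtain ⟨g, rfl, hg⟩ := exists_not_dvd_orderOf_mk_eq hp.1 h
    obtain ⟨y, rfl⟩ := QuotientGroup.mk_surjective x
    rw [← QuotientGroup.mk_inv, ← QuotientGroup.mk_mul, ← QuotientGroup.mk_mul, hf g hg, hf, hχ]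
    rwa [show orderOf (y * g * y⁻¹) = orderOf g from (MulAut.conj y).orderOf_eq g]

/-- The `p`-regular rank of a block is attained on the characters trivial on a normal `p`-subgroup. -/
theorem blockRank_le_of_normal [hp : Fact p.Prime] (hM : IsPModular p M) {N : Subgroup G} [N.Normal]
    (hN : IsPGroup p N) {B : Set (IrrCharacter G)} (hB : IsPBlock M B) {S : Set (IrrCharacter G)}
    (hS : ∀ χ ∈ B, (∀ n ∈ N, (χ : G → ℂ) n = (χ : G → ℂ) 1) → χ ∈ S) : blockRank p B ≤ blockRank p S := by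
  classical
  have := Fintype.ofFinite G
  have := Fintype.ofFinite (G ⧸ N)
  let T : (G ⧸ N → ℂ) →ₗ[ℂ] (G → ℂ) := Rk.pRegLin p ∘ₗ LinearMap.funLeft ℂ ℂ QuotientGroup.mk
  have hT : ∀ f, T f = pRegularPart p (f ∘ QuotientGroup.mk) := fun _ => rfl
  refine Submodule.finrank_mono (Submodule.span_le.2 ?_)
  rintro _ ⟨χ, hχ, rfl⟩
  obtain ⟨f, hf, hfχ⟩ := exists_isClassFunction_eq_on_pRegular' hN χ.2.isClassFunction
  have hcl := Rk.regClosed_of_isPBlock hM hB
  have h1 : pRegularPart p (χ : G → ℂ) =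
      ∑ ψ : IrrCharacter (G ⧸ N), classInner f ψ • pRegularPart p (inflIrr N ψ : G → ℂ) := by
    have h2 : pRegularPart p (χ : G → ℂ) = T f := by
      rw [hT, Rk.pReg_eq_iff]
      exact fun g hg => (hfχ g hg).symm
    conv_lhs => rw [h2, hf.eq_sum_irr, map_sum]
    exact Finset.sum_congr rfl fun ψ _ => map_smul T _ _
  simp only [SetLike.mem_coe]
  rw [← hcl.blockPart_pReg_irr hχ, h1, Rk.blockPart_sum]
  refine Submodule.sum_mem _ fun ψ _ => ?_
  rw [Rk.blockPart_smul, hcl.blockPart_pReg (inflIrr N ψ).2.isClassFunction]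
  refine Submodule.smul_mem _ _ ?_
  by_cases h : inflIrr N ψ ∈ B
  · rw [Rk.blockPart_irr_of_mem h]
    exact Submodule.subset_span ⟨_, hS _ h fun n hn => inflIrr_apply_of_mem ψ hn, rfl⟩
  · rw [Rk.blockPart_irr_of_notMem h, Rk.pReg_zero]
    exact Submodule.zero_mem _

theorem Over.apply_eq_one {K : Subgroup G} {χ : IrrCharacter G} {θ : IrrCharacter K}
    (h : Over K (χ : G → ℂ) (θ : K → ℂ)) {x : K} (hx : (χ : G → ℂ) x = (χ : G → ℂ) 1) :
    (θ : K → ℂ) x = (θ : K → ℂ) 1 := by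
  cases nonempty_fintype K
  have h1 := χ.2.isCharacter.restrict K
  exact apply_eq_one_of_mem_charKer (h1.charKer_le_of_classInner_ne_zero θ.2 (over_iff.1 h) (h1.mem_charKer.2 hx))

open Classical in
theorem sum_sq_of_const {K : Subgroup G} [K.Normal] {A : Set (IrrCharacter K)} (hA : IsInvSet A) {t : ℕ}
    (ht : ∀ ψ ∈ A, charDegree (ψ : K → ℂ) = t) :
    ∑ χ : IrrCharacter G with χ ∈ overSet K A, charDegree (χ : G → ℂ) ^ 2 = A.ncard * (K.index * t ^ 2) := by
  rw [sum_sq_overSet hA, Finset.sum_congr rfl fun ψ hψ => by rw [ht ψ (by simpa using hψ)], Finset.sum_const,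
    smul_eq_mul, mul_left_comm, ← Set.ncard_coe_finset]
  simp

open Classical in
theorem sum_sq_eq_finsum (S : Set (IrrCharacter G)) :
    ∑ χ : IrrCharacter G with χ ∈ S, charDegree (χ : G → ℂ) ^ 2 = ∑ᶠ χ ∈ S, charDegree (χ : G → ℂ) ^ 2 := by
  rw [← finsum_mem_coe_finset]
  simp

variable [hp : Fact p.Prime]

theorem card_eq_three_of_stable (hM : IsPModular p M) {B : Set (IrrCharacter G)} (hB : IsPBlock M B)
    {V : Subgroup G} [V.Normal] (hV : IsDefectGroup p M B V) (hc : IsMulCommutative V) (hk : Nat.card B = 3)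
    {K : Subgroup G} [K.Normal] (hK : K = V ⊔ centralizer (V : Set G)) {b : Set (IrrCharacter K)}
    (hb : IsInducedBlock M K b B) (hbV : IsDefectGroup p M b (V.subgroupOf K)) (hinv : IsInvSet b) :
    Nat.card V = 3 := by
  cases nonempty_fintype G
  have hVp := ((isDefectGroup_iff_maximal hM hB).1 hV).1
  have hVK : V ≤ K := hK ▸ le_sup_left
  have hb' := hb.1
  have h1 : Nat.card V ≠ 1 := fun e => by
    rw [card_defectGroup hM hB hV, Nat.pow_eq_one, or_iff_right hp.1.ne_one, blockDefect_eq_zero_iff_card hM hB] at e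
    omega
  have h2 : Nat.card V ≠ 2 := fun e => by
    have := (Cfsg.Agent.S4607.result p M hM B hB V hV).2 e
    omega
  have h3 := Nat.card_pos (α := V)
  by_cases hl : blockRank p B = 1
  · exact ((Cfsg.Agent.S4648.result p M hM B hB V hV (fun e => h1 (by simp [e])) hl (by omega)).2.1).trans hk
  have hl2 := Rk.blockRank_pos (p := p) hp.1 (pblock_nonempty hM hB)
  have hBe := (covers_of_isInducedBlock hM hb).eq_overSet_of_centralizer_le hM hB hb' hVK hbV (hK ▸ le_sup_right)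
  have hT := subgroupOf_sup_centralizer_eq_top hK
  obtain ⟨θ, hθ, hθ1, -, hθu⟩ := dc_exists_canon hM hb' hbV hT
  have hcomm : ∀ a c : V.subgroupOf K, a * c = c * a := fun a c => mul_comm' a c
  have hi1 : IsInvSet {θ} := fun g ψ h => by
    obtain rfl : ψ = θ := h
    refine hθu _ (hinv g _ hθ) fun x hx => ?_
    rw [conjIrr_apply, conjIrr_apply]
    exact (hθ1 _ (‹V.Normal›.conj_mem _ hx g)).trans (hθ1 _ (‹V.Normal›.conj_mem _ V.one_mem g)).symm
  have hi2 : IsInvSet (b \ {θ}) := fun g ψ h => ⟨hinv g _ h.1, fun e => h.2 ((conjIrr g).injective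
    (e.trans (hi1 g θ rfl).symm))⟩
  have hdeg : ∀ ψ ∈ b, charDegree (ψ : K → ℂ) = charDegree (θ : K → ℂ) := fun ψ hψ => by
    obtain ⟨ζ, hζ⟩ := dc_exists_irr hM hb' hbV hT hθ hθ1 hψ
    have := hζ 1 1 (by simpa using hp.1.ne_one)
    rw [ζ.2.one_eq_one_of_comm hcomm, one_mul, coe_one, one_mul] at this
    rw [charDegree, this, charDegree]
  have hcb : (b \ {θ}).ncard = Nat.card V - 1 := by
    rw [Set.ncard_sdiff_singleton_of_mem hθ, ← Nat.card_coe_set_eq, dc_card hM hb' hbV hT, card_irr_of_comm hcomm,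
      Nat.card_congr (subgroupOfEquivOfLe hVK).toEquiv]
  have hs1 := sum_sq_of_const hi1 (t := charDegree (θ : K → ℂ)) fun ψ h => by rw [h]
  have hs2 := sum_sq_of_const hi2 fun ψ h => hdeg ψ h.1
  have hU : B = overSet K {θ} ∪ overSet K (b \ {θ}) := by
    rw [hBe]
    ext χ
    simp only [mem_overSet, Set.mem_union]
    refine ⟨fun ⟨ψ, h, e⟩ => (em (ψ = θ)).imp (fun h' => ⟨ψ, h', e⟩) fun h' => ⟨ψ, ⟨h, h'⟩, e⟩, ?_⟩
    rintro (⟨_, rfl, e⟩ | ⟨ψ, h, e⟩)
    exacts [⟨_, hθ, e⟩, ⟨ψ, h.1, e⟩]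
  have hk' := hk
  rw [Nat.card_coe_set_eq, hU, Set.ncard_union_eq (Set.disjoint_left.2 fun χ h h' =>
    (hi2.mem_of_over h' (mem_overSet_singleton.1 h)).2 rfl)] at hk'
  have h4 : blockRank p B ≤ (overSet K {θ}).ncard := (blockRank_le_of_normal hM hVp hB fun χ hχ h => by
    obtain ⟨ψ, h5, h6⟩ := mem_overSet.1 (hBe ▸ hχ)
    exact mem_overSet.2 ⟨ψ, hθu ψ h5 fun x hx => Over.apply_eq_one h6 (h _ hx), h6⟩).trans (Rk.blockRank_le_card _)
  have ht0 := irr_charDegree_ne_zero θ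
  have h5 : (overSet K (b \ {θ})).ncard ≠ 0 := fun e => by
    rw [sum_sq_eq_finsum, (Set.ncard_eq_zero (Set.toFinite _)).1 e, finsum_mem_empty, hcb] at hs2
    exact mul_ne_zero (by omega) (mul_ne_zero index_ne_zero_of_finite (pow_ne_zero 2 ht0)) hs2.symm
  obtain ⟨α, β, hαβ, e1⟩ := Set.ncard_eq_two.1 (by omega : (overSet K {θ}).ncard = 2)
  obtain ⟨γ, e2⟩ := Set.ncard_eq_one.1 (by omega : (overSet K (b \ {θ})).ncard = 1)
  rw [sum_sq_eq_finsum, e1, finsum_mem_pair hαβ, Set.ncard_singleton, one_mul] at hs1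
  rw [sum_sq_eq_finsum, e2, finsum_mem_singleton, hcb] at hs2
  obtain ⟨e, he⟩ := exists_isMax_of_isDefectGroup hM hB hV
  have h6 := fun v hv h1 => (Cfsg.Agent.S4606.fus he hM hB (by omega) (v := v) hv h1).2
  have hker : K = (MulAut.conjNormal : G →* MulAut V).ker := by
    rw [hK, sup_eq_right.2 (le_centralizer V)]
    ext g
    rw [MonoidHom.mem_ker, MulEquiv.ext_iff, mem_centralizer_iff]
    exact ⟨fun h v => Subtype.ext (by simp [← h v v.2]), fun h v hv =>
      (mul_inv_eq_iff_eq_mul.1 (congrArg Subtype.val (h ⟨v, hv⟩))).symm⟩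
  obtain ⟨H, _, _, ρ, h7, h8, χ₀, h9⟩ := exists_model _ hker hi1
  have h10 : ρ.ker.index = K.index := by rw [index_ker, h8, ← index_ker, hker]
  have := card_le_three ρ (fun v => Subtype.ext (Cfsg.Agent.S4606.pow_eq_one hVp h6 v v.2)) h7 (fun v w hv hw => by
    obtain ⟨c, hc⟩ := isConj_iff.1 (h6 v v.2 (by simpa using hv) w w.2 (by simpa using hw))
    obtain ⟨g, hg⟩ : MulAut.conjNormal c ∈ ρ.range := h8 ▸ ⟨c, rfl⟩
    exact ⟨g, Subtype.ext (by rw [hg, MulAut.conjNormal_apply, hc])⟩)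
    (h9.trans (by rw [Nat.card_coe_set_eq]; omega)) ht0 (h10 ▸ hs1) (h10 ▸ hs2)
  omega

/-- A block with a normal abelian defect group and three irreducible characters has defect group of order three. -/
theorem card_eq_three_of_normal (hM : IsPModular p M) (n : ℕ) : ∀ (G : Type u) [Group G] [Finite G], Nat.card G = n →
    ∀ B : Set (IrrCharacter G), IsPBlock M B → ∀ (V : Subgroup G) [V.Normal], IsDefectGroup p M B V →
      IsMulCommutative V → Nat.card B = 3 → Nat.card V = 3 := by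
  induction n using Nat.strong_induction_on with
  | _ n ih =>
  intro G _ _ hn B hB V _ hV hc hk
  cases nonempty_fintype G
  set K := V ⊔ centralizer (V : Set G) with hK
  obtain ⟨b, hb, hbV⟩ := exists_root hM hB hV hK
  by_cases hT : blockStab b = (⊤ : Subgroup G)
  · exact card_eq_three_of_stable hM hB hV hc hk hK hb hbV (isInvSet_iff_blockStab_eq_top.2 hT)
  · set T := blockStab b
    have hKT : K ≤ T := le_blockStab _
    obtain ⟨B', hB', hc', rfl⟩ := fr_exists hM hb.1 hKT rfl hB (covers_of_isInducedBlock hM hb)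
    obtain ⟨D, hD⟩ := exists_isDefectGroup hM hB'
    obtain ⟨g, hg⟩ := exists_conj_eq_of_isDefectGroup hM hB hV (fr_isDefectGroup hM hb.1 hKT rfl hB' hc' hD)
    rw [(conj_smul_eq_self_iff g V).2 (by simp [normalizer_eq_top])] at hg
    obtain rfl : D = V.subgroupOf T := by rw [hg, subgroupOf, comap_map_eq_self_of_injective T.subtype_injective]
    rw [← Nat.card_congr (subgroupOfEquivOfLe (le_sup_left.trans hKT)).toEquiv]
    exact ih _ (hn ▸ card_lt_of_ne_top hT) T rfl B' hB' _ hD inferInstance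
      (by rwa [Nat.card_image_of_injOn (fr_isTISet hM hb.1 hKT rfl hB' hc').injOn] at hk)

end CL.Blk.K3
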