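/-
Two commuting integral matrices with `N² = 4 N` whose product has rank one.
-/
import Cfsg.Agent.Base

set_option autoImplicit false

namespace CL.Blk.Nine

open Finset

variable {I : Type*} [Fintype I] [DecidableEq I] {n n' : I → I → ℤ} {d : I → ℤ}

/-- A symmetric integral matrix with `N² = 4 N` and `N d = 4 d`. -/
structure Four (n : I → I → ℤ) (d : I → ℤ) : Prop where
  symm : ∀ i j, n i j = n j i
  sq : ∀ i j, ∑ k, n i k * n j k = 4 * n i j
  eig : ∀ i, ∑ k, n i k * d k = 4 * d i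

omit [DecidableEq I] in
theorem Four.parity (h : Four n d) (hd : ∀ i, d i ^ 2 = 1 ∨ d i ^ 2 = 4) (i : I) :
    2 ∣ ∑ k with d k ^ 2 = 4, n i k := by
  have h1 : 2 ∣ ∑ k, (n i k * n i k - n i k * d k) := by
    rw [sum_sub_distrib, h.sq, h.eig]; omega
  rw [← sum_filter_add_sum_filter_not _ (fun k => d k ^ 2 = 4)] at h1
  have h2 : 2 ∣ ∑ k with ¬ d k ^ 2 = 4, (n i k * n i k - n i k * d k) := dvd_sum fun k hk => by
    rcases sq_eq_one_iff.1 ((hd k).resolve_right (mem_filter.1 hk).2) with e | e <;> rw [e]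
    · simpa [mul_sub] using (Int.even_mul_pred_self (n i k)).two_dvd
    · simpa [mul_add] using (Int.even_mul_succ_self (n i k)).two_dvd
  have h3 : 2 ∣ ∑ k with d k ^ 2 = 4, (n i k * n i k - n i k * d k - n i k) := dvd_sum fun k hk => by
    have h4 := (Int.even_mul_pred_self (n i k)).two_dvd
    have h5 : 2 ∣ d k := Int.prime_two.dvd_of_dvd_pow (n := 2) (by rw [(mem_filter.1 hk).2]; norm_num)
    have h6 := h5.mul_left (n i k)
    rw [mul_sub] at h4
    omega
  rw [sum_sub_distrib] at h3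
  omega

omit [DecidableEq I] [Fintype I] in
theorem eq_zero_or_of_sum {O : Finset I} {x : I → ℤ} {s : ℤ} (hO : ∀ k ∈ O, d k ^ 2 = 1)
    (hs : s ^ 2 = 4) (h1 : ∑ k ∈ O, x k * x k = 4) (h2 : ∑ k ∈ O, x k * d k = 2 * s) :
    ∀ k ∈ O, x k = 0 ∨ 2 * x k = s * d k := by
  have h3 : ∀ k ∈ O, 0 ≤ x k * (2 * x k - s * d k) := fun k hk => by
    have h4 : (s * d k) ^ 2 = 2 ^ 2 := by rw [mul_pow, hs, hO k hk]; norm_num
    rcases sq_eq_sq_iff_eq_or_eq_neg.1 h4 with e | e <;> rw [e] <;>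
      rcases le_or_gt (x k) 0 with h | h <;> rcases le_or_gt (x k) (-1) with h' | h' <;> nlinarith
  have h4 : ∑ k ∈ O, x k * (2 * x k - s * d k) = 0 := by
    have : ∀ k, x k * (2 * x k - s * d k) = 2 * (x k * x k) - s * (x k * d k) := fun k => by ring
    simp only [this, sum_sub_distrib, ← mul_sum, h1, h2]
    linear_combination -2 * hs
  intro k hk
  simpa [sub_eq_zero] using (sum_eq_zero_iff_of_nonneg h3).1 h4 k hk

theorem Four.eq_zero (h : Four n d) (hd : ∀ i, d i ^ 2 = 1 ∨ d i ^ 2 = 4)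
    (hT : (univ.filter fun k => d k ^ 2 = 4).card ≤ 2) (hn : ∀ i, d i ^ 2 = 4 → n i i = 2)
    {i j : I} (hi : d i ^ 2 = 4) (hj : d j ^ 2 = 1) : n i j = 0 := by
  set T := univ.filter fun k => d k ^ 2 = 4
  set O := univ.filter fun k => ¬ d k ^ 2 = 4
  have hO : ∀ k ∈ O, d k ^ 2 = 1 := fun k hk => (hd k).resolve_right (mem_filter.1 hk).2
  have hsum : ∀ f : I → ℤ, ∑ k, f k = ∑ k ∈ T, f k + ∑ k ∈ O, f k := fun f =>
    (sum_filter_add_sum_filter_not _ _ f).symm
  have hiT : i ∈ T := mem_filter.2 ⟨mem_univ _, hi⟩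
  have hjO : j ∈ O := mem_filter.2 ⟨mem_univ _, by omega⟩
  have hp : ∀ i, 2 ∣ ∑ k ∈ T, n i k := h.parity hd
  have hodd : ∀ {a k}, d a ^ 2 = 4 → k ∈ O → 2 * n a k = d a * d k → ¬ 2 ∣ n a k := by
    rintro a k ha hk e ⟨m, hm⟩
    have : (2 * n a k) ^ 2 = 4 := by rw [e, mul_pow, ha, hO k hk]; norm_num
    rw [hm, show (2 * (2 * m)) ^ 2 = 16 * m ^ 2 by ring] at this
    omega
  obtain hT1 | ⟨i', hne, hT2⟩ : T = {i} ∨ ∃ i', i ≠ i' ∧ T = {i, i'} := by
    rcases Nat.lt_or_ge 1 T.card with h1 | h1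
    · obtain ⟨a, b, hab, e⟩ := card_eq_two.1 (hT.antisymm h1)
      rw [e, mem_insert, mem_singleton] at hiT
      rcases hiT with rfl | rfl
      exacts [Or.inr ⟨b, hab, e⟩, Or.inr ⟨a, hab.symm, e.trans (pair_comm _ _)⟩]
    · exact Or.inl (eq_singleton_iff_unique_mem.2 ⟨hiT, fun x hx => card_le_one.1 h1 x hx i hiT⟩)
  · have h1 := h.sq i i
    have h2 := h.eig i
    rw [hsum, hT1, sum_singleton, hn i hi] at h1 h2
    refine (eq_zero_or_of_sum (x := n i) hO hi (by omega) (by omega) j hjO).resolve_right fun e => hodd hi hjO e ?_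
    have := hp j
    rwa [hT1, sum_singleton, h.symm] at this
  have hi' : d i' ^ 2 = 4 := (mem_filter.1 (show i' ∈ T by simp [hT2])).2
  have h1 := h.sq i i
  have h2 := h.eig i
  have h3 := h.sq i' i'
  have h4 := h.eig i'
  have h5 := h.sq i i'
  have h6 := hp i
  rw [hsum] at h1 h2 h3 h4 h5
  simp only [hT2, sum_pair hne, hn i hi, hn i' hi', h.symm i' i] at h1 h2 h3 h4 h5 h6 hp
  have h7 : ∀ k ∈ O, 0 ≤ n i k * n i k := fun k _ => mul_self_nonneg _
  by_cases h0 : n i i' = 0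
  · exfalso
    simp only [h0] at h1 h2 h3 h4 h5
    have h8 := eq_zero_or_of_sum (x := n i) hO hi (by omega) (by omega)
    have h9 := eq_zero_or_of_sum (x := n i') hO hi' (by omega) (by omega)
    have h10 : ∀ k ∈ O, d i * d i' * (n i k * n i' k) = 4 * (n i k * n i k) := fun k hk => by
      have h11 := hp k
      rw [h.symm k, h.symm k] at h11
      rcases h8 k hk with e | e
      · simp [e]
      rcases h9 k hk with e' | e'
      · exact absurd (by simpa [e'] using h11) (hodd hi hk e)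
      have : 4 * (d i * d i' * (n i k * n i' k)) = 4 * (4 * (n i k * n i k)) := by
        linear_combination (d i * d i' * 2 * n i k) * e' + (d i * d k * d i' ^ 2 -
          4 * (2 * n i k + d i * d k)) * e + (d i * d k) ^ 2 * hi'
      omega
    have h11 := sum_congr rfl h10
    rw [← mul_sum, ← mul_sum, show ∑ k ∈ O, n i k * n i' k = 0 by omega] at h11
    omega
  · obtain ⟨m, hm⟩ : 2 ∣ n i i' := by omega
    have h8 := sum_nonneg h7
    have h9 : 1 ≤ m * m := by
      have : m ≠ 0 := by rintro rfl; omega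
      exact mul_self_pos.2 this
    rw [hm, show 2 * m * (2 * m) = 4 * (m * m) by ring] at h1
    exact mul_self_eq_zero.1 ((sum_eq_zero_iff_of_nonneg h7).1 (by omega) j hjO)

theorem card_eq_sixteen (hs : ∀ i j, n i j = n j i) (hs' : ∀ i j, n' i j = n' j i)
    (h1 : ∀ i j, ∑ k, n i k * n j k = 4 * n i j) (h1' : ∀ i j, ∑ k, n' i k * n' j k = 4 * n' i j)
    (h2 : ∀ i j, ∑ k, n i k * n' j k = d i * d j) (h0 : ∀ i, d i ≠ 0) (hsum : ∑ i, d i ^ 2 = 16)
    (h9 : 9 ≤ Fintype.card I) : Fintype.card I = 16 := by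
  have key : ∀ n n' : I → I → ℤ, (∀ i j, n i j = n j i) → (∀ i j, ∑ k, n i k * n j k = 4 * n i j) →
      (∀ i j, ∑ k, n i k * n' j k = d i * d j) → Four n d := fun n n' hs h1 h2 =>
    ⟨hs, h1, fun i => mul_right_cancel₀ (h0 i) (by
      simp only [sum_mul, mul_assoc, ← h2, mul_sum]
      rw [sum_comm]
      refine sum_congr rfl fun l _ => ?_
      simp only [← mul_assoc, ← sum_mul, ← h1, hs l])⟩
  have hF := key n n' hs h1 h2
  have hF' := key n' n hs' h1' fun i j => by rw [mul_comm, ← h2]; simp only [mul_comm]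
  have h3 : ∀ i, 1 ≤ d i ^ 2 := fun i => sq_pos_of_ne_zero (h0 i)
  have hd : ∀ i, d i ^ 2 = 1 ∨ d i ^ 2 = 4 := fun i => by
    have h4 := card_nsmul_le_sum (univ.erase i) _ _ fun k _ => h3 k
    rw [← add_sum_erase _ _ (mem_univ i)] at hsum
    rw [card_erase_of_mem (mem_univ i), card_univ, nsmul_eq_mul] at h4
    have h5 : d i ^ 2 < 3 ^ 2 := by omega
    have h6 := abs_lt_of_sq_lt_sq' h5 (by norm_num)
    have h7 := h0 i
    have : d i = -2 ∨ d i = -1 ∨ d i = 1 ∨ d i = 2 := by omega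
    rcases this with e | e | e | e <;> simp [e]
  set T := univ.filter fun k => d k ^ 2 = 4
  have h4 : (Fintype.card I : ℤ) + 3 * T.card = 16 := by
    rw [← hsum, ← card_univ, card_eq_sum_ones, card_filter]
    push_cast
    rw [mul_sum, ← sum_add_distrib]
    exact sum_congr rfl fun k _ => by rcases hd k with e | e <;> simp [e]
  by_contra hne
  obtain ⟨i, hi⟩ : T.Nonempty := card_pos.1 (by omega)
  replace hi := (mem_filter.1 hi).2
  obtain ⟨j, -, hj⟩ := exists_mem_notMem_of_card_lt_card (s := T) (t := univ) (by rw [card_univ]; omega)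
  replace hj : d j ^ 2 = 1 := (hd j).resolve_right fun e => hj (mem_filter.2 ⟨mem_univ _, e⟩)
  have h5 : ∀ a x, d a ^ 2 = 4 → 4 * x - d a * d j ≠ 0 := fun a x ha e => by
    have : (4 * x) ^ 2 = 4 := by rw [sub_eq_zero.1 e, mul_pow, ha, hj]; norm_num
    rw [show (4 * x) ^ 2 = 16 * x ^ 2 by ring] at this
    omega
  have h6 : ∀ n, Four n d → ∀ a, d a ^ 2 = 4 → 2 ≤ n a a := fun n h a ha => by
    have h7 := single_le_sum (f := fun k => (4 * n a k - d a * d k) ^ 2) (fun k _ => sq_nonneg _) (mem_univ j)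
    have h8 : ∀ k, (4 * n a k - d a * d k) ^ 2 =
        16 * (n a k * n a k) - 8 * d a * (n a k * d k) + d a ^ 2 * d k ^ 2 := fun k => by ring
    have h10 := sq_pos_of_ne_zero (h5 a (n a j) ha)
    simp only [h8, sum_add_distrib, sum_sub_distrib, ← mul_sum, h.sq, h.eig, hsum] at h7
    rw [← h8] at h7
    nlinarith
  have h7 : ∀ a, d a ^ 2 = 4 → n a a = 2 ∧ n' a a = 2 := fun a ha => by
    have hne : a ≠ j := by rintro rfl; omega
    have h8 := sum_le_sum_of_subset_of_nonneg (f := fun k => (4 * (n a k + n' a k) - d a * d k) ^ 2)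
      (subset_univ {a, j}) fun k _ _ => sq_nonneg _
    have h9 : ∀ k, (4 * (n a k + n' a k) - d a * d k) ^ 2 = 16 * (n a k * n a k) + 16 * (n' a k * n' a k) +
        32 * (n a k * n' a k) - 8 * d a * (n a k * d k) - 8 * d a * (n' a k * d k) + d a ^ 2 * d k ^ 2 :=
      fun k => by ring
    have h10 := sq_pos_of_ne_zero (h5 a (n a j + n' a j) ha)
    rw [sum_pair hne, sum_congr rfl fun k _ => h9 k] at h8
    simp only [sum_add_distrib, sum_sub_distrib, ← mul_sum, h1, h1', h2, hF.eig, hF'.eig, hsum] at h8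
    have h11 := h6 n hF a ha
    have h12 := h6 n' hF' a ha
    have h13 : n a a + n' a a < 5 := by nlinarith
    omega
  have hT : T.card ≤ 2 := by omega
  have h8 := h2 i j
  rw [sum_eq_zero fun k _ => by
    rcases hd k with e | e
    · rw [hF.eq_zero hd hT (fun a ha => (h7 a ha).1) hi e, zero_mul]
    · rw [hs', hF'.eq_zero hd hT (fun a ha => (h7 a ha).2) e hj, mul_zero]] at h8
  exact mul_ne_zero (h0 i) (h0 j) h8.symm

end CL.Blk.Nine
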