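/-
Simple groups whose order divides 95040 and is divisible by 11.
-/
import Cfsg.Agent.Spor.M12Sylow
import Cfsg.Agent.Blk.Sieve2
import Cfsg.Agent.Cls.SL2Dihedral
import Cfsg.Agent.Fgs.FixCount
import Cfsg.Agent.Inv.DegPm2c

set_option autoImplicit false

open Cfsg Finset CL.Char CL.Spor CL.Inv CL.Inv.PO MulAction Subgroup
open scoped ComplexConjugate

namespace CL.Blk.M12Ord

variable {G : Type*} [Group G] [Finite G]

omit [Finite G] in
/-- The value at an involution inverting an element of order 11 is bounded by the fixed space of that element. -/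
theorem dih_bound {χ : G → ℂ} (hχ : IsCharacter G χ) {x t : G} (hx : x ^ 11 = 1) (ht : t * t = 1)
    (h : t * x * t⁻¹ = x⁻¹) {ε : ℤ} (hε : ε = 1 ∨ ε = -1) :
    ∃ m : ℕ, ∑ i : ZMod 11, χ (x ^ i.val) + 11 * (ε * χ t) = 22 * m := by
  obtain ⟨u, hu, hu'⟩ : ∃ u : ℂˣ, u * u = 1 ∧ (u : ℂ) = ε := by
    rcases hε with rfl | rfl
    exacts [⟨1, by simp, by simp⟩, ⟨-1, by simp, by simp⟩]
  have h1 := hχ.comp (CL.SL2.dihedralHom x t hx ht h)
  obtain ⟨m, hm⟩ := h1.exists_nat_classInner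
    (isCharacter_unitsHom (CL.SL2.dihedralHom (n := 11) 1 u (one_pow _) hu (by simp)))
  refine ⟨m, ?_⟩
  have h2 : ∀ i : ZMod 11, χ (t * x ^ i.val) = χ t := fun i => by
    obtain ⟨k, rfl⟩ := (by decide : ∀ i : ZMod 11, ∃ k, k + k = i) i
    have := h1.isClassFunction (.sr 0) (.r (-k))
    simpa [CL.SL2.dihedralHom_sr] using this
  rw [classInner_def, ← DihedralGroup.equivSum.symm.sum_comp, Fintype.sum_sum_type, Nat.card_eq_fintype_card,
    DihedralGroup.card] at hm
  simp only [DihedralGroup.equivSum, Equiv.coe_fn_symm_mk, CL.SL2.dihedralHom_r, CL.SL2.dihedralHom_sr, h2,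
    one_pow, mul_one, hu', Units.val_one, map_one, map_intCast, sum_const, card_univ, ZMod.card] at hm
  rw [← hm]
  simp only [nsmul_eq_mul]
  push_cast
  ring

theorem counts {ι : Type*} (s : Finset ι) (t : ι → ℤ) (h : ∀ i ∈ s, t i ∈ ([-32, 45, -120, 144] : List ℤ)) :
    ∃ a b c d : ℕ, a + b + c + d = s.card ∧ ∑ i ∈ s, t i = -32 * a + 45 * b - 120 * c + 144 * d ∧
      ∑ i ∈ s, t i ^ 2 = 1024 * a + 2025 * b + 14400 * c + 20736 * d := by
  classical
  induction s using Finset.induction_on with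
  | empty => exact ⟨0, 0, 0, 0, by simp⟩
  | insert i s hi ih =>
    obtain ⟨a, b, c, d, h1, h2, h3⟩ := ih fun j hj => h j (mem_insert_of_mem hj)
    have h4 := h i (mem_insert_self _ _)
    rw [card_insert_of_notMem hi, sum_insert hi, sum_insert hi, h2, h3, ← h1]
    simp only [List.mem_cons, List.not_mem_nil, or_false] at h4
    rcases h4 with e | e | e | e <;> rw [e]
    exacts [⟨a + 1, b, c, d, by omega⟩, ⟨a, b + 1, c, d, by omega⟩, ⟨a, b, c + 1, d, by omega⟩,
      ⟨a, b, c, d + 1, by omega⟩]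

variable [IsSimpleGroup G] {x : G}

theorem not_31680 (hG : ¬ IsMulCommutative G) (hn : Nat.card G = 31680) (hx : orderOf x = 11) (B : PB G 11 x)
    (he : B.e = 10) (hC : Nat.card (centralizer ({x} : Set G)) = 22) : False := by
  classical
  have hi : (centralizer ({x} : Set G)).index = 1440 := by
    have := (centralizer ({x} : Set G)).card_mul_index
    rw [hC] at this
    omega
  obtain ⟨h1, h2⟩ := B.two_mul_lt hG (by norm_num) (by norm_num) hx (by omega)
  have hL : sgnList 11 1440 22 218 = [-32, 45, -120, 144] := by decide +kernel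
  have h3 := B.sum_sq_le
  have h4 := B.card_Y
  rw [he] at h4
  obtain ⟨a, b, c, d, h5, h6, h7⟩ := counts (B.X.erase (irrOne G))
    (fun χ => B.s χ * (charDegree (χ : G → ℂ) : ℤ)) fun χ hχ => hL ▸ mem_sgnList (by norm_num)
      (B.hs χ (mem_of_mem_erase hχ)) (B.deg_X χ (mem_of_mem_erase hχ)) (hi ▸ B.X_dvd hx (mem_of_mem_erase hχ))
      (h2 χ (mem_of_mem_erase hχ) (ne_of_mem_erase hχ)) (lt_of_sq_le_of_lt (degree_sq_le_card χ) (by omega))
  have h8 := B.deg_rel (by norm_num)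
  rw [← add_sum_erase _ _ B.one_mem, B.s_one, charDegree_irrOne, h6] at h8
  rw [card_erase_of_mem B.one_mem, B.card_X] at h5
  rw [← add_sum_erase _ _ B.one_mem, show B.Y.card = 1 by omega, one_mul] at h3
  have h9 : ((∑ χ ∈ B.X.erase (irrOne G), charDegree (χ : G → ℂ) ^ 2 : ℕ) : ℤ) =
      ∑ i ∈ B.X.erase (irrOne G), (B.s i * (charDegree (i : G → ℂ) : ℤ)) ^ 2 := by
    rw [Nat.cast_sum]
    exact sum_congr rfl fun χ hχ => by rcases B.hs χ (mem_of_mem_erase hχ) with e | e <;> simp [e]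
  have h10 : -B.ε * B.f ∈ sgnList 11 1440 22 218 := mem_sgnList (by norm_num)
    (by rcases B.hε with e | e <;> simp [e]) (by have := B.deg_f; rw [he] at this; omega)
    (hi ▸ B.f_dvd (by norm_num) hx) h1 (lt_of_sq_le_of_lt (n := 31680) (by omega) (by norm_num))
  rw [hL] at h10
  simp only [List.mem_cons, List.not_mem_nil, or_false] at h10
  have h11 : B.f = 32 ∨ B.f = 45 ∨ B.f = 120 ∨ B.f = 144 := by rcases B.hε with e | e <;> rw [e] at h10 <;> omega
  have h12 : c ≤ 2 ∧ d ≤ 1 := by omega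
  obtain ⟨h12, h13⟩ := h12
  rcases h11 with e | e | e | e <;> rw [e] at h3 h8 h10 <;> interval_cases c <;> interval_cases d <;> omega

theorem not_three (hG : ¬ IsMulCommutative G) (hx : orderOf x = 11) (h2 : ¬ 11 ^ 2 ∣ Nat.card G)
    (hC : Nat.card (centralizer ({x} : Set G)) = 33) {e : ℕ} (he : ¬ 3 ∣ e)
    (hN : Nat.card (normalizer (zpowers x : Set G)) = e * 33) (hn : Nat.card G = 144 * (e * 33)) : False := by
  obtain ⟨v, hv, hv3⟩ := exists_mem_orderOf_prime (centralizer ({x} : Set G)) Nat.prime_three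
    (by rw [hC]; norm_num)
  have hvx := mem_centralizer_singleton_iff.1 hv
  have h1 : centralizer ({x} : Set G) = zpowers (v * x) :=
    (eq_of_le_of_card_ge (zpowers_le.2 (mul_mem hv (mem_centralizer_singleton_iff.2 rfl)))
      (by rw [hC, Nat.card_zpowers, orderOf_mul_of_commute_prime hvx hv3 hx (by norm_num)])).symm
  have hle := normalizer_le_normalizer_of_unique (q := 3) (fun y hy hy3 => by
    obtain ⟨k, rfl⟩ := mem_powers_iff_mem_zpowers.2 (h1 ▸ hy)
    have h3 := orderOf_dvd_of_pow_eq_one (by rw [pow_mul, ← hy3, pow_orderOf_eq_one] : (v * x) ^ (k * 3) = 1)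
    rw [orderOf_mul_of_commute_prime hvx hv3 hx (by norm_num)] at h3
    obtain ⟨j, rfl⟩ : 11 ∣ k := by omega
    have h4 : x ^ 11 = 1 := hx ▸ pow_orderOf_eq_one x
    change (v * x) ^ (11 * j) ∈ zpowers v
    rw [pow_mul, Commute.mul_pow hvx, h4, mul_one]
    exact pow_mem (npow_mem_zpowers _ _) _) hv hv3
  obtain ⟨k, hk, hk'⟩ := exists_card_eq_mul_normalizer' (by norm_num) hx h2 hle
  set H := normalizer (zpowers v : Set G)
  have h9 : 3 ^ 2 ∣ Nat.card H := (sq_dvd_card_centralizer Nat.prime_three hv3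
    (by rw [hn]; exact Dvd.dvd.mul_right (by norm_num) _)).trans (card_dvd_of_le (by
      rw [← centralizer_zpowers_eq]
      exact centralizer_le_normalizer _))
  have hne : H ≠ ⊤ := normalizer_zpowers_ne_top hG (by rintro rfl; simp at hv3)
  have hi := H.index_mul_card
  rw [hk', hN] at hi h9
  have h0 : 0 < e * 33 := hN ▸ Nat.card_pos
  rw [hn, ← mul_assoc] at hi
  replace hi := Nat.eq_of_mul_eq_mul_right h0 hi
  have h12 : H.index = 12 := by
    have := (by decide +kernel : ∀ n ∈ Nat.divisors 144, n % 11 = 1 → n = 1 ∨ n = 12 ∨ n = 144) _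
      (Nat.mem_divisors.2 ⟨Dvd.intro_left _ hi, by norm_num⟩) hk
    rw [← index_eq_one.ne] at hne
    rcases this with rfl | rfl | rfl <;> omega
  have hnt := exists_smul_ne_quotient H hne
  have : FaithfulSMul G (G ⧸ H) := ⟨fun {a b} h => by
    rw [← inv_mul_eq_one]
    refine eq_one_of_card_fixedBy_eq hnt ?_
    rw [Set.eq_univ_of_forall (s := fixedBy _ _) fun ω => by rw [mem_fixedBy, mul_smul, ← h, inv_smul_smul],
      Nat.card_univ]⟩
  have e1 := card_fixedBy_modEq_of_pow (X := G ⧸ H) (p := 11) (by norm_num) (g := x) (h := 1)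
    (by rw [← hx, pow_orderOf_eq_one, one_pow])
  have e2 := card_fixedBy_le_card (X := G ⧸ H) x
  have e3 := mt (eq_one_of_card_fixedBy_eq hnt (g := x)) (by rintro rfl; simp at hx)
  have e4 : Nat.card (G ⧸ H) = 12 := h12
  rw [fixedBy_one_eq_univ, Nat.card_univ] at e1
  obtain ⟨ω, hω⟩ := Set.ncard_eq_one.1 (show (fixedBy (G ⧸ H) x).ncard = 1 by rw [← Nat.card_coe_set_eq]; omega)
  obtain ⟨j, hj⟩ := CL.Fgs.card_centralizer_dvd_of_unique_fixed (m := 1) (by norm_num) hx hω e4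
  rw [hC, Nat.factorial_one, mul_one] at hj
  exact absurd (Nat.prime_three.dvd_of_dvd_pow (dvd_trans (by norm_num) hj)) (by norm_num)

/-- A generator of the units modulo 11. -/
def u2 : (ZMod 11)ˣ := ⟨2, 6, by decide, by decide⟩

theorem u2_spec : u2 ^ 10 = 1 ∧ u2 ^ 5 ≠ 1 ∧ u2 ^ 2 ≠ 1 ∧ ((u2 ^ 5 : (ZMod 11)ˣ) : ZMod 11).val = 10 := by decide

theorem arith : ∀ d ∈ List.range 126, 1440 % d = 0 ∧ 10 < d ∧ d % 5 ≠ 0 ∧ (d % 11 = 1 ∨ d % 11 = 10) →
    d = 12 ∨ d = 32 := by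
  decide +kernel

theorem not_15840 (hG : ¬ IsMulCommutative G) (hn : Nat.card G = 15840) (hx : orderOf x = 11) (B : PB G 11 x)
    (he : B.e = 10) (hC : Nat.card (centralizer ({x} : Set G)) = 11) : False := by
  classical
  have : Fact (Nat.Prime 11) := ⟨by norm_num⟩
  have := Fintype.ofFinite G
  have hperf := commutator_eq_top_of_simple hG
  obtain ⟨K⟩ := nonempty_ctx_of_orderOf hx (by rw [hn]; norm_num)
  have hP : centralizer ({x} : Set G) = zpowers x :=
    (eq_of_le_of_card_ge K.P_le_C (by rw [hC, K.card_P])).symm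
  have hf : K.f = 10 := by
    have := K.card_N.symm.trans B.card_N
    rw [hC] at this
    omega
  have ha : K.a.range = ⊤ := eq_top_of_card_eq _ (by
    rw [Nat.card_eq_fintype_card (α := (ZMod 11)ˣ), ZMod.card_units]; exact hf)
  obtain ⟨n, hn2⟩ := ha.ge (mem_top u2)
  set g : Nz x := ⟨K.π n, K.H_le (K.π_mem n n.2)⟩ with hg
  have hg2 : K.a g = K.a n := by
    rw [← inv_mul_eq_one, ← map_inv, ← map_mul, K.a_eq_one_iff]
    exact K.P_le_C (K.π_spec n n.2)
  rw [hn2] at hg2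
  have hg10 : (g : G) ^ 10 = 1 := K.H_inf _ (pow_mem (K.π_mem n n.2) _)
    (hP.le ((K.a_eq_one_iff (g ^ 10)).1 (by rw [map_pow, hg2, u2_spec.1])))
  have hne : ∀ i : ℕ, u2 ^ i ≠ 1 → (g : G) ^ i ≠ 1 :=
    fun i hi e => hi (by rw [← hg2, ← map_pow, show g ^ i = 1 from Subtype.ext e, map_one])
  have : Fact (Nat.Prime 5) := ⟨by norm_num⟩
  have ht : orderOf ((g : G) ^ 5) = 2 := orderOf_eq_prime (by rw [← pow_mul, hg10]) (hne 5 u2_spec.2.1)
  have hw : orderOf ((g : G) ^ 2) = 5 := orderOf_eq_prime (by rw [← pow_mul, hg10]) (hne 2 u2_spec.2.2.1)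
  have hx11 : x ^ 11 = 1 := K.x_pow
  have hinv : (g : G) ^ 5 * x * ((g : G) ^ 5)⁻¹ = x⁻¹ := by
    have := K.a_spec (g ^ 5)
    rw [map_pow, hg2, u2_spec.2.2.2] at this
    rw [← Subgroup.coe_pow, ← this, eq_inv_iff_mul_eq_one, ← pow_succ, hx11]
  have hc : (g : G) ^ 5 * (g : G) ^ 2 = (g : G) ^ 2 * (g : G) ^ 5 := Commute.pow_pow_self _ _ _
  generalize (g : G) ^ 5 = t at ht hinv hc
  generalize (g : G) ^ 2 = w at hw hc
  obtain ⟨P⟩ := nonempty_PB (by norm_num) hw (by rw [hn]; norm_num)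
  obtain ⟨μ, hμ⟩ := Finset.card_eq_one.1 (show B.Y.card = 1 by have := B.card_Y; rw [he] at this; omega)
  have hS : ∀ χ ∈ insert μ B.X, ∃ s : ℤ, (s = 1 ∨ s = -1) ∧ ∀ g, 11 ∣ orderOf g → (χ : G → ℂ) g = s :=
    fun χ hχ => by
      rcases mem_insert.1 hχ with rfl | h
      · exact ⟨-B.ε, by rcases B.hε with e | e <;> simp [e], fun g hg => by simpa [hμ] using B.Y_sing g hg⟩
      · exact ⟨_, B.hs χ h, B.X_sing χ h⟩
  have h0 : ∀ χ, χ ∉ insert μ B.X → (χ : G → ℂ) x = 0 := fun χ hχ => by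
    have h1 := sum_le_sum_of_subset_of_nonneg (f := fun χ : IrrCharacter G => ‖(χ : G → ℂ) x‖ ^ 2)
      (subset_univ (insert χ (insert μ B.X))) fun _ _ _ => sq_nonneg _
    rw [sum_irr_norm_sq, sum_insert hχ, hC, sum_congr rfl (g := fun _ => (1 : ℝ)) fun ψ hψ => by
      obtain ⟨s, hs, h⟩ := hS ψ hψ
      rw [h x hx.symm.dvd]
      rcases hs with rfl | rfl <;> simp, sum_const,
      card_insert_of_notMem fun h => B.disj μ h (hμ ▸ mem_singleton_self μ), B.card_X, he] at h1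
    norm_num at h1
    exact h1
  have key : ∀ χ : IrrCharacter G, χ ≠ irrOne G → ¬ 5 ∣ charDegree (χ : G → ℂ) → ∀ m : ℕ, 5 ∣ m →
      (χ : G → ℂ) t = ((charDegree (χ : G → ℂ) : ℤ) - 4 * m : ℤ) → 2 * m ≤ charDegree (χ : G → ℂ) →
      (χ : G → ℂ) x = 0 := fun χ h1 h5 m hm hv h2 => h0 χ fun hχ => by
    obtain ⟨s, hs, h⟩ := hS χ hχ
    have a1 := PB.two_mul_lt_of_invol hG h1 (by rintro rfl; simp at ht) rfl hm hv h2
    have a2 := dvd_index_of_apply_eq χ hs (h x hx.symm.dvd)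
    have a3 := (int_value_modEq (p := 11) (k := 1) (by norm_num) χ.2.isCharacter (by rw [pow_one, hx11])
      (h x hx.symm.dvd)).dvd
    have a4 := lt_of_sq_le_of_lt (N := 126) (degree_sq_le_card χ) (by omega)
    have hi : (centralizer ({x} : Set G)).index = 1440 := by
      have := (centralizer ({x} : Set G)).card_mul_index
      rw [hC] at this
      omega
    have a5 := arith _ (List.mem_range.2 a4) ⟨Nat.mod_eq_zero_of_dvd (hi ▸ a2), a1, by omega, by omega⟩
    have a6 : ∑ i : ZMod 11, (χ : G → ℂ) (x ^ i.val) = 22 := by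
      rw [← add_sum_erase _ _ (mem_univ 0), sum_congr rfl fun i hi => h _ (K.dvd_orderOf_of_mem_P
        (npow_mem_zpowers _ _) fun e => ne_of_mem_erase hi (pow_val_inj hx (by simpa using e))), sum_const,
        card_erase_of_mem (mem_univ _), card_univ, ZMod.card, ZMod.val_zero, pow_zero, ← χ.2.cast_charDegree]
      have : (charDegree (χ : G → ℂ) : ℤ) + 10 * s = 22 := by omega
      simp only [nsmul_eq_mul]
      exact_mod_cast this
    have ht2 : t * t = 1 := by rw [← sq, ← ht, pow_orderOf_eq_one]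
    obtain ⟨k, hk⟩ := dih_bound χ.2.isCharacter hx11 ht2 hinv (.inl rfl)
    obtain ⟨l, hl⟩ := dih_bound χ.2.isCharacter hx11 ht2 hinv (.inr rfl)
    rw [a6, hv] at hk hl
    have hk' : (22 : ℤ) + 11 * (1 * (charDegree (χ : G → ℂ) - 4 * m)) = 22 * k := by exact_mod_cast hk
    have hl' : (22 : ℤ) + 11 * (-1 * (charDegree (χ : G → ℂ) - 4 * m)) = 22 * l := by exact_mod_cast hl
    omega
  obtain ⟨ν, hν⟩ := P.Y_nonempty (by norm_num)
  have h1 := P.rel ν hν x (by rw [hx]; norm_num)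
  obtain ⟨m, b1, b2, b3⟩ := P.invol_Y (by norm_num) hw hperf ht (by norm_num) hc hν
  have b4 := P.deg_f
  have b5 := Nat.le_of_dvd (by norm_num) P.e_dvd
  have b6 : 0 < P.e := P.card_X ▸ card_pos.2 ⟨_, P.one_mem⟩
  rw [← P.deg_Y ν hν] at b2 b3 b4
  rw [key ν (fun e => P.one_notMem_Y (e ▸ hν)) (by rcases P.hε with e | e <;> rw [e] at b4 <;> omega) m b1 b2 b3,
    ← add_sum_erase _ _ P.one_mem, sum_eq_zero fun χ hχ => ?_, P.s_one] at h1
  · simp at h1
  have hχ' := mem_of_mem_erase hχ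
  obtain ⟨m, b1, b2, b3⟩ := P.invol_X (by norm_num) hw hperf ht (by norm_num) hc hχ'
  have b4 := P.deg_X χ hχ'
  rw [key χ (ne_of_mem_erase hχ) (by rcases P.hs χ hχ' with e | e <;> rw [e] at b4 <;> omega) m b1 b2 b3, mul_zero]

/-- The orders of the simple groups whose order divides that of `M₁₂` and is divisible by 11. -/
theorem card_cases (hG : ¬ IsMulCommutative G) (h11 : 11 ∣ Nat.card G) (hn : Nat.card G ∣ 95040) :
    Nat.card G = 660 ∨ Nat.card G = 7920 ∨ Nat.card G = 95040 := by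
  have : Fact (Nat.Prime 11) := ⟨by norm_num⟩
  have := Fintype.ofFinite G
  have hperf := commutator_eq_top_of_simple hG
  obtain ⟨x, hx⟩ := exists_prime_orderOf_dvd_card' (G := G) 11 h11
  have h2 : ¬ 11 ^ 2 ∣ Nat.card G := fun h => absurd (h.trans hn) (by norm_num)
  obtain ⟨K⟩ := nonempty_ctx_of_orderOf hx h2
  obtain ⟨B⟩ := nonempty_PB (by norm_num) hx h2
  obtain ⟨m, c, hm, hc, hi, hG'⟩ := B.exists_card (by norm_num) hx h2
  have hN := B.card_N
  have hpos : 0 < Nat.card G := Nat.card_pos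
  by_cases hs : m < 78
  · have h3 := (Nz x).index_mul_card
    rw [hN, hc, hG'] at h3
    obtain ⟨-, h | ⟨⟨j, h⟩, -⟩⟩ := Sieve.isPsl_of (by norm_num) (psl_of_small_index K hperf (by
      rw [Nat.eq_of_mul_eq_mul_right (Nat.pos_of_mul_pos_left (hG' ▸ hpos)) h3]; omega))
    · omega
    · have : j < 4 := (Nat.pow_lt_pow_iff_right one_lt_two).1 (by omega)
      interval_cases j <;> omega
  by_contra! hne
  have hlt : Nat.card G < 218 ^ 2 := by
    obtain ⟨k, hk⟩ := hn
    rcases k with _ | _ | k <;> [omega; omega; nlinarith]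
  have he1 := B.e_ne_one hperf (by norm_num) hx h2
  have he := (by decide : ∀ n ∈ Nat.divisors 10, n ≠ 1 → n = 2 ∨ n = 5 ∨ n = 10) _
    (Nat.mem_divisors.2 ⟨B.e_dvd, by norm_num⟩) he1
  have h8 : m * (B.e * c) ∣ 8640 := Nat.dvd_of_mul_dvd_mul_left (k := 11) (by norm_num)
    (by rw [show 11 * (m * (B.e * c)) = Nat.card G by rw [hG']; ring]; exact hn)
  have hm' := (by decide +kernel : ∀ n ∈ Nat.divisors 8640, n % 11 = 1 → ¬ n < 78 →
    n = 144 ∨ n = 320 ∨ n = 540 ∨ n = 1728) _ (Nat.mem_divisors.2 ⟨Dvd.dvd.trans (Dvd.intro _ rfl) h8, by norm_num⟩) hm hs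
  have lo : ∀ χ : IrrCharacter G, χ ≠ irrOne G → 1 < charDegree (χ : G → ℂ) := fun χ h =>
    lt_of_le_of_ne χ.2.charDegree_pos fun e => h (eq_irrOne_of_degree_one hperf e.symm)
  obtain ⟨μ, hμ⟩ := B.Y_nonempty (by norm_num)
  have hμ1 : μ ≠ irrOne G := fun e => B.one_notMem_Y (e ▸ hμ)
  have k1 := fun e he => B.false_of_pbCheck (by norm_num) (by norm_num) hx hi hlt (e := e) he
    ⟨B.deg_Y μ hμ ▸ lo μ hμ1, fun χ _ => lo χ⟩
  have k2 := fun h e he => B.false_of_pbCheck (by norm_num) (by norm_num) hx hi hlt (e := e) he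
    (B.two_mul_lt hG (by norm_num) (by norm_num) hx h)
  have k3 : ¬ (c = 3 ∧ m = 144 ∧ ¬ 3 ∣ B.e) := fun ⟨h1, h3, h4⟩ =>
    not_three hG hx h2 (by omega) h4 (by rw [hN, hc, h1]) (by rw [hG', h1, h3])
  have k4 : ¬ (Nat.card G = 15840 ∧ B.e = 10 ∧ c = 1) := fun h => not_15840 hG h.1 hx B h.2.1 (by omega)
  have k5 : ¬ (Nat.card G = 31680 ∧ B.e = 10 ∧ c = 2) := fun h => not_31680 hG h.1 hx B h.2.1 (by omega)
  have h9 : m * B.e ∣ 8640 := Dvd.dvd.trans ⟨c, by ring⟩ h8
  have h10 := Nat.le_of_dvd (by norm_num) h8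
  rcases hm' with rfl | rfl | rfl | rfl <;> rcases he with he | he | he <;> replace k1 := k1 _ he <;>
    replace k2 := fun h => k2 h _ he <;> rw [he] at k1 k2 k3 k4 k5 h8 h9 h10 hG' hi
  · exact k1 (by decide +kernel)
  · have : c ∣ 12 := Nat.dvd_of_mul_dvd_mul_left (k := 720) (by norm_num) (by rwa [← mul_assoc] at h8)
    have := Nat.le_of_dvd (by norm_num) this
    by_cases h : 2 ∣ c
    · exact k2 (by omega) (by decide +kernel)
    · interval_cases c <;> omega
  · have : c ∣ 6 := Nat.dvd_of_mul_dvd_mul_left (k := 1440) (by norm_num) (by rwa [← mul_assoc] at h8)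
    have := Nat.le_of_dvd (by norm_num) this
    interval_cases c <;> omega
  iterate 3 omega
  · by_cases h : 2 ∣ c
    · exact k2 (by omega) (by decide +kernel)
    have h3 := B.mem_sumsL (by norm_num) (by norm_num) hx hi hlt fun χ _ => lo χ
    have h4 := hi ▸ B.f_dvd (by norm_num) hx
    rw [he] at h3
    have h5 := (by decide +kernel : ∀ s ∈ sumsL (sgnList 11 (540 * 2) 1 218) (2 - 1),
      1080 % (s + 1).natAbs = 0 → (s + 1).natAbs = 9) _ h3
    rw [show (B.ε * B.f - 1 + 1).natAbs = B.f by rcases B.hε with h | h <;> simp [h]] at h5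
    obtain ⟨-, j, -, -, -, h, -⟩ := K.sl_of_perfect hperf μ.2
      (μ.2.charKer_eq_bot_of_simple fun e => hμ1 (Subtype.ext e))
      (by rw [B.deg_Y μ hμ, h5 (Nat.mod_eq_zero_of_dvd h4)]) (by norm_num)
    have : j < 4 := (Nat.pow_lt_pow_iff_right one_lt_two).1 (by omega)
    interval_cases j <;> omega
  all_goals omega

end CL.Blk.M12Ord
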