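/-
Groups with the order and the character degree graph of `M₁₂`.
-/
import Cfsg.Agent.Blk.M12OrdA
import Cfsg.Agent.Blk.DegOrdB
import Cfsg.Agent.Spor.M12Cases
import Cfsg.Agent.Spor.M12Unique
import Cfsg.Agent.Spor.M11Unique
import Cfsg.Agent.Spor.M11Table
import Cfsg.Agent.Spor.OutMathieu
import Cfsg.Agent.Known.MathieuIso
import Cfsg.Agent.Fgs.SchurCover2
import Cfsg.Agent.Char.Prod
import Cfsg.Agent.S2034

set_option autoImplicit false

open Cfsg Finset CL.Char CL.Grp CL.Spor CL.Blk.DegOrd Subgroup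

namespace CL.Blk.M12Ord

variable {G : Type*} [Group G] [Finite G]

theorem degrees_m12 [IsSimpleGroup G] (hG : Nat.card G = 95040) :
    (∃ d ∈ cdSet G, 5 * 11 ∣ d) ∧ ∃ d ∈ cdSet G, 3 * 11 ∣ d := by
  classical
  obtain ⟨D⟩ := m12_nonempty_data hG
  obtain ⟨h1, -, h2⟩ := D.Z_degrees hG
  obtain ⟨k4, k0, k0', k2⟩ := D.case_two hG
  constructor
  · obtain ⟨-, x, -, y, -, -, -, h3, h4⟩ := D.exists_Y hG
    have h5 := D.sum_all fun χ => (charDegree (χ : G → ℂ) : ℤ) ^ 2
    have h6 : ∑ χ : IrrCharacter G, (charDegree (χ : G → ℂ) : ℤ) ^ 2 = 95040 := by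
      exact_mod_cast sum_charDegree_sq.trans hG
    rw [h6, h2, h3] at h5
    obtain ⟨χ, hχ⟩ : D.R.Nonempty := nonempty_iff_ne_empty.2 fun e => by
      rw [e, D.d₀, D.d₀', D.d₁, D.d₂, D.d₃] at h5
      rcases h4 with h | h <;> rw [h.1, h.2.1] at h5 <;> norm_num at h5
    exact ⟨_, χ.2.charDegree_mem_cdSet, D.dvd_R hχ⟩
  · by_contra! h
    obtain ⟨x, hx, y, hy, z, hz, nx, ny, nz, -, h3⟩ :=
      exists_three_of_card D.Z.card_Z D.Z.one_mem k4 D.B.m₄.2.1.symm
    have key : ∀ x ∈ D.Z.Z, x ≠ irrOne G ∧ x ≠ D.B.c₄ → charDegree (x : G → ℂ) = 176 := fun x hx nx => by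
      have := D.deg_cases hG (D.W_Z' hx) nx.1 (D.ne_of_Z_Y hx k0) (D.ne_of_Z_Y hx k0') (D.ne_of_Z_Y hx k2) nx.2
      have := h _ x.2.charDegree_mem_cdSet
      have := h1 x hx nx.1
      omega
    rw [h3, key x hx nx, key y hy ny, key z hz nz, D.d₄, charDegree_irrOne] at h2
    norm_num at h2

omit [Finite G] in
theorem eq_top_of_out {L : Subgroup G} [L.Normal] (hC : centralizer (L : Set G) = ⊥)
    (h : Nat.card (Out L) = 1) : L = ⊤ := by
  have := (Nat.card_eq_one_iff_unique.1 h).1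
  refine eq_top_iff.2 fun g _ => ?_
  obtain ⟨l, hl⟩ := (QuotientGroup.eq_one_iff (N := Inn L) (MulAut.conjNormal g)).1 (Subsingleton.elim _ _)
  have h1 : (l : G)⁻¹ * g ∈ centralizer (L : Set G) := fun y hy => by
    have := congrArg (fun a : MulAut L => (a ⟨y, hy⟩ : G)) hl
    simp only [MulAut.conj_apply, Subgroup.coe_mul, Subgroup.coe_inv, MulAut.conjNormal_apply] at this
    calc y * ((l : G)⁻¹ * g) = (l : G)⁻¹ * (l * y * (l : G)⁻¹) * g := by group
      _ = (l : G)⁻¹ * g * y := by rw [this]; group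
  rw [hC, mem_bot, inv_mul_eq_one] at h1
  exact h1 ▸ l.2

/-- A group of order 12 with an irreducible character of degree divisible by 3 is `A₄`. -/
theorem alt_four (hG : Nat.card G = 12) (h3 : 3 ∈ degreePrimes G) : Nonempty (G ≃* alternatingGroup (Fin 4)) := by
  have : Fact (Nat.Prime 3) := ⟨by norm_num⟩
  obtain ⟨x, hx⟩ := exists_prime_orderOf_dvd_card' (G := G) 3 (by rw [hG]; norm_num)
  have h1 : Nat.card (zpowers x) = 3 := by rw [Nat.card_zpowers, hx]
  have h2 : Nat.card (G ⧸ zpowers x) = 4 := by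
    have := card_eq_card_quotient_mul_card_subgroup (zpowers x)
    rw [h1] at this
    omega
  have h4 : (zpowers x).normalCore = ⊥ := by
    rcases (Nat.dvd_prime Nat.prime_three).1 (h1 ▸ card_dvd_of_le (zpowers x).normalCore_le) with e | e
    · exact card_eq_one.1 e
    · exact absurd h3 (not_mem_of_card_prime (by norm_num) (by rw [hG]; norm_num) _ e)
  rw [normalCore_eq_ker, MonoidHom.ker_eq_bot_iff] at h4
  let φ := (Finite.equivFinOfCardEq h2).permCongrHom.toMonoidHom.comp (MulAction.toPermHom G (G ⧸ zpowers x))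
  have h5 : Function.Injective φ := (Finite.equivFinOfCardEq h2).permCongrHom.injective.comp h4
  have h6 : φ.range.index = 2 := by
    have := φ.range.card_mul_index
    rw [← Nat.card_congr (MonoidHom.ofInjective h5).toEquiv, hG, Nat.card_perm, Nat.card_fin] at this
    simp only [Nat.factorial] at this
    omega
  exact ⟨(MonoidHom.ofInjective h5).trans (MulEquiv.subgroupCongr (Equiv.Perm.eq_alternatingGroup_of_index_eq_two h6))⟩

theorem le_cent_11 (hG : Nat.card G = 95040) (X N : Subgroup G) (_ : N.Normal) (hX : IsPGroup 11 X)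
    (hN : ¬ 11 ∣ Nat.card N) : N ≤ centralizer (X : Set G) := by
  have : Fact (Nat.Prime 11) := ⟨by norm_num⟩
  refine le_cent hX le_normalizer_of_normal hN fun r hr i hi h1 h2 => ?_
  have h3 : Nat.card N ∣ 8640 := (this.out.coprime_iff_not_dvd.2 hN).symm.dvd_of_dvd_mul_left
    (show _ ∣ 95040 from hG ▸ card_subgroup_dvd_card N)
  have h4 := (by decide +kernel : ∀ d ∈ Nat.divisors 8640, d % 11 = 1 →
    d = 1 ∨ (2 ∣ d ∧ 3 ∣ d) ∨ (2 ∣ d ∧ 5 ∣ d) ∨ (3 ∣ d ∧ 5 ∣ d)) _ (Nat.mem_divisors.2 ⟨h1.trans h3, by norm_num⟩) h2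
  have h5 : ∀ q, q.Prime → q ∣ r ^ i → q = r := fun q hq h =>
    (Nat.prime_dvd_prime_iff_eq hq hr).1 (hq.dvd_of_dvd_pow h)
  have := Nat.one_lt_pow hi.ne' hr.one_lt
  have := h5 2 (by norm_num)
  have := h5 3 (by norm_num)
  have := h5 5 (by norm_num)
  omega

theorem prod_m11 {N : Subgroup G} [N.Normal] (e : G ⧸ N ≃* Spor.M11) (hG : Nat.card G = Nat.card N * 7920)
    (hC : (centralizer (N : Set G)).map (QuotientGroup.mk' N) = ⊤) : Nonempty (G ≃* N × Spor.M11) := by
  set C := centralizer (N : Set G)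
  have := M11_simple
  have : Finite Spor.M11 := Nat.finite_of_card_ne_zero (by rw [card_M11]; norm_num)
  obtain ⟨η, hη⟩ := CL.Schur.exists_lift_of_perfect_trivial Cfsg.Agent.S2034.result
    ⟨CL.Inv.commutator_eq_top_of_simple (CL.Inv.not_isMulCommutative_of_not_prime (by rw [card_M11]; norm_num))⟩
    (MonoidHom.id _) (e.toMonoidHom.comp ((QuotientGroup.mk' N).comp C.subtype))
    (e.surjective.comp fun y => by
      obtain ⟨c, hc, rfl⟩ := hC.ge (mem_top y)
      exact ⟨⟨c, hc⟩, rfl⟩)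
    fun c hc => mem_center_iff.2 fun g => Subtype.ext (g.2 c ((QuotientGroup.eq_one_iff _).1
      (e.map_eq_one_iff.1 hc))).symm
  let ψ := N.subtype.noncommCoprod (C.subtype.comp η) fun n m => (η m).2 n n.2
  have h1 : Function.Injective ψ := (injective_iff_map_eq_one _).2 fun ⟨n, m⟩ h => by
    have h2 : (n : G) * η m = 1 := h
    have h3 : m = 1 := by
      have h4 : e (((n : G) * η m : G) : G ⧸ N) = m := by
        rw [QuotientGroup.mk_mul, (QuotientGroup.eq_one_iff _).2 n.2, one_mul]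
        exact DFunLike.congr_fun hη m
      rw [← h4, h2, QuotientGroup.mk_one, map_one]
    rw [h3, map_one, OneMemClass.coe_one, mul_one] at h2
    exact Prod.ext (Subtype.ext h2) h3
  exact ⟨(MulEquiv.ofBijective ψ (h1.bijective_of_nat_card_le (by rw [Nat.card_prod, card_M11, hG]))).symm⟩

theorem main (hG : Nat.card G = 95040) (h55 : ∃ d ∈ cdSet G, 5 * 11 ∣ d) (h33 : ∃ d ∈ cdSet G, 3 * 11 ∣ d) :
    Nonempty (G ≃* Spor.M12) ∨ Nonempty (G ≃* alternatingGroup (Fin 4) × Spor.M11) := by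
  have : Fact (Nat.Prime 11) := ⟨by norm_num⟩
  obtain ⟨d, hd, hd'⟩ := h55
  have h2 : ¬ 11 ^ 2 ∣ Nat.card G := by rw [hG]; norm_num
  obtain ⟨N, _, T, _, _, h4, h5, h6, h7⟩ := exists_simple h2
    (mem_degreePrimes this.out hd (dvd_trans (by norm_num) hd')) (le_cent_11 hG)
  have hq := card_eq_card_quotient_mul_card_subgroup N
  set C := centralizer (N : Set G)
  have hTC : T ≤ C.map (QuotientGroup.mk' N) := by
    obtain ⟨x, hx⟩ := exists_prime_orderOf_dvd_card' (G := G) 11 (by rw [hG]; norm_num)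
    have hxC : x ∈ C := le_centralizer_iff.1 (le_cent_11 hG (zpowers x) N inferInstance
      (IsPGroup.of_card (n := 1) (by rw [Nat.card_zpowers, hx, pow_one])) h6) (mem_zpowers x)
    have hx1 : (x : G ⧸ N) ≠ 1 := fun e => h6 (hx ▸ N.orderOf_dvd_natCard ((QuotientGroup.eq_one_iff x).1 e))
    have hxT : (x : G ⧸ N) ∈ T := mem_of_orderOf (fun e => h2 (e.trans (Dvd.intro _ hq.symm))) h5
      (orderOf_eq_prime (by rw [← QuotientGroup.mk_pow, ← hx, pow_orderOf_eq_one, QuotientGroup.mk_one]) hx1)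
      (le_normalizer_of_normal (mem_top _))
    have : (C.map (QuotientGroup.mk' N)).Normal := Normal.map inferInstance _ (QuotientGroup.mk'_surjective N)
    refine subgroupOf_eq_top.1 ((IsSimpleGroup.eq_bot_or_eq_top_of_normal _ inferInstance).resolve_left fun e => ?_)
    exact hx1 (congrArg Subtype.val (e.le (show ⟨_, hxT⟩ ∈ _ from ⟨x, hxC, rfl⟩)))
  have := Fintype.ofFinite T
  rcases card_cases h4 h5 (hG ▸ (card_subgroup_dvd_card T).trans (card_quotient_dvd_card N)) with e | e | e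
  · exfalso
    set L := C ⊓ T.comap (QuotientGroup.mk' N)
    let f := (QuotientGroup.mk' N).comp L.subtype
    have a1 : f.range = T := le_antisymm (by rintro _ ⟨l, rfl⟩; exact l.2.2) fun t ht => by
      obtain ⟨c, hc, rfl⟩ := hTC ht
      exact ⟨⟨c, hc, ht⟩, rfl⟩
    have a2 : f.ker.index = 660 := by rw [index_ker, a1, e]
    have a3 : f.ker ≤ center L := fun c hc => mem_center_iff.2 fun g =>
      Subtype.ext (g.2.1 c ((QuotientGroup.eq_one_iff _).1 hc)).symm
    obtain ⟨k, m, a4, a5, rfl⟩ := exists_mem_cdSet_normal L hd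
    obtain ⟨χ, hχ, rfl⟩ := mem_cdSet.1 a5
    have a6 := hχ.charDegree_sq_le_index_center.trans (Nat.le_of_dvd (by omega) (index_dvd_of_le a3))
    obtain ⟨c, hc⟩ : 660 ∣ Nat.card L := a2 ▸ f.ker.index_dvd_card
    have a7 : k ∣ 144 := a4.trans ⟨c, by have := L.card_mul_index; rw [hc, hG] at this; linarith⟩
    have a8 := Nat.le_of_dvd hχ.charDegree_pos
      ((Nat.Coprime.coprime_dvd_right a7 (by norm_num)).dvd_of_dvd_mul_left hd')
    nlinarith
  · have hT : T = ⊤ := eq_top_of_out h7 (Des.card_out_of_isM11 ⟨inferInstance, e⟩)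
    subst hT
    obtain ⟨f⟩ := nonempty_mulEquiv_of_isM11 (G := (⊤ : Subgroup (G ⧸ N))) ⟨inferInstance, e⟩ ⟨M11_simple, card_M11⟩
    rw [card_top] at e
    obtain ⟨g⟩ := prod_m11 (topEquiv.symm.trans f) (by rw [hq, e, mul_comm]) (top_le_iff.1 hTC)
    have : Finite Spor.M11 := Nat.finite_of_card_ne_zero (by rw [card_M11]; norm_num)
    have := M11_simple
    obtain ⟨d, hd, hd'⟩ := h33
    obtain ⟨χ, hχ, rfl⟩ := mem_cdSet.1 (cdSet_eq_of_mulEquiv g ▸ hd)
    obtain ⟨φ, ψ, hφ, hψ, rfl⟩ := hχ.exists_prod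
    rw [charDegree_eq_of_eq (n := charDegree φ * charDegree ψ)
      (by simp [hφ.cast_charDegree, hψ.cast_charDegree])] at hd'
    have hN : Nat.card N = 12 := by rw [e] at hq; omega
    have a1 : 11 ∣ charDegree ψ := ((by norm_num : Nat.Prime 11).dvd_mul.1 (dvd_trans (by norm_num) hd')).resolve_left fun h =>
      h6 (h.trans (dvd_card_of_mem_cdSet hφ.charDegree_mem_cdSet))
    have a2 := m11_card_degree card_M11 (charDegree ψ)
    have : Nonempty {χ : IrrCharacter Spor.M11 // charDegree (χ : Spor.M11 → ℂ) = charDegree ψ} := ⟨⟨⟨ψ, hψ⟩, rfl⟩⟩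
    have a3 := a2 ▸ Nat.card_pos (α := {χ : IrrCharacter Spor.M11 // charDegree (χ : Spor.M11 → ℂ) = charDegree ψ})
    obtain ⟨k⟩ := alt_four hN (mem_degreePrimes Nat.prime_three hφ.charDegree_mem_cdSet
      ((Nat.prime_three.dvd_mul.1 (dvd_trans (by norm_num) hd')).resolve_right (by split_ifs at a3 <;> omega)))
    exact .inr ⟨g.trans (k.prodCongr (MulEquiv.refl _))⟩
  · exact .inl (nonempty_mulEquiv_of_isM12 ⟨simple_of_card (e.trans hG.symm), hG⟩ ⟨M12_simple, card_M12⟩)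

end CL.Blk.M12Ord
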