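/-
Sylow subgroups of prime order whose centralizer is `P × Z(G)`: Gaussian periods and sums over the
normalizer.
-/
import Cfsg.Agent.Blk.SmPSL
import Cfsg.Agent.Inv.DegPm2b

set_option autoImplicit false
set_option linter.unusedSectionVars false
set_option linter.style.haveILetI false

open Finset Module Subgroup CL.Inv.PO CL.Char Cfsg ComplexConjugate
open scoped Classical commutatorElement

namespace CL.Blk.Sm

variable {G : Type*} [Group G] [Fintype G] {p : ℕ} [hp : Fact p.Prime] {x : G} {C : Subgroup G}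
  (K : Ctx p x C)

/-- Gaussian periods. -/
noncomputable def eta (l : ZMod p) : ℂ :=
  ∑ u : K.a.range, K.ω ^ (((u : (ZMod p)ˣ) : ZMod p) * l).val

theorem card_range_a : (Fintype.card K.a.range : ℂ) = K.f := by
  rw [Ctx.f, Nat.card_eq_fintype_card]

theorem ω_pow_add (a b : ZMod p) : K.ω ^ (a + b).val = K.ω ^ a.val * K.ω ^ b.val :=
  pow_val_add (K.lamC_pow _) a b

theorem conj_ω_pow (a : ZMod p) : conj (K.ω ^ a.val) = K.ω ^ (-a).val := by
  have h1 : ‖K.ω ^ a.val‖ = 1 := by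
    rw [norm_pow, Complex.norm_eq_one_of_pow_eq_one (K.lamC_pow K.xC) hp.out.ne_zero, one_pow]
  rw [← Complex.inv_eq_conj h1]
  exact inv_eq_of_mul_eq_one_right (by rw [← ω_pow_add]; simp)

theorem conj_eta (l : ZMod p) : conj (eta K l) = eta K (-l) := by
  simp only [eta, map_sum, conj_ω_pow, mul_neg]

theorem sum_eta (l : (ZMod p)ˣ) : ∑ j : (ZMod p)ˣ, eta K (l * j) = -K.f := by
  simp only [eta]
  rw [sum_comm, sum_congr rfl (g := fun _ => -1) fun u _ => by
    simp only [← mul_assoc]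
    rw [K.sum_ω_pow_units, if_neg (by simp), zero_sub]]
  rw [sum_const, card_univ, nsmul_eq_mul, card_range_a, mul_neg_one]

theorem sum_eta_mul_eta (i l : (ZMod p)ˣ) : ∑ j : (ZMod p)ˣ, eta K (i * j) * eta K (l * j) =
    (if -(i⁻¹ * l) ∈ K.a.range then (p * K.f : ℂ) else 0) - K.f ^ 2 := by
  simp only [eta, sum_mul_sum, ← ω_pow_add, ← mul_assoc, ← add_mul]
  rw [sum_comm, sum_congr rfl fun u _ => sum_comm]
  simp only [K.sum_ω_pow_units, sum_sub_distrib, sum_const, card_univ, nsmul_eq_mul, card_range_a,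
    mul_one, ← pow_two]
  congr 1
  have h : ∀ u v : K.a.range, ((u : (ZMod p)ˣ) : ZMod p) * i + ((v : (ZMod p)ˣ) : ZMod p) * l = 0 ↔
      (u : (ZMod p)ˣ) = -(i⁻¹ * l) * v := fun u v => by
    rw [← Units.val_inj, add_eq_zero_iff_eq_neg, ← Units.eq_mul_inv_iff_mul_eq]
    push_cast
    ring_nf
  simp only [h]
  split_ifs with h1
  · rw [sum_comm, sum_congr rfl (g := fun _ => (p : ℂ)) fun v _ => by
      rw [Fintype.sum_eq_single (⟨_, h1⟩ * v : K.a.range)]
      · exact if_pos rfl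
      · exact fun u hu => if_neg fun e => hu (Subtype.ext e)]
    rw [sum_const, card_univ, nsmul_eq_mul, card_range_a, mul_comm]
  · refine sum_eq_zero fun u _ => sum_eq_zero fun v _ => if_neg fun e => h1 ?_
    rw [← mul_inv_eq_iff_eq_mul] at e
    exact e ▸ (u * v⁻¹).2

theorem sum_N_a (F : (ZMod p)ˣ → ℂ) :
    ∑ n : Nz x, F (K.a n) = Nat.card C * ∑ u : K.a.range, F u := by
  have h := sum_comp_of_surjective K.a.rangeRestrict K.a.rangeRestrict_surjective fun u => F u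
  rwa [MonoidHom.ker_rangeRestrict, K.card_ker_a] at h

theorem sum_mul_eta {φ : G → ℂ} (hφ : IsClassFunction G φ) (l : ZMod p) :
    ∑ j : (ZMod p)ˣ, φ (x ^ (j : ZMod p).val) * eta K (l * j) =
      K.f * (∑ j : ZMod p, φ (x ^ j.val) * K.ω ^ (l * j).val - φ 1) := by
  simp only [eta, mul_sum]
  rw [sum_comm, sum_congr rfl (g := fun _ => ∑ j : ZMod p, φ (x ^ j.val) * K.ω ^ (l * j).val - φ 1)
    fun u _ => ?_, sum_const, card_univ, nsmul_eq_mul, card_range_a]
  rw [sum_zmod_units, ← Equiv.sum_comp (Equiv.mulLeft (u : (ZMod p)ˣ))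
    fun j : (ZMod p)ˣ => φ (x ^ (j : ZMod p).val) * K.ω ^ (l * j).val]
  simp only [ZMod.val_zero, pow_zero, mul_zero, mul_one, add_sub_cancel_left, Equiv.coe_mulLeft]
  refine sum_congr rfl fun j _ => ?_
  rw [hφ.apply_eq_of_isConj ((K.isConj_pow_iff j (u * j)).2 (by simp)), Units.val_mul,
    mul_left_comm]

include K in
theorem isConj_mul_of_notMem {u n : G} (hu : u ∈ zpowers x) (hn : n ∈ Nz x) (hn' : n ∉ C) :
    IsConj n (u * n) := by
  obtain ⟨k, rfl⟩ := exists_pow_val_of_mem K.hx hu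
  have ha : (1 : ZMod p) - K.a ⟨n, hn⟩ ≠ 0 := fun h =>
    hn' ((K.a_eq_one_iff ⟨n, hn⟩).1 (Units.ext (sub_eq_zero.1 h).symm))
  set j := k / (1 - K.a ⟨n, hn⟩) with hj
  refine isConj_iff.2 ⟨x ^ j.val, ?_⟩
  have h1 : n * x ^ j.val * n⁻¹ = x ^ ((K.a ⟨n, hn⟩ : ZMod p) * j).val := by
    rw [← conj_pow, pow_val_mul K.x_pow, K.a_spec]
  have h2 : j = k + K.a ⟨n, hn⟩ * j := by
    have : j * (1 - K.a ⟨n, hn⟩) = k := div_mul_cancel₀ _ ha
    linear_combination this
  have h3 : x ^ j.val = x ^ k.val * (n * x ^ j.val * n⁻¹) := by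
    rw [h1, ← pow_val_add K.x_pow, ← h2]
  calc x ^ j.val * n * (x ^ j.val)⁻¹
      = x ^ k.val * (n * x ^ j.val * n⁻¹) * n * (x ^ j.val)⁻¹ := by rw [← h3]
    _ = x ^ k.val * n := by group

include K in
theorem sum_N_eq_sum_C {F : G → ℂ} (h : ∀ n ∈ Nz x, n ∉ C → F n = 0) :
    ∑ n : Nz x, F n = ∑ c : C, F c :=
  (Fintype.sum_of_injective (inclusion K.C_le_N) (inclusion_injective _) _ _
    (fun n hn => h n n.2 fun hc => hn ⟨⟨n, hc⟩, rfl⟩) fun _ => rfl).symm

theorem sum_N_eq_sum_H (F : G → ℂ) :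
    ∑ n : Nz x, F n = ∑ h : K.H, ∑ j : ZMod p, F (x ^ j.val * h) := by
  rw [← Fintype.sum_prod_type']
  symm
  refine Fintype.sum_bijective (fun q => ⟨x ^ q.2.val * q.1,
    mul_mem (le_normalizer (npow_mem_zpowers _ _)) (K.H_le q.1.2)⟩)
    ⟨fun q q' e => ?_, fun n => ?_⟩ _ _ fun _ => rfl
  · have e1 : x ^ q.2.val * q.1 = x ^ q'.2.val * q'.1 := congrArg Subtype.val e
    have e2 : (q'.1 : G) * (q.1 : G)⁻¹ = 1 := K.H_inf _ (mul_mem q'.1.2 (inv_mem q.1.2)) (by
      rw [eq_inv_mul_of_mul_eq e1.symm, mul_assoc, mul_inv_cancel_right]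
      exact mul_mem (inv_mem (npow_mem_zpowers _ _)) (npow_mem_zpowers _ _))
    rw [mul_inv_eq_one] at e2
    rw [e2, mul_left_inj] at e1
    exact Prod.ext (Subtype.ext e2.symm) (pow_val_inj K.hx e1)
  · obtain ⟨j, hj⟩ := exists_pow_val_of_mem K.hx (inv_mem (K.π_spec _ (inv_mem n.2)))
    refine ⟨(⟨_, inv_mem (K.π_mem _ (inv_mem n.2))⟩, j), Subtype.ext ?_⟩
    simp [hj]

theorem card_N_eq : (Nat.card (Nz x) : ℂ) = p * Nat.card K.H := by
  simpa [mul_comm] using sum_N_eq_sum_H K fun _ => 1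

/-- The `p`-regular elements of the centralizer are central. -/
def Cen (_ : Ctx p x C) : Prop := ∀ v ∈ C, ¬ p ∣ orderOf v → v ∈ center G

variable {K} (hc : Cen K)
include hc

theorem Cen.of_mem_H {z : G} (h : z ∈ K.H) (h' : z ∈ C) : z ∈ center G :=
  hc z h' ((K.mem_H_iff ⟨z, h'⟩).1 h)

theorem Cen.sum_coset {F : G → ℂ} (hF : ∀ z ∈ center G, ∀ g, F (z * g) = F g) {c : G} (h : c ∈ C) :
    ∑ j : ZMod p, F (x ^ j.val * c) = ∑ j : ZMod p, F (x ^ j.val) := by
  obtain ⟨z, i, hz, e⟩ := K.exists_decomp ⟨c, h⟩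
  have e' : c = x ^ i.val * z := congrArg Subtype.val e
  rw [← Equiv.sum_comp (Equiv.addRight i) fun j => F (x ^ j.val)]
  refine sum_congr rfl fun j _ => ?_
  rw [e', ← mul_assoc, mem_center_iff.1 (hc.of_mem_H hz z.2), hF _ (hc.of_mem_H hz z.2),
    ← pow_val_add K.x_pow, Equiv.coe_addRight]

theorem Cen.sum_C {F : G → ℂ} (hF : ∀ z ∈ center G, ∀ g, F (z * g) = F g) :
    p * ∑ c : C, F c = Nat.card C * ∑ j : ZMod p, F (x ^ j.val) := by
  rw [← sum_cosetAvg (N := (zpowers x).subgroupOf C) fun c : C => F c]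
  simp only [K.cosetAvg_res K.P_le_C, hc.sum_coset hF (Subtype.prop _), sum_const, card_univ,
    nsmul_eq_mul, Nat.card_eq_fintype_card]
  have : (p : ℂ) ≠ 0 := Nat.cast_ne_zero.2 hp.out.ne_zero
  field_simp

theorem Cen.avg_N {F : G → ℂ} (hF : ∀ z ∈ center G, ∀ g, F (z * g) = F g)
    (h : ∀ n ∈ Nz x, n ∉ C → F n = 0) :
    p * K.f * ((Nat.card (Nz x) : ℂ)⁻¹ * ∑ n : Nz x, F n) = ∑ j : ZMod p, F (x ^ j.val) := by
  have h1 : (K.f : ℂ) ≠ 0 := Nat.cast_ne_zero.2 K.f_pos.ne'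
  have h2 := natCard_subgroup_ne_zero C
  rw [sum_N_eq_sum_C K h, K.card_N, ← mul_right_inj' h2, ← hc.sum_C hF]
  push_cast
  field_simp

/-- Class functions supported on the `p`-singular elements. -/
theorem Cen.avg_G {F : G → ℂ} (hF' : IsClassFunction G F)
    (hF : ∀ z ∈ center G, ∀ g, F (z * g) = F g) (h : ∀ g, ¬ p ∣ orderOf g → F g = 0) :
    p * K.f * ((Nat.card G : ℂ)⁻¹ * ∑ g, F g) = ∑ j : ZMod p, F (x ^ j.val) := by
  have h1 : indFun C (fun c : C => F c) = (K.f : ℂ) • F := funext fun g => by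
    by_cases hg : p ∣ orderOf g
    · obtain ⟨y, hy⟩ := K.exists_conj_mem_C hg
      rw [← indFun_conj _ g y, K.indFun_apply_sing _ (c := ⟨_, hy⟩) (by
        rwa [← orderOf_eq_of_isConj (isConj_iff.2 ⟨y, rfl⟩)])]
      simp only [K.coe_cj, hF' _ _, K.avg_const, Pi.smul_apply, smul_eq_mul]
    · rw [indFun_apply_reg (fun c hc => h c hc) hg, Pi.smul_apply, h g hg, smul_zero]
  have h2 := frobenius_reciprocity (H := C) (fun c : C => F c) (isClassFunction_const (G := G) 1)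
  rw [h1, classInner_smul_left, classInner_one_right, classInner_one_right] at h2
  rw [mul_assoc, h2, mul_left_comm, hc.sum_C hF, inv_mul_cancel_left₀ (natCard_subgroup_ne_zero C)]

/-- Frobenius formula for the normalizer. -/
theorem Cen.frob {F : G → ℂ} (hF' : IsClassFunction G F)
    (hF : ∀ z ∈ center G, ∀ g, F (z * g) = F g) {a b : ℂ}
    (ha : Nat.card (Nz x) * a = ∑ n : Nz x, F n) (hb : Nat.card K.H * b = ∑ h : K.H, F h) :
    p * K.f * a = p * K.f * b - p * F 1 + ∑ j : ZMod p, F (x ^ j.val) := by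
  set S := ∑ j : ZMod p, F (x ^ j.val)
  have h1 := sum_N_eq_sum_H K fun g => if g ∈ C then 1 else 0
  rw [sum_N_eq_sum_C K fun n _ hn => if_neg hn] at h1
  simp only [Subtype.prop, if_true, sum_const, card_univ, nsmul_eq_mul, mul_one,
    mul_mem_cancel_left (K.P_le_C (npow_mem_zpowers _ _)), ZMod.card,
    ← Nat.card_eq_fintype_card (α := C), ← mul_sum] at h1
  have h2 : ∑ n : Nz x, F n = p * ∑ h : K.H, F h +
      (∑ h : K.H, if (h : G) ∈ C then 1 else 0) * (S - p * F 1) := by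
    rw [sum_N_eq_sum_H K, mul_sum, sum_mul, ← sum_add_distrib]
    refine sum_congr rfl fun h _ => ?_
    split_ifs with e
    · rw [hc.sum_coset hF e, ← hF _ (hc.of_mem_H h.2 e) 1, mul_one]
      ring
    · simp [← hF'.apply_eq_of_isConj
        (isConj_mul_of_notMem K (npow_mem_zpowers _ _) (K.H_le h.2) e)]
  have h3 := card_N_eq K
  have h4 : (Nat.card (Nz x) : ℂ) = K.f * Nat.card C := by exact_mod_cast K.card_N
  refine mul_left_cancel₀ (natCard_subgroup_ne_zero C) ?_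
  rw [← ha, ← hb] at h2
  linear_combination p * h2 - (S - p * F 1) * h1 - p * (a - b) * h4 - p * b * h3

theorem Cen.commutator_le : commutator (Nz x) ≤ (zpowers x).subgroupOf (Nz x) := by
  have h := (K.a.comp (inclusion K.H_le)).isMulCommutative_of_isCyclic_of_ker_le_center
    fun z hz => mem_center_iff.2 fun y => Subtype.ext
      (mem_center_iff.1 (hc.of_mem_H z.2 ((K.a_eq_one_iff _).1 hz)) y)
  let f : Nz x →* K.H := MonoidHom.mk' (fun n => ⟨K.π n, K.π_mem n n.2⟩)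
    fun n m => Subtype.ext (K.π_mul n.2 m.2)
  refine (Subgroup.commutator_le.2 fun n _ m _ => (?_ : _ ∈ f.ker)).trans fun n hn => ?_
  · rw [MonoidHom.mem_ker, map_commutatorElement]
    exact commutatorElement_eq_one_iff_mul_comm.2 (h.is_comm.comm _ _)
  · have h1 : K.π n = 1 := congrArg Subtype.val hn
    simpa [h1, mem_subgroupOf] using K.π_spec n n.2

/-- The inner product of a restriction to the normalizer with a linear character. -/
noncomputable abbrev inN (φ : G → ℂ) (ψ : Nz x →* ℂˣ) : ℂ :=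
  classInner (fun n : Nz x => φ n) fun n => (ψ n : ℂ)

theorem Cen.exists_lin {φ : G → ℂ} (hφ : IsCharacter G φ) (h : ∑ j : ZMod p, φ (x ^ j.val) ≠ 0) :
    ∃ ψ : Nz x →* ℂˣ, TrivP ψ ∧ inN φ ψ ≠ 0 ∧
      (∑ j : ZMod p, φ (x ^ j.val) = p → ∀ n : Nz x, (n : G) ∉ C → φ n = ψ n) := by
  have := Ctx.normal_subgroupOf (x := x) le_rfl
  have hp0 : (p : ℂ) ≠ 0 := Nat.cast_ne_zero.2 hp.out.ne_zero
  have hγ := isCharacter_cosetAvg (N := (zpowers x).subgroupOf (Nz x)) (hφ.restrict (Nz x))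
  have h0 := K.cosetAvg_res le_normalizer φ 1
  simp only [OneMemClass.coe_one, mul_one] at h0
  obtain ⟨β, hβ, hb⟩ := hγ.exists_irr_classInner_ne_zero fun e => by simp [e, h, hp0] at h0
  have h1 := (le_charKer_cosetAvg _).trans (hγ.charKer_le_of_classInner_ne_zero hβ hb)
  obtain ⟨ψ, rfl⟩ := hβ.isCharacter.exists_monoidHom_of_one
    (hβ.one_eq_one_iff.2 (hc.commutator_le.trans h1))
  refine ⟨ψ, fun n hn => (charKer_monoidHom ψ ▸ h1) hn, by rwa [classInner_cosetAvg_left _ h1] at hb,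
    fun e n hn => ?_⟩
  have h2 := congrFun (hγ.eq_of_classInner_ne_zero_of_one_eq hβ hb (by simp [h0, e, hp0])) n
  rw [K.cosetAvg_res le_normalizer, sum_congr rfl fun j _ => hφ.isClassFunction.apply_eq_of_isConj
    (isConj_mul_of_notMem K (npow_mem_zpowers x j.val) n.2 hn).symm] at h2
  simpa [hp0] using h2

omit hc hp in
theorem eq_of_inN_ne_zero {φ : G → ℂ} {ψ : Nz x →* ℂˣ} (h : inN φ ψ ≠ 0) (z : Nz x) {c : ℂ}
    (hz : ∀ g, φ (z * g) = c * φ g) : c * conj (ψ z : ℂ) = 1 := by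
  have h1 := right_ne_zero_of_mul h
  refine mul_right_cancel₀ h1 ?_
  rw [one_mul, mul_sum, ← Equiv.sum_comp (Equiv.mulLeft z) fun n : Nz x => φ n * conj (ψ n : ℂ)]
  refine sum_congr rfl fun n _ => ?_
  simp only [Equiv.coe_mulLeft, MulMemClass.coe_mul, hz, map_mul, Units.val_mul]
  ring

/-- Comparison of inner products on the normalizer. -/
theorem Cen.inN_sub {φ φ' τ : G → ℂ} {ψ : Nz x →* ℂˣ} (hψ : TrivP ψ)
    (hτ : ∀ z : Nz x, (z : G) ∈ center G → τ z * conj (ψ z : ℂ) = 1)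
    (h1 : ∀ z ∈ center G, ∀ g, φ (z * g) = τ z * φ g)
    (h2 : ∀ z ∈ center G, ∀ g, φ' (z * g) = τ z * φ' g) (h : ∀ n ∈ Nz x, n ∉ C → φ n = φ' n) :
    p * K.f * (inN φ ψ - inN φ' ψ) = ∑ j : ZMod p, (φ (x ^ j.val) - φ' (x ^ j.val)) := by
  have h3 := hc.avg_N (F := fun g => (φ g - φ' g) * conj (extendByZero (Nz x) (fun n => ψ n) g))
    (fun z hz g => ?_) fun n hn hn' => by rw [h n hn hn', sub_self, zero_mul]
  · rw [← classInner_sub_left, classInner_def]
    convert h3 using 4 with n _ j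
    · rw [extendByZero_of_mem _ n.2]
      rfl
    · rw [extendByZero_of_mem _ (le_normalizer (npow_mem_zpowers _ _)),
        hψ _ (npow_mem_zpowers _ _)]
      simp
  · have hzN : z ∈ Nz x := center_le_normalizer _ hz
    by_cases hg : g ∈ Nz x
    · rw [extendByZero_of_mem _ hg, extendByZero_of_mem _ (mul_mem hzN hg), h1 z hz, h2 z hz,
        show (⟨z * g, mul_mem hzN hg⟩ : Nz x) = ⟨z, hzN⟩ * ⟨g, hg⟩ from rfl, map_mul, Units.val_mul,
        map_mul]
      linear_combination (φ g - φ' g) * conj (ψ ⟨g, hg⟩ : ℂ) * hτ ⟨z, hzN⟩ hz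
    · simp [extendByZero_of_not_mem _ hg,
        extendByZero_of_not_mem _ (mt (mul_mem_cancel_left hzN).1 hg)]

end CL.Blk.Sm
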