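/-
Weight spaces of the tensor product of two uniserial modules.
-/
import Cfsg.Agent.Blk.SmOne

set_option autoImplicit false
set_option linter.unusedSectionVars false
set_option linter.style.haveILetI false

open Finset Module
open scoped Classical

namespace CL.Blk.Sm

variable {k W : Type*} [Field k] [AddCommGroup W] [Module k W]

/-- The dimension of a weight space. -/
noncomputable def wd (ν : End k W) (γ : k) : ℕ := finrank k (ν.eigenspace γ)

theorem finrank_inf_eigenspace_le {ν : End k W} {α : Type*} (S : Finset α) (v : α → W) (w : α → k)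
    (hv : ∀ q ∈ S, ν (v q) = w q • v q) {U : Submodule k W}
    (hU : U ≤ Submodule.span k (v '' S)) (γ : k) :
    finrank k (U ⊓ ν.eigenspace γ : Submodule k W) ≤ #{q ∈ S | w q = γ} := by
  have h : U ⊓ ν.eigenspace γ ≤ Submodule.span k (({q ∈ S | w q = γ}.image v : Finset W) : Set W) := by
    rintro u ⟨hu, hu'⟩
    obtain ⟨c, rfl⟩ := (Submodule.mem_span_image_finset_iff_exists_fun' k).1 (hU hu)
    rw [← sum_filter_add_sum_filter_not S fun q => w q = γ] at hu' ⊢
    have h1 : ∑ q ∈ S with w q = γ, c q • v q ∈ ν.eigenspace γ :=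
      Submodule.sum_mem _ fun q hq => Submodule.smul_mem _ _ (End.mem_eigenspace_iff.2
        ((mem_filter.1 hq).2 ▸ hv q (mem_filter.1 hq).1))
    have h2 := Submodule.disjoint_def.1 (ν.eigenspaces_iSupIndep γ) _
      ((Submodule.add_mem_iff_right _ h1).1 hu') (Submodule.sum_mem _ fun q hq =>
        Submodule.smul_mem _ _ (Submodule.mem_iSup_of_mem (w q) (Submodule.mem_iSup_of_mem
          (mem_filter.1 hq).2 (End.mem_eigenspace_iff.2 (hv q (mem_filter.1 hq).1)))))
    rw [h2, add_zero]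
    exact Submodule.sum_mem _ fun q hq => Submodule.smul_mem _ _
      (Submodule.subset_span (mem_coe.2 (mem_image_of_mem v hq)))
  exact (Submodule.finrank_mono h).trans ((finrank_span_finset_le_card _).trans card_image_le)

theorem card_le_finrank_eigenspace [FiniteDimensional k W] {ν : End k W} {α : Type*} [Fintype α]
    {v : α → W} (hli : LinearIndependent k v) (w : α → k) (hv : ∀ q, ν (v q) = w q • v q) (γ : k) :
    #{q | w q = γ} ≤ wd ν γ := by
  have h : LinearIndependent k fun q : {q // w q = γ} =>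
      (⟨v q, End.mem_eigenspace_iff.2 (by rw [hv q, q.2])⟩ : ν.eigenspace γ) :=
    LinearIndependent.of_comp (Submodule.subtype _) (hli.comp _ Subtype.val_injective)
  simpa [Fintype.card_subtype, wd] using h.fintype_card_le_finrank

theorem add_pow_mul_mem {a b : End k W} (hab : Commute a b) (g : W) (U : Submodule k W) (m i j : ℕ)
    (h : ∀ i' j', i ≤ i' → j ≤ j' → i' + j' = m + i + j → (a ^ i' * b ^ j') g ∈ U) :
    ((a + b) ^ m * (a ^ i * b ^ j)) g ∈ U := by
  induction m generalizing i j with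
  | zero => simpa using h i j le_rfl le_rfl (by omega)
  | succ m ih =>
    rw [pow_succ, mul_assoc, add_mul, ← mul_assoc a, ← pow_succ', ← mul_assoc b,
      ← (hab.pow_left i).eq, mul_assoc, ← pow_succ', mul_add, LinearMap.add_apply]
    exact add_mem (ih _ _ fun i' j' h1 h2 h3 => h i' j' (by omega) h2 (by omega))
      (ih _ _ fun i' j' h1 h2 h3 => h i' j' h1 (by omega) (by omega))

theorem apply_pow_mul_pow {a b ν : End k W} {s γ : k} (ha : ν * a = s • (a * ν))
    (hb : ν * b = s • (b * ν)) {g : W} (hg : ν g = γ • g) (i j : ℕ) :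
    ν ((a ^ i * b ^ j) g) = (γ * s ^ (i + j)) • (a ^ i * b ^ j) g := by
  rw [End.mul_apply, apply_pow_of_comm ha, apply_pow_of_comm hb, hg, map_smul, map_smul, map_smul,
    smul_smul, smul_smul, pow_add]
  congr 1
  ring

theorem exists_pow_eq_of_pow_eq {s : k} {e : ℕ} (hs : IsPrimitiveRoot s e) (he : 0 < e) {γ γ₀ : k}
    (h0 : γ₀ ≠ 0) (h : γ ^ e = γ₀ ^ e) (n : ℕ) : ∃ j < e, γ₀ * s ^ (n + j) = γ := by
  have := NeZero.of_pos he
  have h1 := hs.ne_zero he.ne'
  obtain ⟨j, hj, e1⟩ := hs.eq_pow_of_pow_eq_one (ξ := γ / (γ₀ * s ^ n)) (by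
    rw [div_pow, mul_pow, ← pow_mul, mul_comm n, pow_mul, hs.pow_eq_one, one_pow, mul_one, h,
      div_self (pow_ne_zero _ h0)])
  exact ⟨j, hj, by rw [pow_add, e1, ← mul_assoc, mul_div_cancel₀ _ (by simp [h0, h1])]⟩

/-- The tensor product of two uniserial modules of length `d`. -/
structure Mono (a b ν : End k W) (g : W) (s γ₀ : k) (d e : ℕ) : Prop where
  comm : Commute a b
  ad : a ^ d = 0
  bd : b ^ d = 0
  νa : ν * a = s • (a * ν)
  νb : ν * b = s • (b * ν)
  νg : ν g = γ₀ • g
  ne : γ₀ ≠ 0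
  span : ∀ U : Submodule k W, (∀ i j, (a ^ i * b ^ j) g ∈ U) → U = ⊤
  dim : finrank k W = d * d
  prim : IsPrimitiveRoot s e
  pos : 0 < e

namespace Mono

variable [FiniteDimensional k W] {a b ν : End k W} {g : W} {s γ₀ : k} {d e : ℕ}
  (h : Mono a b ν g s γ₀ d e)
include h

theorem eq_zero {i j : ℕ} (hij : d ≤ i ∨ d ≤ j) : (a ^ i * b ^ j) g = 0 := by
  rcases hij with hi | hj
  · simp [pow_eq_zero_of_le hi h.ad]
  · simp [pow_eq_zero_of_le hj h.bd]

theorem range_le {T : End k W} {U : Submodule k W}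
    (hU : ∀ i j, i < d → j < d → (T * (a ^ i * b ^ j)) g ∈ U) : LinearMap.range T ≤ U := by
  rw [LinearMap.range_le_iff_comap]
  refine h.span _ fun i j => ?_
  by_cases hij : d ≤ i ∨ d ≤ j
  · simp [h.eq_zero hij]
  · exact hU i j (by omega) (by omega)

theorem card_le (γ : k) : #{q ∈ range d ×ˢ range d | γ₀ * s ^ (q.1 + q.2) = γ} ≤
    wd ν γ := by
  have h1 : LinearIndependent k fun q : Fin d × Fin d => (a ^ (q.1 : ℕ) * b ^ (q.2 : ℕ)) g :=
    linearIndependent_of_top_le_span_of_card_eq_finrank (by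
      rw [← LinearMap.range_id, ← End.one_eq_id]
      exact h.range_le fun i j hi hj => Submodule.subset_span ⟨(⟨i, hi⟩, ⟨j, hj⟩), rfl⟩)
      (by simp [h.dim])
  refine le_trans (le_of_eq ?_) (card_le_finrank_eigenspace h1 _
    (fun q => apply_pow_mul_pow h.νa h.νb h.νg q.1 q.2) γ)
  refine (card_bij (fun q _ => ((q.1 : ℕ), (q.2 : ℕ))) (fun q hq => by simpa using hq)
    (fun q _ q' _ e => by simpa [Prod.ext_iff, Fin.ext_iff] using e) fun q hq => ?_).symm
  simp only [mem_filter, mem_product, mem_range] at hq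
  exact ⟨(⟨q.1, hq.1.1⟩, ⟨q.2, hq.1.2⟩), by simpa using hq.2, rfl⟩

theorem sq_le {γ : k} (hγ : γ ^ e = γ₀ ^ e) :
    d * d ≤ ∑ j ∈ range e, wd ν (γ * s ^ j) := by
  refine le_trans ?_ (sum_le_sum fun j _ => h.card_le _)
  refine le_trans ?_ card_biUnion_le
  rw [show d * d = #(range d ×ˢ range d) by simp]
  refine card_le_card fun q hq => ?_
  obtain ⟨j, hj, e1⟩ := exists_pow_eq_of_pow_eq h.prim h.pos (γ := γ₀ * s ^ (q.1 + q.2)) (γ₀ := γ)
    (fun h0 => by simp [h0, h.pos.ne', eq_comm, h.ne] at hγ) (by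
      rw [mul_pow, ← pow_mul, mul_comm _ e, pow_mul, h.prim.pow_eq_one, one_pow, mul_one, hγ]) 0
  exact mem_biUnion.2 ⟨j, mem_range.2 hj, mem_filter.2 ⟨hq, by rw [← e1, zero_add]⟩⟩

theorem mul_add_le {γ : k} (hγ : γ ^ e = γ₀ ^ e) (m : ℕ) :
    m * (d * d) + wd ν γ ≤
      ∑ j ∈ range (m * e + 1), wd ν (γ * s ^ j) := by
  induction m with
  | zero => simp
  | succ m ih =>
    rw [show (m + 1) * e + 1 = e + (m * e + 1) by ring, sum_range_add]
    simp only [pow_add, h.prim.pow_eq_one, one_mul]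
    have := h.sq_le hγ
    nlinarith

theorem νs : ν * (a + b) = s • ((a + b) * ν) := by rw [mul_add, add_mul, smul_add, h.νa, h.νb]

/-- Weight spaces of the image of `(a + b) ^ d` when `(a + b) ^ (d + e) = 0`. -/
theorem finrank_range_high (h0 : (a + b) ^ (d + e) = 0) (hd : 2 * e ≤ d) (γ : k) :
    finrank k (LinearMap.range ((a + b) ^ d) ⊓ ν.eigenspace γ : Submodule k W) ≤ d - e := by
  have hc : Commute (a + b) (-a) := ((Commute.refl a).add_left h.comm.symm).neg_right
  let v : ℕ × ℕ → W := fun q => if q.1 + q.2 < d - e then ((a + b) ^ (d + q.2) * (-a) ^ q.1) g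
    else (a ^ (q.1 + e) * b ^ (d + q.2 - e)) g
  refine (finrank_inf_eigenspace_le (range (d - e) ×ˢ range e) v
    (fun q => γ₀ * s ^ (d + q.2 + q.1)) (fun q _ => ?_) (h.range_le fun i j hi hj => ?_) γ).trans ?_
  · simp only [v]
    split_ifs
    · exact apply_pow_mul_pow h.νs (by rw [mul_neg, neg_mul, smul_neg, h.νa]) h.νg _ _
    · rw [apply_pow_mul_pow h.νa h.νb h.νg, show q.1 + e + (d + q.2 - e) = d + q.2 + q.1 by omega]
  · by_cases hij : i + j < d - e
    · have h1 := add_pow_mul_mem hc g (Submodule.span k (v '' (range (d - e) ×ˢ range e : Finset _)))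
        j d i fun i' j' h1 h2 h3 => ?_
      · rw [add_neg_cancel_comm, ← neg_one_smul k a, smul_pow, mul_smul_comm, mul_smul_comm,
          LinearMap.smul_apply, Submodule.smul_mem_iff _ (by simp)] at h1
        rwa [← mul_assoc, ← ((((h.comm.symm.add_right (Commute.refl b)).pow_right d).mul_right
          (h.comm.symm.pow_right i)).pow_left j).eq]
      by_cases h4 : d + e ≤ i'
      · simp [pow_eq_zero_of_le h4 h0]
      · refine Submodule.subset_span ⟨(j', i' - d), by simp; omega, ?_⟩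
        simp only [v]
        rw [if_pos (by omega), Nat.add_sub_cancel' h1]
    · refine add_pow_mul_mem h.comm g _ d i j fun i' j' h1 h2 h3 => ?_
      by_cases h4 : d ≤ i' ∨ d ≤ j'
      · simp [h.eq_zero h4]
      · refine Submodule.subset_span ⟨(i' - e, j' + e - d), by simp; omega, ?_⟩
        simp only [v]
        rw [if_neg (by omega), show i' - e + e = i' by omega,
          show d + (j' + e - d) - e = j' by omega]
  · refine le_trans (card_le_card_of_injOn Prod.fst (t := range (d - e)) (fun q hq => ?_)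
      fun q hq q' hq' e1 => ?_) (card_range _).le
    · simp only [coe_filter, mem_product, mem_range, Set.mem_ofPred_eq] at hq
      exact mem_coe.2 (mem_range.2 hq.1.1)
    · simp only [coe_filter, mem_product, mem_range, Set.mem_ofPred_eq] at hq hq'
      have h1 := mul_left_cancel₀ h.ne (hq.2.trans hq'.2.symm)
      have h2 := h.prim.ne_zero h.pos.ne'
      simp only [pow_add, e1, mul_left_inj' (pow_ne_zero _ h2), mul_right_inj' (pow_ne_zero _ h2)] at h1
      exact Prod.ext e1 (h.prim.pow_inj hq.1.2 hq'.1.2 h1)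

/-- Weight spaces of the cokernel of `(a + b) ^ e`. -/
theorem finrank_range_low (hd : e ≤ d) {γ : k} (hγ : γ ^ e = γ₀ ^ e) :
    finrank k (LinearMap.range ((a + b) ^ e) ⊓ ν.eigenspace γ : Submodule k W) + (d - e / 2) ≤
      wd ν γ := by
  have he := h.pos
  obtain ⟨r, hr, e1⟩ := exists_pow_eq_of_pow_eq h.prim h.pos h.ne hγ (d - 1 - e / 2)
  set n := d - 1 - e / 2 + r
  let v : ℕ × ℕ → W := fun q => if q.1 + q.2 < n then ((a + b) ^ e * (a ^ q.1 * b ^ q.2)) g
    else (a ^ q.1 * b ^ q.2) g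
  have h1 := finrank_inf_eigenspace_le (ν := ν) {q ∈ range d ×ˢ range d | q.1 + q.2 ≠ n} v
    (fun q => γ₀ * s ^ (q.1 + q.2)) (U := LinearMap.range ((a + b) ^ e)) (fun q _ => ?_)
    (h.range_le fun i j hi hj => ?_) γ
  · refine le_trans ?_ (h.card_le γ)
    rw [← card_filter_add_card_filter_not (s := {q ∈ range d ×ˢ range d | _})
      fun q => q.1 + q.2 ≠ n, filter_comm]
    refine add_le_add h1 (le_trans (card_range _).ge (card_le_card_of_injOn
      (fun i => (i + (n + 1 - d), n - (i + (n + 1 - d)))) (fun i hi => ?_) fun i _ i' _ e2 => ?_))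
    · rw [coe_range, Set.mem_Iio] at hi
      have h2 : i + (n + 1 - d) + (n - (i + (n + 1 - d))) = n := by omega
      simp only [coe_filter, mem_filter, mem_product, mem_range, Set.mem_ofPred_eq, h2]
      exact ⟨⟨by omega, e1⟩, by simp⟩
    · simpa using (Prod.ext_iff.1 e2).1
  · simp only [v]
    split_ifs
    · rw [End.mul_apply, apply_pow_of_comm h.νs, apply_pow_mul_pow h.νa h.νb h.νg,
        h.prim.pow_eq_one, one_smul, map_smul]
    · exact apply_pow_mul_pow h.νa h.νb h.νg _ _
  · by_cases hij : i + j < n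
    · refine Submodule.subset_span ⟨(i, j), by simp; omega, ?_⟩
      simp only [v]
      rw [if_pos hij]
    · refine add_pow_mul_mem h.comm g _ e i j fun i' j' h1 h2 h3 => ?_
      by_cases h4 : d ≤ i' ∨ d ≤ j'
      · simp [h.eq_zero h4]
      · refine Submodule.subset_span ⟨(i', j'), by simp; omega, ?_⟩
        simp only [v]
        rw [if_neg (by omega)]

end Mono

end CL.Blk.Sm
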