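/-
Tensor products and homomorphism modules of lattices; bounds for the trace ideal and for the
invariants of the complement in terms of weight spaces.
-/
import Cfsg.Agent.Blk.SmWt
import Cfsg.Agent.Blk.SmLat

set_option autoImplicit false
set_option linter.unusedSectionVars false
set_option linter.style.haveILetI false

open Finset Module Subgroup CL.Inv.PO Matrix
open scoped Kronecker

namespace CL.Blk.Sm

variable {G : Type*} [Group G]

section Kron

variable {ι κ R : Type*} [Fintype ι] [DecidableEq ι] [Fintype κ] [DecidableEq κ] [CommRing R]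

/-- The tensor product of matrix representations. -/
def kron (A : G →* Matrix ι ι R) (B : G →* Matrix κ κ R) : G →* Matrix (ι × κ) (ι × κ) R where
  toFun g := A g ⊗ₖ B g
  map_one' := by simp
  map_mul' g h := by rw [map_mul, map_mul, mul_kronecker_mul]

/-- The dual of a matrix representation. -/
def dualM (A : G →* Matrix ι ι R) : G →* Matrix ι ι R where
  toFun g := (A g⁻¹)ᵀ
  map_one' := by simp
  map_mul' g h := by rw [_root_.mul_inv_rev, map_mul, transpose_mul]

variable {k : Type*} [Field k] (f : R →+* k)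

theorem map_kron (A : G →* Matrix ι ι R) (B : G →* Matrix κ κ R) (g : G) :
    (kron A B g).map f = (A g).map f ⊗ₖ (B g).map f := by
  ext i j
  simp [kron]

theorem character_kron (A : G →* Matrix ι ι R) (B : G →* Matrix κ κ R) (g : G) :
    (mrep f (kron A B)).character g = (mrep f A).character g * (mrep f B).character g := by
  simp only [character_mrep, ← map_mul, ← trace_kronecker]
  rfl

theorem character_dualM (A : G →* Matrix ι ι R) (g : G) :
    (mrep f (dualM A)).character g = (mrep f A).character g⁻¹ := by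
  simp only [character_mrep]
  exact congrArg f (trace_transpose _)

variable (ι κ k) in
/-- Pure tensors. -/
def tp : (ι → k) →ₗ[k] (κ → k) →ₗ[k] (ι × κ → k) :=
  LinearMap.mk₂ k (fun u v q => u q.1 * v q.2) (fun _ _ _ => by ext; simp [add_mul])
    (fun _ _ _ => by ext; simp [mul_assoc]) (fun _ _ _ => by ext; simp [mul_add])
    (fun _ _ _ => by ext; simp [mul_left_comm])

theorem mrep_kron_tp (A : G →* Matrix ι ι R) (B : G →* Matrix κ κ R) (g : G) (u : ι → k)
    (v : κ → k) : mrep f (kron A B) g (tp ι κ k u v) = tp ι κ k (mrep f A g u) (mrep f B g v) := by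
  ext q
  simp only [mrep_apply, map_kron, tp, LinearMap.mk₂_apply, mulVec, dotProduct, kroneckerMap_apply,
    Fintype.sum_prod_type, sum_mul_sum]
  exact sum_congr rfl fun _ _ => sum_congr rfl fun _ _ => by ring

theorem eq_top_of_tp {U : Submodule k (ι × κ → k)} (h : ∀ u v, tp ι κ k u v ∈ U) : U = ⊤ := by
  refine Submodule.eq_top_iff'.2 fun w => ?_
  rw [← univ_sum_single w]
  refine U.sum_mem fun q _ => ?_
  convert h (Pi.single q.1 (w q)) (Pi.single q.2 1) using 1
  ext q'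
  by_cases h1 : q'.1 = q.1 <;> simp [tp, Pi.single_apply, Prod.ext_iff, h1]

theorem ext_tp {T T' : End k (ι × κ → k)} (h : ∀ u v, T (tp ι κ k u v) = T' (tp ι κ k u v)) :
    T = T' := LinearMap.eqLocus_eq_top.1 (eq_top_of_tp h)

variable (ι κ k) in
/-- Linear maps as vectors. -/
noncomputable def homVec : ((ι → k) →ₗ[k] (κ → k)) ≃ₗ[k] (ι × κ → k) :=
  LinearMap.toMatrix'.trans (LinearEquiv.ofBijective
    { toFun := vec, map_add' := vec_add, map_smul' := vec_smul } vec_bijective)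

theorem homVec_linHom (A : G →* Matrix ι ι R) (B : G →* Matrix κ κ R) (g : G)
    (F : (ι → k) →ₗ[k] (κ → k)) :
    homVec ι κ k (Representation.linHom (mrep f A) (mrep f B) g F) =
      mrep f (kron (dualM A) B) g (homVec ι κ k F) := by
  change vec (LinearMap.toMatrix' (Representation.linHom (mrep f A) (mrep f B) g F)) =
    (kron (dualM A) B g).map f *ᵥ vec (LinearMap.toMatrix' F)
  rw [map_kron, kronecker_mulVec_vec, Representation.linHom_apply, mrep_eq, mrep_eq,
    LinearMap.toMatrix'_comp, LinearMap.toMatrix'_comp, LinearMap.toMatrix'_toLin',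
    LinearMap.toMatrix'_toLin', Matrix.mul_assoc]
  rfl

end Kron

variable {k : Type*} [Field k] {V W : Type*} [AddCommGroup V] [Module k V] [AddCommGroup W]
  [Module k W]

theorem pow_apply_of_comm {a : End k V} {b : End k W} {F : V →ₗ[k] W} (h : ∀ v, F (a v) = b (F v))
    (n : ℕ) (v : V) : F ((a ^ n) v) = (b ^ n) (F v) := by
  induction n with
  | zero => rfl
  | succ n ih => rw [pow_succ', pow_succ', End.mul_apply, h, ih, End.mul_apply]

theorem finrank_range_inf_fixS_eq {ρ : Representation k G V} {ρ' : Representation k G W}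
    (E : V ≃ₗ[k] W) (hE : ∀ g v, E (ρ g v) = ρ' g (E v)) (x : G) (m : ℕ) (S : Subgroup G) :
    finrank k (LinearMap.range ((ρ' x - 1) ^ m) ⊓ fixS ρ' S : Submodule k W) =
      finrank k (LinearMap.range ((ρ x - 1) ^ m) ⊓ fixS ρ S : Submodule k V) := by
  rw [← E.finrank_map_eq]
  have h : ∀ v, E (((ρ x - 1) ^ m) v) = ((ρ' x - 1) ^ m) (E v) :=
    pow_apply_of_comm (F := E.toLinearMap) (fun v => by simp [hE]) m
  refine congrArg (fun U : Submodule k W => finrank k U) (Submodule.ext fun w => ?_)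
  obtain ⟨v, rfl⟩ := E.surjective w
  simp only [Submodule.mem_map_equiv, E.symm_apply_apply, Submodule.mem_inf, mem_fixS, ← hE,
    EmbeddingLike.apply_eq_iff_eq, LinearMap.mem_range, E.surjective.exists, ← h]

theorem finrank_fixS_eq {ρ : Representation k G V} {ρ' : Representation k G W}
    (E : V ≃ₗ[k] W) (hE : ∀ g v, E (ρ g v) = ρ' g (E v)) (S : Subgroup G) :
    finrank k (fixS ρ' S) = finrank k (fixS ρ S) := by
  have := finrank_range_inf_fixS_eq E hE 1 0 S
  rwa [pow_zero, pow_zero, End.one_eq_id, End.one_eq_id, LinearMap.range_id, LinearMap.range_id,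
    top_inf_eq, top_inf_eq] at this

theorem linHom_pow_apply_mem (σ : Representation k G V) (τ : Representation k G W) (x : G) (m : ℕ)
    (F : V →ₗ[k] W) {b : ℕ} {v : V} (h : ((σ x - 1) ^ b) v = 0) :
    ((Representation.linHom σ τ x - 1) ^ m) F v ∈ LinearMap.range ((τ x - 1) ^ (m + 1 - b)) := by
  induction m generalizing b v with
  | zero =>
    rcases b with _ | b
    · simp [show v = 0 from h]
    · simp [End.one_eq_id]
  | succ m ih =>
    rcases b with _ | b
    · simp [show v = 0 from h]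
    have h1 : ((σ x - 1) ^ (b + 1)) (σ x⁻¹ v) = 0 := by
      rw [← End.mul_apply, ((((Commute.refl x).inv_right.map σ).sub_left
        (Commute.one_left _)).pow_left _).eq, End.mul_apply, h, map_zero]
    have h2 : ∀ F' : V →ₗ[k] W, (Representation.linHom σ τ x - 1) F' v =
        (τ x - 1) (F' (σ x⁻¹ v)) - F' ((σ x - 1) (σ x⁻¹ v)) := fun F' => by
      simp [Representation.linHom_apply]
    rw [pow_succ', End.mul_apply, h2]
    refine sub_mem ?_ (by simpa using ih (b := b) (v := (σ x - 1) (σ x⁻¹ v)) (by rwa [pow_succ] at h1))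
    obtain ⟨w, hw⟩ := ih h1
    refine ⟨((τ x - 1) ^ (m + 1 - (b + 1) + 1 - (m + 1 + 1 - (b + 1)))) w, ?_⟩
    rw [← hw, pow_apply_pow_apply, ← End.mul_apply, ← pow_succ']
    congr 2
    omega

variable {p : ℕ} [hp : Fact p.Prime] [CharP k p]

theorem lg_apply_of_comm {a : End k V} {b : End k W} {F : V →ₗ[k] W} (h : ∀ v, F (a v) = b (F v))
    (v : V) : F (lg k p a v) = lg k p b (F v) := by
  simp only [lg, LinearMap.sum_apply, LinearMap.smul_apply, map_sum, map_smul, pow_apply_of_comm h]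

variable [Finite G] {x : G} {C : Subgroup G} {K : Ctx p x C} {h₀ : G} (hg : Gen K h₀)
  (σ : Representation k G V) (τ : Representation k G W) [FiniteDimensional k V]
  [FiniteDimensional k W]
include hg

/-- Upper bound for the norms in the homomorphism module. -/
theorem Gen.finrank_norm_le (hp2 : p ≠ 2) {ι : Type} [Fintype ι] [DecidableEq ι] {a : ι → ℕ}
    {g : ι → V} {φ : ι → V →ₗ[k] k} (J : Jor (lg k p (σ x)) ⊤ a g φ) {μ : ι → k}
    (hμ : ∀ i, σ h₀ (g i) = μ i • g i) :
    finrank k (LinearMap.range ((Representation.linHom σ τ x - 1) ^ (p - 1)) ⊓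
      fixS (Representation.linHom σ τ) (Nz x) : Submodule k (V →ₗ[k] W)) ≤
      ∑ i, finrank k (LinearMap.range ((τ x - 1) ^ (p - a i)) ⊓ End.eigenspace (τ h₀) (μ i) :
        Submodule k W) := by
  obtain ⟨u, hu, hu', e⟩ := exists_lg_eq (k := k) hp2 (rep_x_pow K σ)
  have hc : Commute (σ x - 1) u := hu' _ ((Commute.refl _).sub_left (Commute.one_left _))
  rw [← finrank_pi_fintype]
  refine LinearMap.finrank_le_finrank_of_injective (f := LinearMap.pi fun i =>
    LinearMap.codRestrict _ (LinearMap.applyₗ (g i) ∘ₗ Submodule.subtype _) fun F => ?_) ?_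
  · obtain ⟨_, ⟨F, rfl⟩, hF⟩ := F
    refine ⟨?_, End.mem_eigenspace_iff.2 ?_⟩
    · have := linHom_pow_apply_mem σ τ x (p - 1) F
        ((pow_apply_eq_zero_iff_of_eq_mul hu hc e _ _).1 (J.kill i))
      rwa [Nat.sub_add_cancel hp.out.one_le] at this
    · have := (linHom_fixed_iff σ τ _ _).1 (mem_fixS.1 hF h₀ (K.H_le hg.mem)) (g i)
      rw [hμ, map_smul] at this
      exact this.symm
  · rw [← LinearMap.ker_eq_bot, LinearMap.ker_eq_bot']
    rintro ⟨F, hF, hF'⟩ h
    refine Subtype.ext (J.ext fun i j _ => ?_)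
    have h1 : F (g i) = 0 := congrArg Subtype.val (congrFun h i)
    rw [pow_apply_of_comm (lg_apply_of_comm ((linHom_fixed_iff σ τ _ _).1
      (mem_fixS.1 hF' x (K.C_le_N K.x_mem)))), h1]
    simp

/-- Lower bound for the invariants of the complement in the homomorphism module. -/
theorem Gen.le_finrank_fixS {ι : Type} [Fintype ι] [DecidableEq ι] {a : ι → ℕ}
    {g : ι → V} {φ : ι → V →ₗ[k] k} (J : Jor (lg k p (σ x)) ⊤ a g φ) {μ : ι → k}
    (hμ : ∀ i, σ h₀ (g i) = μ i • g i)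
    (hZ : ∀ z ∈ K.H, z ∈ C → ∃ c : k, σ z = c • 1 ∧ τ z = c • 1) :
    ∑ i, ∑ j ∈ range (a i), wd (τ h₀) (μ i * al K k ⟨h₀, K.H_le hg.mem⟩ ^ j) ≤
      finrank k (fixS (Representation.linHom σ τ) K.H) := by
  simp only [← Fin.sum_univ_eq_sum_range, wd]
  rw [← Fintype.sum_sigma' fun i (j : Fin (a i)) =>
    finrank k (End.eigenspace (τ h₀) (μ i * al K k ⟨h₀, K.H_le hg.mem⟩ ^ (j : ℕ))),
    ← finrank_pi_fintype]
  refine LinearMap.finrank_le_finrank_of_injective (f := LinearMap.codRestrict _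
    ((J.basis.constr k).toLinearMap ∘ₗ LinearMap.pi fun q => Submodule.subtype _ ∘ₗ
      LinearMap.proj q) fun w => mem_fixS.2 fun h hh => (linHom_fixed_iff σ τ _ _).2 fun v => ?_) ?_
  · set F : V →ₗ[k] W := J.basis.constr k fun q => (w q : W) with hF
    change F _ = τ h (F v)
    have h1 : F ∘ₗ σ h₀ = τ h₀ ∘ₗ F := J.basis.ext fun q => by
      have h2 := apply_pow_of_comm (rep_mul_lg K σ ⟨h₀, K.H_le hg.mem⟩) q.2 (g q.1)
      rw [hμ, map_smul, smul_smul, ← J.basis_apply] at h2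
      rw [LinearMap.comp_apply, LinearMap.comp_apply, h2, map_smul, hF, Basis.constr_basis,
        End.mem_eigenspace_iff.1 (w q).2, mul_comm]
    obtain ⟨m, hm⟩ := hg.gen h hh
    obtain ⟨c, h2, h3⟩ := hZ _ (mul_mem (inv_mem (pow_mem hg.mem m)) hh) hm
    rw [← mul_inv_cancel_left (h₀ ^ m) h, map_mul, map_mul τ, h2, h3, map_pow, map_pow]
    simpa using congrArg (c • ·) (pow_apply_of_comm (LinearMap.congr_fun h1) m v)
  · rw [← LinearMap.ker_eq_bot, LinearMap.ker_eq_bot']
    intro w h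
    have h1 : J.basis.constr k (fun q => (w q : W)) = 0 := congrArg Subtype.val h
    ext q
    simpa using LinearMap.congr_fun h1 (J.basis q)

omit [FiniteDimensional k W] in
/-- Indecomposable modules of dimension less than `p` are uniserial. -/
theorem Gen.exists_cyc [IsAlgClosed k] (hp2 : p ≠ 2)
    (hZ : ∀ z ∈ K.H, z ∈ C → ∃ c : k, σ z = c • 1)
    (hind : ∀ π : End k V, IsIdempotentElem π → (∀ g, Commute (σ g) π) → π = 0 ∨ π = 1)
    {d : ℕ} (hd : finrank k V = d) (h0 : 0 < d) (hp' : d < p) : ∃ (g : V) (μ : k),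
      σ h₀ g = μ • g ∧ (lg k p (σ x) ^ (d - 1)) g ≠ 0 ∧ lg k p (σ x) ^ d = 0 ∧
        ∀ U : Submodule k V, (∀ i : ℕ, (lg k p (σ x) ^ i) g ∈ U) → ∀ v, v ∈ U := by
  obtain ⟨ι, _, _, a, g, φ, J, h1, -, h2⟩ := hg.exists_jor σ hp2 hZ hind
  have h3 := J.finrank_eq
  have h4 : ∀ i, a i < p := fun i =>
    (single_le_sum (f := a) (fun _ _ => Nat.zero_le _) (mem_univ i)).trans_lt (by omega)
  obtain ⟨i, -⟩ : (univ : Finset ι).Nonempty := nonempty_of_sum_ne_zero (f := a) (by omega)
  have h5 : ∀ i', i' = i := fun i' => h2 _ _ (h4 _) (h4 _)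
  rw [sum_eq_single i (fun i' _ hi => absurd (h5 i') hi) (by simp)] at h3
  obtain ⟨μ, hμ⟩ := h1 i
  refine ⟨g i, μ, hμ, J.ne_zero i (by omega), J.ext fun i' j _ => ?_, fun U hU v => ?_⟩
  · rw [pow_apply_pow_apply, h5 i', J.kill' i (by omega), LinearMap.zero_apply]
  · rw [J.span v trivial]
    exact U.sum_mem fun i' _ => U.sum_mem fun j _ => U.smul_mem _ (h5 i' ▸ hU j)

omit hg hp [Finite G] [FiniteDimensional k V] in
theorem ne_zero_of_eigen {h : G} {μ : k} {v : V} (e : σ h v = μ • v) (hv : v ≠ 0) : μ ≠ 0 :=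
  fun h0 => hv (by simpa [h0] using congrArg (σ h⁻¹) e)

theorem Gen.exists_mono {ι κ R : Type*} [Fintype ι] [DecidableEq ι] [Fintype κ] [DecidableEq κ]
    [CommRing R] (f : R →+* k) (A : G →* Matrix ι ι R) (B : G →* Matrix κ κ R) {d : ℕ}
    (hι : Fintype.card ι = d) (hκ : Fintype.card κ = d) {g : ι → k} {g' : κ → k} {μ μ' : k}
    (h1 : mrep f A h₀ g = μ • g) (h1' : mrep f B h₀ g' = μ' • g') (h2 : g ≠ 0) (h2' : g' ≠ 0)
    (h3 : lg k p (mrep f A x) ^ d = 0) (h3' : lg k p (mrep f B x) ^ d = 0)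
    (h4 : ∀ U : Submodule k (ι → k), (∀ i : ℕ, (lg k p (mrep f A x) ^ i) g ∈ U) → ∀ v, v ∈ U)
    (h4' : ∀ U : Submodule k (κ → k), (∀ i : ℕ, (lg k p (mrep f B x) ^ i) g' ∈ U) → ∀ v, v ∈ U) :
    ∃ (a b : End k (ι × κ → k)) (w : ι × κ → k) (γ : k), w ≠ 0 ∧
      Mono a b (mrep f (kron A B) h₀) w (al K k ⟨h₀, K.H_le hg.mem⟩) γ d K.f ∧ (a + b) ^ p = 0 ∧
      ∀ m : ℕ, LinearMap.range ((a + b) ^ m) =
        LinearMap.range ((mrep f (kron A B) x - 1) ^ m) := by
  set α := mrep f (kron A (1 : G →* Matrix κ κ R))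
  set β := mrep f (kron (1 : G →* Matrix ι ι R) B)
  have hα : ∀ h u v, α h (tp ι κ k u v) = tp ι κ k (mrep f A h u) v := fun h u v => by
    rw [mrep_kron_tp]; simp [mrep_apply]
  have hβ : ∀ h u v, β h (tp ι κ k u v) = tp ι κ k u (mrep f B h v) := fun h u v => by
    rw [mrep_kron_tp]; simp [mrep_apply]
  have hαβ : ∀ h, mrep f (kron A B) h = α h * β h := fun h => ext_tp fun u v => by
    rw [End.mul_apply, hβ, hα, mrep_kron_tp]
  have hc : ∀ h h', Commute (α h) (β h') := fun h h' => ext_tp fun u v => by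
    simp only [End.mul_apply, hα, hβ]
  have ha : ∀ (n : ℕ) u v, (lg k p (α x) ^ n) (tp ι κ k u v) =
      tp ι κ k ((lg k p (mrep f A x) ^ n) u) v := fun n u v =>
    (pow_apply_of_comm (F := (tp ι κ k).flip v)
      (lg_apply_of_comm fun u => (hα x u v).symm) n u).symm
  have hb : ∀ (n : ℕ) u v, (lg k p (β x) ^ n) (tp ι κ k u v) =
      tp ι κ k u ((lg k p (mrep f B x) ^ n) v) := fun n u v =>
    (pow_apply_of_comm (F := tp ι κ k u) (lg_apply_of_comm fun v => (hβ x u v).symm) n v).symm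
  obtain ⟨u, e1, e2, e3⟩ := exists_lg_add (k := k) (hc x x) (rep_x_pow K α) (rep_x_pow K β)
    (b' := β x⁻¹) (by simp [← map_mul]) (by simp [← map_mul])
  rw [← hαβ] at e2 e3
  refine ⟨lg k p (α x), lg k p (β x), tp ι κ k g g', μ * μ', fun h => ?_,
    ⟨commute_lg (commute_lg (hc x x).symm).symm, ext_tp fun u v => by simp [ha, h3],
      ext_tp fun u v => by simp [hb, h3'], ?_, ?_, ?_,
      mul_ne_zero (ne_zero_of_eigen _ h1 h2) (ne_zero_of_eigen _ h1' h2'), fun U hU => ?_,
      by simp [hι, hκ], hg.prim_al, K.f_pos⟩, ?_, range_pow_of_eq_mul e1 e2 e3⟩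
  · obtain ⟨i, hi⟩ := Function.ne_iff.1 h2
    obtain ⟨j, hj⟩ := Function.ne_iff.1 h2'
    exact mul_ne_zero hi hj (congrFun h (i, j))
  · rw [hαβ, mul_assoc, (commute_lg (hc x h₀).symm).eq, ← mul_assoc,
      rep_mul_lg K α ⟨h₀, K.H_le hg.mem⟩, smul_mul_assoc, mul_assoc]
  · rw [hαβ, mul_assoc, rep_mul_lg K β ⟨h₀, K.H_le hg.mem⟩, mul_smul_comm, ← mul_assoc,
      (commute_lg (hc h₀ x)).eq, mul_assoc]
  · rw [mrep_kron_tp, h1, h1']
    simp [smul_smul, mul_comm]
  · refine eq_top_of_tp fun u v => h4 (U.comap ((tp ι κ k).flip v)) (fun i => ?_) u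
    refine h4' (U.comap (tp ι κ k _)) (fun j => ?_) v
    simpa [ha, hb] using hU i j
  · rw [e3, e2.mul_pow, sub_one_pow_p K, zero_mul]

omit hg [CharP k p] in
theorem exists_block {ι : Type*} [Fintype ι] [DecidableEq ι] {a : ι → ℕ} (h1 : ∀ i, a i ≤ p)
    (h2 : ∀ i i', a i < p → a i' < p → i = i') {m r : ℕ} (h : ∑ i, a i = m * p + r) (h0 : 0 < r)
    (hr : r < p) : ∃ i, a i = r ∧ (∀ i' ∈ univ.erase i, a i' = p) ∧ #(univ.erase i) = m := by
  obtain ⟨i, hi⟩ : ∃ i, a i < p := by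
    by_contra hc
    push Not at hc
    rw [sum_congr rfl fun i _ => le_antisymm (h1 i) (hc i), sum_const, smul_eq_mul] at h
    have := congrArg (· % p) h
    simp [Nat.mod_eq_of_lt hr] at this
    omega
  have h3 : ∀ i' ∈ univ.erase i, a i' = p := fun i' hi' =>
    le_antisymm (h1 _) (not_lt.1 fun h => (mem_erase.1 hi').1 (h2 _ _ h hi))
  rw [← sum_erase_add _ _ (mem_univ i), sum_congr rfl h3, sum_const, smul_eq_mul] at h
  have h4 := congrArg (· % p) h
  simp only [Nat.mul_add_mod_of_lt hi, Nat.mul_add_mod_of_lt hr] at h4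
  exact ⟨i, h4, h3, Nat.eq_of_mul_eq_mul_right hp.out.pos (by omega)⟩

/-- The modular inequality. -/
theorem Gen.ineq [IsAlgClosed k] (hp2 : p ≠ 2) {t : ℕ} (ht : t * K.f + 1 = p) (ht3 : 3 ≤ t)
    (hZ : ∀ z ∈ K.H, z ∈ C → ∃ c : k, σ z = c • 1 ∧ τ z = c • 1)
    (hind : ∀ π : End k V, IsIdempotentElem π → (∀ g, Commute (σ g) π) → π = 0 ∨ π = 1)
    {a b : End k W} {w : W} {γ : k} (hw : w ≠ 0)
    (h : Mono a b (τ h₀) w (al K k ⟨h₀, K.H_le hg.mem⟩) γ (p - K.f) K.f) (hab : (a + b) ^ p = 0)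
    (hr : ∀ m : ℕ, LinearMap.range ((a + b) ^ m) = LinearMap.range ((τ x - 1) ^ m)) {m : ℕ} :
    (finrank k V = m * p + K.f → finrank k (LinearMap.range
      ((Representation.linHom σ τ x - 1) ^ (p - 1)) ⊓ fixS (Representation.linHom σ τ) (Nz x) :
        Submodule k (V →ₗ[k] W)) + (m * t + 1) * ((p - K.f) * (p - K.f)) ≤
        finrank k (fixS (Representation.linHom σ τ) K.H) + (p - K.f - K.f)) ∧
    (finrank k V = m * p + (p - K.f) → finrank k (LinearMap.range
      ((Representation.linHom σ τ x - 1) ^ (p - 1)) ⊓ fixS (Representation.linHom σ τ) (Nz x) :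
        Submodule k (V →ₗ[k] W)) + (m * t + (t - 1)) * ((p - K.f) * (p - K.f)) +
        (p - K.f - K.f / 2) ≤ finrank k (fixS (Representation.linHom σ τ) K.H)) := by
  obtain ⟨ι, _, _, a', g, φ, J, h1, h2, h3⟩ := hg.exists_jor σ hp2
    (fun z hz hz' => (hZ z hz hz').imp fun _ h => h.1) hind
  choose μ hμ using h1
  have e1 := hg.finrank_norm_le σ τ hp2 J hμ
  have e2 := hg.le_finrank_fixS σ τ J hμ hZ
  have he := K.f_pos
  have h4 : ∀ i, μ i ^ K.f = γ ^ K.f := fun i => by
    obtain ⟨c, c1, c2⟩ := hZ _ (pow_mem hg.mem _) hg.pow_f_mem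
    have c3 := pow_apply_of_eigen (hμ i) K.f
    have c4 := pow_apply_of_eigen h.νg K.f
    rw [← map_pow, c1] at c3
    rw [← map_pow, c2] at c4
    exact (smul_left_injective k (J.ne_zero i (J.pos i)) c3).symm.trans
      (smul_left_injective k hw c4)
  have h5 : ∀ i, a' i = p → finrank k (LinearMap.range ((τ x - 1) ^ (p - a' i)) ⊓
      End.eigenspace (τ h₀) (μ i) : Submodule k W) + t * ((p - K.f) * (p - K.f)) ≤
      ∑ j ∈ range (a' i), wd (τ h₀) (μ i * al K k ⟨h₀, K.H_le hg.mem⟩ ^ j) := fun i hi => by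
    have := h.mul_add_le (h4 i) t
    rw [ht.trans hi.symm] at this
    have h6 : finrank k (LinearMap.range ((τ x - 1) ^ (p - a' i)) ⊓
      End.eigenspace (τ h₀) (μ i) : Submodule k W) ≤ wd (τ h₀) (μ i) :=
      Submodule.finrank_mono inf_le_right
    omega
  have h3e : 3 * K.f + 1 ≤ p := by nlinarith
  refine ⟨fun hV => ?_, fun hV => ?_⟩
  all_goals
    obtain ⟨i, i1, i2, i3⟩ := exists_block h2 h3 (J.finrank_eq ▸ hV) (by omega) (by omega)
    have h6 := sum_le_sum fun i' hi' => h5 i' (i2 i' hi')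
    rw [sum_add_distrib, sum_const, i3, smul_eq_mul] at h6
    rw [← sum_erase_add _ _ (mem_univ i), i1] at e1 e2
  · have h7 := h.finrank_range_high (by rwa [Nat.sub_add_cancel (by omega)]) (by omega) (μ i)
    have h8 := h.sq_le (h4 i)
    rw [hr] at h7
    nlinarith
  · have h7 := h.finrank_range_low (by omega) (h4 i)
    have h8 := h.mul_add_le (h4 i) (t - 1)
    rw [hr] at h7
    rw [show (t - 1) * K.f + 1 = p - K.f by rw [Nat.sub_one_mul]; omega] at h8
    rw [show p - (p - K.f) = K.f by omega] at e1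
    nlinarith

end CL.Blk.Sm
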