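/-
Families of exceptional characters when the centralizer is `P × Z(G)`: multiplicities in products.
-/
import Cfsg.Agent.Blk.SmFrob
import Cfsg.Agent.Blk.SmTen

set_option autoImplicit false
set_option linter.unusedSectionVars false
set_option linter.style.haveILetI false

open Finset Module Subgroup CL.Inv.PO CL.Char Cfsg ComplexConjugate IsLocalRing
open scoped Classical MatrixGroups

namespace CL.Blk.Sm

variable {G : Type*} [Group G] [Fintype G] {p : ℕ} [hp : Fact p.Prime] {x : G} {C : Subgroup G}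
  {K : Ctx p x C} {M : Ideal AlgInt}

omit hp in
theorem exists_red_scalar {n : ℕ} {A : G →* Matrix (Fin n) (Fin n) (valRing M)} {χ : G → ℂ}
    (hA : (mrep (valRing M).subtype A).character = χ) (hχ : IsIrrCharacter G χ) {z : G}
    (hz : z ∈ center G) : ∃ o : valRing M, χ z = o * χ 1 ∧
      mrep (residue (valRing M)) A z = residue (valRing M) o • 1 := by
  subst hA
  obtain ⟨c, hc⟩ := (mem_charCenter_character _).1 (hχ.center_le_charCenter hz)
  have h1 : (A z).map (valRing M).subtype = c • (1 : Matrix (Fin n) (Fin n) ℂ) :=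
    Matrix.toLin'.injective (by rw [← mrep_eq, hc, map_smul, Matrix.toLin'_one])
  have h2 := hχ.one_ne_zero
  rw [Representation.char_one, finrank_fin_fun, Nat.cast_ne_zero] at h2
  let i : Fin n := ⟨0, Nat.pos_of_ne_zero h2⟩
  have h3 : (A z i i : ℂ) = c := by simpa using congrFun (congrFun h1 i) i
  have h4 : A z = A z i i • (1 : Matrix (Fin n) (Fin n) (valRing M)) := by
    ext a b
    by_cases h : a = b <;> simpa [h, h3] using congrFun (congrFun h1 a) b
  refine ⟨A z i i, by simpa [h3] using char_mul_of_scalar _ hc 1, ?_⟩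
  rw [mrep_eq, h4, Matrix.map_smul' _ _ _ (map_mul _)]
  simp [End.one_eq_id]

omit hp in
theorem eq_of_character_mrep {n : ℕ} {A : G →* Matrix (Fin n) (Fin n) (valRing M)} {χ : G → ℂ}
    (hA : (mrep (valRing M).subtype A).character = χ) : charDegree χ = n := by
  rw [← hA]
  exact charDegree_eq_of_eq (by simp)

variable (hc : Cen K)
include hc

theorem Cen.exists_hom (hp5 : 5 ≤ p) [CharP (resField M) p] {χ : G → ℂ} (hχ : IsIrrCharacter G χ)
    (h2 : 2 ≤ charDegree χ) (hd : 2 * charDegree χ ≤ p) :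
    ∃ φ : G →* PGL(2, resField M), φ x ≠ 1 := by
  obtain ⟨h₀, hg⟩ := exists_gen K
  obtain ⟨n, A, hA, hind⟩ := exists_indec (M := M) hχ
  rw [eq_of_character_mrep hA] at h2 hd
  obtain ⟨g, -, -, h3, -⟩ := hg.exists_cyc (mrep (residue (valRing M)) A) (by omega)
    (fun z hz hz' => (exists_red_scalar hA hχ (hc.of_mem_H hz hz')).elim fun o h => ⟨_, h.2⟩) hind
    (finrank_fin_fun _) (by omega) (by omega)
  refine exists_hom_of_small K (mrep (residue (valRing M)) A) hp5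
    (pow_finrank_eq_zero ⟨p, sub_one_pow_p K _⟩) (fun h => h3 ?_) (by rwa [finrank_fin_fun])
  rw [sub_eq_zero.1 h, lg_one (by omega), zero_pow (by omega), LinearMap.zero_apply]

/-- The lattice inequality. -/
theorem Cen.exists_ineq (hp2 : p ≠ 2) {t : ℕ} (ht : t * K.f + 1 = p) (ht3 : 3 ≤ t)
    {χ₁ χ₂ χ₃ : G → ℂ} (h₁ : IsIrrCharacter G χ₁) (h₂ : IsIrrCharacter G χ₂)
    (h₃ : IsIrrCharacter G χ₃) (d₁ : charDegree χ₁ = p - K.f) (d₂ : charDegree χ₂ = p - K.f)
    (hz : ∀ z ∈ center G, χ₃ z * (χ₁ 1 * χ₂ 1) = χ₁ z * χ₂ z * χ₃ 1) (m : ℕ) :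
    ∃ a b c : ℕ, classInner (χ₁ * χ₂) χ₃ = a ∧
      (Nat.card (Nz x) : ℂ) * b = ∑ n : Nz x, χ₁ n * χ₂ n * conj (χ₃ n) ∧
      (Nat.card K.H : ℂ) * c = ∑ n : K.H, χ₁ n * χ₂ n * conj (χ₃ n) ∧
      (charDegree χ₃ = m * p + K.f →
        b + (m * t + 1) * ((p - K.f) * (p - K.f)) ≤ a + c + (p - K.f - K.f)) ∧
      (charDegree χ₃ = m * p + (p - K.f) →
        b + (m * t + (t - 1)) * ((p - K.f) * (p - K.f)) + (p - K.f - K.f / 2) ≤ a + c) := by
  obtain ⟨M, hM⟩ := exists_isPModular' hp.out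
  have := charP_resField hM
  obtain ⟨h₀, hg⟩ := exists_gen K
  obtain ⟨n₁, A₁, a₁, b₁⟩ := exists_indec (M := M) h₁
  obtain ⟨n₂, A₂, a₂, b₂⟩ := exists_indec (M := M) h₂
  obtain ⟨n₃, A₃, a₃, b₃⟩ := exists_indec (M := M) h₃
  have he := K.f_pos
  have h3e : 3 * K.f + 1 ≤ p := by nlinarith
  rw [eq_of_character_mrep a₁] at d₁
  rw [eq_of_character_mrep a₂] at d₂
  obtain ⟨g₁, μ₁, c₁, e₁, f₁, k₁⟩ := hg.exists_cyc (mrep (residue (valRing M)) A₁) hp2
    (fun z hz hz' => (exists_red_scalar a₁ h₁ (hc.of_mem_H hz hz')).elim fun o h => ⟨_, h.2⟩) b₁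
    ((finrank_fin_fun _).trans d₁) (by omega) (by omega)
  obtain ⟨g₂, μ₂, c₂, e₂, f₂, k₂⟩ := hg.exists_cyc (mrep (residue (valRing M)) A₂) hp2
    (fun z hz hz' => (exists_red_scalar a₂ h₂ (hc.of_mem_H hz hz')).elim fun o h => ⟨_, h.2⟩) b₂
    ((finrank_fin_fun _).trans d₂) (by omega) (by omega)
  obtain ⟨a, b, w, γ, hw, hm, hab, hr⟩ := hg.exists_mono (residue (valRing M)) A₁ A₂
    (by simpa using d₁) (by simpa using d₂) c₁ c₂ (by rintro rfl; simp at e₁)
    (by rintro rfl; simp at e₂) f₁ f₂ k₁ k₂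
  have h4 := hg.ineq (mrep (residue (valRing M)) A₃) (mrep (residue (valRing M)) (kron A₁ A₂)) hp2
    ht ht3 (fun z hz₁ hz₂ => ?_) b₃ hw hm hab hr (m := m)
  · set B := kron (dualM A₃) (kron A₁ A₂)
    have h5 : ∀ g, (mrep (valRing M).subtype B).character g = χ₁ g * χ₂ g * conj (χ₃ g) :=
      fun g => by rw [character_kron, character_kron, character_dualM, a₁, a₂, a₃, h₃.conj_apply,
        mul_comm]
    have h6 := finrank_fixS_N_le K B
    have h7 := finrank_fixS_le hM B K.H_card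
    rw [finrank_range_inf_fixS_eq _ (homVec_linHom _ A₃ (kron A₁ A₂))] at h6
    rw [finrank_fixS_eq _ (homVec_linHom _ A₃ (kron A₁ A₂))] at h7
    rw [finrank_fin_fun] at h4
    rw [eq_of_character_mrep a₃]
    refine ⟨finrank ℂ (fixS (mrep (valRing M).subtype B) ⊤),
      finrank ℂ (fixS (mrep (valRing M).subtype B) (Nz x)),
      finrank ℂ (fixS (mrep (valRing M).subtype B) K.H), ?_, by simp only [card_mul_finrank_fixS, h5],
      by simp only [card_mul_finrank_fixS, h5], fun h => ?_, fun h => ?_⟩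
    · have h8 := (card_mul_finrank_fixS (mrep (valRing M).subtype B) ⊤).trans
        (Subgroup.topEquiv.toEquiv.sum_comp (mrep (valRing M).subtype B).character)
      rw [classInner_def, inv_mul_eq_iff_eq_mul₀ natCard_ne_zero, ← card_top, h8]
      simp only [h5, Pi.mul_apply]
    · linarith [h4.1 h]
    · linarith [h4.2 h]
  · have hz' := hc.of_mem_H hz₁ hz₂
    obtain ⟨o₁, p₁, q₁⟩ := exists_red_scalar a₁ h₁ hz'
    obtain ⟨o₂, p₂, q₂⟩ := exists_red_scalar a₂ h₂ hz'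
    obtain ⟨o₃, p₃, q₃⟩ := exists_red_scalar a₃ h₃ hz'
    have h5 : o₃ = o₁ * o₂ := Subtype.ext (mul_right_cancel₀
      (mul_ne_zero h₃.one_ne_zero (mul_ne_zero h₁.one_ne_zero h₂.one_ne_zero)) (by
        have := hz z hz'
        rw [p₁, p₂, p₃] at this
        push_cast
        linear_combination this))
    refine ⟨_, q₃, ext_tp fun u v => ?_⟩
    rw [mrep_kron_tp, q₁, q₂, h5]
    simp [smul_smul, mul_comm]

omit hc

variable (K) in
/-- A family of exceptional characters with central character `τ` and sign `δ`. -/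
structure Fam (τ : G → ℂ) (δ : ℤ) (ξ : (ZMod p)ˣ → IrrCharacter G) : Prop where
  sign : δ = 1 ∨ δ = -1
  eq_iff : ∀ k l, ξ k = ξ l ↔ k⁻¹ * l ∈ K.a.range
  reg : ∀ k l g, ¬ p ∣ orderOf g → (ξ k : G → ℂ) g = (ξ l : G → ℂ) g
  cen : ∀ k, ∀ z ∈ center G, ∀ g, (ξ k : G → ℂ) (z * g) = τ z * (ξ k : G → ℂ) g
  sing : ∀ k j : (ZMod p)ˣ, (ξ k : G → ℂ) (x ^ (j : ZMod p).val) = δ * eta K (k * j)

namespace Fam

variable {τ : G → ℂ} {δ : ℤ} {ξ : (ZMod p)ˣ → IrrCharacter G} (F : Fam K τ δ ξ)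
include F

theorem one (k l : (ZMod p)ˣ) : (ξ k : G → ℂ) 1 = (ξ l : G → ℂ) 1 :=
  F.reg k l 1 (by simpa using hp.out.ne_one)

theorem sum_P (k : (ZMod p)ˣ) :
    ∑ j : ZMod p, (ξ k : G → ℂ) (x ^ j.val) = (ξ k : G → ℂ) 1 - δ * K.f := by
  simp only [sum_zmod_units, F.sing, ← mul_sum, sum_eta]
  simp [sub_eq_add_neg]

theorem mul_conj {z : G} (hz : z ∈ center G) : τ z * conj (τ z) = 1 := by
  have h1 := norm_apply_of_mem_charCenter ((ξ 1).2.center_le_charCenter hz)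
  have h2 := F.cen 1 z hz 1
  rw [mul_one] at h2
  rw [h2, norm_mul, mul_left_eq_self₀, or_iff_left (norm_ne_zero_iff.2 (ξ 1).2.one_ne_zero)] at h1
  rw [Complex.mul_conj, Complex.normSq_eq_norm_sq, h1]
  simp

theorem sum_comp (m : IrrCharacter G → ℕ) : ∑ k, m (ξ k) = K.f * ∑ χ ∈ univ.image ξ, m χ := by
  rw [Finset.sum_comp m ξ, mul_sum]
  refine sum_congr rfl fun χ hχ => ?_
  obtain ⟨k, -, rfl⟩ := mem_image.1 hχ
  rw [smul_eq_mul, Ctx.f, Nat.card_eq_fintype_card, Fintype.card_subtype]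
  congr 1
  refine card_bij (fun l _ => k⁻¹ * l) (fun l hl => ?_) (fun l _ l' _ h => mul_left_cancel h)
    fun u hu => ⟨k * u, ?_, by simp⟩
  · exact mem_filter.2 ⟨mem_univ _, (F.eq_iff k l).1 (mem_filter.1 hl).2.symm⟩
  · exact mem_filter.2 ⟨mem_univ _, ((F.eq_iff k _).2
      (by rw [inv_mul_cancel_left]; exact (mem_filter.1 hu).2)).symm⟩

/-- Upper bound for the multiplicities. -/
theorem upper {W : G → ℂ} (hW : IsCharacter G W) {ψ : Nz x →* ℂˣ} (hψ : ∀ k, inN (ξ k) ψ ≠ 0)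
    {n : (ZMod p)ˣ → ℕ} (hn : ∀ k, classInner W (ξ k) = n k) {s : ℕ} (hs : inN W ψ = s) :
    ∑ k, n k ≤ K.f * s := by
  obtain ⟨m, hm, e⟩ := hW.exists_eq_sum_nat
  choose c hc using fun χ : IrrCharacter G => (χ.2.isCharacter.restrict (Nz x)).exists_nat_classInner
    (isIrrCharacter_linear ψ).isCharacter
  have h1 : (s : ℂ) = ∑ χ, (m χ : ℂ) * c χ := by
    rw [← hs, inN, show (fun n : Nz x => W n) = ∑ χ : IrrCharacter G, (m χ : ℂ) •
      fun n : Nz x => (χ : G → ℂ) n from funext fun n => by rw [e]; simp, classInner_sum_left]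
    simp only [classInner_smul_left, hc]
  have h2 : ∀ k, n k = m (ξ k) := fun k => Nat.cast_injective (R := ℂ) ((hn k).symm.trans (hm _))
  rw [sum_congr rfl fun k _ => h2 k, F.sum_comp, show s = ∑ χ, m χ * c χ by exact_mod_cast h1]
  refine Nat.mul_le_mul_left _ ((sum_le_sum fun χ hχ => ?_).trans
    (sum_le_sum_of_subset (subset_univ _)))
  obtain ⟨k, -, rfl⟩ := mem_image.1 hχ
  exact Nat.le_mul_of_pos_right _ (Nat.pos_of_ne_zero fun h => hψ k (by rw [inN, hc, h, Nat.cast_zero]))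

variable (hc : Cen K)
include hc

/-- Differences of multiplicities are differences of eigenvalue multiplicities. -/
theorem diff {W : G → ℂ} (hW : IsClassFunction G W) (hZ : ∀ z ∈ center G, ∀ g, W (z * g) = τ z * W g)
    (k l : (ZMod p)ˣ) : p * (classInner W (ξ k) - classInner W (ξ l)) =
      δ * (∑ j : ZMod p, W (x ^ j.val) * K.ω ^ (-(k : ZMod p) * j).val -
        ∑ j : ZMod p, W (x ^ j.val) * K.ω ^ (-(l : ZMod p) * j).val) := by
  have h1 := hc.avg_G (F := W * fun g => conj (((ξ k : G → ℂ) - (ξ l : G → ℂ)) g))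
    (hW.mul ((ξ k).2.isClassFunction.sub (ξ l).2.isClassFunction).conj) (fun z hz g => by
      simp only [Pi.mul_apply, Pi.sub_apply, hZ z hz, F.cen _ z hz, map_sub, map_mul]
      linear_combination W g * (conj ((ξ k : G → ℂ) g) - conj ((ξ l : G → ℂ) g)) * F.mul_conj hz)
    fun g hg => by simp [F.reg k l g hg]
  rw [sum_zmod_units] at h1
  simp only [Pi.mul_apply, Pi.sub_apply, F.sing, map_sub, map_mul, conj_eta, map_intCast,
    ZMod.val_zero, pow_zero, F.one k l, sub_self, mul_zero, zero_add, mul_sub, sum_sub_distrib,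
    mul_left_comm _ (δ : ℂ), ← mul_sum, ← neg_mul, sum_mul_eta K hW] at h1
  refine mul_left_cancel₀ (Nat.cast_ne_zero.2 K.f_pos.ne' : (K.f : ℂ) ≠ 0) ?_
  rw [classInner_def, classInner_def]
  linear_combination h1

theorem inN_eq {ψ : Nz x →* ℂˣ} (hψ : TrivP ψ) (h : inN (ξ 1) ψ ≠ 0) (k : (ZMod p)ˣ) :
    inN (ξ k) ψ ≠ 0 := by
  have h1 := hc.inN_sub hψ (fun z hz => eq_of_inN_ne_zero h z (F.cen 1 z hz)) (F.cen k) (F.cen 1)
    fun n hn hn' => F.reg _ _ n fun h => hn' (K.mem_C_of_mem_N hn h)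
  rw [sum_sub_distrib, F.sum_P, F.sum_P, F.one k 1, sub_self, mul_eq_zero, sub_eq_zero,
    or_iff_right (by exact_mod_cast mul_ne_zero hp.out.ne_zero K.f_pos.ne')] at h1
  rwa [h1]

end Fam

end CL.Blk.Sm
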