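/-
The exceptional family over the square of the central character of a faithful character of degree
`p - e`.
-/
import Cfsg.Agent.Blk.SmFam

set_option autoImplicit false
set_option linter.unusedSectionVars false
set_option linter.style.haveILetI false

open Finset Module Subgroup CL.Inv.PO CL.Char Cfsg ComplexConjugate IsLocalRing
open scoped Classical MatrixGroups

namespace CL.Blk.Sm

variable {G : Type*} [Group G] [Fintype G] {p : ℕ} [hp : Fact p.Prime] {x : G} {C : Subgroup G}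
  {K : Ctx p x C}

omit hp in
theorem mul_conj_lin (ψ : Nz x →* ℂˣ) (n : Nz x) : (ψ n : ℂ) * conj (ψ n : ℂ) = 1 := by
  rw [(isIrrCharacter_linear ψ).conj_apply n, ← Units.val_mul, ← map_mul]
  simp

theorem Cen.inN_sub' (hc : Cen K) {φ τ : G → ℂ} {φ' : Nz x → ℂ} {ψ : Nz x →* ℂˣ} (hψ : TrivP ψ)
    (hτ : ∀ z : Nz x, (z : G) ∈ center G → τ z * conj (ψ z : ℂ) = 1)
    (h1 : ∀ z ∈ center G, ∀ g, φ (z * g) = τ z * φ g)
    (h2 : ∀ z n : Nz x, (z : G) ∈ center G → φ' (z * n) = τ z * φ' n)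
    (h : ∀ n : Nz x, (n : G) ∉ C → φ n = φ' n) {c : ℂ}
    (h3 : ∀ n : Nz x, (n : G) ∈ zpowers x → φ' n = c) :
    p * K.f * (inN φ ψ - classInner φ' fun n => (ψ n : ℂ)) =
      ∑ j : ZMod p, φ (x ^ j.val) - p * c := by
  have h4 := hc.inN_sub (φ' := extendByZero (Nz x) φ') hψ hτ h1 (fun z hz g => ?_)
    fun n hn hn' => by rw [extendByZero_of_mem _ hn, ← h _ hn']
  · simp only [sum_sub_distrib, extendByZero_of_mem _ (le_normalizer (npow_mem_zpowers x _)),
      h3 ⟨_, _⟩ (npow_mem_zpowers x _), inN, extendByZero_of_mem _ (Subtype.prop _)] at h4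
    simpa using h4
  · have hzN : z ∈ Nz x := center_le_normalizer _ hz
    by_cases hg : g ∈ Nz x
    · rw [extendByZero_of_mem _ hg, extendByZero_of_mem _ (mul_mem hzN hg)]
      exact h2 ⟨z, hzN⟩ ⟨g, hg⟩ hz
    · simp [extendByZero_of_not_mem _ hg,
        extendByZero_of_not_mem _ (mt (mul_mem_cancel_left hzN).1 hg)]

theorem sum_fourier (K : Ctx p x C) (φ : G → ℂ) :
    ∑ j : ZMod p, φ (x ^ j.val) + ∑ k : (ZMod p)ˣ, ∑ j : ZMod p,
      φ (x ^ j.val) * K.ω ^ (-(k : ZMod p) * j).val = p * φ 1 := by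
  have h := sum_zmod_units fun k : ZMod p => ∑ j : ZMod p, φ (x ^ j.val) * K.ω ^ (-k * j).val
  simp only [neg_zero, zero_mul, ZMod.val_zero, pow_zero, mul_one] at h
  rw [← h, sum_comm]
  have h1 : ∀ k j : ZMod p, -k * j = -j * k := fun k j => by ring
  rw [sum_congr rfl fun j _ => by rw [← mul_sum, sum_congr rfl fun k _ => by rw [h1], K.sum_ω_pow]]
  simp [mul_comm]

variable {τ : G → ℂ} {δ : ℤ} {ζ ξ : (ZMod p)ˣ → IrrCharacter G} {t : ℕ}

variable (K τ δ ζ ξ t) in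
/-- The hypotheses of the main theorem. -/
structure Pair : Prop where
  cen : Cen K
  fam : Fam K τ (-1) ζ
  fam' : Fam K (fun z => τ z * τ z) δ ξ
  deg : charDegree (ζ 1 : G → ℂ) + K.f = p
  ht : t * K.f + 1 = p
  three : 3 ≤ t

namespace Pair

variable (h : Pair K τ δ ζ ξ t)
include h

theorem cast_p : (p : ℂ) = t * K.f + 1 := by exact_mod_cast h.ht.symm

theorem apply_one (k : (ZMod p)ˣ) : (ζ k : G → ℂ) 1 = p - K.f := by
  rw [h.fam.one k 1, ← (ζ 1).2.cast_charDegree, eq_sub_iff_add_eq]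
  exact_mod_cast h.deg

theorem deg' (k : (ZMod p)ˣ) : charDegree (ζ k : G → ℂ) = p - K.f :=
  charDegree_eq_of_eq (by rw [h.apply_one, Nat.cast_sub (by have := h.deg; omega)])

theorem ne_two : p ≠ 2 := by
  have := h.ht
  have := h.three
  have := K.f_pos
  nlinarith

theorem sum_mul {l : (ZMod p)ˣ} (hl : -l ∉ K.a.range) :
    ∑ j : (ZMod p)ˣ, (ζ 1 : G → ℂ) (x ^ (j : ZMod p).val) * (ζ l : G → ℂ) (x ^ (j : ZMod p).val) =
      -K.f ^ 2 := by
  simp only [h.fam.sing, Int.cast_neg, Int.cast_one, neg_one_mul, neg_mul_neg, sum_eta_mul_eta]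
  rw [if_neg (by simpa using hl), zero_sub]

theorem sum_eq {l : (ZMod p)ˣ} (hl : -l ∉ K.a.range) {b c : (ZMod p)ˣ → ℕ}
    (hb : ∀ k, (Nat.card (Nz x) : ℂ) * b k =
      ∑ n : Nz x, (ζ 1 : G → ℂ) n * (ζ l : G → ℂ) n * conj ((ξ k : G → ℂ) n))
    (hc : ∀ k, (Nat.card K.H : ℂ) * c k =
      ∑ n : K.H, (ζ 1 : G → ℂ) n * (ζ l : G → ℂ) n * conj ((ξ k : G → ℂ) n)) :
    (p * K.f * ∑ k, b k : ℂ) = p * K.f * ∑ k, c k -
      (p - 1) ^ 2 * (p - K.f) ^ 2 * (ξ 1 : G → ℂ) 1 + δ * K.f ^ 3 := by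
  have h1 := sum_congr (s₁ := univ) rfl fun k _ => h.cen.frob
    (((ζ 1).2.isClassFunction.mul (ζ l).2.isClassFunction).mul (ξ k).2.isClassFunction.conj)
    (fun z hz g => by
      simp only [Pi.mul_apply, h.fam.cen _ z hz, h.fam'.cen _ z hz, map_mul]
      have := h.fam'.mul_conj hz
      rw [map_mul] at this
      linear_combination (ζ 1 : G → ℂ) g * (ζ l : G → ℂ) g * conj ((ξ k : G → ℂ) g) * this)
    (hb k) (hc k)
  have h2 : conj ((ξ 1 : G → ℂ) 1) = (ξ 1 : G → ℂ) 1 := by rw [(ξ 1).2.conj_apply, inv_one]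
  simp only [sum_zmod_units, Pi.mul_apply, ZMod.val_zero, pow_zero, h.apply_one, h.fam'.one _ 1, h2,
    sum_add_distrib, sum_sub_distrib, ← mul_sum, sum_const, card_univ, ZMod.card_units, nsmul_eq_mul,
    h.fam'.sing, map_mul, map_intCast, conj_eta] at h1
  rw [sum_comm] at h1
  have h3 : ∀ j : (ZMod p)ˣ, ∑ k : (ZMod p)ˣ, eta K (-(k * j)) = -K.f := fun j => by
    rw [← sum_eta K (-j)]
    exact sum_congr rfl fun k _ => by rw [Units.val_neg, neg_mul, mul_comm]
  simp only [← mul_sum, h3, ← Finset.sum_mul, h.sum_mul hl, Nat.cast_sub hp.out.one_le] at h1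
  push_cast at h1 ⊢
  linear_combination h1

/-- Lower bound for the multiplicities in a product. -/
theorem lower {l : (ZMod p)ˣ} (hl : -l ∉ K.a.range) {r : ℕ} (hr : r ≠ 0)
    (hr' : ∑ j : ZMod p, (ξ 1 : G → ℂ) (x ^ j.val) = p * r) : ∃ n : (ZMod p)ˣ → ℕ,
      (∀ k, classInner ((ζ 1 : G → ℂ) * (ζ l : G → ℂ)) (ξ k) = n k) ∧
      (δ = 1 → K.f * K.f ≤ ∑ k, n k) ∧
      (δ = -1 → K.f * (t * (K.f - K.f / 2)) ≤ ∑ k, n k + K.f * K.f) := by
  have he := K.f_pos
  have ht := h.ht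
  have h3 := h.three
  have h3e : 3 * K.f + 1 ≤ p := by nlinarith
  have hpe : (p * K.f : ℂ) ≠ 0 := by exact_mod_cast mul_ne_zero hp.out.ne_zero he.ne'
  obtain ⟨q, hq⟩ : ∃ q, p = q + K.f + K.f := ⟨p - K.f - K.f, by omega⟩
  obtain ⟨m, rfl⟩ := Nat.exists_eq_succ_of_ne_zero hr
  obtain ⟨s, rfl⟩ := Nat.exists_eq_add_of_le' (show 1 ≤ t by omega)
  have hq' : (q : ℂ) = (s - 1) * K.f + 1 := by
    have h1 : (p : ℂ) = q + K.f + K.f := by exact_mod_cast hq
    rw [h.cast_p] at h1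
    push_cast at h1
    linear_combination -h1
  rw [h.fam'.sum_P] at hr'
  choose a b c h1 h2 h4 h5 h6 using fun k => h.cen.exists_ineq h.ne_two ht h3 (ζ 1).2 (ζ l).2 (ξ k).2
    (h.deg' 1) (h.deg' l) (fun z hz => by
      have e1 := h.fam.cen 1 z hz 1
      have e2 := h.fam.cen l z hz 1
      have e3 := h.fam'.cen k z hz 1
      rw [mul_one] at e1 e2 e3
      rw [e1, e2, e3]
      ring) (if δ = 1 then m + 1 else m)
  have h7 := h.sum_eq hl h2 h4
  have h8 : p - K.f = q + K.f := by omega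
  have h9 : p - 1 = (s + 1) * K.f := by omega
  refine ⟨a, h1, fun hδ => ?_, fun hδ => ?_⟩
  · have e1 := sum_le_sum (s := univ) fun k _ => h5 k (charDegree_eq_of_eq (by
      rw [h.fam'.one k 1, sub_eq_iff_eq_add.1 hr', hδ]; simp [mul_comm]))
    simp only [hδ, if_true, sum_add_distrib, sum_const, card_univ, ZMod.card_units, smul_eq_mul, h8,
      h9, Nat.add_sub_cancel] at e1
    have e2 : ∑ k, b k + (s + 1) * K.f * (((m + 1) * (s + 1) + 1) * ((q + K.f) * (q + K.f))) =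
        ∑ k, c k + (s + 1) * K.f * q + K.f * K.f := by
      refine Nat.cast_injective (R := ℂ) (mul_left_cancel₀ hpe ?_)
      rw [sub_eq_iff_eq_add.1 hr', hδ, h.cast_p] at h7
      rw [h.cast_p]
      push_cast at h7 ⊢
      rw [hq']
      linear_combination h7
    omega
  · have e1 := sum_le_sum (s := univ) fun k _ => h6 k (charDegree_eq_of_eq (by
      rw [h.fam'.one k 1, sub_eq_iff_eq_add.1 hr', hδ, if_neg (by decide)]
      push_cast [show K.f ≤ p by omega]
      ring))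
    simp only [hδ, if_neg (show (-1 : ℤ) ≠ 1 by decide), sum_add_distrib, sum_const, card_univ,
      ZMod.card_units, smul_eq_mul, h8, h9, Nat.add_sub_cancel,
      Nat.add_sub_assoc (Nat.div_le_self K.f 2)] at e1
    have e2 : ∑ k, b k + (s + 1) * K.f * ((m * (s + 1) + s) * ((q + K.f) * (q + K.f))) +
        (s + 1) * K.f * q + K.f * K.f = ∑ k, c k := by
      refine Nat.cast_injective (R := ℂ) (mul_left_cancel₀ hpe ?_)
      rw [sub_eq_iff_eq_add.1 hr', hδ, h.cast_p] at h7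
      rw [h.cast_p]
      push_cast at h7 ⊢
      rw [hq']
      linear_combination h7
    nlinarith

theorem exists_lin : ∃ β : Nz x →* ℂˣ, TrivP β ∧ (∀ z : Nz x, (z : G) ∈ center G → τ z = β z) ∧
    ∀ k, ∀ n : Nz x, (n : G) ∉ C → (ζ k : G → ℂ) n = β n := by
  have h1 : ∑ j : ZMod p, (ζ 1 : G → ℂ) (x ^ j.val) = p := by simp [h.fam.sum_P, h.apply_one]
  obtain ⟨β, h2, h3, h4⟩ := h.cen.exists_lin (ζ 1).2.isCharacter
    (by rw [h1]; exact Nat.cast_ne_zero.2 hp.out.ne_zero)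
  refine ⟨β, h2, fun z hz => ?_, fun k n hn =>
    (h.fam.reg k 1 n fun e => hn (K.mem_C_of_mem_N n.2 e)).trans (h4 h1 n hn)⟩
  linear_combination (β z : ℂ) * eq_of_inN_ne_zero h3 z (h.fam.cen 1 z hz) - τ z * mul_conj_lin β z

variable {β : Nz x →* ℂˣ} (hβ : TrivP β) (hτ : ∀ z : Nz x, (z : G) ∈ center G → τ z = β z)
  (hζ : ∀ k, ∀ n : Nz x, (n : G) ∉ C → (ζ k : G → ℂ) n = β n)
include hβ hτ hζ

theorem inN_mul {l : (ZMod p)ˣ} (hl : -l ∉ K.a.range) {ψ : Nz x →* ℂˣ} (hψ : TrivP ψ)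
    (h1 : inN (ξ 1) ψ ≠ 0) : inN ((ζ 1 : G → ℂ) * (ζ l : G → ℂ)) ψ =
      ((t - 2 + if β * β = ψ then 1 else 0 : ℕ) : ℂ) := by
  have h2 := h.cen.inN_sub' (φ := (ζ 1 : G → ℂ) * (ζ l : G → ℂ)) (φ' := fun n => (β * β) n)
    (τ := fun z => τ z * τ z) hψ
    (fun z hz => eq_of_inN_ne_zero h1 z (h.fam'.cen 1 z hz))
    (fun z hz g => by simp only [Pi.mul_apply, h.fam.cen _ z hz]; ring)
    (fun z n hz => by simp [hτ z hz]; ring) (fun n hn => by simp [hζ _ n hn]) (c := 1)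
    fun n hn => by simp [hβ n hn]
  rw [sum_zmod_units, (isIrrCharacter_linear _).classInner_eq_ite (isIrrCharacter_linear _)] at h2
  simp only [Pi.mul_apply, h.sum_mul hl, ZMod.val_zero, pow_zero, h.apply_one] at h2
  have h3 : ((fun n => ((β * β) n : ℂ)) = fun n => (ψ n : ℂ)) ↔ β * β = ψ :=
    ⟨fun e => MonoidHom.ext fun n => Units.ext (congrFun e n), fun e => by rw [e]⟩
  have hpe : (p * K.f : ℂ) ≠ 0 := by exact_mod_cast mul_ne_zero hp.out.ne_zero K.f_pos.ne'
  refine mul_left_cancel₀ hpe ?_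
  simp only [h3] at h2
  push_cast [show 2 ≤ t by have := h.three; omega]
  linear_combination h2 + p * h.cast_p

/-- The alternating square. -/
theorem alt (h1 : inN (ξ 1) (β * β) ≠ 0) : t ∣ K.f ∨ (2 ∣ t ∧ (δ = 1 → K.f + 1 ≠ t)) := by
  have hΛ := CL.Inv.isCharacter_altSq (ζ 1).2.isCharacter
  set Λ : G → ℂ := fun g => ((ζ 1 : G → ℂ) g * (ζ 1 : G → ℂ) g - (ζ 1 : G → ℂ) (g * g)) / 2
  have hZ : ∀ z ∈ center G, ∀ g, Λ (z * g) = τ z * τ z * Λ g := fun z hz g => by
    simp only [Λ, show z * g * (z * g) = z * (z * (g * g)) by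
      rw [mul_assoc, ← mul_assoc g, mem_center_iff.1 hz g, mul_assoc], h.fam.cen _ z hz]
    ring
  have hββ : TrivP (β * β) := fun n hn => by simp [hβ n hn]
  have h20 : (1 + 1 : ZMod p) ≠ 0 := fun e => h.ne_two ((Nat.prime_dvd_prime_iff_eq hp.out
    Nat.prime_two).1 ((ZMod.natCast_eq_zero_iff 2 p).1 (by rw [← e]; norm_num)))
  have h21 : (1 : (ZMod p)ˣ) ≠ -1 := fun e => h20 (by
    simpa [← eq_neg_iff_add_eq_zero] using congrArg Units.val e)
  have hC : ∀ n : Nz x, (n : G) ∈ center G → K.a n = 1 := fun n hn =>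
    (K.a_eq_one_iff n).2 ((K.memC _).2 (mem_center_iff.1 hn x))
  have h2 := h.cen.inN_sub' (φ := Λ) (τ := fun z => τ z * τ z) (φ' := fun n => if K.a n = -1 then
    (1 - (p - K.f)) / 2 * (β * β) n else 0) hββ
    (fun z hz => eq_of_inN_ne_zero h1 z (h.fam'.cen 1 z hz)) hZ
    (fun z n hz => by simp [hτ z hz, hC z hz]; split_ifs <;> ring) (fun n hn => ?_) (c := 0)
    fun n hn => by simp [(K.a_eq_one_iff n).2 (K.P_le_C hn), h21]
  swap
  · simp only [Λ, hζ _ n hn, MonoidHom.mul_apply, Units.val_mul]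
    split_ifs with e
    · have h3 : ((n * n : Nz x) : G) ∈ center G := h.cen _ ((K.a_eq_one_iff _).1 (by simp [e]))
        fun e' => hn (K.mem_C_of_mem_N n.2 (e'.trans (by
          rw [MulMemClass.coe_mul, ← pow_two]; exact orderOf_pow_dvd 2)))
      have h4 := h.fam.cen 1 _ h3 1
      rw [mul_one, hτ _ h3, h.apply_one, map_mul, Units.val_mul, MulMemClass.coe_mul] at h4
      rw [h4]
      ring
    · have h3 := hζ 1 (n * n) fun e' => by
        rw [← K.a_eq_one_iff, map_mul, ← Units.val_inj, Units.val_mul, Units.val_one,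
          mul_self_eq_one_iff] at e'
        exact e'.elim (fun e' => hn ((K.a_eq_one_iff n).1 (Units.ext e'))) fun e' => e (Units.ext e')
      rw [map_mul, Units.val_mul, MulMemClass.coe_mul] at h3
      simp [h3]
  have h3 : ∑ j : ZMod p, Λ (x ^ j.val) = Λ 1 +
      ((if -1 ∈ K.a.range then (p * K.f : ℂ) else 0) - K.f ^ 2 - K.f) / 2 := by
    have h4 : ∀ j : (ZMod p)ˣ, (ζ 1 : G → ℂ) (x ^ (j : ZMod p).val * x ^ (j : ZMod p).val) =
        -eta K (Units.mk0 _ h20 * j) := fun j => by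
      simpa [add_mul, pow_val_add K.x_pow] using h.fam.sing 1 (Units.mk0 _ h20 * j)
    rw [sum_zmod_units]
    simp only [Λ, h4, h.fam.sing, Int.cast_neg, Int.cast_one, neg_one_mul, neg_mul_neg, ← sum_div,
      sub_neg_eq_add, sum_add_distrib, sum_eta_mul_eta, sum_eta]
    simp [sub_eq_add_neg]
  have h4 : Λ 1 = ((p - K.f) * (p - K.f) - (p - K.f)) / 2 := by simp [Λ, h.apply_one]
  have h5 : K.f * classInner (fun n : Nz x => if K.a n = -1 then
      (1 - (p - K.f : ℂ)) / 2 * (β * β) n else 0) (fun n => ((β * β) n : ℂ)) =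
      if -1 ∈ K.a.range then (1 - (p - K.f : ℂ)) / 2 else 0 := by
    simp only [classInner_def, ite_mul, zero_mul, mul_assoc, mul_conj_lin, mul_one]
    rw [sum_N_a K fun u => if u = -1 then (1 - (p - K.f : ℂ)) / 2 else 0, K.card_N, Nat.cast_mul,
      mul_inv, mul_assoc, mul_inv_cancel_left₀ (Nat.cast_ne_zero.2 K.f_pos.ne'),
      inv_mul_cancel_left₀ (natCard_subgroup_ne_zero C)]
    split_ifs with e
    · rw [Fintype.sum_eq_single (⟨_, e⟩ : K.a.range) fun u hu => if_neg fun e' => hu (Subtype.ext e'),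
        if_pos rfl]
    · exact sum_eq_zero fun u _ => if_neg fun e' : u.1 = -1 => e (e' ▸ u.2)
  obtain ⟨s, hs⟩ := (hΛ.restrict (Nz x)).exists_nat_classInner
    (isIrrCharacter_linear (β * β)).isCharacter
  choose n hn using fun k => hΛ.exists_nat_classInner (ξ k).2.isCharacter
  choose r hr _ using fun k : (ZMod p)ˣ => K.exists_nat_fourier hΛ (-k)
  obtain ⟨r₀, hr₀⟩ := K.exists_nat_sum_P hΛ
  have h6 := h.fam'.upper hΛ (h.fam'.inN_eq h.cen hββ h1) hn hs
  have hp0 : (p : ℂ) ≠ 0 := Nat.cast_ne_zero.2 hp.out.ne_zero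
  have he0 : (K.f : ℂ) ≠ 0 := Nat.cast_ne_zero.2 K.f_pos.ne'
  have h7 : ∀ k l, (n k - n l : ℂ) = δ * (r k - r l) := fun k l => mul_left_cancel₀ hp0 (by
    rw [← hn, ← hn, h.fam'.diff h.cen hΛ.isClassFunction hZ, hr, hr]; ring)
  have h8 := sum_fourier K Λ
  simp only [hr, hr₀, ← mul_sum, ← mul_add, mul_right_inj' hp0] at h8
  rw [mul_sub, inN, hs, mul_assoc _ _ (classInner _ _), h5, h3] at h2
  rw [h3] at hr₀
  rw [h4] at h2 h8 hr₀
  have hq := h.cast_p
  have h3t := h.three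
  by_cases hm : -1 ∈ K.a.range
  · rw [if_pos hm] at hr₀
    rw [if_pos hm, if_pos hm] at h2
    obtain rfl : s = 0 := by
      have : (p * K.f * s : ℂ) = 0 := by linear_combination h2
      simpa [hp0, he0] using this
    have h9 : ∀ k, (r k : ℂ) = r 1 := fun k => by
      have e := h7 k 1
      have e' : ∀ k, n k = 0 := fun k => sum_eq_zero_iff.1 (by omega) k (mem_univ k)
      rw [e', e', sub_self, eq_comm, mul_eq_zero, sub_eq_zero] at e
      exact e.resolve_left (by rcases h.fam'.sign with hδ | hδ <;> simp [hδ])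
    simp only [h9, sum_const, card_univ, ZMod.card_units, nsmul_eq_mul,
      Nat.cast_sub hp.out.one_le] at h8
    obtain ⟨u, rfl⟩ := Nat.exists_eq_add_of_le' (show 1 ≤ t by omega)
    have h10 : (u + 1) * (2 * r 1) = K.f * u ^ 2 := Nat.cast_injective (R := ℂ)
      (mul_left_cancel₀ (mul_ne_zero hp0 he0) (by
        rw [hq] at h8 hr₀ ⊢
        push_cast at h8 hr₀ ⊢
        linear_combination 2 * ((u + 1) * K.f + 1) * h8 + 2 * hr₀))
    exact .inl (Nat.Coprime.dvd_of_dvd_mul_right (by simp) ⟨_, h10.symm⟩)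
  · rw [if_neg hm] at hr₀
    rw [if_neg hm, if_neg hm] at h2
    have h9 : 2 * s + 2 = t := Nat.cast_injective (R := ℂ) (mul_left_cancel₀ (mul_ne_zero hp0 he0)
      (by push_cast; linear_combination 2 * h2 + p * hq))
    refine .inr ⟨⟨s + 1, by omega⟩, fun hδ ht => ?_⟩
    have h10 : 2 * ∑ k, r k = 2 * ((p - 1) * r₀) + (p - 1) := Nat.cast_injective (R := ℂ) (by
      have : (t : ℂ) = K.f + 1 := by exact_mod_cast ht.symm
      push_cast [hp.out.one_le]
      linear_combination 2 * h8 + 2 * hr₀ - hq - K.f * this)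
    have h11 := h.ht
    have h12 := K.f_pos
    obtain ⟨l, hl⟩ : ∃ l, r l ≤ r₀ := by
      by_contra hc
      push Not at hc
      have : _ ≤ ∑ k, r k := card_nsmul_le_sum univ r (r₀ + 1) fun k _ => hc k
      rw [card_univ, ZMod.card_units, smul_eq_mul, mul_add] at this
      have := hp.out.two_le
      omega
    have h13 := sum_le_sum (s := univ) (f := r) (g := fun k => n k + r₀) fun k _ => by
      have e : n k + r l = n l + r k := Nat.cast_injective (R := ℂ) (by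
        have := h7 k l
        rw [hδ] at this
        push_cast at this ⊢
        linear_combination this)
      omega
    rw [sum_add_distrib, sum_const, card_univ, ZMod.card_units, smul_eq_mul] at h13
    have h14 : p - 1 = K.f * (2 * s + 2) := by rw [h9, mul_comm]; omega
    nlinarith

omit hβ hτ hζ in
/-- **Main theorem**: the family over the square has positive sign, and `e + 3 ≤ t`. -/
theorem main (he : 3 ≤ K.f)
    (hno : ∀ (M : Ideal AlgInt) [CharP (resField M) p] (φ : G →* PGL(2, resField M)), φ x = 1) :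
    δ = 1 ∧ K.f + 3 ≤ t := by
  have ht := h.ht
  have h3 := h.three
  have h3e : 3 * K.f + 1 ≤ p := by nlinarith
  obtain ⟨β, hβ, hτ, hζ⟩ := h.exists_lin
  obtain ⟨l, hl⟩ : ∃ l : (ZMod p)ˣ, -l ∉ K.a.range := by
    by_contra hc
    push Not at hc
    have h1 : K.a.range = ⊤ := (Subgroup.eq_top_iff' _).2 fun u => neg_neg u ▸ hc (-u)
    have h2 : K.f = p - 1 := by rw [Ctx.f, h1, card_top, Nat.card_eq_fintype_card, ZMod.card_units]
    omega
  obtain ⟨r, hr⟩ := K.exists_nat_sum_P (ξ 1).2.isCharacter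
  have hr0 : r ≠ 0 := by
    rintro rfl
    rw [h.fam'.sum_P, Nat.cast_zero, mul_zero, sub_eq_zero, ← (ξ 1).2.cast_charDegree] at hr
    have h1 : (charDegree (ξ 1 : G → ℂ) : ℤ) = δ * K.f := by exact_mod_cast hr
    obtain ⟨M, hM⟩ := exists_isPModular' hp.out
    have := charP_resField hM
    rcases h.fam'.sign with hδ | hδ <;> rw [hδ] at h1
    · obtain ⟨φ, hφ⟩ := h.cen.exists_hom (M := M) (by omega) (ξ 1).2 (by omega) (by omega)
      exact hφ (hno M φ)
    · omega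
  obtain ⟨n, h1, h2, h4⟩ := h.lower hl hr0 hr
  obtain ⟨ψ, hψ, h5, -⟩ := h.cen.exists_lin (ξ 1).2.isCharacter
    (by rw [hr]; exact_mod_cast mul_ne_zero hp.out.ne_zero hr0)
  have h6 := h.fam'.upper ((ζ 1).2.isCharacter.mul (ζ l).2.isCharacter)
    (h.fam'.inN_eq h.cen hψ h5) h1 (h.inN_mul hβ hτ hζ hl hψ h5)
  have h7 : β * β = ψ → t ∣ K.f ∨ (2 ∣ t ∧ (δ = 1 → K.f + 1 ≠ t)) := fun e =>
    h.alt hβ hτ hζ (e ▸ h5)
  rcases h.fam'.sign with hδ | hδ
  · have h8 := Nat.le_of_mul_le_mul_left ((h2 hδ).trans h6) (by omega)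
    refine ⟨hδ, by_contra fun hc => ?_⟩
    by_cases h9 : K.f + 2 = t
    · have h10 : p = (K.f + 1) * (K.f + 1) := ht.symm.trans (by rw [← h9]; ring)
      have := (Nat.prime_mul_iff.1 (h10 ▸ hp.out))
      omega
    split_ifs at h8 with e
    · rcases h7 e with h10 | h10
      · have := Nat.le_of_dvd (by omega) h10
        omega
      · exact h10.2 hδ (by omega)
    · omega
  · have h8 := Nat.le_of_mul_le_mul_left ((h4 hδ).trans (Nat.add_le_add_right h6 _) |>.trans_eq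
      (mul_add _ _ _).symm) (by omega)
    obtain ⟨u, rfl⟩ := Nat.exists_eq_add_of_le' h3
    obtain ⟨v, hv⟩ := Nat.exists_eq_add_of_le' (show 2 ≤ K.f - K.f / 2 by omega)
    rw [hv] at h8
    have h9 : K.f ≤ 2 * (v + 2) := by omega
    split_ifs at h8 with e
    · have h10 : u * v + u + v = 0 ∧ K.f = 2 * (v + 2) := by
        rw [show (u + 3) * (v + 2) = u * v + 2 * u + 3 * v + 6 by ring] at h8
        omega
      obtain ⟨rfl, rfl⟩ : u = 0 ∧ v = 0 := by omega
      rcases h7 e with h11 | h11 <;> omega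
    · rw [show (u + 3) * (v + 2) = u * v + 2 * u + 3 * v + 6 by ring] at h8
      omega

end Pair

end CL.Blk.Sm
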