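/-
Faithful irreducible characters of degree at most `p - 2` of groups with a non-normal Sylow subgroup
of order `p`.
-/
import Cfsg.Agent.Blk.SmMain

set_option autoImplicit false
set_option linter.unusedSectionVars false
set_option linter.style.haveILetI false

open Finset Module Subgroup CL.Inv.PO CL.Char CL.Blk.Rk Cfsg MonoidAlgebra Polynomial
open scoped Classical MatrixGroups

namespace CL.Blk.Sm

variable {G : Type*} [Group G] [Fintype G] {p : ℕ} [hp : Fact p.Prime] {x : G} {Z : Subgroup G}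
  (K : Ctx p x Z)

theorem aeval_eq_zero {V : Type*} [AddCommGroup V] [Module ℂ V] [FiniteDimensional ℂ V]
    (ρ : Representation ℂ G V) {q : ℂ[X]} (h : ∀ l : ZMod p, q.eval (K.ω ^ l.val) = 0 ∨
      ∑ j : ZMod p, ρ.character (x ^ j.val) * K.ω ^ (-l * j).val = 0) : aeval (ρ x) q = 0 := by
  let E : ZMod p → End ℂ V := fun l => ∑ j : ZMod p, K.ω ^ (-l * j).val • ρ x ^ j.val
  have hp0 : (p : ℂ) ≠ 0 := Nat.cast_ne_zero.2 hp.out.ne_zero
  have hx : ρ x ^ p = 1 := by rw [← map_pow, K.x_pow, map_one]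
  have h1 : ∀ l i : ZMod p, ρ x ^ i.val * E l = K.ω ^ (l * i).val • E l := fun l i => by
    rw [mul_sum, smul_sum, ← Equiv.sum_comp (Equiv.addLeft i)
      fun j => K.ω ^ (l * i).val • K.ω ^ (-l * j).val • ρ x ^ j.val]
    refine sum_congr rfl fun j _ => ?_
    rw [Equiv.coe_addLeft, mul_smul_comm, pow_val_add hx, smul_smul, ← ω_pow_add]
    congr 3
    ring
  have h2 : ∀ l, IsIdempotentElem ((p : ℂ)⁻¹ • E l) := fun l => by
    have : E l * E l = (p : ℂ) • E l := by
      change (∑ j : ZMod p, K.ω ^ (-l * j).val • ρ x ^ j.val) * E l = _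
      simp [sum_mul, h1, smul_smul, ← ω_pow_add, Nat.cast_smul_eq_nsmul]
    rw [IsIdempotentElem, smul_mul_smul_comm, this, smul_smul, inv_mul_cancel_right₀ hp0]
  have h3 : ∑ l, E l = (p : ℂ) • 1 := by
    rw [sum_comm, sum_congr rfl fun j _ => by
      rw [← sum_smul, sum_congr rfl fun l _ => by rw [show -l * j = -j * l by ring], K.sum_ω_pow]]
    simp
  refine smul_right_injective _ hp0 ?_
  simp only [smul_zero]
  rw [← mul_one (aeval _ _), ← mul_smul_comm, ← h3, mul_sum]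
  refine sum_eq_zero fun l _ => ?_
  rcases h l with h | h
  · refine LinearMap.ext fun v => ?_
    rw [End.mul_apply, End.aeval_apply_of_mem_apply_eq_smul (μ := K.ω ^ l.val), h, zero_smul,
      LinearMap.zero_apply]
    simpa [ZMod.val_one] using LinearMap.congr_fun (h1 l 1) v
  · have h4 := (LinearMap.IsIdempotentElem.trace_eq_zero_iff (h2 l)).1 (by
      rw [map_smul, smul_eq_zero, map_sum]
      simp only [map_smul, ← map_pow, smul_eq_mul]
      exact .inr ((sum_congr rfl fun j _ => mul_comm _ _).trans h))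
    rw [(smul_eq_zero.1 h4).resolve_left (inv_ne_zero hp0), mul_zero]

variable {K} {θ : IrrCharacter Z} {B : Set (IrrCharacter G)} (D : Data K θ B)

theorem pow_f_eq_zero (hε : D.ε = 1) (k : (ZMod p)ˣ) (hd : charDegree (D.μ k : G → ℂ) < p)
    {M : Ideal AlgInt} (hM : IsPModular p M) {j : Sim M G} (hj : dec (D.μ k : G → ℂ) j ≠ 0) :
    (j.rep x - 1) ^ K.f = 0 := by
  let c : K.a.range → ℂ := fun u => K.ω ^ (((u : (ZMod p)ˣ) : ZMod p) * k).val
  have hc : ∀ u, c u ^ p = 1 := fun u => by rw [← pow_mul, mul_comm, pow_mul, K.lamC_pow, one_pow]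
  have h1 : ∀ s : Finset K.a.range, aeval (single x (1 : ℂ)) (∏ u ∈ s, (X - C (c u))) ∈ OG M G ∧
      redG M (aeval (single x (1 : ℂ)) (∏ u ∈ s, (X - C (c u)))) = (single x 1 - 1) ^ #s :=
    fun s => by
      induction s using Finset.induction_on with
      | empty => simpa using redG_one
      | insert u s hu ih =>
        have h2 := single_mem_OG (M := M) x (one_mem _)
        have h3 := algebraMap_mem_OG (G := G) (mem_valRing_of_pow_eq_one (M := M) hp.out.ne_zero (hc u))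
        rw [prod_insert hu, map_mul, map_sub, aeval_X, aeval_C, redG_mul (sub_mem h2 h3) ih.1, ih.2,
          redG_sub h2 h3, redG_single_one, redG_algebraMap, red_eq_one_of_pow_prime_pow_eq_one hM
          (k := 1) (by rw [pow_one, hc]), map_one, card_insert_of_notMem hu, pow_succ']
        exact ⟨mul_mem (sub_mem h2 h3) ih.1, rfl⟩
  obtain ⟨n, ρ, hρ⟩ := (D.μ k).2.isCharacter
  have h2 := alg_eq_zero_of_dec ρ (hρ ▸ hj) (h1 univ).1 (by
    rw [← aeval_algHom_apply, Representation.asAlgebraHom_single_one]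
    refine aeval_eq_zero K ρ fun l => ?_
    by_cases hl : ∃ n : Nz x, (K.a n : ZMod p) * k = l
    · obtain ⟨n, rfl⟩ := hl
      exact .inl (by rw [eval_prod]; exact prod_eq_zero (mem_univ ⟨_, n, rfl⟩) (by simp [c]))
    · push Not at hl
      have h3 := D.fourier_μ k l 1 (by simpa using hp.out.ne_one)
      simp only [OneMemClass.coe_one, mul_one, hl, if_false, sum_const_zero, mul_zero, zero_sub,
        map_one, mul_neg, K.avg_const, hε, ← (D.μ k).2.cast_charDegree, D.deg_of_pos hε k hd,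
        ← θ.2.cast_charDegree] at h3
      right
      rw [hρ, h3]
      simp)
  rwa [(h1 univ).2, map_pow, map_sub, map_one, card_univ, ← Nat.card_eq_fintype_card] at h2

theorem reg_of_mem_center (hn : ¬ (zpowers x).Normal) (K : Ctx p x Z) {z : G} (hz : z ∈ center G) :
    ¬ p ∣ orderOf z := fun h => hn ⟨fun u hu g => by
  have h1 := zpowers_le.2 (K.x_mem_of_dvd (h.trans ((center G).orderOf_dvd_natCard hz))) hu
  rwa [mem_center_iff.1 h1, mul_inv_cancel_right]⟩

theorem fam_of_data (hn : ¬ (zpowers x).Normal) (h1 : (θ : Z → ℂ) 1 = 1) (hst : K.stab θ = ⊤)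
    {τ : G → ℂ} (hτ : ∀ z : Z, τ z = (θ : Z → ℂ) z) : Fam K τ D.ε D.μ := by
  have h2 : ∀ (k j : (ZMod p)ˣ) (z : Z), (z : G) ∈ center G →
      (D.μ k : G → ℂ) (z * x ^ (j : ZMod p).val) = τ z * (D.ε * eta K (k * j)) := fun k j z hz => by
    have h3 : ∀ n, K.cj n z = z := fun n => Subtype.ext (by
      rw [K.coe_cj, mem_center_iff.1 hz, mul_inv_cancel_right])
    rw [← mem_center_iff.1 hz, D.μ_apply_mul k j z (reg_of_mem_center hn K hz)]
    simp only [h3, ← sum_mul, mul_assoc]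
    rw [sum_N_a K fun u => K.ω ^ ((u : ZMod p) * (k * j)).val, mul_assoc,
      inv_mul_cancel_left₀ (natCard_subgroup_ne_zero Z), hτ, eta]
    ring
  have h3 : ∀ k j : (ZMod p)ˣ, (D.μ k : G → ℂ) (x ^ (j : ZMod p).val) = D.ε * eta K (k * j) :=
    fun k j => by simpa [show τ 1 = 1 from (hτ 1).trans h1] using h2 k j 1 (one_mem _)
  refine ⟨D.hε, fun k l => by rw [D.μ_eq, Ctx.E, hst, ← MonoidHom.range_eq_map],
    fun k l g hg => D.μ_reg k l hg, fun k z hz g => ?_, h3⟩
  obtain ⟨c, -, hc⟩ := (D.μ k).2.center_le_charCenter hz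
  have h4 := sum_congr (s₁ := univ) rfl fun j _ =>
    (hc _).symm.trans (h2 k j ⟨z, (K.memC z).2 (mem_center_iff.1 hz x)⟩ hz)
  simp only [h3, ← mul_sum, sum_eta] at h4
  rw [hc, mul_right_cancel₀ (mul_ne_zero (left_ne_zero_of_mul_eq_one D.ε_mul_self)
    (neg_ne_zero.2 (Nat.cast_ne_zero.2 K.f_pos.ne'))) h4]

theorem Fam.exists_gal {τ : G → ℂ} {δ : ℤ} {ζ : (ZMod p)ˣ → IrrCharacter G} (F : Fam K τ δ ζ)
    (hn : ¬ (zpowers x).Normal) (hp2 : p ≠ 2) (hZ : Odd (Nat.card (center G))) :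
    ∃ ξ, Fam K (fun z => τ z * τ z) δ ξ := by
  obtain ⟨m, h1, h2, -, h3⟩ := exists_crt_exp (G := G) hp2 odd_one
  refine ⟨fun k => ⟨fun g => (ζ k : G → ℂ) (g ^ m), isIrr_pow_coprime (ζ k).2 h1⟩, F.sign,
    fun k l => ?_, fun k l g hg => F.reg k l _ fun h => hg (h.trans (orderOf_pow_dvd m)),
    fun k z hz g => ?_, fun k j => ?_⟩
  · rw [← F.eq_iff]
    refine ⟨fun e => Subtype.ext (funext fun g => ?_), fun e => by simp only [e]⟩
    obtain ⟨y, rfl⟩ := (powCoprime h1.symm).surjective g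
    exact congrFun (congrArg Subtype.val e) y
  · change (ζ k : G → ℂ) _ = _ * (ζ k : G → ℂ) _
    rw [(show Commute z g from (mem_center_iff.1 hz g).symm).mul_pow,
      h3 z (hZ.of_dvd_nat ((center G).orderOf_dvd_natCard hz)) (reg_of_mem_center hn K hz),
      pow_two, mul_assoc, F.cen k z hz, F.cen k z hz, mul_assoc]
  · change (ζ k : G → ℂ) _ = _
    rw [pow_eq_pow_iff_modEq.2 (K.orderOf_pow_val j ▸ h2), pow_one, F.sing]

theorem exists_fam_sq (hn : ¬ (zpowers x).Normal) (h1 : (θ : Z → ℂ) 1 = 1) (hst : K.stab θ = ⊤)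
    (hker : K.Ker θ) {τ : G → ℂ} (hτ : ∀ z : Z, τ z = (θ : Z → ℂ) z) :
    ∃ δ ξ, Fam K (fun z => τ z * τ z) δ ξ := by
  obtain ⟨lam, hlam⟩ := θ.2.isCharacter.exists_monoidHom_of_one h1
  let θ' : IrrCharacter Z := ⟨_, isIrrCharacter_linear (lam * lam)⟩
  have h2 : ∀ c, (θ' : Z → ℂ) c = (θ : Z → ℂ) c * (θ : Z → ℂ) c := fun c => by simp [θ', hlam]
  obtain ⟨M, hM⟩ := exists_isPModular' hp.out
  obtain ⟨B', hB'⟩ := K.inducedBlockDefined hM θ'
  obtain ⟨D'⟩ := K.nonempty_data hM (θ := θ') (fun c => by rw [h2, h2, hker c]) hB'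
  refine ⟨_, _, fam_of_data D' hn (by rw [h2, h1, one_mul]) ((Subgroup.eq_top_iff' _).2 fun n =>
    K.mem_stab.2 (Subtype.ext (funext fun c => ?_))) fun z => by rw [h2, hτ]⟩
  rw [K.cc_apply, h2, h2, ← K.cc_apply, K.mem_stab.1 (hst ▸ mem_top n)]

variable (K) in
/-- Faithful irreducible characters of degree at most `p - 2`. -/
theorem cases_of_le (hp7 : 7 < p) (hn : ¬ (zpowers x).Normal) {ζ : G → ℂ} (hζ : IsIrrCharacter G ζ)
    (hker : charKer ζ = ⊥) (hd : charDegree ζ + 2 ≤ p) {t : ℕ} (ht : t * K.f + 1 = p) :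
    (Nonempty (G ⧸ center G ≃* PSL(2, ZMod p)) ∧
      (2 * charDegree ζ = p + 1 ∨ 2 * charDegree ζ = p - 1) ∧ t = 2) ∨
    (charDegree ζ + K.f = p ∧ K.f + 3 ≤ t ∧ (Odd (Nat.card (center G)) → K.f = 2)) := by
  have hx : ζ x ≠ ζ 1 := fun e => K.x_ne_one (mem_bot.1 (hker ▸ hζ.mem_charKer.2 e))
  obtain ⟨θ, B, D, k, rfl⟩ := exists_data_of_le K hζ hx hd
  have he := K.f_pos
  have hp11 : 11 ≤ p := by
    by_contra h
    have := hp.out
    interval_cases p <;> exact absurd this (by decide)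
  have ht2 : 2 * K.f + 1 = p → t = 2 := fun h => Nat.eq_of_mul_eq_mul_right he (by omega)
  rcases D.hε with hε | hε
  · have h1 := D.deg_of_pos hε k (by omega)
    have h2 := θ.2.charDegree_pos
    have h3 : K.f ≤ charDegree (D.μ k : G → ℂ) := h1 ▸ Nat.le_mul_of_pos_right _ h2
    have h4 : 2 * K.f + 1 ≤ p := by
      rcases t with _ | _ | t
      · omega
      · omega
      · nlinarith
    obtain h | ⟨h, -⟩ := psl_or_of_pow K (by omega) hn hζ.isCharacter hker hd
      fun M hM j hj hj' _ => exists_hom_of_small K j.rep (by omega)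
        (pow_f_eq_zero D hε k (by omega) hM hj) hj' (by omega)
    · omega
    have h5 : charDegree (θ : Z → ℂ) = 1 := by
      by_contra h5
      have : K.f * 2 ≤ K.f * charDegree (θ : Z → ℂ) := Nat.mul_le_mul_left _ (by omega)
      omega
    rw [h5, mul_one] at h1
    exact .inl ⟨(of_two_mul_le K (by omega) hn hζ.isCharacter hker (by omega)).2.2,
      .inr (by omega), ht2 (by omega)⟩
  obtain ⟨h1, h2, h3, h4, h5⟩ := D.of_neg hε k (by omega) hx
  have h1' := θ.2.isCharacter.charDegree_eq_one_iff.1 h1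
  have hc : Cen K := fun v hv hvp => by
    obtain ⟨lam, hlam⟩ := θ.2.isCharacter.exists_monoidHom_of_one h1'
    rw [← hζ.charCenter_eq_center hker, hζ.isCharacter.mem_charCenter, h5 ⟨v, hv⟩ hvp,
      ← hζ.cast_charDegree, hlam, norm_mul, Complex.norm_eq_one_of_pow_eq_one (ζ := lam ⟨v, hv⟩)
      (n := Nat.card Z) (by rw [← Units.val_pow_eq_pow_val, ← map_pow, pow_card_eq_one', map_one,
        Units.val_one]) Nat.card_pos.ne', mul_one]
  by_cases h6 : 2 * K.f + 1 = p
  · obtain h | ⟨-, ψ, a1, a2, a3, a4⟩ := psl_or_of_pow K (by omega) hn hζ.isCharacter hker hd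
      fun M hM j hj hj' _ => by
        have := dim_le_of_dec hM hζ.isCharacter hj
        by_cases h7 : 2 * j.dim ≤ p
        · exact exists_hom_of_small K j.rep (by omega) (pow_finrank_eq_zero ⟨p, sub_one_pow_p K _⟩)
            hj' (by rwa [finrank_fin_fun])
        · exact exists_hom_of_half K j.rep hp11 (by rw [finrank_fin_fun]; omega) hj'
    · omega
    have a5 : ∀ s ∈ ψ.ker, s ∈ center G := fun s hs =>
      hc s (a3 hs) fun h => a4 (h.trans (ψ.ker.orderOf_dvd_natCard hs))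
    exact .inl ⟨nonempty_quotient_center ψ a1 (ker_eq_center (by omega) ψ a1 a2
      (fun s hs => (K.memC s).1 (a3 hs)) fun s _ t ht => mem_center_iff.1 (a5 t ht) s),
      .inl (by omega), ht2 h6⟩
  refine .inr ⟨h2, ?_⟩
  by_cases h7 : K.f = 2
  · exact ⟨by rw [h7] at ht; omega, fun _ => h7⟩
  have ht3 : 3 ≤ t := by
    rcases t with _ | _ | _ | t <;> omega
  have F := fam_of_data D hn h1' h4 (τ := extendByZero Z θ) fun z => extendByZero_of_mem _ z.2
  rw [hε] at F
  have key : ∀ δ ξ, Fam K (fun z => extendByZero Z θ z * extendByZero Z θ z) δ ξ →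
      δ = 1 ∧ K.f + 3 ≤ t := fun δ ξ F' =>
    Pair.main ⟨hc, F, F', D.deg_μ k 1 ▸ h2, ht, ht3⟩ (by omega) fun M _ φ => by
      by_contra hφ
      have h8 := psl_or_of_hom K (by omega) hn φ hφ
        (le_C_of_normal K hζ.isCharacter hker hd fun h => hφ (K.x_mem_of_dvd h))
      have : 3 * K.f + 1 ≤ p := by nlinarith
      omega
  obtain ⟨δ, ξ, F'⟩ := exists_fam_sq hn h1' h4 D.ker (τ := extendByZero Z θ)
    fun z => extendByZero_of_mem _ z.2
  refine ⟨(key δ ξ F').2, fun hZ => ?_⟩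
  obtain ⟨ξ', F''⟩ := F.exists_gal hn (by omega) hZ
  exact absurd (key _ _ F'').1 (by decide)

end CL.Blk.Sm
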