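/-
Principal blocks of defect one: lower bounds for the degrees.
-/
import Cfsg.Agent.Spor.MOLink2
import Cfsg.Agent.Blk.SmFin
import Cfsg.Agent.Blk.DegOrdA
import Cfsg.Agent.Inv.DegPm2c
import Cfsg.Agent.Inv.PSL2pA

set_option autoImplicit false

open Cfsg Finset CL.Char CL.Inv CL.Inv.PO
open scoped ComplexConjugate

namespace CL.Spor.MO

variable {G : Type*} [Group G] [Finite G]

/-- The eigenvalues of an element of a perfect group have product one. -/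
theorem exists_eig {χ : G → ℂ} (h : IsCharacter G χ) (hG : commutator G = ⊤) (g : G) :
    ∃ μ : Fin (charDegree χ) → ℂ, (∀ i, μ i ^ orderOf g = 1) ∧ (∀ k : ℕ, χ (g ^ k) = ∑ i, μ i ^ k) ∧ ∏ i, μ i = 1 := by
  classical
  obtain ⟨n, ρ, rfl⟩ := h
  obtain ⟨b, μ, hb, hμ⟩ := exists_eigenbasis ρ g
  have hdet : LinearMap.det (ρ g) = 1 := by
    have := CL.Inv.hom_eq_one_of_perfect hG (detHom ρ) g
    rw [← detHom_apply, this]; rfl
  have hmat : LinearMap.toMatrix b b (ρ g) = Matrix.diagonal μ := by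
    ext i j
    rw [LinearMap.toMatrix_apply, hb, map_smul, Module.Basis.repr_self, Matrix.diagonal_apply]
    by_cases hij : i = j
    · subst hij; simp
    · simp [hij]
  rw [← LinearMap.det_toMatrix b, hmat, Matrix.det_diagonal] at hdet
  rw [charDegree_character]
  refine ⟨μ, hμ, fun k => ?_, hdet⟩
  rw [Representation.character, map_pow]
  exact trace_eq_sum_of_eigenbasis b _ _ fun i => pow_apply_of_eigen _ (hb i) k

/-- `N` divides the multiplicities of the nontrivial eigenvalues of `u`. -/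
def Mdvd (χ : G → ℂ) (u : G) (q N : ℕ) : Prop :=
  ∀ ω : ℂ, ω ^ q = 1 → ω ≠ 1 → ∀ m : ℕ, ∑ j ∈ range q, χ (u ^ j) * ω ^ j = q * m → N ∣ m

omit [Finite G] in
theorem Mdvd.mul {χ : G → ℂ} {u : G} {q N N' : ℕ} (h : Mdvd χ u q N) (h' : Mdvd χ u q N') (hc : N.Coprime N') :
    Mdvd χ u q (N * N') := fun ω h1 h2 m hm => hc.mul_dvd_of_dvd_of_dvd (h ω h1 h2 m hm) (h' ω h1 h2 m hm)

theorem mdvd_of {χ : G → ℂ} (hχ : IsCharacter G χ) {x u : G} {p q : ℕ} (hx : orderOf x = p) (hu : orderOf u = q)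
    (hc : x * u = u * x) (hpq : p.Coprime q) (h : ∀ i j : ℕ, 0 < i → i < p → χ (x ^ i * u ^ j) = χ (x ^ i)) :
    Mdvd χ u q p := fun ω h1 h2 m hm => by
  classical
  have hp : p ≠ 0 := hx ▸ (orderOf_pos x).ne'
  have hq : q ≠ 0 := hu ▸ (orderOf_pos u).ne'
  obtain ⟨a, a1, a2⟩ := Nat.chineseRemainder hpq 1 0
  obtain ⟨b, b1, b2⟩ := Nat.chineseRemainder hpq 0 1
  have ha : (x * u) ^ a = x := by
    rw [Commute.mul_pow hc, pow_eq_pow_iff_modEq.2 (hx ▸ a1), (pow_eq_pow_iff_modEq (x := u)).2 (hu ▸ a2)]; simp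
  have hb : (x * u) ^ b = u := by
    rw [Commute.mul_pow hc, pow_eq_pow_iff_modEq.2 (hx ▸ b1), (pow_eq_pow_iff_modEq (x := u)).2 (hu ▸ b2)]; simp
  obtain ⟨n, ν, -, k1, k2⟩ := isChar_exists_eigenvalues hχ (x * u)
  have k3 : ∀ c i, (x * u) ^ c = 1 → ν i ^ c = 1 := fun c i hc => by
    obtain ⟨d, rfl⟩ := orderOf_dvd_of_pow_eq_one hc
    rw [pow_mul, k1, one_pow]
  have k4 : ∀ i j, χ (x ^ i * u ^ j) * ω ^ j = ∑ l, (ν l ^ a) ^ i * (ν l ^ b * ω) ^ j := fun i j => by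
    rw [show x ^ i * u ^ j = (x * u) ^ (a * i + b * j) by rw [pow_add, pow_mul, pow_mul, ha, hb], k2, sum_mul]
    exact sum_congr rfl fun l _ => by rw [pow_add, pow_mul, pow_mul, mul_pow]; ring
  have k5 : ∑ i ∈ range p, ∑ j ∈ range q, χ (x ^ i * u ^ j) * ω ^ j =
      q * (p * (univ.filter fun l => ν l ^ a = 1 ∧ ν l ^ b * ω = 1).card : ℕ) := by
    simp only [k4]
    rw [sum_congr rfl fun i _ => sum_comm, sum_comm, sum_congr rfl (g := fun l =>
      if ν l ^ a = 1 ∧ ν l ^ b * ω = 1 then (q : ℂ) * p else 0) fun l _ => ?_, ← sum_filter]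
    · simp; ring
    · rw [← sum_mul_sum, geom_sum_root (by rw [← pow_mul, k3 _ _ (by rw [pow_mul, ha, ← hx, pow_orderOf_eq_one])]),
        geom_sum_root (by rw [mul_pow, h1, ← pow_mul, k3 _ _ (by rw [pow_mul, hb, ← hu, pow_orderOf_eq_one]), one_mul])]
      by_cases e1 : ν l ^ a = 1 <;> by_cases e2 : ν l ^ b * ω = 1 <;> simp [e1, e2, mul_comm]
  rw [sum_eq_single 0 (fun i hi hi0 => by
    rw [sum_congr rfl fun j _ => by rw [h i j (Nat.pos_of_ne_zero hi0) (mem_range.1 hi)], ← mul_sum,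
      geom_sum_root h1, if_neg h2, mul_zero]) fun h => (h (mem_range.2 (Nat.pos_of_ne_zero hp))).elim] at k5
  simp only [pow_zero, one_mul, hm] at k5
  exact ⟨_, by exact_mod_cast mul_left_cancel₀ (Nat.cast_ne_zero.2 hq) k5⟩

theorem Mdvd.two_mul_le [IsSimpleGroup G] (hG : ¬ IsMulCommutative G) {χ : IrrCharacter G} (h1 : χ ≠ irrOne G)
    {u : G} {q N : ℕ} (hu : orderOf u = q) (hu1 : u ≠ 1) (hc : N.Coprime q) (h : Mdvd χ u q N) : 2 * N ≤ dg χ := by
  classical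
  obtain ⟨μ, k1, k2, k3⟩ := exists_eig χ.2.isCharacter (commutator_eq_top_of_simple hG) u
  rw [hu] at k1
  have hq : q ≠ 0 := hu ▸ (orderOf_pos u).ne'
  have k0 : ∀ i, μ i ≠ 0 := fun i e => by simpa [e, hq] using k1 i
  have k4 : ∀ i, μ i ≠ 1 → N ∣ (univ.filter fun j => μ j = μ i).card := fun i hi => by
    refine h (μ i)⁻¹ (by rw [inv_pow, k1, inv_one]) (by simpa using hi) _ ?_
    simp only [k2, sum_mul, ← mul_pow]
    rw [sum_comm, sum_congr rfl fun j _ => geom_sum_root (by rw [mul_pow, inv_pow, k1, k1, inv_one, one_mul]),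
      ← sum_filter]
    simp [mul_comm, mul_inv_eq_one₀ (k0 i), inv_mul_eq_one₀ (k0 i), eq_comm]
  have k5 : ∀ i, μ i ≠ 1 → N ≤ (univ.filter fun j => μ j = μ i).card := fun i hi =>
    Nat.le_of_dvd (card_pos.2 ⟨i, by simp⟩) (k4 i hi)
  obtain ⟨i, hi⟩ : ∃ i, μ i ≠ 1 := by
    by_contra! hn
    refine norm_ne_degree hG χ.2 (fun e => h1 (Subtype.ext e)) hu1 ?_
    simpa [hn] using congrArg norm (k2 1)
  by_contra! hlt
  have k6 : ∀ S : Finset (Fin (dg χ)), S.card < 2 * N := fun S => (card_le_univ S).trans_lt (by simpa using hlt)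
  have k7 : (univ.filter fun j => μ j = μ i).card = N := by
    obtain ⟨c, hc⟩ := k4 i hi
    have := k5 i hi
    have := k6 (univ.filter fun j => μ j = μ i)
    rw [hc] at *
    rcases c with _ | _ | c <;> [omega; omega; nlinarith]
  have k8 : ∀ j, μ j ≠ μ i → μ j = 1 := fun j hj => by
    by_contra hn
    have := k5 j hn
    have := k6 ((univ.filter fun l => μ l = μ i) ∪ univ.filter fun l => μ l = μ j)
    rw [card_union_of_disjoint (disjoint_filter.2 fun l _ e e' => hj (e'.symm.trans e))] at this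
    omega
  rw [← prod_filter_mul_prod_filter_not univ fun j => μ j = μ i, prod_congr rfl fun j hj => (mem_filter.1 hj).2,
    prod_eq_one fun j hj => k8 j (mem_filter.1 hj).2, prod_const, k7, mul_one] at k3
  exact hi (by simpa [hc.gcd_eq_one] using pow_gcd_eq_one.2 ⟨k3, k1 i⟩)

namespace PBk

variable {g p : ℕ} (b : PBk G g p)

theorem mdvd {χ : IrrCharacter G} (h : χ ∈ b.S) {u : G} {q : ℕ} (hu : orderOf u = q) (hc : b.x * u = u * b.x)
    (hpq : p.Coprime q) : Mdvd χ u q p := by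
  refine mdvd_of χ.2.isCharacter b.hx hu hc hpq fun i j h0 hi => ?_
  have h1 : orderOf (b.x ^ i) = p := by
    rw [Nat.Coprime.orderOf_pow (by rw [b.hx]; exact Nat.coprime_of_lt_prime h0.ne' hi b.pp), b.hx]
  have h2 : p.Coprime (orderOf (u ^ j)) := hpq.coprime_dvd_right (hu ▸ orderOf_pow_dvd j)
  rcases b.mem_S_iff.1 h with h | h
  · rw [b.val_X h h1.symm.dvd, b.val_X h]
    rw [orderOf_mul_of_commute_prime (Commute.pow_pow hc i j) h1 rfl h2]
    exact dvd_mul_right _ _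
  · exact b.B.Y_mul χ h _ (Subgroup.npow_mem_zpowers _ _) (fun e => by
      rw [e, orderOf_one] at h1; exact b.pp.one_lt.ne h1) _ (Commute.pow_right hc j)
      (b.pp.coprime_iff_not_dvd.1 h2)

include b in
theorem mdvd_zero {χ : IrrCharacter G} (h : p ∣ dg χ) {y u : G} {q : ℕ} (hy : orderOf y = p) (hu : orderOf u = q)
    (hc : y * u = u * y) (hpq : p.Coprime q) : Mdvd χ u q p := by
  refine mdvd_of χ.2.isCharacter hy hu hc hpq fun i j h0 hi => ?_
  have h1 : orderOf (y ^ i) = p := by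
    rw [Nat.Coprime.orderOf_pow (hy ▸ Nat.coprime_of_lt_prime h0.ne' hi b.pp), hy]
  rw [b.val_zero h h1.symm.dvd, b.val_zero h]
  rw [orderOf_mul_of_commute_prime (Commute.pow_pow hc i j) h1 rfl (hpq.coprime_dvd_right (hu ▸ orderOf_pow_dvd j))]
  exact dvd_mul_right _ _

theorem not_dvd_v : ¬ p ∣ b.v := fun h =>
  b.sq ((pow_two p ▸ Nat.mul_dvd_mul_left p h).trans (b.hv ▸ Subgroup.card_subgroup_dvd_card _))

theorem e_mul_dvd : b.e * (p * b.v) ∣ g := by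
  rw [← b.hv, ← b.B.card_N]
  exact (Subgroup.card_subgroup_dvd_card _).trans b.card.dvd

theorem dvd_of_mem {χ : IrrCharacter G} (h : χ ∈ b.S) : dg χ ∣ g / (p * b.v) := by
  rw [← b.index_eq]
  rcases b.mem_S_iff.1 h with h | h
  · exact b.B.X_dvd b.hx (b.mem_X0.1 h).2
  · exact b.B.deg_Y χ h ▸ b.B.f_dvd b.pp b.hx

theorem exists_odd : ∃ χ ∈ b.S, ¬ 2 ∣ dg χ := by
  by_contra! h
  obtain ⟨μ, hμ⟩ := b.B.Y_nonempty b.pp
  have h1 := b.B.deg_rel b.pp
  rw [b.sum_X, b.B.s_one, charDegree_irrOne, ← b.B.deg_Y μ hμ] at h1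
  have h2 : (2 : ℤ) ∣ ∑ χ ∈ b.X0, b.B.s χ * (dg χ : ℤ) :=
    dvd_sum fun χ hχ => Dvd.dvd.mul_left (by exact_mod_cast h χ (b.mem_S_iff.2 (.inl hχ))) _
  have h3 : (2 : ℤ) ∣ b.B.ε * (dg μ : ℤ) := Dvd.dvd.mul_left (by exact_mod_cast h μ (b.mem_S_iff.2 (.inr hμ))) _
  omega

theorem exists_order : ∃ h : G, b.e ∣ orderOf h := by
  have := Fact.mk b.pp
  have := Fintype.ofFinite G
  obtain ⟨K⟩ := nonempty_ctx_of_orderOf b.hx b.sq
  obtain ⟨⟨_, n, rfl⟩, hn⟩ := IsCyclic.exists_ofOrder_eq_natCard (α := K.a.range)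
  refine ⟨n, ?_⟩
  rw [show b.e = K.f from Nat.eq_of_mul_eq_mul_right Nat.card_pos (b.B.card_N.symm.trans K.card_N), Ctx.f, ← hn,
    ← Subgroup.orderOf_coe, Subgroup.orderOf_coe n]
  exact orderOf_map_dvd _ _

theorem dvd_v_of_order {h : G} {q : ℕ} (hq : q.Prime) (hqp : q ≠ p) (h1 : q ∣ orderOf h) (h2 : p ∣ orderOf h) :
    q ∣ b.v :=
  b.dvd_v hq hqp (orderOf_pow_orderOf_div (orderOf_pos h).ne' h1) (h2.trans (orderOf_dvd_card_of_mem
    (Subgroup.mem_centralizer_singleton_iff.2 (Commute.self_pow h _).eq)))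

variable [IsSimpleGroup G]

theorem two_mul_lt (hv : b.v ≠ 1) {χ : IrrCharacter G} (h : χ ∈ b.S) : 2 * p < dg χ := by
  obtain ⟨q, hq, hd⟩ := Nat.exists_prime_and_dvd hv
  obtain ⟨u, hu, hu'⟩ := exists_mem_orderOf_prime _ hq (b.hv ▸ hd.mul_left p)
  have hc := (Nat.coprime_primes b.pp hq).2 fun e => b.not_dvd_v (e ▸ hd)
  refine lt_of_le_of_ne ((b.mdvd h hu' (Subgroup.mem_centralizer_singleton_iff.1 hu).symm hc).two_mul_le b.nc
    (fun e => b.one_notMem (e ▸ h)) hu' (fun e => by rw [e, orderOf_one] at hu'; exact hq.one_lt.ne hu') hc)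
    fun e => b.not_dvd h (e ▸ dvd_mul_left _ _)

/-- A prime `r` dividing `e` that acts trivially on a Sylow subgroup of the centraliser. -/
theorem two_mul_mul_le {r : ℕ} (c : PBk G g r) (hr : r ∣ b.e) (hv : b.v ≠ 1)
    (h0 : ∀ q, q.Prime → ∀ i, 0 < i → q ^ i ∣ b.v → q ^ i % r ≠ 1) {χ : IrrCharacter G} (h : χ ∈ b.S)
    (h' : r ∣ dg χ) : 2 * (p * r) ≤ dg χ := by
  have := Fact.mk c.pp
  obtain ⟨q, hq, hd⟩ := Nat.exists_prime_and_dvd hv
  have := Fact.mk hq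
  have hc := (Nat.coprime_primes b.pp hq).2 fun e => b.not_dvd_v (e ▸ hd)
  have h1 : ¬ r ∣ p * b.v := fun e =>
    c.sq ((pow_two r ▸ Nat.mul_dvd_mul hr e).trans (b.card ▸ b.e_mul_dvd))
  obtain ⟨y, hy, hy'⟩ := exists_mem_orderOf_prime (Nz b.x) c.pp (b.B.card_N ▸ hr.mul_right _)
  obtain ⟨R, k1, k2⟩ := CL.Blk.DegOrd.exists_syl_le_cent (p := r) hq (X := Subgroup.zpowers y)
    (N := Subgroup.centralizer {b.x}) (IsPGroup.of_card (n := 1) (by rw [Nat.card_zpowers, hy', pow_one]))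
    (by rw [← centralizer_zpowers_eq]; exact CL.Grp.le_normalizer_centralizer' (Subgroup.zpowers_le.2 hy))
    (b.hv ▸ h1) fun i hi e => h0 q hq i hi ((hc.symm.pow_left i).dvd_of_dvd_mul_left (b.hv ▸ e))
  obtain ⟨u, hu, hu'⟩ := exists_mem_orderOf_prime R hq (k1.card_eq_pow ▸ dvd_pow_self q
    (hq.factorization_pos_of_dvd Nat.card_pos.ne' (b.hv ▸ hd.mul_left p)).ne')
  have hc' := (Nat.coprime_primes c.pp hq).2 fun e => h1 (e ▸ hd.mul_left p)
  exact ((b.mdvd h hu' (Subgroup.mem_centralizer_singleton_iff.1 (k1.le hu)).symm hc).mul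
    (c.mdvd_zero h' hy' hu' (k2 hu y (Subgroup.mem_zpowers y)) hc')
    ((Nat.coprime_primes b.pp c.pp).2 fun e => h1 (e ▸ dvd_mul_right _ _))).two_mul_le b.nc
    (fun e => b.one_notMem (e ▸ h)) hu' (fun e => by rw [e, orderOf_one] at hu'; exact hq.one_lt.ne hu')
    (Nat.Coprime.mul_left hc hc')

include b in
theorem le_deg (h7 : 7 < p) (h1 : 2 * g ≠ p * (p ^ 2 - 1)) (h2 : ∀ a, p ≠ 2 ^ a + 1) {χ : IrrCharacter G}
    (h : χ ≠ irrOne G) : p - 1 ≤ dg χ := by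
  have := Fact.mk b.pp
  have := Fintype.ofFinite G
  obtain ⟨K⟩ := nonempty_ctx_of_orderOf b.hx b.sq
  have hker := χ.2.charKer_eq_bot_of_simple fun e => h (Subtype.ext e)
  have hZ : Subgroup.center G = ⊥ := (IsSimpleGroup.eq_bot_or_eq_top_of_normal _ inferInstance).resolve_right
    fun e => b.nc ⟨⟨fun x y => Subgroup.mem_center_iff.1 (e.ge (Subgroup.mem_top y)) x⟩⟩
  by_contra! hlt
  obtain ⟨t, ht⟩ := K.f_dvd
  rcases CL.Blk.Sm.cases_of_le K h7 (fun e => normalizer_zpowers_ne_top b.nc K.x_ne_one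
    (Subgroup.normalizer_eq_top_iff.2 e)) χ.2 hker (by omega) (t := t) (by rw [mul_comm]; omega) with
    ⟨⟨e⟩, -⟩ | ⟨k1, -, k2⟩
  · have k := two_mul_card_psl2 (F := ZMod p) (by rw [ZMod.card]; exact b.pp.odd_of_ne_two b.p2)
    rw [← Nat.card_congr e.toEquiv, ← Subgroup.index, hZ, Subgroup.index_bot, b.card, ZMod.card] at k
    exact h1 k
  · obtain ⟨-, a, -, -, -, k, -⟩ := K.sl_of_perfect b.perf χ.2 hker (by rw [← k1, k2 (by simp [hZ])]) (by omega)
    exact h2 a k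

theorem deg_lo {D : List ℕ} {P : List ℕ → ℤ → Bool} {lo : ℕ} (hlo : ∀ χ ∈ b.S, lo < dg χ)
    (h : degAll D g p b.e b.v lo P = true) (hD : D.Pairwise (· < ·))
    (hD' : ∀ χ : IrrCharacter G, χ ≠ irrOne G → dg χ ∈ D) : P b.c b.F = true := by
  classical
  have hs : ∀ {M : Type} [AddCommMonoid M] (f : ℕ → M), (b.c.map f).sum = ∑ χ ∈ b.X0, f (dg χ) :=
    fun f => (b.sum_c f).symm
  refine degAll_sound h hD (Multiset.pairwise_sort _ _) ?_ (fun d hd => ?_) ?_ ?_ ?_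
  · rw [c, Multiset.length_sort, Multiset.card_map, ← card_def, X0, card_erase_of_mem b.B.one_mem, b.B.card_X]
  · rw [c, Multiset.mem_sort, Multiset.mem_map] at hd
    obtain ⟨χ, hχ, rfl⟩ := hd
    have := b.mem_S_iff.2 (.inl hχ)
    rw [← mem_def, mem_X0] at hχ
    exact ⟨hD' χ hχ.1, b.dvd_of_mem this, hlo χ this, (b.s_eq hχ.2).2⟩
  · rw [hs, F, b.B.deg_rel b.pp, b.sum_X, b.B.s_one, charDegree_irrOne,
      sum_congr rfl fun χ hχ => by rw [(b.s_eq (b.mem_X0.mp hχ).2).1]]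
    simp
  · obtain ⟨μ, hμ⟩ := b.B.Y_nonempty b.pp
    rw [natAbs_F]
    refine ⟨b.B.deg_Y μ hμ ▸ hD' μ fun e => b.B.one_notMem_Y (e ▸ hμ), b.index_eq ▸ b.B.f_dvd b.pp b.hx,
      b.B.deg_Y μ hμ ▸ hlo μ (b.mem_S_iff.2 (.inr hμ)), ?_⟩
    have := b.B.deg_f
    rcases b.B.hε with h | h <;> rw [h] at this <;> rw [F, h]
    · simpa using this
    · rw [← dvd_neg, show -(-1 * (b.B.f : ℤ) - b.e) = b.B.f - -1 * b.B.e by ring]
      exact this
  · have := b.B.sum_sq_le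
    rw [b.sum_X, charDegree_irrOne, b.card_Y, b.card] at this
    simpa [hs, natAbs_F, pow_two] using this

theorem deg_two {D : List ℕ} {P : List ℕ → ℤ → Bool} (h : degAll D g p b.e b.v (if b.v = 1 then 0 else 2 * p) P = true)
    (hD : D.Pairwise (· < ·)) (hD' : ∀ χ : IrrCharacter G, χ ≠ irrOne G → dg χ ∈ D) : P b.c b.F = true :=
  b.deg_lo (fun χ hχ => by split_ifs with hv; exacts [degree_pos χ, b.two_mul_lt hv hχ]) h hD hD'

end PBk

/-- No block with parameters `e`, `v` survives. -/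
noncomputable def ychkS (A D : List ℕ) (g p e v : ℕ) (qs : List ℕ) (R : ℕ → Bool) : Bool :=
  degAll D g p e v (if v = 1 then 0 else 2 * p) fun c F => rq p e v c F qs || (v % 2 == 0 &&
    (yL A g p (e * (p * v))).all fun K => R K || valAll g p e v K c F fun _ => false)

theorem PBk.ychkS_false [IsSimpleGroup G] {g p : ℕ} (b : PBk G g p) {A D qs : List ℕ} (hA : ∀ d, d ∣ g → d ∈ A)
    (hD : D.Pairwise (· < ·)) (hD' : ∀ χ : IrrCharacter G, χ ≠ irrOne G → dg χ ∈ D)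
    (hq : ∀ q ∈ qs, q.Prime ∧ q ≠ p) {R : ℕ → Bool} (hR : ∀ y : G, orderOf y = 2 → R (cc y) = false) :
    ¬ ychkS A D g p b.e b.v qs R = true := fun h => by
  have h1 := b.deg_two h hD hD'
  rw [b.rq_false hq, Bool.false_or, Bool.and_eq_true, beq_iff_eq] at h1
  obtain ⟨y, hy, h2⟩ := b.exists_y hA h1.1
  obtain ⟨T, hT, -⟩ := exists_invol_values b.perf hy
  have h3 := List.all_eq_true.mp h1.2 _ h2
  rw [hR y hy, Bool.false_or] at h3
  obtain ⟨-, -, k⟩ := b.val_true hy hT h3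
  simp at k

end CL.Spor.MO
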