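/-
Simple groups whose order divides the order of `M₂₂` or of `M₂₄` and is divisible by 11 or by 23.
-/
import Cfsg.Agent.Blk.MathOrdB
import Cfsg.Agent.Blk.M12OrdA

set_option autoImplicit false
set_option maxRecDepth 100000

open Cfsg Finset CL.Char

namespace CL.Spor.MO.Div

/-- The divisors of `g`. -/
def dv (g : ℕ) : List ℕ := A22.filter fun d => g % d == 0

/-- The degrees that are at least 10 and have an admissible residue modulo 11. -/
def D1 (e : ℕ) : List ℕ :=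
  D22.filter fun d => Nat.ble 10 d && (e == 0 || [0, 1, 10, e, 11 - e].elem (d % 11))

theorem c6 : ∀ g ∈ A22, g % 11 = 0 → 95040 % g = 0 ∨ g = 443520 ∨ ∀ q ∈ caseL A22 g 11,
    (g, q) ∈ [(4620, 2, 1), (36960, 5, 1), (73920, 10, 1)] ∨ (g, q) = (55440, 2, 1) ∨ (g, q) = (110880, 10, 7) ∨
    ychkS (dv g) (D1 0) g 11 q.1 q.2 [3, 5, 7] (fun _ => false) = true := by
  decide +kernel

theorem c7 : ∀ r ∈ [(4620, 2, 1), (36960, 5, 1), (73920, 10, 1)], ∀ q ∈ caseL A22 r.1 7, q.2 % 11 = 0 ∨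
    ychkS (dv r.1) (D1 r.2.1) r.1 7 q.1 q.2 [3, 5] (· % 11 == 0) = true := by
  decide +kernel

theorem c8 : degAll (D1 0) 55440 11 2 1 (if 1 = 1 then 0 else 2 * 11) (fun c F => (dv 55440).all fun K =>
    K % 2 != 0 || valAll 55440 11 2 1 K c F fun _ => false) = true := by
  decide +kernel

theorem c9 : ∀ q ∈ caseL A22 110880 7, q.2 % 11 ≠ 0 ∨
    ychkS (dv 110880) (D1 0) 110880 7 q.1 q.2 [3, 5, 11] (fun _ => false) = true := by
  decide +kernel

variable {G : Type*} [Group G] [Finite G] [IsSimpleGroup G]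

theorem ne_pow {p : ℕ} (hp : p = 11 ∨ p = 23) (a : ℕ) : p ≠ 2 ^ a + 1 := fun h => by
  have : a < 5 := (Nat.pow_lt_pow_iff_right one_lt_two).1 (by omega)
  interval_cases a <;> omega

theorem exists_invol {g p : ℕ} (b : PBk G g p) (h : 2 ∣ g) : ∃ (z : G) (T : IrrCharacter G → ℤ), orderOf z = 2 ∧
    cc z ∣ g ∧ ∀ χ : IrrCharacter G, (χ : G → ℂ) z = T χ := by
  obtain ⟨z, hz⟩ := exists_prime_orderOf_dvd_card' (G := G) 2 (b.card ▸ h)
  obtain ⟨T, hT, -⟩ := exists_invol_values b.perf hz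
  exact ⟨z, T, hz, b.card ▸ Subgroup.card_subgroup_dvd_card _, hT⟩

theorem cases11 (hG : ¬ IsMulCommutative G) (h1 : 11 ∣ Nat.card G) (h2 : Nat.card G ∣ 443520) :
    Nat.card G = 660 ∨ Nat.card G = 7920 ∨ Nat.card G = 443520 := by
  have := Fintype.ofFinite G
  obtain h | h | h := c6 _ (mem_A22 _ h2) (Nat.mod_eq_zero_of_dvd h1)
  · rcases CL.Blk.M12Ord.card_cases hG h1 (Nat.dvd_of_mod_eq_zero h) with e | e | e
    exacts [.inl e, .inr (.inl e), by rw [e] at h2; norm_num at h2]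
  · exact .inr (.inr h)
  by_cases h6 : Nat.card G = 660
  · exact .inl h6
  exfalso
  generalize hg : Nat.card G = g at h1 h2 h h6
  obtain ⟨a⟩ := nonempty_blk (p := 11) hg hG (by norm_num) (by norm_num) h1 fun e => by
    have := e.trans h2; norm_num at this
  have hA : ∀ d, d ∣ g → d ∈ A22 := fun d hd => mem_A22 d (hd.trans h2)
  have hA' : ∀ d, d ∣ g → d ∈ dv g := fun d hd =>
    List.mem_filter.2 ⟨hA d hd, by simpa using Nat.mod_eq_zero_of_dvd hd⟩
  have hD : ∀ e, (∀ χ : IrrCharacter G, χ ≠ irrOne G → e = 0 ∨ dg χ % 11 ∈ [0, 1, 10, e, 11 - e]) →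
      ∀ χ : IrrCharacter G, χ ≠ irrOne G → dg χ ∈ D1 e := fun e he χ hχ => by
    have k1 := List.mem_filter.1 (a.mem_of_deg hA hχ)
    have k2 := a.le_deg (by norm_num) (by omega) (ne_pow (.inl rfl)) hχ
    simp only [Bool.and_eq_true, Nat.blt_eq, Nat.ble_eq] at k1
    refine List.mem_filter.2 ⟨(by decide +kernel : ∀ d ∈ A22, 1 < d → d * d ≤ 443520 → d ∈ D22) _ k1.1 k1.2.1
      (k1.2.2.trans (Nat.le_of_dvd (by norm_num) h2)), ?_⟩
    simpa [k2] using he χ hχ
  have sD : ∀ e, (D1 e).Pairwise (· < ·) := fun e => List.Pairwise.filter _ (by decide +kernel)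
  have hD0 := hD 0 fun _ _ => .inl rfl
  have h7 : 7 ∣ g → Nonempty (PBk G g 7) := fun h => nonempty_blk hg hG (by norm_num) (by norm_num) h fun e => by
    have := e.trans h2; norm_num at this
  obtain h | h | h | h := h _ (a.mem_caseL hA)
  · have hv : a.v = 1 := by simp only [List.mem_cons, Prod.mk.injEq, List.not_mem_nil, or_false] at h; omega
    obtain ⟨b⟩ := h7 (by simp only [List.mem_cons, Prod.mk.injEq, List.not_mem_nil, or_false] at h; omega)
    exact b.ychkS_false hA' (sD _) (hD a.e fun χ hχ => .inr (by simpa using a.deg_mod hv hχ)) (by decide)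
      (fun y hy => by simpa using a.cc_mod (by omega) hy)
      ((c7 _ h _ (b.mem_caseL hA)).resolve_left (a.v_mod b (by norm_num) (by omega)))
  · simp only [Prod.mk.injEq] at h
    obtain ⟨rfl, he, hv⟩ := h
    obtain ⟨z, T, hz, k1, hT⟩ := exists_invol a (by norm_num)
    have k2 := List.all_eq_true.1 (a.deg_two (by rw [he, hv]; exact c8) (sD _) hD0) _ (hA' _ k1)
    rw [show (cc z % 2 != 0) = false by simpa using two_dvd_cc hz, Bool.false_or, ← he, ← hv] at k2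
    obtain ⟨-, -, k⟩ := a.val_true hz hT k2
    simp at k
  · simp only [Prod.mk.injEq] at h
    obtain ⟨rfl, he, hv⟩ := h
    obtain ⟨b⟩ := h7 (by norm_num)
    exact b.ychkS_false hA' (sD _) hD0 (by decide) (fun _ _ => rfl) ((c9 _ (b.mem_caseL hA)).resolve_left
      (not_not.2 (Nat.mod_eq_zero_of_dvd (b.dvd_v_comm a (by norm_num) hv.symm.dvd))))
  · exact a.ychkS_false hA' (sD _) hD0 (by decide) (fun _ _ => rfl) h

theorem cases23 (hG : ¬ IsMulCommutative G) (h1 : 23 ∣ Nat.card G) (h2 : Nat.card G ∣ 244823040)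
    (h3 : 11 ∣ Nat.card G → 64009 ≤ Nat.card G) : Nat.card G = 10200960 ∨ Nat.card G = 244823040 := by
  have := Fintype.ofFinite G
  generalize hg : Nat.card G = g at h1 h2 h3
  obtain ⟨a⟩ := nonempty_blk (p := 23) hg hG (by norm_num) (by norm_num) h1 fun e => by
    have := e.trans h2; norm_num at this
  have hA : ∀ d, d ∣ g → d ∈ A := fun d hd => mem_A d (hd.trans h2)
  have hD : ∀ χ : IrrCharacter G, χ ≠ irrOne G → dg χ ∈ D ∧ dg χ ∣ g ∧ dg χ * dg χ ≤ g := fun χ hχ => by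
    have k1 := List.mem_filter.1 (a.mem_of_deg hA hχ)
    have k2 := a.le_deg (by norm_num) (by omega) (ne_pow (.inr rfl)) hχ
    simp only [Bool.and_eq_true, Nat.blt_eq, Nat.ble_eq] at k1
    exact ⟨(by decide +kernel : ∀ d ∈ A, 22 ≤ d → d * d ≤ 244823040 → d ∈ D) _ k1.1 k2
      (k1.2.2.trans (Nat.le_of_dvd (by norm_num) h2)), hg ▸ degree_dvd_card χ, k1.2.2⟩
  have h11 : 11 ∣ g → Nonempty (PBk G g 11) := fun h => nonempty_blk hg hG (by norm_num) (by norm_num) h fun e => by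
    have := e.trans h2; norm_num at this
  obtain h | h | h | ⟨hv, h⟩ | ⟨hv, he, k1, k2⟩ | h :=
    c1 _ (hA _ dvd_rfl) (Nat.mod_eq_zero_of_dvd h1) _ (caseL_eq g ▸ a.mem_caseL hA)
  · omega
  · exact .inl h
  · exact .inr h
  all_goals exfalso
  · simp only at hv h
    obtain ⟨b⟩ := h11 (by omega)
    have hA' : ∀ d, d ∣ g → d ∈ A' := fun d hd => mem_A' d (hd.trans (by rcases h with ⟨-, h⟩ | ⟨-, h | h⟩ <;> simp [h]))
    have hR : ∀ y : G, orderOf y = 2 → (cc y % 23 == 0) = false := fun y hy => by simpa using a.cc_mod (by omega) hy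
    have hb := a.v_mod b (by norm_num) (by omega)
    have hm := fun χ hχ => a.deg_mod hv (χ := χ) hχ
    rcases h with ⟨he, rfl⟩ | ⟨he, h⟩ <;> rw [he] at hm
    · exact b.ychkR_false hA' (by decide +kernel) (fun χ hχ => (by decide +kernel : ∀ d ∈ D, d ∣ 425040 →
        d * d ≤ 425040 → d % 23 = 0 ∨ d % 23 = 1 ∨ d % 23 = 23 - 1 ∨ d % 23 = 11 ∨ d % 23 = 23 - 11 → d ∈ E) _
        (hD χ hχ).1 (hD χ hχ).2.1 (hD χ hχ).2.2 (hm χ hχ)) (by decide) hR ((c3 _ (b.mem_caseL hA')).resolve_left hb)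
    obtain ⟨u, hu⟩ := a.exists_order
    have hb2 := b.dvd_v_of_order Nat.prime_two (by norm_num) (Dvd.dvd.trans (by simp [he]) hu)
      (Dvd.dvd.trans (by simp [he]) hu)
    have hE : ∀ χ : IrrCharacter G, χ ≠ irrOne G → dg χ ∈ E' := fun χ hχ =>
      (by decide +kernel : ∀ d ∈ D, d ∣ 20401920 → d * d ≤ 20401920 →
        d % 23 = 0 ∨ d % 23 = 1 ∨ d % 23 = 23 - 1 ∨ d % 23 = 22 ∨ d % 23 = 23 - 22 → d ∈ E') _ (hD χ hχ).1
        ((hD χ hχ).2.1.trans (by rcases h with h | h <;> simp [h])) ((hD χ hχ).2.2.trans (by omega)) (hm χ hχ)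
    rcases h with rfl | rfl
    · exact b.ychkR_false hA' (by decide +kernel) hE (by decide) hR
        (((c4 _ (b.mem_caseL hA')).resolve_left hb).resolve_left (by simp only; omega))
    · exact b.ychkR_false hA' (by decide +kernel) hE (by decide) hR
        (((c5 _ (b.mem_caseL hA')).resolve_left hb).resolve_left (by simp only; omega))
  · simp only at hv he k1 k2
    have k3 : 11 ∣ a.e := by omega
    obtain ⟨b⟩ := h11 ((k3.mul_right _).trans a.e_mul_dvd)
    obtain ⟨χ, hχ, k4⟩ := a.exists_odd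
    have k5 := hD χ fun e => a.one_notMem (e ▸ hχ)
    have k6 := a.two_mul_mul_le b k3 hv (fun q hq i hi h => by
      have k := h.trans (Nat.dvd_of_mod_eq_zero k1)
      exact (by decide : ∀ d ∈ [2, 4, 8, 16, 32, 64, 128, 256, 512, 1024, 3, 9, 27, 5, 7, 11, 23], d ∣ 483840 →
        d % 11 ≠ 1) _ (pp_mem hq hi (k.trans (by norm_num))) k) hχ
    have k7 := a.mod_of_mem hχ
    have k8 := (by decide +kernel : ∀ d ∈ D, ¬ 2 ∣ d → 2 * 23 < d →
      d % 23 = 1 ∨ d % 23 = 22 ∨ d % 23 = 11 ∨ d % 23 = 12 → d = 231 ∨ d = 495 ∨ d = 10395) _ k5.1 k4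
      (a.two_mul_lt hv hχ) (by omega)
    have k9 := Nat.mod_eq_zero_of_dvd (a.dvd_of_mem hχ)
    rcases k8 with e | e | e <;> rw [e] at k5 k6 k9 <;> omega
  · have k1 := a.deg_two h (by decide +kernel) fun χ hχ => (hD χ hχ).1
    simp only [Bool.and_eq_true, beq_iff_eq, Prod.mk.injEq] at k1
    obtain ⟨⟨⟨rfl, he, hv⟩, hc⟩, hF⟩ := k1
    obtain ⟨z, T, hz, k1, hT⟩ := exists_invol a (by norm_num)
    obtain ⟨-, -, k⟩ := a.val_true hz hT (by
      rw [he, hv, hc, hF]; exact c2 _ (hA _ k1) (two_dvd_cc hz) (Nat.mod_eq_zero_of_dvd k1))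
    simp at k

end CL.Spor.MO.Div
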