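/-
Some character degrees of the Mathieu groups.
-/
import Cfsg.Agent.Spor.MO23B
import Cfsg.Agent.Spor.MO22C
import Cfsg.Agent.Spor.M24Octad
import Cfsg.Agent.Char.Prod

set_option autoImplicit false
set_option maxRecDepth 100000

open Cfsg Finset CL.Char MulAction
open scoped ComplexConjugate Pointwise

namespace CL.Spor.MO.Div

theorem exists_single {ι : Type*} {S : Finset ι} {o : ι → ℕ} (h1 : ∑ i ∈ S, o i * o i ≤ 1) {d : ι → ℕ}
    (h2 : ∑ i ∈ S, o i * d i ≠ 0) : ∃ j ∈ S, ∀ f : ι → ℕ, ∑ i ∈ S, o i * f i = f j := by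
  classical
  obtain ⟨j, hj, h⟩ := exists_ne_zero_of_sum_ne_zero h2
  have h0 := Nat.pos_of_ne_zero (left_ne_zero_of_mul h)
  rw [← add_sum_erase _ _ hj] at h1
  have h3 : o j = 1 := by nlinarith [Nat.zero_le (∑ i ∈ S.erase j, o i * o i)]
  rw [h3] at h1
  refine ⟨j, hj, fun f => ?_⟩
  rw [← add_sum_erase _ _ hj, h3, one_mul, sum_eq_zero fun i hi => ?_, add_zero]
  rw [mul_self_eq_zero.1 (sum_eq_zero_iff.1 (show ∑ i ∈ S.erase j, o i * o i = 0 by omega) i hi), zero_mul]

section Orb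

variable {G : Type*} [Group G] {Ω X : Type*} [MulAction G Ω] [MulAction G X]

theorem exists_smul_of_pattern [Finite Ω] {k : ℕ} [IsMultiplyPretransitive G Ω k] (hk : k ≤ Nat.card Ω)
    {s t : Fin k → Ω} (e : ∀ i j, s i = s j ↔ t i = t j) : ∃ g : G, ∀ i, g • s i = t i := by
  classical
  let f := (Finite.equivFin (Quotient (Setoid.ker s))).symm
  have := isMultiplyPretransitive_of_le (G := G) (α := Ω) (n := k) (m := Nat.card (Quotient (Setoid.ker s)))
    ((Nat.card_le_card_of_surjective _ Quotient.mk_surjective).trans (by simp)) hk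
  obtain ⟨g, hg⟩ := isMultiplyPretransitive_iff.1 this
    (f.toEmbedding.trans ⟨Quotient.lift s fun _ _ => id, Setoid.kerLift_injective s⟩)
    (f.toEmbedding.trans ⟨Quotient.lift t fun a b h => (e a b).1 h, fun a b => by
      induction a using Quotient.inductionOn
      induction b using Quotient.inductionOn
      exact fun h => Quotient.sound ((e _ _).2 h)⟩)
  refine ⟨g, fun i => ?_⟩
  have := DFunLike.congr_fun hg (f.symm (Quotient.mk _ i))
  simp only [Function.Embedding.smul_apply, Function.Embedding.trans_apply, Equiv.coe_toEmbedding,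
    Equiv.apply_symm_apply] at this
  exact this

theorem orb_le {I : Type*} [Finite I] (f : X → I) (h : ∀ x y, f x = f y → ∃ g : G, g • y = x) :
    Nat.card (orbitRel.Quotient G X) ≤ Nat.card I :=
  Nat.card_le_card_of_injective (fun q => f (Quotient.out q)) fun q q' e => by
    rw [← Quotient.out_eq q, ← Quotient.out_eq q']
    exact Quotient.sound (h _ _ e)

theorem le_orb [Finite X] {I : Type*} (f : X → I) (h : ∀ (g : G) x, f (g • x) = f x) {n : ℕ} (x : Fin n → X)
    (hx : Function.Injective fun i => f (x i)) : n ≤ Nat.card (orbitRel.Quotient G X) := by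
  simpa using Nat.card_le_card_of_injective (fun i => (Quotient.mk _ (x i) : orbitRel.Quotient G X)) fun i j e => by
    obtain ⟨g, hg⟩ := Quotient.exact e
    exact hx (by simp only [← hg, h])

theorem orb_four [Finite Ω] [IsMultiplyPretransitive G Ω 4] (hk : 4 ≤ Nat.card Ω) :
    Nat.card (orbitRel.Quotient G (Ω × Ω × Ω × Ω)) ≤ 15 := by
  classical
  let v : Ω × Ω × Ω × Ω → Fin 4 → Ω := fun x => ![x.1, x.2.1, x.2.2.1, x.2.2.2]
  let r : (Fin 4 → Ω) → Fin 4 → Fin 4 := fun s i => (univ.filter fun j => s j = s i).min' ⟨i, by simp⟩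
  have h1 : ∀ (s : Fin 4 → Ω) i, s (r s i) = s i := fun s i =>
    (mem_filter.1 (min'_mem (univ.filter fun j => s j = s i) ⟨i, by simp⟩)).2
  have h2 : ∀ (s : Fin 4 → Ω) i j, s i = s j ↔ r s i = r s j := fun s i j =>
    ⟨fun e => by simp only [r, e], fun e => by rw [← h1 s i, e, h1 s]⟩
  refine (orb_le (I := {f : Fin 4 → Fin 4 // ∀ i, f i ≤ i ∧ f (f i) = f i})
    (fun x => ⟨r (v x), fun i => ⟨min'_le _ _ (by simp), (h2 _ _ _).1 (h1 _ _)⟩⟩) fun x y e => ?_).trans
    (by rw [Nat.card_eq_fintype_card]; decide +kernel)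
  obtain ⟨g, hg⟩ := exists_smul_of_pattern (G := G) hk (s := v y) (t := v x) fun i j => by
    rw [h2, h2, show r (v x) = r (v y) from congrArg Subtype.val e]
  exact ⟨g, Prod.ext (hg 0) (Prod.ext (hg 1) (Prod.ext (hg 2) (hg 3)))⟩

end Orb

section MC

variable {G : Type*} [Group G] [Fintype G] {θ θ' : G → ℂ} {n n' : ℕ} {m m' : IrrCharacter G → ℕ}

theorem inner_eq (M : MC θ n m) (M' : MC θ' n' m') : classInner θ θ' = (∑ χ, m χ * m' χ : ℕ) := by
  rw [show θ' = ∑ χ : IrrCharacter G, (m' χ : ℂ) • (χ : G → ℂ) from funext fun g => by simp [M'.sum],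
    classInner_sum_right]
  simp [classInner_smul_right, M.inner, mul_comm]

theorem deg_eq (M : MC θ n m) : ∑ χ, m χ * dg χ = n := by
  have := M.one.symm.trans (M.sum 1)
  simp only [← IsIrrCharacter.cast_charDegree (Subtype.prop _)] at this
  exact_mod_cast this.symm

end MC

theorem degs24 : (∃ χ : IrrCharacter M24, dg χ = 253) ∧ ∃ χ : IrrCharacter M24, dg χ = 483 := by
  classical
  have : Finite M24 := Nat.finite_of_card_ne_zero (by rw [card_M24]; norm_num)
  have := Fintype.ofFinite M24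
  have h5 := M24_five_trans
  have hΩ : Nat.card GolayPt = 24 := by rw [Nat.card_eq_fintype_card]; rfl
  have h4 := isMultiplyPretransitive_of_le (G := M24) (α := GolayPt) (n := 5) (m := 4) (by norm_num) (by omega)
  have h2 := isMultiplyPretransitive_of_le (G := M24) (α := GolayPt) (n := 5) (m := 2) (by norm_num) (by omega)
  have h1 : IsPretransitive M24 GolayPt := is_one_pretransitive_iff.1
    (isMultiplyPretransitive_of_le (n := 5) (by norm_num) (by omega))
  let X := orbit M24 oct0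
  have hX : ∀ {o}, o ∈ X ↔ o ∈ octads := ⟨fun ⟨g, e⟩ => e ▸ (smul_mem_octads_iff g).2 oct0_mem, fun h => by
    obtain ⟨g, hg⟩ := M24_octad_trans0 h
    exact ⟨g⁻¹, by simp [← hg]⟩⟩
  let o0 : X := ⟨oct0, mem_orbit_self _⟩
  have : Nonempty X := ⟨o0⟩
  have hs : ∀ (Y : Type) [MulAction M24 Y] [Finite Y], ∑ g : M24, (Nat.card (fixedBy Y g) : ℂ) =
      Nat.card (orbitRel.Quotient M24 Y) * Nat.card M24 := fun Y _ _ => by exact_mod_cast sum_card_fixedBy Y
  have b1 := hs GolayPt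
  have b2 := hs (GolayPt × GolayPt)
  have b3 := hs (GolayPt × GolayPt × GolayPt)
  have b4 := hs (GolayPt × GolayPt × GolayPt × GolayPt)
  have c0 := hs X
  have c1 := hs (X × GolayPt)
  have c2 := hs (X × GolayPt × GolayPt)
  have a3 : 5 ≤ Nat.card (orbitRel.Quotient M24 (GolayPt × GolayPt × GolayPt)) :=
    le_orb (fun x => (decide (x.1 = x.2.1), decide (x.1 = x.2.2), decide (x.2.1 = x.2.2))) (fun g x => by simp)
      ![(none, none, none), (none, none, some 0), (none, some 0, none), (some 0, none, none), (none, some 0, some 1)]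
      (by decide +kernel)
  have a4 := orb_four (G := M24) (Ω := GolayPt) (by omega)
  have hm : ∀ (g : M24) (x : X) (p : GolayPt), g • p ∈ (g • x).1 ↔ p ∈ x.1 := fun g x p =>
    Finset.smul_mem_smul_finset_iff g
  have d1 : 2 ≤ Nat.card (orbitRel.Quotient M24 (X × GolayPt)) :=
    le_orb (fun x => decide (x.2 ∈ x.1.1)) (fun g x => by simp [hm])
      ![(o0, none), (o0, gPt 4)] (by decide +kernel)
  have d2 : 6 ≤ Nat.card (orbitRel.Quotient M24 (X × GolayPt × GolayPt)) :=
    le_orb (fun x => (decide (x.2.1 ∈ x.1.1), decide (x.2.2 ∈ x.1.1), decide (x.2.1 = x.2.2)))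
      (fun g x => by simp [hm])
      ![(o0, none, none), (o0, none, gPt 0), (o0, none, gPt 4), (o0, gPt 4, none), (o0, gPt 4, gPt 4),
        (o0, gPt 4, gPt 7)] (by decide +kernel)
  have d3 : Nat.card (orbitRel.Quotient M24 (X × X)) ≤ 4 := by
    refine (orb_le (I := ({0, 2, 4, 8} : Finset ℕ)) (fun x => ⟨(x.1.1 ∩ x.2.1).card, ?_⟩) fun x y e => ?_).trans
      (by rw [Nat.card_eq_fintype_card, Fintype.card_coe]; decide)
    · rcases octad_inter_card (hX.1 x.1.2) (hX.1 x.2.2) with e | e | e | e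
      · simp [← e, (hX.1 x.1.2).2]
      all_goals simp [e]
    · obtain ⟨g, hg⟩ := exists_smul_eq M24 y.1 x.1
      obtain ⟨k, hk, e'⟩ := octad_pair_trans (hX.1 x.1.2) (hX.1 (g • y.2).2) (hX.1 x.2.2) (by
        rw [show (x.1.1 ∩ x.2.1).card = _ from congrArg Subtype.val e, ← hg]
        exact (congrArg card (smul_finset_inter (a := g))).symm.trans (card_smul_finset _ _))
      exact ⟨k * g, Prod.ext (by rw [mul_smul]; exact Subtype.ext (by rw [← hk, ← hg]; rfl))
        (by rw [mul_smul]; exact Subtype.ext e')⟩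
  rw [card_orbits_of_isPretransitive] at b1 c0
  rw [(card_orbits_prod_eq_two_iff _).2 h2] at b2
  simp only [card_fixedBy_prod_eq, Nat.cast_mul] at b2 b3 b4 c1 c2
  let V : IrrCharacter M24 := ⟨_, (isIrrCharacter_card_fixedBy_sub_one_iff GolayPt).2 h2⟩
  have hV : ∀ g, (V : M24 → ℂ) g = (Nat.card (fixedBy GolayPt g) : ℂ) - 1 := fun _ => rfl
  have hV1 : (V : M24 → ℂ) 1 = 23 := by rw [hV, fixedBy_one_eq_univ, Nat.card_univ, hΩ]; norm_num
  have dV : dg V = 23 := by exact_mod_cast V.2.cast_charDegree.trans hV1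
  have hne : V ∈ univ.erase (irrOne M24) := mem_erase.2 ⟨ne_irrOne (by omega), mem_univ _⟩
  obtain ⟨a, A⟩ := exists_MC (isCharacter_altSq V.2.isCharacter) (n := 253) (by simp [altSq, hV1]; norm_num)
  obtain ⟨s, S⟩ := exists_MC (isCharacter_symSq V.2.isCharacter) (n := 276) (by simp [symSq, hV1]; norm_num)
  obtain ⟨w, W⟩ := exists_MC (V.2.isCharacter.mul V.2.isCharacter) (n := 529) (by simp [hV1]; norm_num)
  obtain ⟨o, O⟩ := exists_MC (isCharacter_permChar (G := M24) X) (n := 759) (by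
    rw [fixedBy_one_eq_univ, Nat.card_univ, show X = octads from Set.ext fun _ => hX, Nat.card_coe_set_eq,
      octads_ncard])
  have hw : ∀ χ, w χ = s χ + a χ := fun χ => by
    have := W.inner χ
    rw [← symSq_add_altSq, classInner_add_left, A.inner, S.inner] at this
    exact_mod_cast this.symm
  have hc : (Nat.card M24 : ℂ) ≠ 0 := natCard_ne_zero
  have key : ∀ {φ ψ : M24 → ℂ} {z : ℂ}, classInner φ ψ = z → ∑ g, φ g * conj (ψ g) = z * Nat.card M24 := fun h => by
    rw [← h, classInner_def]; field_simp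
  have e1 := key (W.inner (irrOne M24))
  have e2 := key (W.inner V)
  have e3 := key (inner_eq W W)
  have f1 := key (O.inner (irrOne M24))
  have f2 := key (O.inner V)
  have f3 := key (inner_eq O W)
  have f4 := (classInner_card_fixedBy X X).symm.trans (inner_eq O O)
  simp only [Pi.mul_apply, hV, irrOne_apply, map_mul, map_sub, map_natCast, map_one, mul_sub, sub_mul, one_mul, mul_one,
    mul_assoc, sum_sub_distrib, b1, b2, b3, b4, c0, c1, c2, sum_const, card_univ, nsmul_eq_mul,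
    ← Nat.card_eq_fintype_card] at e1 e2 e3 f1 f2 f3
  generalize Nat.card (orbitRel.Quotient M24 (GolayPt × GolayPt × GolayPt)) = B3 at *
  generalize Nat.card (orbitRel.Quotient M24 (GolayPt × GolayPt × GolayPt × GolayPt)) = B4 at *
  generalize Nat.card (orbitRel.Quotient M24 (X × GolayPt)) = C1 at *
  generalize Nat.card (orbitRel.Quotient M24 (X × GolayPt × GolayPt)) = C2 at *
  have cn : ∀ {x y : ℕ}, (x : ℂ) * Nat.card M24 = y * Nat.card M24 → x = y := fun h =>
    Nat.cast_inj.1 (mul_right_cancel₀ hc h)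
  have g1 : w (irrOne M24) = 1 := cn (by push_cast at e1 ⊢; linear_combination -e1)
  have g2 : w V + 4 = B3 := cn (by push_cast at e2 ⊢; linear_combination -e2)
  have g3 : ∑ χ, w χ * w χ + 4 * B3 = B4 + 9 := cn (by push_cast at e3 ⊢; linear_combination -e3)
  have g4 : o (irrOne M24) = 1 := cn (by push_cast at f1 ⊢; linear_combination -f1)
  have g5 : o V + 1 = C1 := cn (by push_cast at f2 ⊢; linear_combination -f2)
  have g6 : ∑ χ, o χ * w χ + 2 * C1 = C2 + 1 := cn (by push_cast at f3 ⊢; linear_combination -f3)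
  have g7 : ∑ χ, o χ * o χ ≤ 4 := by rw [← Nat.cast_inj.1 f4]; exact d3
  have sp : ∀ f : IrrCharacter M24 → ℕ, ∑ χ, f χ = f (irrOne M24) + (f V + ∑ χ ∈ (univ.erase (irrOne M24)).erase V, f χ) :=
    fun f => by rw [add_sum_erase _ _ hne, add_sum_erase _ _ (mem_univ _)]
  have k1 := deg_eq A
  have k2 := deg_eq S
  have k3 := deg_eq O
  rw [sp, dV, charDegree_irrOne] at k1 k2 k3
  rw [sp] at g3 g6 g7
  set T := (univ.erase (irrOne M24)).erase V
  clear e1 e2 e3 f1 f2 f3 f4 b1 b2 b3 b4 c0 c1 c2 hs key cn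
  rw [g1] at g3 g6
  rw [g4] at g6 g7 k3
  have g8 : w V = 1 := by
    have := Nat.mul_self_lt_mul_self_iff.1 (show w V * w V < 2 * 2 by omega)
    omega
  have g9 : o V = 1 := by
    have := Nat.mul_self_lt_mul_self_iff.1 (show o V * o V < 2 * 2 by omega)
    omega
  rw [g8] at g3 g6
  rw [g9] at g6 g7 k3
  have k4 : ∑ χ ∈ T, s χ * s χ + ∑ χ ∈ T, a χ * a χ ≤ 2 := by
    rw [← sum_add_distrib]
    exact (sum_le_sum fun χ _ => by rw [hw]; nlinarith).trans (show ∑ χ ∈ T, w χ * w χ ≤ 2 by omega)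
  have k5 : ∀ {m : IrrCharacter M24 → ℕ}, ∑ χ ∈ T, m χ * dg χ ≠ 0 → ∑ χ ∈ T, m χ * m χ ≠ 0 := fun h e =>
    h (sum_eq_zero fun χ hχ => by rw [mul_self_eq_zero.1 (sum_eq_zero_iff.1 e χ hχ), zero_mul])
  rw [hw] at g1 g8
  have k6 := k5 (m := a) (by omega)
  have k7 := k5 (m := s) (by omega)
  obtain ⟨χ, hχ, p1⟩ := exists_single (o := a) (S := T) (by omega) (d := fun χ => dg χ) (by omega)
  obtain ⟨ψ, hψ, p2⟩ := exists_single (o := s) (S := T) (by omega) (d := fun χ => dg χ) (by omega)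
  have dv : ∀ χ : IrrCharacter M24, dg χ ∣ 244823040 := fun χ => card_M24 ▸ degree_dvd_card χ
  rw [p1] at k1
  rw [p2] at k2
  have q1 := dv χ
  have q2 := dv ψ
  have q3 : (dg χ = 253 ∧ dg ψ = 252) ∨ (dg χ = 252 ∧ dg ψ = 253) := by
    rcases (by omega : (dg χ = 253 ∧ dg ψ = 252) ∨ (dg χ = 252 ∧ dg ψ = 253) ∨ dg ψ = 275 ∨ dg χ = 229) with
      e | e | e | e
    exacts [.inl e, .inr e, by rw [e] at q2; norm_num at q2, by rw [e] at q1; norm_num at q1]
  refine ⟨q3.elim (fun e => ⟨χ, e.1⟩) fun e => ⟨ψ, e.2⟩, ?_⟩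
  have q4 : ∑ χ ∈ T, o χ * w χ = o ψ + o χ := by
    rw [← p1 o, ← p2 o, ← sum_add_distrib]
    exact sum_congr rfl fun χ _ => by rw [hw]; ring
  obtain ⟨ξ, hξ, q5, q6⟩ : ∃ ξ ∈ T, 1 ≤ o ξ ∧ (dg ξ = 252 ∨ dg ξ = 253) := by
    by_cases h : o χ = 0
    exacts [⟨ψ, hψ, by omega, by omega⟩, ⟨χ, hχ, by omega, by omega⟩]
  rw [← add_sum_erase _ _ hξ] at k3 g7
  have q7 : o ξ = 1 := by
    have := Nat.mul_self_lt_mul_self_iff.1 (show o ξ * o ξ < 2 * 2 by omega)
    omega
  obtain ⟨η, -, p3⟩ := exists_single (o := o) (S := T.erase ξ) (by rw [q7] at g7; omega)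
    (d := fun χ => dg χ) (by rw [q7] at k3; omega)
  have q8 := dv η
  rw [p3, q7] at k3
  exact ⟨η, (by omega : dg η = 483 ∨ dg η = 482).resolve_right fun e => by rw [e] at q8; norm_num at q8⟩

section M23

variable {G : Type*} [Group G] [Finite G] [IsSimpleGroup G]

theorem deg_cases23 (D : M23B G) {χ : IrrCharacter G} (h : χ ≠ irrOne G) :
    (¬ 23 ∣ dg χ → dg χ ∈ fd 23 11 [22, 45, 45, 231, 231, 231, 896, 896, 990, 990] 770) ∧
      (¬ 11 ∣ dg χ → dg χ ∈ fd 11 5 [45, 45, 230, 1035] 896) :=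
  ⟨fun k => by rw [← D.ac, ← D.aF, ← D.ae]; exact D.a.mem_deg (D.a.mem_S D.av h k),
    fun k => by rw [← D.bc, ← D.bF, ← D.be]; exact D.b.mem_deg (D.b.mem_S D.bv h k)⟩

theorem sub_u23 (D : M23B G) : Sub (fun χ : IrrCharacter G => dg χ) (u23.map Prod.fst) := by
  have hF : ∀ χ : IrrCharacter G, χ ≠ irrOne G → dg χ ∈ F23 := fun χ h =>
    (by decide +kernel : ∀ d ∈ D23, (¬ 23 ∣ d → d ∈ fd 23 11 [22, 45, 45, 231, 231, 231, 896, 896, 990, 990] 770) →
      (¬ 11 ∣ d → d ∈ fd 11 5 [45, 45, 230, 1035] 896) → d ∈ F23) _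
      ((by decide +kernel : (A23.filter fun d => Nat.blt 1 d && Nat.ble (d * d) 10200960) = D23) ▸
        D.a.mem_of_deg mem_A23 h) (deg_cases23 D h).1 (deg_cases23 D h).2
  obtain ⟨a, b, ae, av, be, bv, -⟩ := D
  have hG := a.card
  obtain ⟨c⟩ := nonempty_blk (p := 5) hG a.nc (by norm_num) (by norm_num) (by norm_num) (by norm_num)
  have h23 : ∀ y : G, orderOf y = 2 → (cc y % 23 == 0) = false := fun y hy => by simpa using a.cc_mod (by omega) hy
  have h11 : ∀ y : G, orderOf y = 2 → (cc y % 11 == 0) = false := fun y hy => by simpa using b.cc_mod (by omega) hy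
  have sF : F23.Pairwise (· < ·) := by decide +kernel
  obtain ⟨ce, cv⟩ : c.e = 4 ∧ c.v = 3 := by
    simpa using (((c23_3 _ (c.mem_caseL mem_A23)).resolve_left (a.v_mod c (by norm_num) (by omega))).resolve_left
      (b.v_mod c (by norm_num) (by omega))).resolve_right
      (c.ychkR_false mem_A23 sF hF (by decide) fun y hy => by rw [h23 y hy, h11 y hy]; rfl)
  obtain ⟨z, hz, hz'⟩ := exists_central_invol (G := G) (k := 6) (m := 79695) hG
  obtain ⟨Z, hZ, -⟩ := exists_invol_values a.perf hz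
  have h1 := c.deg_true ce cv c23_5 sF hF
  have h0 := c.rq_false (qs := [3]) (by decide)
  rw [ce, cv] at h0
  rw [h0, Bool.false_or] at h1
  have h2 := List.all_eq_true.mp h1 _ (mem_A23 _ (hG ▸ Subgroup.card_subgroup_dvd_card
    (Subgroup.centralizer ({z} : Set G))))
  rw [h11 z hz, h23 z hz, show (cc z % 128 != 0) = false by simpa using hz',
    show (cc z % 5 == 0) = false by simpa using c.cc_mod (by omega) hz, Bool.false_or, Bool.false_or, Bool.false_or,
    Bool.false_or] at h2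
  obtain ⟨l, -, k1, k2, -⟩ := c.ext_true hz hZ ce cv rfl rfl rfl Sub.nil (by simp) h2
  obtain ⟨l', -, k4, k5, -⟩ := b.ext_true hz hZ be bv rfl rfl rfl k2 (by simp)
    (List.all_eq_true.mp k1 (b.c, b.F) (List.mem_of_elem_eq_true (b.deg_true be bv c23_4 sF hF)))
  simp only [Bool.and_eq_true, List.isPerm_iff] at k4
  exact (k5.perm k4.2.symm).fst

theorem degs23 (hG : Nat.card G = 10200960) :
    (∃ χ : IrrCharacter G, 11 * 23 ∣ dg χ) ∧ ∀ χ : IrrCharacter G, ¬ 7 * 23 ∣ dg χ := by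
  obtain ⟨D⟩ := nonempty_M23B hG
  have hU := sub_u23 D
  refine ⟨(hU.exists_of_mem (a := 2024) (by decide)).imp fun χ h => by rw [h.2]; norm_num, fun χ h => ?_⟩
  have h1 : χ ≠ irrOne G := ne_irrOne fun e => by rw [e] at h; norm_num at h
  have h2 : dg χ = 1771 := (by decide +kernel : ∀ d ∈ D23, (¬ 11 ∣ d → d ∈ fd 11 5 [45, 45, 230, 1035] 896) →
      7 * 23 ∣ d → d = 1771) _
    ((by decide +kernel : (A23.filter fun d => Nat.blt 1 d && Nat.ble (d * d) 10200960) = D23) ▸
      D.a.mem_of_deg mem_A23 h1) (deg_cases23 D h1).2 h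
  have h3 := ((hU.uni (Sub.of_eq D.a.one_notMem D.a.map_dg)).uni
    (Sub.of_eq (S := {χ}) (l := [1771]) (by simpa using h1.symm) (by simp [h2]))).deg_sq_le
  rw [D.ac, D.aF, D.ae, hG] at h3
  exact absurd h3 (by decide +kernel)

end M23

end CL.Spor.MO.Div
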