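/-
Groups with the order and the character degree graph of `M₁₁`, `M₂₂`, `M₂₃` or `M₂₄`.
-/
import Cfsg.Agent.Blk.MathOrdC
import Cfsg.Agent.Blk.MathOrdD
import Cfsg.Agent.Blk.M12OrdB
import Cfsg.Agent.S1663
import Cfsg.Agent.S1664
import Cfsg.Agent.S2037
import Cfsg.Agent.S2063

set_option autoImplicit false

open Cfsg Finset CL.Char CL.Grp CL.Spor CL.Blk.DegOrd Subgroup

namespace CL.Spor.MO.Div

variable {G : Type*} [Group G] [Finite G]

/-- A simple section `T` of `G` such that a prime dividing `|T|` to the full power sees the degrees of `G`. -/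
theorem exists_sec {p q : ℕ} (hp : p.Prime) (hq : q.Prime) (hpq : p ≠ q) (h2 : ¬ p ^ 2 ∣ Nat.card G)
    (h2' : ¬ q ^ 2 ∣ Nat.card G) (hc : ∀ r i, r.Prime → 0 < i → r ^ i ∣ Nat.card G → r ^ i % p ≠ 1)
    (hd : ∃ d ∈ cdSet G, q * p ∣ d) :
    ∃ (N : Subgroup G) (_ : N.Normal) (T : Subgroup (G ⧸ N)) (_ : T.Normal), IsSimpleGroup T ∧
      ¬ IsMulCommutative T ∧ p ∣ Nat.card T ∧ centralizer (T : Set (G ⧸ N)) = ⊥ ∧
      T ≤ (centralizer (N : Set G)).map (QuotientGroup.mk' N) ∧ (q ∣ Nat.card T → (q * p) ^ 2 ≤ Nat.card T) := by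
  have : Fact p.Prime := ⟨hp⟩
  obtain ⟨d, hd, hd'⟩ := hd
  have hcent : ∀ X N : Subgroup G, N.Normal → IsPGroup p X → ¬ p ∣ Nat.card N → N ≤ centralizer (X : Set G) :=
    fun X N _ hX hN => le_cent hX le_normalizer_of_normal hN fun r hr i hi h =>
      hc r i hr hi (h.trans (card_subgroup_dvd_card N))
  obtain ⟨N, _, T, _, _, h4, h5, h6, h7⟩ := exists_simple h2 (mem_degreePrimes hp hd ((dvd_mul_left _ _).trans hd')) hcent
  have hN := card_eq_card_quotient_mul_card_subgroup N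
  set C := centralizer (N : Set G)
  have hTC : T ≤ C.map (QuotientGroup.mk' N) := by
    obtain ⟨x, hx⟩ := exists_prime_orderOf_dvd_card' (G := G) p
      (h5.trans ((card_subgroup_dvd_card T).trans (card_quotient_dvd_card N)))
    have hxC : x ∈ C := le_centralizer_iff.1 (hcent (zpowers x) N inferInstance
      (IsPGroup.of_card (n := 1) (by rw [Nat.card_zpowers, hx, pow_one])) h6) (mem_zpowers x)
    have hx1 : (x : G ⧸ N) ≠ 1 := fun e => h6 (hx ▸ N.orderOf_dvd_natCard ((QuotientGroup.eq_one_iff x).1 e))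
    have hxT : (x : G ⧸ N) ∈ T := mem_of_orderOf (fun e => h2 (e.trans (Dvd.intro _ hN.symm))) h5
      (orderOf_eq_prime (by rw [← QuotientGroup.mk_pow, ← hx, pow_orderOf_eq_one, QuotientGroup.mk_one]) hx1)
      (le_normalizer_of_normal (mem_top _))
    have : (C.map (QuotientGroup.mk' N)).Normal := Normal.map inferInstance _ (QuotientGroup.mk'_surjective N)
    refine subgroupOf_eq_top.1 ((IsSimpleGroup.eq_bot_or_eq_top_of_normal _ inferInstance).resolve_left fun e => ?_)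
    exact hx1 (congrArg Subtype.val (e.le (show ⟨_, hxT⟩ ∈ _ from ⟨x, hxC, rfl⟩)))
  refine ⟨N, inferInstance, T, inferInstance, inferInstance, h4, h5, h7, hTC, fun h8 => ?_⟩
  set L := C ⊓ T.comap (QuotientGroup.mk' N)
  let f := (QuotientGroup.mk' N).comp L.subtype
  have a1 : f.range = T := le_antisymm (by rintro _ ⟨l, rfl⟩; exact l.2.2) fun t ht => by
    obtain ⟨c, hc, rfl⟩ := hTC ht
    exact ⟨⟨c, hc, ht⟩, rfl⟩
  have a2 : f.ker.index = Nat.card T := by rw [index_ker, a1]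
  have a3 : f.ker ≤ center L := fun c hc => mem_center_iff.2 fun g =>
    Subtype.ext (g.2.1 c ((QuotientGroup.eq_one_iff _).1 hc)).symm
  obtain ⟨k, m, a4, a5, rfl⟩ := exists_mem_cdSet_normal L hd
  obtain ⟨χ, hχ, rfl⟩ := mem_cdSet.1 a5
  have a6 := hχ.charDegree_sq_le_index_center.trans (Nat.le_of_dvd (a2 ▸ Nat.card_pos) (index_dvd_of_le a3))
  have a7 : ∀ r, r.Prime → ¬ r ^ 2 ∣ Nat.card G → r ∣ Nat.card T → r.Coprime k := fun r hr e1 e2 =>
    hr.coprime_iff_not_dvd.2 fun e3 => e1 (by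
      rw [← L.card_mul_index, sq]
      exact mul_dvd_mul (e2.trans (a2 ▸ f.ker.index_dvd_card)) (e3.trans a4))
  exact (Nat.pow_le_pow_left (Nat.le_of_dvd hχ.charDegree_pos
    ((Nat.Coprime.mul_left (a7 q hq h2' h8) (a7 p hp h2 h5)).dvd_of_dvd_mul_left hd')) 2).trans (a2 ▸ a6)

theorem exists_prod {M : Type*} [Group M] [Finite M] [IsSimpleGroup M] (hm : HasCyclicSchurMultiplier M 1)
    (ho : Nat.card (Out M) = 1) {N : Subgroup G} [N.Normal] {T : Subgroup (G ⧸ N)} [T.Normal] (e : T ≃* M)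
    (hM : ¬ (Nat.card M).Prime) (h7 : centralizer (T : Set (G ⧸ N)) = ⊥)
    (hC : T ≤ (centralizer (N : Set G)).map (QuotientGroup.mk' N)) {d : ℕ} (hd : d ∈ cdSet G) :
    ∃ (a : ℕ) (ψ : IrrCharacter M), a * Nat.card M ∣ Nat.card G ∧ d = a * dg ψ := by
  obtain rfl := CL.Blk.M12Ord.eq_top_of_out h7 ((Des.card_out_congr e).trans ho)
  replace e := topEquiv.symm.trans e
  have hG : Nat.card G = Nat.card N * Nat.card M := by
    rw [card_eq_card_quotient_mul_card_subgroup N, Nat.card_congr e.toEquiv, mul_comm]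
  set C := centralizer (N : Set G)
  obtain ⟨η, hη⟩ := CL.Schur.exists_lift_of_perfect_trivial hm
    ⟨CL.Inv.commutator_eq_top_of_simple (CL.Inv.not_isMulCommutative_of_not_prime hM)⟩
    (MonoidHom.id _) (e.toMonoidHom.comp ((QuotientGroup.mk' N).comp C.subtype))
    (e.surjective.comp fun y => by
      obtain ⟨c, hc, rfl⟩ := hC (mem_top y)
      exact ⟨⟨c, hc⟩, rfl⟩)
    fun c hc => mem_center_iff.2 fun g => Subtype.ext (g.2 c ((QuotientGroup.eq_one_iff _).1
      (e.map_eq_one_iff.1 hc))).symm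
  let ψ := N.subtype.noncommCoprod (C.subtype.comp η) fun n m => (η m).2 n n.2
  have h1 : Function.Injective ψ := (injective_iff_map_eq_one _).2 fun ⟨n, m⟩ h => by
    have h2 : (n : G) * η m = 1 := h
    have h3 : m = 1 := by
      have h4 : e (((n : G) * η m : G) : G ⧸ N) = m := by
        rw [QuotientGroup.mk_mul, (QuotientGroup.eq_one_iff _).2 n.2, one_mul]
        exact DFunLike.congr_fun hη m
      rw [← h4, h2, QuotientGroup.mk_one, map_one]
    rw [h3, map_one, OneMemClass.coe_one, mul_one] at h2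
    exact Prod.ext (Subtype.ext h2) h3
  obtain ⟨χ, hχ, rfl⟩ := mem_cdSet.1 (cdSet_eq_of_mulEquiv
    (MulEquiv.ofBijective ψ (h1.bijective_of_nat_card_le (by rw [Nat.card_prod, hG]))).symm ▸ hd)
  obtain ⟨φ, ψ, hφ, hψ, rfl⟩ := hχ.exists_prod
  exact ⟨charDegree φ, ⟨ψ, hψ⟩, hG ▸ mul_dvd_mul_right (dvd_card_of_mem_cdSet hφ.charDegree_mem_cdSet) _,
    charDegree_eq_of_eq (by simp [hφ.cast_charDegree, hψ.cast_charDegree])⟩

theorem deg11 [IsSimpleGroup G] (hG : Nat.card G = 7920) :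
    (∃ χ : IrrCharacter G, dg χ = 55) ∧ ∀ χ : IrrCharacter G, ¬ 3 * 11 ∣ dg χ := by
  refine ⟨?_, fun χ h => ?_⟩
  · obtain ⟨⟨χ⟩, -⟩ := Nat.card_ne_zero.1 ((m11_card_degree hG 55).trans_ne (by simp))
    exact ⟨χ.1, χ.2⟩
  · have : Nonempty {ψ : IrrCharacter G // charDegree (ψ : G → ℂ) = dg χ} := ⟨⟨χ, rfl⟩⟩
    have a3 := m11_card_degree hG (dg χ) ▸ Nat.card_pos (α := {ψ : IrrCharacter G // charDegree (ψ : G → ℂ) = dg χ})
    split_ifs at a3 <;> omega

theorem deg22 [IsSimpleGroup G] (hG : Nat.card G = 443520) :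
    (∃ χ : IrrCharacter G, dg χ = 55) ∧ ∃ χ : IrrCharacter G, dg χ = 99 := by
  obtain ⟨D⟩ := nonempty_M22B hG
  have h := Sub.of_eq D.b.one_notMem D.degS_b
  exact ⟨(h.exists_of_mem (by simp)).imp fun _ h => h.2, (h.exists_of_mem (by simp)).imp fun _ h => h.2⟩

theorem simple11 (hG : Nat.card G = 7920 ∨ Nat.card G = 443520) (h55 : ∃ d ∈ cdSet G, 5 * 11 ∣ d)
    (h33 : Nat.card G = 443520 → ∃ d ∈ cdSet G, 3 * 11 ∣ d) : IsSimpleGroup G := by
  have h0 : Nat.card G ∣ 443520 := by rcases hG with h | h <;> rw [h] <;> norm_num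
  obtain ⟨N, _, T, _, _, h1, h2, h3, h4, h5⟩ := exists_sec (by norm_num) (by norm_num) (by norm_num)
    (fun h => by have := h.trans h0; norm_num at this) (fun h => by have := h.trans h0; norm_num at this)
    (fun r i hr hi h => (by decide : ∀ n ∈ [2, 4, 8, 16, 32, 64, 128, 256, 512, 1024, 3, 9, 27, 5, 7, 11, 23],
      n ∣ 443520 → n % 11 ≠ 1) _ (pp_mem hr hi ((h.trans h0).trans (by norm_num))) (h.trans h0)) h55
  have h6 := (card_subgroup_dvd_card T).trans (card_quotient_dvd_card N)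
  rcases cases11 h1 h2 (h6.trans h0) with e | e | e
  · rw [e] at h5
    norm_num at h5
  · refine hG.elim (fun h => simple_of_card (e.trans h.symm)) fun h => ?_
    have := M11_simple
    have : Finite Spor.M11 := Nat.finite_of_card_ne_zero (by rw [card_M11]; norm_num)
    obtain ⟨f⟩ := nonempty_mulEquiv_of_isM11 (G := T) ⟨inferInstance, e⟩ ⟨M11_simple, card_M11⟩
    obtain ⟨d, hd, hd'⟩ := h33 h
    obtain ⟨a, ψ, k, rfl⟩ := exists_prod Cfsg.Agent.S2034.result (Des.card_out_of_isM11 ⟨M11_simple, card_M11⟩) f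
      (by rw [card_M11]; norm_num) h3 h4 hd
    rw [card_M11, h] at k
    exact absurd ((Nat.Coprime.coprime_dvd_right (Nat.dvd_of_mul_dvd_mul_right (by norm_num)
      (show a * 7920 ∣ 56 * 7920 from k)) (by norm_num)).dvd_of_dvd_mul_left hd') ((deg11 card_M11).2 ψ)
  · exact simple_of_card (e.trans (hG.resolve_left fun h => by rw [e, h] at h6; norm_num at h6).symm)

theorem simple23 (hG : Nat.card G = 10200960 ∨ Nat.card G = 244823040) (h253 : ∃ d ∈ cdSet G, 11 * 23 ∣ d)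
    (h161 : Nat.card G = 244823040 → ∃ d ∈ cdSet G, 7 * 23 ∣ d) : IsSimpleGroup G := by
  have h0 : Nat.card G ∣ 244823040 := by rcases hG with h | h <;> rw [h] <;> norm_num
  obtain ⟨N, _, T, _, _, h1, h2, h3, h4, h5⟩ := exists_sec (by norm_num) (by norm_num) (by norm_num)
    (fun h => by have := h.trans h0; norm_num at this) (fun h => by have := h.trans h0; norm_num at this)
    (fun r i hr hi h => (by decide : ∀ n ∈ [2, 4, 8, 16, 32, 64, 128, 256, 512, 1024, 3, 9, 27, 5, 7, 11, 23],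
      n % 23 ≠ 1) _ (pp_mem hr hi (h.trans h0))) h253
  have h6 := (card_subgroup_dvd_card T).trans (card_quotient_dvd_card N)
  rcases cases23 h1 h2 (h6.trans h0) h5 with e | e
  · refine hG.elim (fun h => simple_of_card (e.trans h.symm)) fun h => ?_
    have := M23_simple
    have : Finite Spor.M23 := Nat.finite_of_card_ne_zero (by rw [card_M23]; norm_num)
    obtain ⟨f⟩ := Cfsg.Agent.S1664.result (G := T) ⟨inferInstance, e⟩
    obtain ⟨d, hd, hd'⟩ := h161 h
    obtain ⟨a, ψ, k, rfl⟩ := exists_prod Cfsg.Agent.S2037.result Cfsg.Agent.S2063.result f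
      (by rw [card_M23]; norm_num) h3 h4 hd
    rw [card_M23, h] at k
    exact absurd ((Nat.Coprime.coprime_dvd_right (Nat.dvd_of_mul_dvd_mul_right (by norm_num)
      (show a * 10200960 ∣ 24 * 10200960 from k)) (by norm_num)).dvd_of_dvd_mul_left hd') ((degs23 card_M23).2 ψ)
  · exact simple_of_card (e.trans (hG.resolve_left fun h => by rw [e, h] at h6; norm_num at h6).symm)

/-- A group with the order and the degree graph of one of the four Mathieu groups is simple. -/
theorem simple_of_graph {M : Type*} [Group M] [Finite M]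
    (hM : Spor.IsoM11 M ∨ Spor.IsoM22 M ∨ Spor.IsoM23 M ∨ Spor.IsoM24 M) (hc : Nat.card G = Nat.card M)
    (hΔ : degreeGraph G = degreeGraph M) : IsSimpleGroup G := by
  have edge : ∀ {M' : Type} [Group M'] (_ : M ≃* M') (r s : ℕ), r.Prime → s.Prime → r ≠ s →
      (∃ χ : IrrCharacter M', r * s ∣ dg χ) → ∃ d ∈ cdSet G, r * s ∣ d := fun {M'} _ e r s hr hs hrs ⟨χ, h⟩ => by
    have : Finite M' := .of_equiv _ e.toEquiv
    have : (degreeGraph G).Adj r s ↔ (degreeGraph M).Adj r s := by rw [hΔ]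
    simp only [degreeGraph, hr, hs, ne_eq, hrs, not_false_eq_true, true_and, mem_charDegrees_iff] at this
    exact this.2 ⟨_, cdSet_eq_of_mulEquiv e ▸ χ.2.charDegree_mem_cdSet, h⟩
  rcases hM with ⟨⟨e⟩⟩ | ⟨⟨e⟩⟩ | ⟨⟨e⟩⟩ | ⟨⟨e⟩⟩
  · have := M11_simple
    have : Finite Spor.M11 := .of_equiv _ e.toEquiv
    have h := (hc.trans (Nat.card_congr e.toEquiv)).trans card_M11
    exact simple11 (.inl h) (edge e 5 11 (by norm_num) (by norm_num) (by norm_num)
      ((deg11 card_M11).1.imp fun _ k => by rw [k])) (by omega)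
  · have := M22_simple
    have : Finite Spor.M22 := .of_equiv _ e.toEquiv
    exact simple11 (.inr ((hc.trans (Nat.card_congr e.toEquiv)).trans card_M22))
      (edge e 5 11 (by norm_num) (by norm_num) (by norm_num) ((deg22 card_M22).1.imp fun _ k => by rw [k]))
      fun _ => edge e 3 11 (by norm_num) (by norm_num) (by norm_num) ((deg22 card_M22).2.imp fun _ k => by
        rw [k]; norm_num)
  · have := M23_simple
    have : Finite Spor.M23 := .of_equiv _ e.toEquiv
    have h := (hc.trans (Nat.card_congr e.toEquiv)).trans card_M23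
    exact simple23 (.inl h) (edge e 11 23 (by norm_num) (by norm_num) (by norm_num) (degs23 card_M23).1) (by omega)
  · exact simple23 (.inr ((hc.trans (Nat.card_congr e.toEquiv)).trans card_M24))
      (edge e 11 23 (by norm_num) (by norm_num) (by norm_num) (degs24.1.imp fun _ k => by rw [k]))
      fun _ => edge e 7 23 (by norm_num) (by norm_num) (by norm_num) (degs24.2.imp fun _ k => by rw [k]; norm_num)

theorem iso_of_graph {M : Type*} [Group M] [Finite M]
    (hM : Spor.IsoM11 M ∨ Spor.IsoM22 M ∨ Spor.IsoM23 M ∨ Spor.IsoM24 M) (hc : Nat.card G = Nat.card M)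
    (hΔ : degreeGraph G = degreeGraph M) (h24 : IsM24 G → Nonempty (G ≃* M24)) : Nonempty (G ≃* M) := by
  have hG := simple_of_graph hM hc hΔ
  rcases hM with ⟨⟨e⟩⟩ | ⟨⟨e⟩⟩ | ⟨⟨e⟩⟩ | ⟨⟨e⟩⟩ <;> replace hc := hc.trans (Nat.card_congr e.toEquiv)
  · have : Finite Spor.M11 := .of_equiv _ e.toEquiv
    exact (nonempty_mulEquiv_of_isM11 ⟨hG, hc.trans card_M11⟩ ⟨M11_simple, card_M11⟩).map (·.trans e.symm)
  · exact Nonempty.map (·.trans e.symm) (Cfsg.Agent.S1663.result ⟨hG, hc.trans card_M22⟩)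
  · exact Nonempty.map (·.trans e.symm) (Cfsg.Agent.S1664.result ⟨hG, hc.trans card_M23⟩)
  · exact (h24 ⟨hG, hc.trans card_M24⟩).map (·.trans e.symm)

end CL.Spor.MO.Div
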