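/-
The intersection of the kernels of the irreducible characters of degree prime to `p`.
-/
import Cfsg.Agent.Blk.PrincLen
import Cfsg.Agent.Char.GlaubSolv
import Cfsg.Agent.Char.DegThompson
import Cfsg.Agent.Grp.NilpSub

set_option autoImplicit false
set_option linter.unusedSectionVars false

open scoped ComplexConjugate Pointwise commutatorElement
open Cfsg CL.Grp CL.Char Subgroup

namespace CL.Blk

variable {G : Type*} [Group G] [Finite G] {p : ℕ} [hp : Fact p.Prime]

/-- A character of `p'`-degree has an irreducible constituent of `p'`-degree. -/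
theorem exists_irr_constituent_not_dvd {G : Type*} [Group G] [Fintype G] {α : G → ℂ} (hα : IsCharacter G α)
    (h : ¬ p ∣ charDegree α) : ∃ χ, IsIrrCharacter G χ ∧ ¬ p ∣ charDegree χ ∧ classInner α χ ≠ 0 := by
  choose m hm using fun ψ : IrrCharacter G => hα.exists_nat_classInner ψ.2.isCharacter
  by_contra hn
  push Not at hn
  refine h (hα.charDegree_eq_sum m hm ▸ Finset.dvd_sum fun ψ _ => ?_)
  by_cases h1 : p ∣ charDegree (ψ : G → ℂ)
  · exact h1.mul_left _
  · have h2 := hn ψ ψ.2 h1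
    rw [hm, Nat.cast_eq_zero] at h2
    rw [h2, zero_mul]
    exact dvd_zero p

variable (p G) in
/-- The intersection of the kernels of the irreducible characters of `p'`-degree. -/
def pPrimeKer : Subgroup G :=
  ⨅ χ : {χ : IrrCharacter G // ¬ p ∣ charDegree (χ : G → ℂ)}, charKer (χ.1 : G → ℂ)

theorem mem_pPrimeKer {g : G} :
    g ∈ pPrimeKer G p ↔ ∀ χ, IsIrrCharacter G χ → ¬ p ∣ charDegree χ → g ∈ charKer χ := by
  rw [pPrimeKer, mem_iInf]
  exact ⟨fun h χ h1 h2 => h ⟨⟨χ, h1⟩, h2⟩, fun h χ => h _ χ.1.2 χ.2⟩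

instance pPrimeKer_normal : (pPrimeKer G p).Normal :=
  ⟨fun _ hn g => mem_pPrimeKer.2 fun χ h1 h2 => h1.charKer_normal.conj_mem _ (mem_pPrimeKer.1 hn χ h1 h2) g⟩

theorem pPrimeKer_subgroupOf_le {H : Subgroup G} (hH : ¬ p ∣ H.index) :
    (pPrimeKer G p).subgroupOf H ≤ pPrimeKer H p := by
  have := Fintype.ofFinite G
  have := Fintype.ofFinite H
  intro g hg
  refine mem_pPrimeKer.2 fun ψ h1 h2 => ?_
  obtain ⟨χ, h3, h4, h5⟩ := exists_irr_constituent_not_dvd (p := p) (isCharacter_indFun h1.isCharacter) (by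
    rw [charDegree_indFun h1.isCharacter]
    exact fun h => (hp.out.dvd_mul.1 h).elim hH h2)
  rw [classInner_indFun_eq_res h1.isCharacter h3.isCharacter] at h5
  refine (h3.isCharacter.comp H.subtype).charKer_le_of_classInner_ne_zero h1 h5 ?_
  rw [h3.isCharacter.charKer_comp]
  exact mem_pPrimeKer.1 hg χ h3 h4

theorem pPrimeKer_le_commutator : pPrimeKer G p ≤ commutator G := by
  intro g hg
  refine mem_commutator_iff_forall_monoidHom.2 fun lam => ?_
  have := mem_pPrimeKer.1 hg _ (isIrrCharacter_linear lam) (by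
    rw [charDegree_monoidHom]; exact hp.out.not_dvd_one)
  rwa [charKer_monoidHom] at this

/-- Glauberman: the number of `P`-invariant irreducible characters of `N`. -/
theorem card_invariant_irr {N P : Subgroup G} [hN : N.Normal] (hP : IsPGroup p P) (h : ¬ p ∣ Nat.card N) :
    Nat.card {θ : IrrCharacter N // P ≤ inertia N (θ : N → ℂ)} =
      Nat.card (IrrCharacter (N ⊓ centralizer (P : Set G) : Subgroup G)) := by
  have hnorm : ∀ s ∈ P, ∀ g ∈ N, s * g * s⁻¹ ∈ N := fun s _ g hg => hN.conj_mem g hg s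
  have h1 := (isGlCorr_pgroup hp.out hP h (glConjHom hnorm)
    (inclusion (inf_le_left : N ⊓ centralizer (P : Set G) ≤ N)) (inclusion_injective _)
    (glConjHom_range_inclusion hnorm rfl _)).card_eq hp.out
  refine Eq.trans (Nat.card_congr (Equiv.subtypeEquivRight fun θ =>
    ⟨fun h a g => h a.2 g, fun h a ha g => h ⟨a, ha⟩ g⟩)) (h1.trans ?_)
  exact Nat.card_congr (Equiv.subtypeUnivEquiv fun _ => trivial)

theorem eq_one_of_invariant {N P : Subgroup G} [hN : N.Normal] (hP : IsPGroup p P) (h : ¬ p ∣ Nat.card N)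
    (hC : N ⊓ centralizer (P : Set G) = ⊥) {θ : N → ℂ} (hθ : IsIrrCharacter N θ) (hi : P ≤ inertia N θ) :
    θ = fun _ => 1 := by
  have h1 := card_invariant_irr hP h
  rw [card_irr_of_comm (by rw [hC]; exact fun a b => Subsingleton.elim _ _), hC, card_bot] at h1
  have := (Nat.card_eq_one_iff_unique.1 h1).1
  exact congrArg (fun x => (x.1 : N → ℂ)) (Subsingleton.elim (⟨⟨θ, hθ⟩, hi⟩ :
    {θ : IrrCharacter N // P ≤ inertia N (θ : N → ℂ)}) ⟨⟨fun _ => 1, isIrrCharacter_one⟩, fun _ _ _ => rfl⟩)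

theorem inf_centralizer_eq_bot_of_invariant {N P : Subgroup G} [hN : N.Normal] (hP : IsPGroup p P)
    (h : ¬ p ∣ Nat.card N) (hθ : ∀ θ, IsIrrCharacter N θ → P ≤ inertia N θ → θ = fun _ => 1) :
    N ⊓ centralizer (P : Set G) = ⊥ := by
  have h1 := card_invariant_irr hP h
  have h2 : Nat.card {θ : IrrCharacter N // P ≤ inertia N (θ : N → ℂ)} = 1 :=
    Nat.card_eq_one_iff_unique.2 ⟨⟨fun a b => Subtype.ext (Subtype.ext
      ((hθ _ a.1.2 a.2).trans (hθ _ b.1.2 b.2).symm))⟩,
      ⟨⟨⟨fun _ => 1, isIrrCharacter_one⟩, fun _ _ _ => rfl⟩⟩⟩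
  have h3 := (Nat.card_eq_one_iff_unique.1 (h1.symm.trans h2)).1
  refine (eq_bot_iff_forall _).2 fun x hx => ?_
  have h4 : (⟨x, hx⟩ : (N ⊓ centralizer (P : Set G) : Subgroup G)) = 1 := eq_one_of_forall_irr fun χ => by
    rw [Subsingleton.elim χ ⟨fun _ => 1, isIrrCharacter_one⟩]
  exact congrArg Subtype.val h4

/-- A normal subgroup with `C_N(P) = 1` is a `p'`-group. -/
theorem not_dvd_card_of_inf_centralizer (P : Sylow p G) {N : Subgroup G} [hN : N.Normal]
    (hC : N ⊓ centralizer ((P : Subgroup G) : Set G) = ⊥) : ¬ p ∣ Nat.card N := by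
  have h1 : N.subgroupOf (P : Subgroup G) = ⊥ := by
    by_contra h
    have := P.2.isNilpotent
    obtain ⟨⟨z, hz1, hz2⟩, hz⟩ := ne_bot_iff_exists_ne_one.1 (inf_center_ne_bot h)
    have h2 : (z : G) ∈ N ⊓ centralizer ((P : Subgroup G) : Set G) := ⟨hz1, mem_centralizer_iff.2 fun a ha =>
      congrArg Subtype.val (mem_center_iff.1 hz2 ⟨a, ha⟩)⟩
    rw [hC, mem_bot] at h2
    exact hz (Subtype.ext (Subtype.ext h2))
  have h2 := (isSylowIn_inf_normal P N).not_dvd
  rw [subgroupOf_eq_bot, disjoint_iff, inf_comm] at h1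
  rwa [h1, relIndex_bot_left] at h2

theorem le_pPrimeKer_of_inf_centralizer (P : Sylow p G) {N : Subgroup G} [hN : N.Normal]
    (hC : N ⊓ centralizer ((P : Subgroup G) : Set G) = ⊥) : N ≤ pPrimeKer G p := by
  have := Fintype.ofFinite G
  have := Fintype.ofFinite N
  intro n hn
  refine mem_pPrimeKer.2 fun χ h1 h2 => ?_
  obtain ⟨θ, h3, h4⟩ := exists_irr_constituent_restrict N h1
  obtain ⟨e, he⟩ := (h1.isCharacter.comp N.subtype).exists_nat_classInner h3.isCharacter
  have h5 := clifford_degree h1 h3 h4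
  have he' : classInner (fun n : N => χ n) θ = e := he
  rw [he', ← h1.cast_charDegree, ← h3.cast_charDegree] at h5
  have h6 : ¬ p ∣ (inertia N θ).index := fun h => h2 (by
    have : charDegree χ = e * (inertia N θ).index * charDegree θ := by exact_mod_cast h5
    rw [this]
    exact (h.mul_left _).mul_right _)
  obtain ⟨S, hS⟩ := exists_isSylowIn p (inertia N θ)
  have hS' : IsSylowIn p S ⊤ := ⟨le_top, hS.isPGroup, by
    rw [relIndex_top_right, ← relIndex_mul_index hS.le]
    exact fun h => (hp.out.dvd_mul.1 h).elim hS.not_dvd h6⟩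
  obtain ⟨g, -, hg⟩ := (isSylowIn_top P).exists_conj_eq hS'
  have h7 : (P : Subgroup G) ≤ inertia N (conjChar N g θ) := fun u hu => by
    rw [mem_inertia_iff, ← conjChar_mul, conjChar_eq_conjChar_iff]
    exact hS.le (hg ▸ conj_mem_conj_smul g hu)
  have h8 := eq_one_of_invariant P.2 (not_dvd_card_of_inf_centralizer P hC) hC
    (isIrrCharacter_conjChar h3 g) h7
  rw [← classInner_res_conjChar h1.isClassFunction g, h8] at h4
  exact h1.mem_charKer.2 (apply_eq_one_of_classInner_res_one_ne_zero h1 h4 hn)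

theorem le_pPrimeKer_of_le_commutator {P L : Subgroup G} (hP : IsPGroup p P) [L.Normal] (hL : L ≤ ⁅P, P⁆) :
    L ≤ pPrimeKer G p := by
  have := Fintype.ofFinite G
  have := Fintype.ofFinite L
  have := Fintype.ofFinite P
  have hLP : L ≤ P := hL.trans (commutator_le.2 fun a ha b hb =>
    P.mul_mem (P.mul_mem (P.mul_mem ha hb) (P.inv_mem ha)) (P.inv_mem hb))
  intro n hn
  refine mem_pPrimeKer.2 fun χ h1 h2 => ?_
  obtain ⟨μ, h3, h4⟩ := exists_linear_over_of_not_dvd hP h1.isCharacter h2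
  have h5 : (fun x : L => (μ : P → ℂ) (inclusion hLP x)) = fun _ => 1 := by
    funext x
    rw [← h3]
    refine apply_eq_one_of_mem_charKer (commutator_le_charKer_of_one_eq_one μ.2.isCharacter h3 ?_)
    have h6 := hL x.2
    rw [← map_subtype_commutator] at h6
    obtain ⟨y, hy, e⟩ := h6
    rwa [show inclusion hLP x = y from Subtype.ext e.symm]
  have h6 := classInner_comp_ne_zero_of_constituent (inclusion hLP) (θ := fun _ => 1)
    (h1.isCharacter.comp P.subtype) μ.2 isIrrCharacter_one.isCharacter h4 (by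
      rw [h5, isIrrCharacter_one.classInner_self]; exact one_ne_zero)
  exact h1.mem_charKer.2 (apply_eq_one_of_classInner_res_one_ne_zero h1 h6 hn)

theorem comap_pPrimeKer {N : Subgroup G} [N.Normal] (hN : N ≤ pPrimeKer G p) :
    (pPrimeKer (G ⧸ N) p).comap (QuotientGroup.mk' N) ≤ pPrimeKer G p := by
  intro g hg
  refine mem_pPrimeKer.2 fun χ h1 h2 => ?_
  obtain ⟨ψ, h3, rfl⟩ := h1.exists_quotient N fun n hn => mem_pPrimeKer.1 (hN hn) χ h1 h2
  have := mem_pPrimeKer.1 hg ψ h3 h2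
  exact fun x => this x

theorem normalCore_le_pPrimeKer (P : Sylow p G) {N : Subgroup G} [hN : N.Normal]
    (hC : N ⊓ centralizer ((P : Subgroup G) : Set G) = ⊥) :
    (N ⊔ ⁅(P : Subgroup G), (P : Subgroup G)⁆).normalCore ≤ pPrimeKer G p := by
  refine le_trans (map_le_iff_le_comap.1 ?_) (comap_pPrimeKer (le_pPrimeKer_of_inf_centralizer P hC))
  have := (normalCore_normal (N ⊔ ⁅(P : Subgroup G), (P : Subgroup G)⁆)).map _ (QuotientGroup.mk'_surjective N)
  refine le_pPrimeKer_of_le_commutator (P.2.map (QuotientGroup.mk' N)) ((map_mono (normalCore_le _)).trans ?_)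
  rw [Subgroup.map_sup, QuotientGroup.map_mk'_self, bot_sup_eq, map_commutator]

/-- If `G / K` is a `p`-group then `G` has a normal `p`-complement. -/
theorem hasNormalPComplement_of_pPrimeKer {K : Subgroup G} [K.Normal] (hK : K ≤ pPrimeKer G p)
    (h : IsPGroup p (G ⧸ K)) : HasNormalPComplement p G := by
  refine thompson_hasNormalPComplement fun χ h1 h2 => by_contra fun h3 => h2 ?_
  obtain ⟨ψ, h4, rfl⟩ := h1.exists_quotient K fun n hn => mem_pPrimeKer.1 (hK hn) χ h1 h3
  exact h1.isCharacter.charDegree_eq_one_iff.2 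
    (irr_one_eq_one_of_isPGroup h (ζ := ⟨ψ, h4⟩) (Nat.factorization_eq_zero_of_not_dvd h3))

/-- If `G = KP` then the normal `p`-complement `R` lies in `K` and has only one invariant irreducible character. -/
theorem eq_one_of_invariant_of_le_pPrimeKer {R : Subgroup G} [hR : R.Normal] (hK : R ≤ pPrimeKer G p)
    (h : ¬ p ∣ Nat.card R) (hc : (Nat.card R).Coprime R.index) {θ : R → ℂ} (hθ : IsIrrCharacter R θ)
    (hi : inertia R θ = ⊤) : θ = fun _ => 1 := by
  obtain ⟨χ, h1, h2⟩ := exists_extension_of_hall hθ (inertia_eq_top_iff.1 hi) hθ.cast_charDegree.symm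
    hθ.charDegree_dvd_card hc
  have h3 : ¬ p ∣ charDegree χ := by
    rw [charDegree_congr (h2 1)]
    exact fun h4 => h (h4.trans hθ.charDegree_dvd_card)
  refine hθ.charKer_eq_top_iff.1 (eq_top_iff.2 fun n _ => hθ.mem_charKer.2 ?_)
  rw [← h2, ← h2]
  exact h1.mem_charKer.1 (mem_pPrimeKer.1 (hK n.2) χ h1 h3)

theorem pPrimeKer_le_sup (P : Sylow p G) {N : Subgroup G}
    (hmax : ∀ L : Subgroup G, L.Normal → L ⊓ centralizer ((P : Subgroup G) : Set G) = ⊥ → L ≤ N) :
    pPrimeKer G p ≤ N ⊔ ⁅(P : Subgroup G), (P : Subgroup G)⁆ := by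
  set K := pPrimeKer G p with hK
  set H := K ⊔ (P : Subgroup G) with hH
  have hPH : (P : Subgroup G) ≤ H := le_sup_right
  have hHi : ¬ p ∣ H.index := fun h => P.not_dvd_index (h.trans (index_dvd_of_le hPH))
  have hKH : K.subgroupOf H ≤ pPrimeKer H p := pPrimeKer_subgroupOf_le hHi
  have htop : K.subgroupOf H ⊔ (P : Subgroup G).subgroupOf H = ⊤ := by
    rw [← subgroupOf_sup le_sup_left hPH, subgroupOf_self]
  have hq : IsPGroup p (H ⧸ K.subgroupOf H) := by
    have h1 : ((P : Subgroup G).subgroupOf H).map (QuotientGroup.mk' (K.subgroupOf H)) = ⊤ := by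
      have := congrArg (Subgroup.map (QuotientGroup.mk' (K.subgroupOf H))) htop
      rwa [Subgroup.map_sup, QuotientGroup.map_mk'_self, bot_sup_eq,
        map_top_of_surjective _ (QuotientGroup.mk'_surjective _)] at this
    have h2 := (P.2.comap_subtype (K := H)).map (QuotientGroup.mk' (K.subgroupOf H))
    exact (h1 ▸ h2 : IsPGroup p (⊤ : Subgroup _)).of_equiv topEquiv
  obtain ⟨R, hR, hc⟩ := (hasNormalPComplement_iff_sylow (P.subtype hPH)).1
    (hasNormalPComplement_of_pPrimeKer hKH hq)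
  have hRp : ¬ p ∣ Nat.card R := by rw [← hc.index_eq_card]; exact (P.subtype hPH).not_dvd_index
  -- the elements of `R` are the `p'`-elements of `K`
  have hmem : ∀ x : H, x ∈ R ↔ (x : G) ∈ K ∧ ¬ p ∣ orderOf (x : G) := by
    intro x
    constructor
    · intro hx
      have h1 : ¬ p ∣ orderOf x := fun h => hRp (h.trans (R.orderOf_dvd_natCard hx))
      refine ⟨?_, by rwa [orderOf_coe]⟩
      obtain ⟨k, hk⟩ := IsPGroup.iff_orderOf.1 hq (x : H ⧸ K.subgroupOf H)
      have h2 := orderOf_map_dvd (QuotientGroup.mk' (K.subgroupOf H)) x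
      rw [QuotientGroup.mk'_apply, hk] at h2
      rcases k with _ | k
      · exact (QuotientGroup.eq_one_iff x).1 (orderOf_eq_one_iff.1 hk)
      · exact (h1 ((dvd_pow_self p k.succ_ne_zero).trans h2)).elim
    · rintro ⟨-, hx⟩
      rw [orderOf_coe] at hx
      obtain ⟨k, hk⟩ := (P.subtype hPH).2.exists_card_eq
      have h2 := orderOf_map_dvd (QuotientGroup.mk' R) x
      have h3 : orderOf (QuotientGroup.mk' R x) ∣ p ^ k := by
        rw [← hk, ← hc.symm.index_eq_card]
        exact orderOf_dvd_natCard _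
      refine (QuotientGroup.eq_one_iff x).1 (orderOf_eq_one_iff.1 (Nat.eq_one_of_dvd_coprimes ?_ h2 h3))
      exact ((Nat.Prime.coprime_iff_not_dvd hp.out).2 hx).symm.pow_right k
  have hRn : (R.map H.subtype).Normal := ⟨by
    rintro _ ⟨x, hx, rfl⟩ g
    obtain ⟨h1, h2⟩ := (hmem x).1 hx
    have h3 : g * x * g⁻¹ ∈ K := pPrimeKer_normal.conj_mem _ h1 g
    refine ⟨⟨_, (le_sup_left : K ≤ H) h3⟩, (hmem _).2 ⟨h3, ?_⟩, rfl⟩
    rwa [show orderOf (g * x * g⁻¹) = orderOf (x : G) from (MulAut.conj g).orderOf_eq x]⟩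
  have hC : R ⊓ centralizer (((P : Subgroup G).subgroupOf H : Subgroup H) : Set H) = ⊥ := by
    refine inf_centralizer_eq_bot_of_invariant (P.subtype hPH).2 hRp fun θ h1 h2 => ?_
    refine eq_one_of_invariant_of_le_pPrimeKer (fun x hx => hKH ((hmem x).1 hx).1) hRp ?_ h1 ?_
    · obtain ⟨k, hk⟩ := (P.subtype hPH).2.exists_card_eq
      rw [hc.symm.index_eq_card, hk]
      exact ((Nat.Prime.coprime_iff_not_dvd hp.out).2 hRp).symm.pow_right k
    · exact eq_top_iff.2 (hc.sup_eq_top.ge.trans (sup_le (le_inertia h1.isClassFunction) h2))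
  have hRN : R.map H.subtype ≤ N := hmax _ hRn ((eq_bot_iff_forall _).2 (by
    rintro _ ⟨⟨x, hx, rfl⟩, h1⟩
    have : x ∈ R ⊓ centralizer (((P : Subgroup G).subgroupOf H : Subgroup H) : Set H) :=
      ⟨hx, mem_centralizer_iff.2 fun a ha => Subtype.ext (mem_centralizer_iff.1 h1 a ha)⟩
    rw [hC, mem_bot] at this
    rw [this, map_one]))
  intro x hx
  obtain ⟨⟨⟨r, hr⟩, ⟨u, hu⟩⟩, e⟩ := hc.2 ⟨x, (le_sup_left : K ≤ H) hx⟩
  have e' : (r : G) * u = x := congrArg Subtype.val e
  have h1 : (u : G) ∈ K := by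
    have := K.mul_mem (K.inv_mem ((hmem r).1 hr).1) hx
    rwa [← e', inv_mul_cancel_left] at this
  have h2 : (⟨u, hu⟩ : (P : Subgroup G)) ∈ commutator (P : Subgroup G) :=
    pPrimeKer_le_commutator (pPrimeKer_subgroupOf_le P.not_dvd_index h1)
  rw [← e', ← map_subtype_commutator]
  exact mul_mem_sup (hRN ⟨r, hr, rfl⟩) ⟨_, h2, rfl⟩

theorem pPrimeKer_eq_normalCore (P : Sylow p G) {N : Subgroup G} [N.Normal]
    (hC : N ⊓ centralizer ((P : Subgroup G) : Set G) = ⊥)
    (hmax : ∀ L : Subgroup G, L.Normal → L ⊓ centralizer ((P : Subgroup G) : Set G) = ⊥ → L ≤ N) :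
    pPrimeKer G p = (N ⊔ ⁅(P : Subgroup G), (P : Subgroup G)⁆).normalCore :=
  le_antisymm (normal_le_normalCore.2 (pPrimeKer_le_sup P hmax)) (normalCore_le_pPrimeKer P hC)

end CL.Blk
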