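/-
The number of irreducible characters in a block of a solvable group.
-/
import Cfsg.Agent.Blk.FongP2
import Cfsg.Agent.Blk.KThree1
import Cfsg.Agent.Fgs.HK6

set_option autoImplicit false

open Cfsg CL.Char CL.Grp Subgroup

namespace CL.Blk.SolvK

universe u

theorem card_cs_le {H : Type*} [Group H] [Finite H] {Z : Subgroup H} [Z.Normal] (hZ : Z ≤ center H)
    (χ₀ : IrrCharacter H) : Nat.card (K3.cs Z χ₀) ≤ Nat.card (ConjClasses (H ⧸ Z)) := by
  cases nonempty_fintype H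
  cases nonempty_fintype Z
  obtain ⟨θ, h1⟩ := exists_over Z χ₀
  obtain ⟨ψ, hψ⟩ := θ.2.exists_monoidHom_of_comm (K3.comm_of_le_center hZ)
  refine le_trans (le_of_eq ?_) ((good_card_irr_central Z hZ ψ).le.trans (Finite.card_subtype_le _))
  rw [K3.cs_eq_overSet hZ h1, ← hψ]
  exact Nat.card_congr (Equiv.subtypeEquivRight fun χ => mem_overSet_singleton.trans over_iff)

theorem card_over_le {G : Type u} [Group G] [Finite G] {K : Subgroup G} [K.Normal] {θ : IrrCharacter K}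
    (hθ : IsInvSet {θ}) : Nat.card (overSet K {θ}) ≤ Nat.card (ConjClasses (G ⧸ K)) := by
  cases nonempty_fintype K
  obtain ⟨C⟩ := nonempty_charCover K θ.2 (isInvSet_singleton_iff.1 hθ)
  let ρ : C.Γ ⧸ C.ι.range →* G ⧸ K := QuotientGroup.lift _ ((QuotientGroup.mk' K).comp C.π) (by
    rintro _ ⟨n, rfl⟩
    rw [MonoidHom.mem_ker, MonoidHom.comp_apply, C.π_ι]
    exact (QuotientGroup.eq_one_iff _).2 n.2)
  have h1 : ∀ x ∈ ρ.ker, ∃ z : C.π.ker, x = ((z : C.Γ) : C.Γ ⧸ C.ι.range) := fun x hx => by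
    obtain ⟨x, rfl⟩ := QuotientGroup.mk_surjective x
    obtain ⟨z, e⟩ := C.exists_eq_ι_mul (x := x) ((QuotientGroup.eq_one_iff _).1 hx)
    exact ⟨z, by rw [e, QuotientGroup.mk_mul, (QuotientGroup.eq_one_iff _).2 (MonoidHom.mem_range.2 ⟨_, rfl⟩), one_mul]⟩
  have h2 : ρ.ker ≤ center _ := fun x hx => mem_center_iff.2 fun y => by
    obtain ⟨z, rfl⟩ := h1 x hx
    obtain ⟨y, rfl⟩ := QuotientGroup.mk_surjective y
    rw [← QuotientGroup.mk_mul, C.ker_comm, QuotientGroup.mk_mul]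
  have h3 : Function.Surjective ρ := fun a => by
    obtain ⟨g, rfl⟩ := QuotientGroup.mk_surjective a
    obtain ⟨x, rfl⟩ := C.π_surj g
    exact ⟨x, rfl⟩
  obtain ⟨χ, hχ⟩ := exists_under θ
  obtain ⟨β₀, h0⟩ := exists_coverIrr C hχ
  have h4 : ∀ {χ : G → ℂ} {β : IrrCharacter (C.Γ ⧸ C.ι.range)},
      (fun x => χ (C.π x)) = (inflIrr C.ι.range β : C.Γ → ℂ) * C.ext → ∀ z : C.π.ker,
      (β : C.Γ ⧸ C.ι.range → ℂ) (z : C.Γ) / (β : C.Γ ⧸ C.ι.range → ℂ) 1 = ((C.ν z)⁻¹ : ℂˣ) := fun h z => by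
    have h7 := C.factor_ker_mul (le_charKer_inflIrr _) h z 1
    rwa [mul_one, inflIrr_apply, inflIrr_apply_one, ← div_eq_iff (irr_one_ne_zero _)] at h7
  have h5 : ∀ ψ : overSet K {θ}, ∃ β : K3.cs ρ.ker β₀,
      (fun x => (ψ.1 : G → ℂ) (C.π x)) = (inflIrr C.ι.range β.1 : C.Γ → ℂ) * C.ext := fun ψ => by
    obtain ⟨β, h⟩ := exists_coverIrr C (mem_overSet_singleton.1 ψ.2)
    refine ⟨⟨β, fun x hx => ?_⟩, h⟩
    obtain ⟨z, rfl⟩ := h1 x hx
    rw [h4 h, h4 h0]
  choose f hf using h5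
  refine (Nat.card_le_card_of_injective f fun ψ ψ' e => Subtype.ext (Subtype.ext (funext fun g => ?_))).trans
    ((card_cs_le h2 β₀).trans (Nat.card_le_card_of_surjective _ (ConjClasses.map_surjective
      (f := (QuotientGroup.quotientKerEquivOfSurjective ρ h3).symm.toMonoidHom) (MulEquiv.surjective _))))
  obtain ⟨x, rfl⟩ := C.π_surj g
  exact congrFun ((hf ψ).trans (e ▸ (hf ψ').symm)) x

theorem bound {p : ℕ} [Fact p.Prime] {M : Ideal AlgInt} (hM : IsPModular p M) (n : ℕ) :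
    ∀ (G : Type u) [Group G] [Finite G], Nat.card G = n → Group.IsSolvable G → ∀ B : Set (IrrCharacter G),
      IsPBlock M B → 0 < blockDefect p B → B.ncard ≤ 3 ^ (blockDefect p B - 1) * p ^ blockDefect p B := by
  induction n using Nat.strong_induction_on with
  | _ n ih =>
  intro G _ _ hn hG B hB hd
  cases nonempty_fintype G
  obtain ⟨χ, hχ⟩ := pblock_nonempty hM hB
  set K := pPrimeCore p G
  have hKp : ¬ p ∣ Nat.card K := not_dvd_card_pPrimeCore p G
  obtain ⟨θ, hθ⟩ := exists_over K χ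
  have hb := isPBlock_singleton_of_not_dvd_card hM hKp θ
  have hc : Covers K B {θ} := hθ.covers hχ rfl
  by_cases hT : blockStab {θ} = (⊤ : Subgroup G)
  · have hinv := isInvSet_iff_blockStab_eq_top.2 hT
    have hG' := Loc.isPConstrained_of_isPSolvable (Loc.isPSolvable_of_isSolvable (p := p) hG)
    obtain rfl := fong_eq_overSet hM hG' rfl hinv hB hc
    refine (card_over_le hinv).trans (SL.HK.kk_le_of_pPrimeCore inferInstance (pPrimeCore_quotient_pPrimeCore p G) ?_ hd)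
    rw [fong_blockDefect hM hG' rfl hinv, factorization_card_eq_add p K, Nat.factorization_eq_zero_of_not_dvd hKp,
      zero_add, index_eq_card]
  · set T := blockStab {θ}
    have hKT : K ≤ T := le_blockStab _
    obtain ⟨B', hB', hc', rfl⟩ := fr_exists hM hb hKT rfl hB hc
    have h := fr_isTISet hM hb hKT rfl hB' hc'
    rw [blockDefect_image_indIrr (pblock_nonempty hM hB') h.isIrr] at hd ⊢
    exact (Set.ncard_image_le (Set.toFinite _)).trans (ih _ (hn ▸ card_lt_of_ne_top hT) T rfl inferInstance B' hB' hd)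

end CL.Blk.SolvK
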